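import Cfsg.Agent.Coprime.Basic
import Mathlib.GroupTheory.SpecificGroups.Cyclic
import Mathlib.GroupTheory.Sylow

/-!
Coprime action on an abelian subgroup (no solvability needed).
-/

namespace Cfsg.Agent.Coprime

open Subgroup
open scoped IsMulCommutative

variable {G : Type*} [Group G] [Finite G] {A V : Subgroup G}

/-- The conjugation action on a normalized subgroup. -/
def conjOn (hAV : A ≤ normalizer (V : Set G)) : A →* MulAut V :=
  V.normalizerMonoidHom.comp (inclusion hAV)

omit [Finite G] in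
theorem conjOn_coe (hAV : A ≤ normalizer (V : Set G)) (a : A) (v : V) :
    ((conjOn hAV a v : V) : G) = a * v * (a : G)⁻¹ := rfl

/-- An abelian `V` is the direct product of `C_V(A)` and `[V, A]`. -/
theorem abelian_decomposition [IsMulCommutative V] (hAV : A ≤ normalizer (V : Set G))
    (hcop : (Nat.card A).Coprime (Nat.card V)) :
    (V ⊓ centralizer (A : Set G)) ⊓ ⁅V, A⁆ = ⊥ ∧
      (V ⊓ centralizer (A : Set G)) ⊔ ⁅V, A⁆ = V := by
  classical
  cases nonempty_fintype A
  set φ := conjOn hAV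
  have hle : ⁅V, A⁆ ≤ V := commutator_le_left_of_normalizer hAV
  let π : V →* V := ∏ a : A, (φ a).toMonoidHom
  have hπ : ∀ v, π v = ∏ a : A, φ a v := fun v => by simp [π]
  have hπC : ∀ v : V, (v : G) ∈ centralizer (A : Set G) → π v = v ^ Nat.card A := by
    intro v hv
    rw [hπ, Finset.prod_eq_pow_card (b := v) fun a _ => Subtype.ext (conj_eq_of_mem_centralizer hv a.2),
      Finset.card_univ, Nat.card_eq_fintype_card]
  have hπfix : ∀ v : V, ((π v : V) : G) ∈ centralizer (A : Set G) := by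
    intro v
    refine mem_centralizer_of_conj_eq fun a ha => ?_
    rw [← conjOn_coe hAV ⟨a, ha⟩]
    congr 1
    rw [hπ, map_prod]
    refine Fintype.prod_equiv (Equiv.mulLeft (⟨a, ha⟩ : A)) _ _ fun b => ?_
    rw [Equiv.coe_mulLeft, map_mul]
    rfl
  have hπinv : ∀ (b : A) (v : V), π (φ b v) = π v := by
    intro b v
    rw [hπ, hπ]
    refine Fintype.prod_equiv (Equiv.mulRight b) _ _ fun a => ?_
    rw [Equiv.coe_mulRight, map_mul]
    rfl
  have hker : ⁅V, A⁆ ≤ π.ker.map V.subtype := by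
    rw [commutator_le]
    intro v hv a ha
    refine ⟨⟨v, hv⟩ * (φ ⟨a, ha⟩ ⟨v, hv⟩)⁻¹, ?_, ?_⟩
    · rw [SetLike.mem_coe, MonoidHom.mem_ker, map_mul, map_inv, hπinv, mul_inv_cancel]
    · simp [φ, conjOn_coe, commutatorElement_def, mul_assoc]
  have hpow : ∀ v : V, v ^ Nat.card A = 1 → v = 1 := by
    intro v hv
    have h2 : v ^ Nat.card V = 1 := pow_card_eq_one'
    have h3 := pow_gcd_eq_one.mpr ⟨hv, h2⟩
    rwa [Nat.Coprime.gcd_eq_one hcop, pow_one] at h3
  constructor
  · rw [eq_bot_iff]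
    rintro x ⟨hx, hxk⟩
    obtain ⟨v, hv, rfl⟩ := hker hxk
    have h1 := hπC v hx.2
    rw [MonoidHom.mem_ker.mp hv] at h1
    rw [hpow v h1.symm]
    simp
  · refine le_antisymm (sup_le inf_le_left hle) ?_
    intro x hx
    obtain ⟨w, hw⟩ := (powCoprime hcop.symm).surjective (⟨x, hx⟩ : V)
    rw [powCoprime_apply] at hw
    -- `x = π w * (w ^ |A| / π w)`
    have hdiff : ((w ^ Nat.card A * (π w)⁻¹ : V) : G) ∈ ⁅V, A⁆ := by
      have : w ^ Nat.card A * (π w)⁻¹ = ∏ a : A, w * (φ a w)⁻¹ := by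
        rw [Finset.prod_mul_distrib, Finset.prod_inv_distrib, ← hπ, Finset.prod_const,
          Finset.card_univ, Nat.card_eq_fintype_card]
      rw [this, ← mem_subgroupOf]
      refine Subgroup.prod_mem _ fun a _ => ?_
      rw [mem_subgroupOf]
      have := commutator_mem_commutator (H₁ := V) (H₂ := A) w.2 a.2
      simpa [φ, conjOn_coe, commutatorElement_def, mul_assoc] using this
    have := mul_mem (mem_sup_left (T := ⁅V, A⁆) (S := V ⊓ centralizer (A : Set G))
      (show ((π w : V) : G) ∈ V ⊓ centralizer (A : Set G) from ⟨(π w).2, hπfix w⟩))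
      (mem_sup_right (S := V ⊓ centralizer (A : Set G)) hdiff)
    rw [← Subgroup.coe_mul, mul_comm (π w), inv_mul_cancel_right, hw] at this
    exact this

/-- A nontrivial finite group has an element of prime order. -/
theorem exists_prime_orderOf_mem {W : Subgroup G} (hW : W ≠ ⊥) :
    ∃ x ∈ W, (orderOf x).Prime := by
  obtain ⟨p, hp, hdvd⟩ := Nat.exists_prime_and_dvd (mt card_eq_one.mp hW)
  have : Fact p.Prime := ⟨hp⟩
  obtain ⟨x, hx⟩ := exists_prime_orderOf_dvd_card' (G := W) p hdvd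
  exact ⟨x, x.2, by rwa [orderOf_coe, hx]⟩

/-- If `A` fixes all elements of prime order of the abelian `V`, it centralizes `V`. -/
theorem le_centralizer_of_prime_order [IsMulCommutative V] (hAV : A ≤ normalizer (V : Set G))
    (hcop : (Nat.card A).Coprime (Nat.card V))
    (hΩ : ∀ v ∈ V, (orderOf v).Prime → ∀ a ∈ A, a * v = v * a) :
    A ≤ centralizer (V : Set G) := by
  obtain ⟨hd, -⟩ := abelian_decomposition hAV hcop
  rw [← commutator_eq_bot_iff_le_centralizer, commutator_comm]
  by_contra hne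
  obtain ⟨x, hx, hp⟩ := exists_prime_orderOf_mem hne
  have hxV := commutator_le_left_of_normalizer hAV hx
  have : x ∈ (V ⊓ centralizer (A : Set G)) ⊓ ⁅V, A⁆ :=
    ⟨⟨hxV, mem_centralizer_iff.mpr (hΩ x hxV hp)⟩, hx⟩
  rw [hd, mem_bot] at this
  rw [this, orderOf_one] at hp
  exact Nat.not_prime_one hp

end Cfsg.Agent.Coprime
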