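import Cfsg.Agent.Coprime.Action
import Cfsg.Agent.Coprime.Abelian
import Mathlib.GroupTheory.Frattini

/-!
Criteria for a coprime group to act trivially (no solvability hypotheses).
-/

namespace Cfsg.Agent.Coprime

open Subgroup
open scoped Pointwise

variable {G : Type*} [Group G] [Finite G] {A K : Subgroup G}

/-- Reduction to the cyclic subgroups of `A`. -/
theorem le_centralizer_of_zpowers
    (h : ∀ a ∈ A, zpowers a ≤ centralizer (K : Set G)) : A ≤ centralizer (K : Set G) :=
  fun a ha => h a ha (mem_zpowers a)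

/-- If `A` centralizes `[K, A]`, it centralizes `K`. -/
theorem le_centralizer_of_commutator_le_centralizer (hAK : A ≤ normalizer (K : Set G))
    (hcop : (Nat.card A).Coprime (Nat.card K)) (h : ⁅K, A⁆ ≤ centralizer (A : Set G)) :
    A ≤ centralizer (K : Set G) := by
  refine le_centralizer_of_zpowers fun a ha => ?_
  have hB : zpowers a ≤ A := zpowers_le.mpr ha
  rw [← commutator_eq_bot_iff_le_centralizer, commutator_comm,
    ← commutator_commutator_eq (hB.trans hAK) (hcop.coprime_dvd_left (card_dvd_of_le hB))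
      (Or.inl (isSolvable_zpowers a)), commutator_eq_bot_iff_le_centralizer]
  exact (commutator_mono le_rfl hB).trans (h.trans (centralizer_le hB))

/-- If `A` centralizes `N` and `[K, A] ≤ N`, then `A` centralizes `K`. -/
theorem le_centralizer_of_commutator_le {N : Subgroup G} (hAK : A ≤ normalizer (K : Set G))
    (hcop : (Nat.card A).Coprime (Nat.card K)) (hN : ⁅K, A⁆ ≤ N)
    (hA : A ≤ centralizer (N : Set G)) : A ≤ centralizer (K : Set G) :=
  le_centralizer_of_commutator_le_centralizer hAK hcop (hN.trans (le_centralizer_iff.mp hA))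

/-- Burnside: a coprime group stabilizing a series of `K` centralizes `K`. -/
theorem le_centralizer_of_series : ∀ (n : ℕ) (s : ℕ → Subgroup G),
    (Nat.card A).Coprime (Nat.card (s 0)) → (∀ i < n, s (i + 1) ≤ s i) →
    (∀ i < n, ⁅s i, A⁆ ≤ s (i + 1)) → s n = ⊥ → A ≤ centralizer (s 0 : Set G) := by
  intro n
  induction n with
  | zero =>
    intro s _ _ _ h
    rw [h, coe_bot, centralizer_eq_top_iff_subset.mpr (by simp)]
    exact le_top
  | succ n ih =>
    intro s hcop hle hcomm hbot
    refine le_centralizer_of_commutator_le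
      (le_normalizer_iff_commutator_le_left.mpr
        ((hcomm 0 (by omega)).trans (hle 0 (by omega)))) hcop (hcomm 0 (by omega)) ?_
    exact ih (fun i => s (i + 1)) (coprime_of_le (hle 0 (by omega)) hcop)
      (fun i hi => hle (i + 1) (by omega)) (fun i hi => hcomm (i + 1) (by omega)) hbot

/-- An element of `p`-power order normalizing a subgroup `N` of order prime to `p` and
stabilizing the coset `k N` centralizes an element of it. -/
theorem exists_commute_mem_coset {p : ℕ} [Fact p.Prime] {P N : Subgroup G} (hP : IsPGroup p P)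
    (hPN : P ≤ normalizer (N : Set G)) (hN : ¬ p ∣ Nat.card N) {k : G}
    (hfix : ∀ a ∈ P, k⁻¹ * (a * k * a⁻¹) ∈ N) :
    ∃ n ∈ N, k * n ∈ centralizer (P : Set G) := by
  let _ : MulAction P N :=
    { smul := fun a n => ⟨(k⁻¹ * ((a : G) * k * (a : G)⁻¹)) * ((a : G) * n * (a : G)⁻¹),
        mul_mem (hfix a a.2) (conj_mem (hPN a.2) n.2)⟩
      one_smul := fun n => Subtype.ext (by simp [HSMul.hSMul, SMul.smul])
      mul_smul := fun a b n => Subtype.ext (by simp [HSMul.hSMul, SMul.smul, mul_assoc]) }
  have hsmul : ∀ (a : P) (n : N),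
      ((a • n : N) : G) = k⁻¹ * ((a : G) * (k * n) * (a : G)⁻¹) := by
    intro a n
    show (k⁻¹ * ((a : G) * k * (a : G)⁻¹)) * ((a : G) * n * (a : G)⁻¹) = _
    simp [mul_assoc]
  obtain ⟨n, hn⟩ := hP.nonempty_fixed_point_of_prime_not_dvd_card N hN
  refine ⟨n, n.2, mem_centralizer_of_conj_eq fun a ha => ?_⟩
  have := congr_arg Subtype.val (hn ⟨a, ha⟩)
  rw [hsmul] at this
  rwa [inv_mul_eq_iff_eq_mul] at this

omit [Finite G] in
theorem le_of_forall_sylow_le [Finite G] {H : Subgroup G}
    (h : ∀ p : ℕ, p.Prime → ∀ P : Subgroup G, P ≤ A → IsPGroup p P → P ≤ H) : A ≤ H := by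
  rw [← subgroupOf_eq_top]
  have hdvd : Nat.card A ∣ Nat.card (H.subgroupOf A) := by
    rw [← Nat.factorization_prime_le_iff_dvd Nat.card_pos.ne' Nat.card_pos.ne']
    intro p hp
    have : Fact p.Prime := ⟨hp⟩
    obtain ⟨P⟩ := (inferInstance : Nonempty (Sylow p A))
    rw [← hp.pow_dvd_iff_le_factorization Nat.card_pos.ne', ← P.card_eq_multiplicity]
    refine card_dvd_of_le (map_le_map_iff_of_injective A.subtype_injective |>.mp ?_)
    rw [subgroupOf_map_subtype]
    exact le_inf (h p hp _ (map_subtype_le _) (P.isPGroup'.map A.subtype)) (map_subtype_le _)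
  exact eq_top_of_card_eq _ (Nat.dvd_antisymm (card_subgroup_dvd_card _) hdvd)

/-- A group of order prime to `|Φ(K)|` acting trivially on `K / Φ(K)` centralizes `K`. -/
theorem le_centralizer_of_frattini (hAK : A ≤ normalizer (K : Set G))
    (hcop : (Nat.card A).Coprime (Nat.card (frattini K)))
    (htriv : ∀ a ∈ A, ∀ k ∈ K, a * k * a⁻¹ * k⁻¹ ∈ (frattini K).map K.subtype) :
    A ≤ centralizer (K : Set G) := by
  refine le_of_forall_sylow_le fun p hp P hPA hP => ?_
  have : Fact p.Prime := ⟨hp⟩
  by_cases hPb : P = ⊥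
  · rw [hPb]; exact bot_le
  set N := (frattini K).map K.subtype with hN
  have hKN : K ≤ normalizer (N : Set G) := by
    rw [← normal_subgroupOf_iff_le_normalizer (map_subtype_le _), subgroupOf,
      comap_map_eq_self_of_injective K.subtype_injective]
    infer_instance
  have hPN : P ≤ normalizer (N : Set G) := by
    rw [le_normalizer_iff]
    intro a ha n hn
    have h := mul_mem (htriv a (hPA ha) n (map_subtype_le _ hn)) hn
    simpa using h
  have hpN : ¬ p ∣ Nat.card N := by
    intro h
    have : Nontrivial P := P.nontrivial_iff_ne_bot.mpr hPb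
    obtain ⟨m, hm0, hm⟩ := hP.nontrivial_iff_card.mp this
    rw [hN, Subgroup.card_map_of_injective K.subtype_injective] at h
    exact hp.ne_one (Nat.eq_one_of_dvd_coprimes hcop
      ((hm ▸ dvd_pow_self p hm0.ne' : p ∣ Nat.card P).trans (card_dvd_of_le hPA)) h)
  have htop : (centralizer (P : Set G)).subgroupOf K ⊔ frattini K = ⊤ := by
    rw [eq_top_iff]
    intro k _
    have hfix : ∀ a ∈ P, (k : G)⁻¹ * (a * k * a⁻¹) ∈ N := by
      intro a ha
      have := conj_mem' (hKN k.2) (htriv a (hPA ha) k k.2)
      simpa [mul_assoc] using this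
    obtain ⟨n, hn, hc⟩ := exists_commute_mem_coset hP hPN hpN hfix
    obtain ⟨n', hn', rfl⟩ := hn
    have := mul_mem (mem_sup_left (T := frattini K)
      (show k * n' ∈ (centralizer (P : Set G)).subgroupOf K from hc))
      (mem_sup_right (S := (centralizer (P : Set G)).subgroupOf K) (inv_mem hn'))
    simpa using this
  rw [le_centralizer_iff, ← subgroupOf_eq_top]
  exact frattini_nongenerating htop

/-- In a `p`-group `⁅U, P⁆ < U` for a nontrivial `P`-invariant `U`. -/
theorem commutator_lt_of_isPGroup {p : ℕ} [Fact p.Prime] {U P : Subgroup G} (hU : IsPGroup p U)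
    (hP : IsPGroup p P) (hPU : P ≤ normalizer (U : Set G)) (hne : U ≠ ⊥) : ⁅U, P⁆ < U := by
  refine lt_of_le_of_ne (commutator_le_left_of_normalizer hPU) fun he => hne ?_
  set W := P ⊔ U with hW
  have hWp : IsPGroup p W := hP.to_sup_of_normal_right' hU hPU
  obtain ⟨n, hn⟩ := Subgroup.nilpotent_iff_lowerCentralSeries.mp hWp.isNilpotent
  have key : ∀ m, U.subgroupOf W ≤ Subgroup.lowerCentralSeries ⊤ m := by
    intro m
    induction m with
    | zero => simp
    | succ m ih =>
      have he' : ⁅U.subgroupOf W, P.subgroupOf W⁆ = U.subgroupOf W := by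
        apply map_injective W.subtype_injective
        rw [map_commutator, map_subgroupOf_eq_of_le le_sup_right, map_subgroupOf_eq_of_le le_sup_left, he]
      rw [← he']
      exact commutator_mono ih le_top
  have := key n
  rw [hn, le_bot_iff, subgroupOf_eq_bot] at this
  exact this.eq_bot_of_le le_sup_right

/-- Thompson's `A × B` lemma. -/
theorem thompson_AxB {p : ℕ} [Fact p.Prime] {P Q : Subgroup G} (hP : IsPGroup p P)
    (hQ : (Nat.card Q).Coprime p) (hPQ : P ≤ centralizer (Q : Set G)) :
    ∀ (U : Subgroup G), IsPGroup p U → P ≤ normalizer (U : Set G) → Q ≤ normalizer (U : Set G) →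
      U ⊓ centralizer (P : Set G) ≤ centralizer (Q : Set G) → Q ≤ centralizer (U : Set G) := by
  intro U
  induction U using WellFoundedLT.induction with
  | ind U ih =>
    intro hU hPU hQU hC
    by_cases hne : U = ⊥
    · subst hne
      rw [← commutator_eq_bot_iff_le_centralizer, commutator_bot_right]
    have hlt := commutator_lt_of_isPGroup hU hP hPU hne
    have hQV : Q ≤ normalizer ((⁅U, P⁆ : Subgroup G) : Set G) := by
      rw [le_normalizer_iff]
      intro q hq x hx
      have h := mem_map_of_mem (MulAut.conj q).toMonoidHom hx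
      rw [map_commutator, map_conj_eq (hQU hq), map_conj_eq
        (centralizer_le_normalizer _ (le_centralizer_iff.mp hPQ hq))] at h
      exact h
    have h := ih _ hlt (hU.to_le hlt.le) (normalizer_commutator_ge_right U P) hQV
      (le_trans (inf_le_inf_right _ hlt.le) hC)
    have h1 : ⁅⁅U, P⁆, Q⁆ = ⊥ := by
      rw [commutator_comm, commutator_eq_bot_iff_le_centralizer]; exact h
    have h2 : ⁅⁅P, Q⁆, U⁆ = ⊥ := by
      rw [commutator_eq_bot_iff_le_centralizer.mpr hPQ, commutator_bot_left]
    have h3 : ⁅⁅Q, U⁆, P⁆ = ⊥ := commutator_commutator_eq_bot_of_rotate h1 h2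
    obtain ⟨n, hn⟩ := IsPGroup.iff_card.mp hU
    refine le_centralizer_of_commutator_le_centralizer hQU ?_
      (le_trans (le_inf (commutator_le_left_of_normalizer hQU) ?_) hC)
    · rw [hn]; exact hQ.pow_right n
    · rw [commutator_comm]; exact commutator_eq_bot_iff_le_centralizer.mp h3

end Cfsg.Agent.Coprime
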