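import Cfsg.Agent.Coprime.Basic
import Mathlib.GroupTheory.SchurZassenhaus
import Mathlib.GroupTheory.FiniteAbelian.Basic

/-!
Conjugacy part of the Schur-Zassenhaus theorem (normal subgroup or complement solvable).
-/

namespace Cfsg.Agent.Coprime

open Subgroup MulOpposite
open scoped Pointwise

variable {G : Type*} [Group G] [Finite G]

section Abelian

variable {N : Subgroup G} [IsMulCommutative N] [N.Normal]

/-- A complement as a point of `QuotientDiff`. -/
noncomputable def complementPoint {H : Subgroup G} (hH : IsComplement' N H) : N.QuotientDiff :=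
  Quotient.mk'' ⟨(H : Set G), hH.symm⟩

open MulAction in
/-- Complements of an abelian normal Hall subgroup are conjugate. -/
theorem exists_conj_complement_comm (hcop : (Nat.card N).Coprime N.index) {H₁ H₂ : Subgroup G}
    (h₁ : IsComplement' N H₁) (h₂ : IsComplement' N H₂) :
    ∃ n ∈ N, H₂ = H₁.map (MulAut.conj n).toMonoidHom := by
  classical
  have key : ∀ (H : Subgroup G) (hH : IsComplement' N H),
      stabilizer G (complementPoint hH) = H := by
    intro H hH
    symm
    refine eq_of_le_of_card_ge ?_ ?_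
    · intro g hg
      rw [mem_stabilizer_iff]
      refine congr_arg Quotient.mk'' (Subtype.ext ?_)
      show op g⁻¹ • (H : Set G) = H
      exact op_smul_coe_set (H.inv_mem hg)
    · rw [← (isComplement'_stabilizer_of_coprime hcop).symm.index_eq_card,
        ← hH.symm.index_eq_card]
  obtain ⟨n, hn⟩ := Subgroup.exists_smul_eq hcop
    (complementPoint h₁) (complementPoint h₂)
  refine ⟨n, n.2, ?_⟩
  conv_lhs => rw [← key H₂ h₂, ← hn]
  conv_rhs => rw [← key H₁ h₁]
  exact stabilizer_smul_eq_stabilizer_map_conj (n : G) _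

end Abelian

/-- The internal form of the previous theorem. -/
theorem exists_conj_of_le_sup_comm {N H₁ H₂ : Subgroup G} [IsMulCommutative N]
    (hN : H₁ ≤ normalizer (N : Set G)) (hle : H₂ ≤ N ⊔ H₁) (hcard : Nat.card H₂ = Nat.card H₁)
    (hcop : (Nat.card H₁).Coprime (Nat.card N)) :
    ∃ n ∈ N, H₂ = H₁.map (MulAut.conj n).toMonoidHom := by
  set L := N ⊔ H₁ with hL
  have hLN : L ≤ normalizer (N : Set G) := sup_le le_normalizer hN
  have : (N.subgroupOf L).Normal := normal_subgroupOf_of_le_normalizer hLN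
  have hcN : Nat.card (N.subgroupOf L) = Nat.card N :=
    Nat.card_congr (subgroupOfEquivOfLe le_sup_left).toEquiv
  have hcL : Nat.card L = Nat.card N * Nat.card H₁ :=
    card_sup hN (by rw [inf_comm]; exact inf_eq_bot hcop)
  have hidx : (N.subgroupOf L).index = Nat.card H₁ := by
    have := card_mul_index (N.subgroupOf L)
    rw [hcN, hcL] at this
    exact Nat.eq_of_mul_eq_mul_left Nat.card_pos this
  have hc1 : IsComplement' (N.subgroupOf L) (H₁.subgroupOf L) := by
    refine isComplement'_of_coprime ?_ ?_ <;>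
      rw [hcN, Nat.card_congr (subgroupOfEquivOfLe (le_sup_right : H₁ ≤ L)).toEquiv]
    · exact hcL.symm
    · exact hcop.symm
  have hc2 : IsComplement' (N.subgroupOf L) (H₂.subgroupOf L) := by
    refine isComplement'_of_coprime ?_ ?_ <;>
      rw [hcN, Nat.card_congr (subgroupOfEquivOfLe hle).toEquiv, hcard]
    · exact hcL.symm
    · exact hcop.symm
  obtain ⟨n, hn, he⟩ := exists_conj_complement_comm (by rw [hcN, hidx]; exact hcop.symm) hc1 hc2
  refine ⟨n, hn, ?_⟩
  have := congr_arg (Subgroup.map L.subtype) he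
  rw [map_subgroupOf_eq_of_le hle, Subgroup.map_map] at this
  rw [this]
  conv_rhs => rw [← map_subgroupOf_eq_of_le (le_sup_right : H₁ ≤ L), Subgroup.map_map]
  congr 1

/-- An element of prime index normal subgroup in a nontrivial solvable subgroup. -/
theorem exists_relIndex_prime {H : Subgroup G} (hH : Group.IsSolvable H) (hne : H ≠ ⊥) :
    ∃ D : Subgroup G, D ≤ H ∧ H ≤ normalizer (D : Set G) ∧ (D.relIndex H).Prime := by
  haveI : Nontrivial H := H.nontrivial_iff_ne_bot.mpr hne
  haveI := hH
  obtain ⟨M, hM, hle⟩ :=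
    (eq_top_or_exists_le_coatom (_root_.commutator H)).resolve_left
      (Group.IsSolvable.commutator_lt_top_of_nontrivial H).ne
  have hMn : M.Normal := Subgroup.Normal.of_commutator_le _ hle
  have hcomm : IsMulCommutative (H ⧸ M) :=
    Subgroup.Normal.quotient_commutative_iff_commutator_le.mpr hle
  have : Nontrivial (H ⧸ M) := QuotientGroup.nontrivial_iff.mpr hM.1
  have : IsSimpleGroup (H ⧸ M) := by
    refine ⟨fun S _ => ?_⟩
    rcases hM.le_iff.mp ((QuotientGroup.le_comap_mk' M S)) with h | h
    · right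
      rw [← map_comap_eq_self_of_surjective (QuotientGroup.mk'_surjective M) S, h,
        map_top_of_surjective _ (QuotientGroup.mk'_surjective M)]
    · left
      rw [← map_comap_eq_self_of_surjective (QuotientGroup.mk'_surjective M) S, h]
      exact QuotientGroup.map_mk'_self M
  refine ⟨M.map H.subtype, map_subtype_le M, ?_, ?_⟩
  · rw [← normal_subgroupOf_iff_le_normalizer (map_subtype_le M), subgroupOf, comap_map_eq_self_of_injective H.subtype_injective]
    exact hMn
  · rw [relIndex, subgroupOf, comap_map_eq_self_of_injective H.subtype_injective, index_eq_card]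
    open scoped IsMulCommutative in exact IsSimpleGroup.prime_card

omit [Finite G] in
theorem sup_map_conj {N H : Subgroup G} {n : G} (hn : n ∈ N) :
    N ⊔ H.map (MulAut.conj n).toMonoidHom = N ⊔ H := by
  apply le_antisymm <;> refine sup_le le_sup_left ?_
  · intro x hx
    rw [mem_map_conj] at hx
    have := mul_mem (mul_mem (mem_sup_left (T := H) hn) (mem_sup_right (S := N) hx))
      (mem_sup_left (T := H) (N.inv_mem hn))
    simpa [mul_assoc] using this
  · intro x hx
    have h' : n * x * n⁻¹ ∈ H.map (MulAut.conj n).toMonoidHom := ⟨x, hx, rfl⟩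
    have := mul_mem (mul_mem (mem_sup_left (T := H.map (MulAut.conj n).toMonoidHom) (N.inv_mem hn))
      (mem_sup_right (S := N) h')) (mem_sup_left (T := H.map (MulAut.conj n).toMonoidHom) hn)
    simpa [mul_assoc] using this

omit [Finite G] in
theorem normalizer_map_conj {N H : Subgroup G} (hN : H ≤ normalizer (N : Set G)) {n : G}
    (hn : n ∈ normalizer (N : Set G)) :
    H.map (MulAut.conj n).toMonoidHom ≤ normalizer (N : Set G) := by
  rintro _ ⟨x, hx, rfl⟩
  exact mul_mem (mul_mem hn (hN hx)) (inv_mem hn)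

/-- Schur-Zassenhaus conjugacy for a solvable normalized subgroup. -/
theorem exists_conj_of_solvable_kernel : ∀ (m : ℕ) (N H₁ H₂ : Subgroup G), Nat.card N ≤ m →
    Group.IsSolvable N →
    H₁ ≤ normalizer (N : Set G) → H₂ ≤ N ⊔ H₁ → Nat.card H₂ = Nat.card H₁ →
    (Nat.card H₁).Coprime (Nat.card N) → ∃ n ∈ N, H₂ = H₁.map (MulAut.conj n).toMonoidHom := by
  intro m
  induction m with
  | zero =>
    intro N H₁ H₂ h
    exact absurd (Nat.card_pos (α := N)) (by omega)
  | succ m ih =>
    intro N H₁ H₂ hm hs hN hle hcard hcop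
    by_cases hNb : N = ⊥
    · refine ⟨1, one_mem _, ?_⟩
      rw [map_conj_one]
      rw [hNb, bot_sup_eq] at hle
      exact eq_of_le_of_card_ge hle hcard.ge
    set M := ⁅N, N⁆ with hM
    have : Nontrivial N := N.nontrivial_iff_ne_bot.mpr hNb
    have hlt : M < N := by
      have := hs
      have h := map_subtype_lt_map_subtype.mpr (Group.IsSolvable.commutator_lt_top_of_nontrivial N)
      rwa [map_subtype_commutator, ← MonoidHom.range_eq_map, range_subtype] at h
    have hMm : Nat.card M ≤ m := by
      by_contra hc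
      exact hlt.ne (eq_of_le_of_card_ge hlt.le (by omega))
    have hNM : N ≤ normalizer (M : Set G) := normalizer_commutator_ge_left N N
    have hH1M : H₁ ≤ normalizer (M : Set G) := by
      rw [hM, le_normalizer_iff]
      intro a ha x hx
      have h := mem_map_of_mem (MulAut.conj a).toMonoidHom hx
      rw [map_commutator, map_conj_eq (hN ha)] at h
      exact h
    set L := N ⊔ H₁ with hL
    have hLM : L ≤ normalizer (M : Set G) := sup_le hNM hH1M
    have : (M.subgroupOf L).Normal := normal_subgroupOf_of_le_normalizer hLM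
    let f := QuotientGroup.mk' (M.subgroupOf L)
    let N' := (N.subgroupOf L).map f
    let A' := (H₁.subgroupOf L).map f
    let B' := (H₂.subgroupOf L).map f
    have hNc : IsMulCommutative N' := by
      rw [← commutator_self_eq_bot_iff, ← map_commutator, Subgroup.map_eq_bot_iff, QuotientGroup.ker_mk']
      rw [← map_le_map_iff_of_injective L.subtype_injective, map_commutator,
        map_subgroupOf_eq_of_le le_sup_left, map_subgroupOf_eq_of_le (hlt.le.trans le_sup_left)]
    have hcN : Nat.card N' ∣ Nat.card N :=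
      (Subgroup.card_map_dvd _ _).trans (dvd_of_eq (Nat.card_congr (subgroupOfEquivOfLe le_sup_left).toEquiv))
    have cardimg : ∀ H : Subgroup G, (Nat.card H).Coprime (Nat.card N) → H ≤ L →
        Nat.card ((H.subgroupOf L).map f) = Nat.card H := by
      intro H hc hHL
      rw [← relIndex_ker, QuotientGroup.ker_mk', relIndex_subgroupOf hHL, ← inf_relIndex_right,
        inf_eq_bot ((hc.coprime_dvd_right (card_dvd_of_le hlt.le)).symm), relIndex_bot_left]
    have hcA : Nat.card A' = Nat.card H₁ := cardimg H₁ hcop le_sup_right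
    have hcB : Nat.card B' = Nat.card H₁ :=
      (cardimg H₂ (hcard ▸ hcop) hle).trans hcard
    have hA'N : A' ≤ normalizer (N' : Set _) := by
      refine (Subgroup.map_mono ?_).trans (le_normalizer_map f)
      rw [← subgroupOf_normalizer_eq le_sup_left]
      exact fun x hx => hN hx
    have hB'le : B' ≤ N' ⊔ A' := by
      rw [← Subgroup.map_sup, ← subgroupOf_sup le_sup_left le_sup_right, subgroupOf_self]
      exact Subgroup.map_mono le_top
    obtain ⟨n', hn', he⟩ := exists_conj_of_le_sup_comm hA'N hB'le (hcB.trans hcA.symm)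
      (by rw [hcA]; exact hcop.coprime_dvd_right hcN)
    obtain ⟨n, hn, rfl⟩ := hn'
    have hnN : (n : G) ∈ N := hn
    set H₁' := H₁.map (MulAut.conj (n : G)).toMonoidHom with hH1'
    have hle' : H₂ ≤ M ⊔ H₁' := by
      intro x hx
      have hx' : f ⟨x, hle hx⟩ ∈ B' := mem_map_of_mem _ hx
      rw [he] at hx'
      obtain ⟨_, ⟨y, hy, rfl⟩, hxy⟩ := hx'
      have hxy' : f (n * y * n⁻¹) = f ⟨x, hle hx⟩ := by
        simpa using hxy
      rw [QuotientGroup.mk'_eq_mk'] at hxy'
      obtain ⟨z, hz, hz'⟩ := hxy'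
      have hzG : ((n : G) * y * (n : G)⁻¹) * z = x := congr_arg Subtype.val hz'
      rw [← hzG]
      exact mul_mem (mem_sup_right ⟨y, hy, rfl⟩) (mem_sup_left hz)
    obtain ⟨n₂, hn₂, he₂⟩ := ih M H₁' H₂ hMm (isSolvable_of_le hlt.le hs)
      (normalizer_map_conj hH1M (hNM hnN)) hle'
      (by rw [hH1', card_map_conj, hcard])
      (by rw [hH1', card_map_conj]; exact hcop.coprime_dvd_right (card_dvd_of_le hlt.le))
    exact ⟨n₂ * n, mul_mem (hlt.le hn₂) hnN, by rw [he₂, hH1', map_conj_map_conj]⟩

/-- Schur-Zassenhaus conjugacy for a solvable complement. -/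
theorem exists_conj_of_solvable_complement : ∀ (m : ℕ) (N H₁ H₂ : Subgroup G), Nat.card H₁ ≤ m →
    Group.IsSolvable H₁ →
    H₁ ≤ normalizer (N : Set G) → H₂ ≤ N ⊔ H₁ → Nat.card H₂ = Nat.card H₁ →
    (Nat.card H₁).Coprime (Nat.card N) → ∃ n ∈ N, H₂ = H₁.map (MulAut.conj n).toMonoidHom := by
  intro m
  induction m with
  | zero =>
    intro N H₁ H₂ h
    exact absurd (Nat.card_pos (α := H₁)) (by omega)
  | succ m ih =>
    intro N H₁ H₂ hm hs hN hle hcard hcop
    by_cases hb : H₁ = ⊥
    · refine ⟨1, one_mem _, ?_⟩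
      rw [map_conj_one, hb]
      rw [hb, card_bot] at hcard
      exact card_eq_one.mp hcard
    obtain ⟨D, hDH, hHD, hp⟩ := exists_relIndex_prime hs hb
    set p := D.relIndex H₁ with hp'
    have : Fact p.Prime := ⟨hp⟩
    have hmul : Nat.card D * p = Nat.card H₁ := by
      rw [hp', ← relIndex_bot_left, relIndex_mul_relIndex _ _ _ bot_le hDH, relIndex_bot_left]
    have hDm : Nat.card D ≤ m := by
      have := hp.two_le
      have := Nat.card_pos (α := D)
      nlinarith
    set L := N ⊔ H₁ with hL
    have hLN : L ≤ normalizer (N : Set G) := sup_le le_normalizer hN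
    have hdisj : N ⊓ H₁ = ⊥ := by rw [inf_comm]; exact inf_eq_bot hcop
    have hH2N : H₂ ≤ normalizer (N : Set G) := hle.trans hLN
    have hdisj2 : N ⊓ H₂ = ⊥ := by rw [inf_comm]; exact inf_eq_bot (hcard ▸ hcop)
    have hL2 : N ⊔ H₂ = L := eq_of_le_of_card_ge (sup_le le_sup_left hle)
      (by rw [hL, card_sup hN hdisj, card_sup hH2N hdisj2, hcard])
    have hcopD : (Nat.card D).Coprime (Nat.card N) := hcop.coprime_dvd_left (card_dvd_of_le hDH)
    have hDN : D ≤ normalizer (N : Set G) := hDH.trans hN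
    set D₂ := H₂ ⊓ (N ⊔ D) with hD2
    have hsup : N ⊔ D₂ = N ⊔ D := by
      refine le_antisymm (sup_le le_sup_left inf_le_right) ?_
      intro x hx
      have hxL : x ∈ N ⊔ H₂ := by rw [hL2]; exact sup_le_sup_left hDH N hx
      obtain ⟨n, hn, b, hb', rfl⟩ := (mem_sup_iff hH2N).mp hxL
      have hb2 : b ∈ N ⊔ D := by
        have := (N ⊔ D).mul_mem (mem_sup_left (T := D) (N.inv_mem hn)) hx
        simpa using this
      exact mul_mem (mem_sup_left hn) (mem_sup_right ⟨hb', hb2⟩)
    have hcD2 : Nat.card D₂ = Nat.card D := by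
      have hdD2 : N ⊓ D₂ = ⊥ := eq_bot_iff.mpr (le_trans (inf_le_inf_left N inf_le_left) hdisj2.le)
      have h1 := card_sup ((inf_le_left : D₂ ≤ H₂).trans hH2N) hdD2
      rw [hsup, card_sup hDN (by rw [inf_comm]; exact inf_eq_bot hcopD)] at h1
      exact (Nat.eq_of_mul_eq_mul_left Nat.card_pos h1).symm
    obtain ⟨n, hn, hD2n⟩ := ih N D D₂ hDm (isSolvable_of_le hDH hs) hDN inf_le_right hcD2 hcopD
    -- replace `H₁` by a conjugate, so that `D₂` is normal in both complements
    set H₁' := H₁.map (MulAut.conj n).toMonoidHom with hH1'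
    have hL' : N ⊔ H₁' = L := sup_map_conj hn
    have hcH1' : Nat.card H₁' = Nat.card H₁ := card_map_conj _ _
    have h2D : H₂ ≤ normalizer (D₂ : Set G) := by
      have hND : L ≤ normalizer ((N ⊔ D : Subgroup G) : Set G) := by
        refine sup_le (le_sup_left.trans le_normalizer) ?_
        exact (le_inf hN hHD).trans (normalizer_inf_normalizer_le_normalizer_sup N D)
      rw [le_normalizer_iff]
      intro h hh x hx
      exact ⟨H₂.mul_mem (H₂.mul_mem hh hx.1) (H₂.inv_mem hh), conj_mem (hND (hle hh)) hx.2⟩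
    have h1D : H₁' ≤ normalizer (D₂ : Set G) := by
      rw [le_normalizer_iff]
      rintro _ ⟨a, ha, rfl⟩ x hx
      rw [hD2n] at hx ⊢
      obtain ⟨d, hd, rfl⟩ := hx
      exact ⟨a * d * a⁻¹, conj_mem (hHD ha) hd, by simp [mul_assoc]⟩
    have hD1' : D₂ ≤ H₁' := by rw [hD2n]; exact Subgroup.map_mono hDH
    set M := L ⊓ normalizer (D₂ : Set G) with hM
    have hsplit : M = (N ⊓ M) ⊔ H₁' := by
      refine le_antisymm ?_ (sup_le inf_le_right (le_inf (hL' ▸ le_sup_right) h1D))
      intro x hx
      have hxL : x ∈ N ⊔ H₁' := by rw [hL']; exact hx.1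
      obtain ⟨k, hk, b, hb', rfl⟩ := (mem_sup_iff (normalizer_map_conj hN (le_normalizer hn))).mp hxL
      refine mul_mem (mem_sup_left ⟨hk, ?_⟩) (mem_sup_right hb')
      have hbM : b ∈ M := ⟨hL' ▸ mem_sup_right hb', h1D hb'⟩
      simpa using M.mul_mem hx (M.inv_mem hbM)
    have hnormNM : H₁' ≤ normalizer ((N ⊓ M : Subgroup G) : Set G) := by
      rw [le_normalizer_iff]
      intro h hh x hx
      have hhM : h ∈ M := ⟨hL' ▸ mem_sup_right hh, h1D hh⟩
      exact ⟨conj_mem (normalizer_map_conj hN (le_normalizer hn) hh) hx.1,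
        M.mul_mem (M.mul_mem hhM hx.2) (M.inv_mem hhM)⟩
    have hcopC : (Nat.card ↥(N ⊓ M)).Coprime (Nat.card H₁) :=
      (hcop.coprime_dvd_right (card_dvd_of_le inf_le_left)).symm
    have hcM : Nat.card M = Nat.card ↥(N ⊓ M) * Nat.card H₁ := by
      conv_lhs => rw [hsplit]
      rw [card_sup hnormNM (inf_eq_bot (by rw [hcH1']; exact hcopC)), hcH1']
    have hpC : ¬ p ∣ Nat.card ↥(N ⊓ M) := fun h =>
      hp.ne_one (Nat.eq_one_of_dvd_coprimes hcopC h (Dvd.intro_left _ hmul))
    -- Sylow subgroups of the complements are Sylow subgroups of `M`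
    have syl : ∀ H : Subgroup G, H ≤ M → Nat.card H = Nat.card H₁ → D₂ ≤ H →
        ∃ P : Sylow p M, (P : Subgroup M).map M.subtype ⊔ D₂ = H := by
      intro H hHM hcH hDH'
      obtain ⟨Q⟩ := (inferInstance : Nonempty (Sylow p H))
      set Q' := (Q : Subgroup H).map H.subtype with hQ'
      have hQM : Q' ≤ M := (map_subtype_le _).trans hHM
      have hcQ : Nat.card (Q'.subgroupOf M) = p ^ (Nat.card M).factorization p := by
        rw [Nat.card_congr (subgroupOfEquivOfLe hQM).toEquiv, hQ',
          Subgroup.card_map_of_injective H.subtype_injective, Q.card_eq_multiplicity, hcH, hcM,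
          Nat.factorization_mul Nat.card_pos.ne' Nat.card_pos.ne', Finsupp.add_apply,
          Nat.factorization_eq_zero_of_not_dvd hpC, zero_add]
      refine ⟨Sylow.ofCard _ hcQ, ?_⟩
      rw [Sylow.coe_ofCard, map_subgroupOf_eq_of_le hQM]
      set S := Q' ⊔ D₂ with hS
      have hSH : S ≤ H := sup_le (map_subtype_le _) hDH'
      have hcD' : Nat.card H = Nat.card D₂ * p := by rw [hcH, hcD2, hmul]
      have hpS : D₂.relIndex S ∣ p := by
        have hr : D₂.relIndex S * S.relIndex H = D₂.relIndex H :=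
          relIndex_mul_relIndex _ _ _ le_sup_right hSH
        have hrH : Nat.card D₂ * D₂.relIndex H = Nat.card H := by
          rw [← relIndex_bot_left, relIndex_mul_relIndex _ _ _ bot_le hDH', relIndex_bot_left]
        rw [hcD'] at hrH
        exact ⟨_, (hr.trans (Nat.eq_of_mul_eq_mul_left Nat.card_pos hrH)).symm⟩
      refine eq_of_le_of_card_ge hSH ?_
      rcases (Nat.dvd_prime hp).mp hpS with h | h
      · exfalso
        have hQD : Q' ≤ D₂ := le_sup_left.trans (relIndex_eq_one.mp h)
        have h2 : p ^ (Nat.card H).factorization p ∣ Nat.card D₂ := by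
          rw [← Q.card_eq_multiplicity, ← Subgroup.card_map_of_injective H.subtype_injective]
          exact card_dvd_of_le hQD
        rw [hcD', Nat.factorization_mul Nat.card_pos.ne' hp.pos.ne', Finsupp.add_apply,
          hp.factorization_self] at h2
        exact Nat.pow_succ_factorization_not_dvd Nat.card_pos.ne' hp h2
      · have hrS : Nat.card D₂ * D₂.relIndex S = Nat.card S := by
          rw [← relIndex_bot_left, relIndex_mul_relIndex _ _ _ bot_le le_sup_right, relIndex_bot_left]
        rw [hcD', ← hrS, h]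
    obtain ⟨P₁, hP₁⟩ := syl H₁' (le_inf (hL' ▸ le_sup_right) h1D) hcH1' hD1'
    obtain ⟨P₂, hP₂⟩ := syl H₂ (le_inf hle h2D) hcard inf_le_left
    obtain ⟨g, hg⟩ := MulAction.exists_smul_eq M P₁ P₂
    have hgD : D₂.map (MulAut.conj (g : G)).toMonoidHom = D₂ := map_conj_eq g.2.2
    have hH2 : H₂ = H₁'.map (MulAut.conj (g : G)).toMonoidHom := by
      rw [← hP₁, ← hP₂, Subgroup.map_sup, hgD, Subgroup.map_map]
      congr 1
      rw [← hg, Sylow.coe_subgroup_smul]
      show ((P₁ : Subgroup M).map (MulAut.conj g).toMonoidHom).map M.subtype = _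
      rw [Subgroup.map_map]
      rfl
    have hgL : (g : G) ∈ N ⊔ H₁' := by rw [hL']; exact g.2.1
    obtain ⟨k, hk, b, hb', hkb⟩ := (mem_sup_iff (normalizer_map_conj hN (le_normalizer hn))).mp hgL
    refine ⟨k * n, mul_mem hk hn, ?_⟩
    rw [hH2, ← hkb, ← map_conj_map_conj k b, map_conj_eq (le_normalizer hb'),
      map_conj_map_conj]

/-- Schur-Zassenhaus conjugacy. -/
theorem exists_conj_of_le_sup {N H₁ H₂ : Subgroup G}
    (hN : H₁ ≤ normalizer (N : Set G)) (hle : H₂ ≤ N ⊔ H₁) (hcard : Nat.card H₂ = Nat.card H₁)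
    (hcop : (Nat.card H₁).Coprime (Nat.card N))
    (hsolv : Group.IsSolvable H₁ ∨ Group.IsSolvable N) :
    ∃ n ∈ N, H₂ = H₁.map (MulAut.conj n).toMonoidHom :=
  hsolv.elim (fun h => exists_conj_of_solvable_complement _ N H₁ H₂ le_rfl h hN hle hcard hcop)
    (fun h => exists_conj_of_solvable_kernel _ N H₁ H₂ le_rfl h hN hle hcard hcop)

end Cfsg.Agent.Coprime
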