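import Cfsg.Agent.Coprime.SchurZassenhaus
import Mathlib.GroupTheory.Nilpotent

/-!
Coprime action, internal form: `A` normalizes `K`, coprime orders, `A` or `K` solvable.
-/

namespace Cfsg.Agent.Coprime

open Subgroup
open scoped Pointwise

variable {G : Type*} [Group G] [Finite G] {A K : Subgroup G}

section Main

variable (hAK : A ≤ normalizer (K : Set G)) (hcop : (Nat.card A).Coprime (Nat.card K))
  (hsolv : Group.IsSolvable A ∨ Group.IsSolvable K)

include hAK hcop hsolv

/-- An `A`-invariant left coset `k N` contains an element centralized by `A`. -/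
theorem exists_centralizer_mem_coset {N : Subgroup G} (hNK : N ≤ K)
    (hNA : A ≤ normalizer (N : Set G)) {k : G} (hk : k ∈ K)
    (hfix : ∀ a ∈ A, k⁻¹ * (a * k * a⁻¹) ∈ N) :
    ∃ c ∈ K ⊓ centralizer (A : Set G), k⁻¹ * c ∈ N := by
  have hle : A.map (MulAut.conj k⁻¹).toMonoidHom ≤ N ⊔ A := by
    intro x hx
    rw [mem_map_conj, inv_inv] at hx
    have := mul_mem (mem_sup_left (T := A) (hfix _ hx)) (mem_sup_right (S := N) hx)
    simpa [mul_assoc] using this
  obtain ⟨n, hn, he⟩ := exists_conj_of_le_sup hNA hle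
    (card_map_conj _ _) (coprime_of_le hNK hcop) (solvable_or_of_le hNK hsolv)
  refine ⟨k * n, ⟨mul_mem hk (hNK hn),
    mem_centralizer_of_mem_normalizer hAK (inf_eq_bot hcop) (mul_mem hk (hNK hn)) ?_⟩, by simpa⟩
  refine mem_normalizer_of_map_conj ?_
  rw [← map_conj_map_conj, ← he, map_conj_map_conj, mul_inv_cancel, map_conj_one]

/-- Fixed points of `A` in `K / N` lift to fixed points in `K`. -/
theorem exists_centralizer_mem_of_comm_mem {N : Subgroup G} (hNK : N ≤ K)
    (hNnormal : K ≤ normalizer (N : Set G)) (hNA : A ≤ normalizer (N : Set G)) {k : G} (hk : k ∈ K)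
    (hfix : ∀ a ∈ A, a * k * a⁻¹ * k⁻¹ ∈ N) :
    ∃ c ∈ K ⊓ centralizer (A : Set G), k⁻¹ * c ∈ N := by
  refine exists_centralizer_mem_coset hAK hcop hsolv hNK hNA hk fun a ha => ?_
  have := conj_mem' (hNnormal hk) (hfix a ha)
  simpa [mul_assoc] using this

/-- `C_{K/N}(A)` is the image of `C_K(A)`, as an equality of subgroups. -/
theorem centralizer_sup_eq {N : Subgroup G} (hNK : N ≤ K)
    (hNnormal : K ≤ normalizer (N : Set G)) (hNA : A ≤ normalizer (N : Set G)) {k : G}
    (hk : k ∈ K) :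
    (∀ a ∈ A, a * k * a⁻¹ * k⁻¹ ∈ N) ↔ k ∈ (K ⊓ centralizer (A : Set G)) ⊔ N := by
  constructor
  · intro h
    obtain ⟨c, hc, hcn⟩ := exists_centralizer_mem_of_comm_mem hAK hcop hsolv hNK hNnormal hNA hk h
    have := mul_mem (mem_sup_left (T := N) hc)
      (mem_sup_right (S := K ⊓ centralizer (A : Set G)) (N.inv_mem hcn))
    simpa using this
  · intro h a ha
    obtain ⟨n, hn, c, hc, rfl⟩ :=
      (mem_sup_iff (inf_le_left.trans hNnormal)).mp (sup_comm N (K ⊓ centralizer (A : Set G)) ▸ h)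
    have hc' := conj_eq_of_mem_centralizer hc.2 ha
    have e : a * (n * c) * a⁻¹ * (n * c)⁻¹ = (a * n * a⁻¹) * n⁻¹ := by
      calc a * (n * c) * a⁻¹ * (n * c)⁻¹ = (a * n * a⁻¹) * (a * c * a⁻¹) * c⁻¹ * n⁻¹ := by
            simp [mul_assoc]
        _ = _ := by rw [hc', mul_inv_cancel_right]
    rw [e]
    exact mul_mem (conj_mem (hNA ha) hn) (inv_mem hn)

/-- `K = [K, A] C_K(A)`. -/
theorem commutator_sup_centralizer : ⁅K, A⁆ ⊔ (K ⊓ centralizer (A : Set G)) = K := by
  refine le_antisymm (sup_le (commutator_le_left_of_normalizer hAK) inf_le_left) fun k hk => ?_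
  obtain ⟨c, hc, hcn⟩ := exists_centralizer_mem_coset hAK hcop hsolv
    (commutator_le_left_of_normalizer hAK) (normalizer_commutator_ge_right K A) hk fun a ha => by
      have h := commutator_mem_commutator (K.inv_mem hk) ha
      simpa [commutatorElement_def, mul_assoc] using h
  have hn : c⁻¹ * k ∈ ⁅K, A⁆ := by simpa using inv_mem hcn
  have := mul_mem (mem_sup_right (S := ⁅K, A⁆) hc) (mem_sup_left (T := K ⊓ centralizer (A : Set G)) hn)
  simpa using this

/-- `[K, A, A] = [K, A]`. -/
theorem commutator_commutator_eq : ⁅⁅K, A⁆, A⁆ = ⁅K, A⁆ := by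
  have hle := commutator_le_left_of_normalizer hAK
  refine le_antisymm (commutator_mono hle le_rfl) (commutator_le.mpr fun k hk a ha => ?_)
  rw [← commutator_sup_centralizer hAK hcop hsolv] at hk
  obtain ⟨m, hm, c, hc, rfl⟩ :=
    (mem_sup_iff (inf_le_left.trans (normalizer_commutator_ge_left K A))).mp hk
  rw [commutatorElement_mul_left_eq_conj_mul,
    commutatorElement_eq_one_iff_mul_comm.mpr (commute_of_mem_centralizer hc.2 ha).symm,
    mul_one, mul_inv_cancel, one_mul]
  exact commutator_mem_commutator hm ha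

/-- `C_K(A) = C_X(A) C_Y(A)` for invariant factors `K = X Y`. -/
theorem centralizer_mul {X Y : Subgroup G} (hX : X ≤ K) (hY : Y ≤ K)
    (hXA : A ≤ normalizer (X : Set G)) (hYA : A ≤ normalizer (Y : Set G))
    {x y : G} (hx : x ∈ X) (hy : y ∈ Y) (hxy : x * y ∈ centralizer (A : Set G)) :
    ∃ x' ∈ X ⊓ centralizer (A : Set G), ∃ y' ∈ Y ⊓ centralizer (A : Set G), x * y = x' * y' := by
  obtain ⟨c, hc, hcn⟩ := exists_centralizer_mem_coset (N := X ⊓ Y) hAK
    hcop hsolv (inf_le_left.trans hX) (le_normalizer_iff.mpr fun a ha n hn =>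
      ⟨conj_mem (hXA ha) hn.1, conj_mem (hYA ha) hn.2⟩) (hX hx) fun a ha => by
    refine ⟨X.mul_mem (X.inv_mem hx) (conj_mem (hXA ha) hx), ?_⟩
    have h := conj_eq_of_mem_centralizer hxy ha
    have e : x⁻¹ * (a * x * a⁻¹) = y * (a * y⁻¹ * a⁻¹) := by
      calc x⁻¹ * (a * x * a⁻¹) = x⁻¹ * (a * (x * y) * a⁻¹) * (a * y⁻¹ * a⁻¹) := by
            simp [mul_assoc]
        _ = _ := by rw [h]; simp [mul_assoc]
    rw [e]
    exact Y.mul_mem hy (conj_mem (hYA ha) (Y.inv_mem hy))
  have hcX : c ∈ X := by have := X.mul_mem hx hcn.1; simpa using this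
  refine ⟨c, ⟨hcX, hc.2⟩, c⁻¹ * (x * y), ⟨?_, (centralizer (A : Set G)).mul_mem ((centralizer (A : Set G)).inv_mem hc.2) hxy⟩, by simp⟩
  have := Y.mul_mem (Y.inv_mem hcn.2) hy
  simpa [mul_assoc] using this

section FixedPoint

variable {X : Type*} [MulAction G X] {S : Set X}

/-- Glauberman's lemma: if `K` is transitive on the `A K`-invariant set `S`, then `A` fixes a
point of `S`. -/
theorem exists_fixed_point (hS : S.Nonempty) (hAS : ∀ a ∈ A, ∀ x ∈ S, a • x ∈ S)
    (hKS : ∀ x ∈ S, ∀ y ∈ S, ∃ k ∈ K, k • x = y) (hKstable : ∀ k ∈ K, ∀ x ∈ S, k • x ∈ S) :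
    ∃ x ∈ S, ∀ a ∈ A, a • x = x := by
  obtain ⟨x, hx⟩ := hS
  set H := A ⊔ K with hH
  set M := MulAction.stabilizer G x ⊓ H with hM
  have hHK : H ≤ normalizer (K : Set G) := sup_le hAK le_normalizer
  have hmem : ∀ h ∈ H, ∃ k ∈ K, k⁻¹ * h ∈ M := by
    intro h hh
    obtain ⟨k, hk, a, ha, rfl⟩ := (mem_sup_iff hAK).mp (sup_comm A K ▸ hh : h ∈ K ⊔ A)
    obtain ⟨k', hk', he⟩ := hKS x hx (a • x) (hAS a ha x hx)
    refine ⟨k * k', mul_mem hk hk', ⟨?_, ?_⟩⟩
    · show _ • x = x
      rw [mul_inv_rev, mul_assoc, inv_mul_cancel_left, mul_smul, ← he,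
        inv_smul_smul]
    · exact H.mul_mem (H.inv_mem (mem_sup_right (mul_mem hk hk')))
        (H.mul_mem (mem_sup_right hk) (mem_sup_left ha))
  have hsup : K ⊔ M = H := by
    refine le_antisymm (sup_le le_sup_right inf_le_right) fun h hh => ?_
    obtain ⟨k, hk, hkM⟩ := hmem h hh
    have := mul_mem (mem_sup_left (T := M) hk) (mem_sup_right (S := K) hkM)
    simpa using this
  set N' := K.subgroupOf M with hN'
  have : N'.Normal := normal_subgroupOf_of_le_normalizer (inf_le_right.trans hHK)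
  have hidx : N'.index = Nat.card A := by
    have h1 : K.relIndex M = K.relIndex A := by
      have hHM : (K.subgroupOf H).Normal := normal_subgroupOf_of_le_normalizer hHK
      have e1 : ∀ L : Subgroup G, L ≤ H → K ⊔ L = H → K.relIndex L = K.relIndex H := by
        intro L hL hKL
        have h := relIndex_sup_left (K := K.subgroupOf H) (H := L.subgroupOf H)
        rw [← subgroupOf_sup le_sup_right hL, hKL, subgroupOf_self, relIndex_top_right,
          relIndex_subgroupOf hL] at h
        exact h.symm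
      rw [e1 M inf_le_right hsup, e1 A le_sup_left (sup_comm K A)]
    show K.relIndex M = _
    rw [h1, ← inf_relIndex_right, inf_comm, inf_eq_bot hcop, relIndex_bot_left]
  have hdvd : Nat.card N' ∣ Nat.card K := by
    rw [← Subgroup.card_map_of_injective M.subtype_injective, hN', subgroupOf_map_subtype]
    exact card_dvd_of_le inf_le_left
  obtain ⟨B, hB⟩ := exists_right_complement'_of_coprime (N := N')
    (by rw [hidx]; exact hcop.symm.coprime_dvd_left hdvd)
  obtain ⟨k, hk, he⟩ := exists_conj_of_le_sup (H₂ := B.map M.subtype) hAK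
    (((map_subtype_le B).trans inf_le_right).trans_eq (sup_comm A K))
    (by rw [Subgroup.card_map_of_injective M.subtype_injective, ← hB.symm.index_eq_card, hidx])
    hcop hsolv
  refine ⟨k⁻¹ • x, hKstable _ (inv_mem hk) x hx, fun a ha => ?_⟩
  have h : MulAut.conj k a ∈ B.map M.subtype := by rw [he]; exact ⟨a, ha, rfl⟩
  have h' := (map_subtype_le B h).1
  replace h' : MulAut.conj k a • x = x := h'
  rw [MulAut.conj_apply, mul_smul, mul_smul] at h'
  exact eq_inv_smul_iff.mpr h'

/-- `C_K(A)` is transitive on the `A`-fixed points. -/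
theorem exists_centralizer_smul_eq {x y : X} (hx : ∀ a ∈ A, a • x = x) (hy : ∀ a ∈ A, a • y = y)
    {k : G} (hk : k ∈ K) (hkxy : k • x = y) :
    ∃ c ∈ K ⊓ centralizer (A : Set G), c • x = y := by
  have hN : A ≤ normalizer ((K ⊓ MulAction.stabilizer G x : Subgroup G) : Set G) := by
    rw [le_normalizer_iff]
    intro a ha n hn
    refine ⟨conj_mem (hAK ha) hn.1, ?_⟩
    show _ • x = x
    rw [mul_smul, mul_smul, hx _ (inv_mem ha),
      MulAction.mem_stabilizer_iff.mp hn.2, hx a ha]
  obtain ⟨c, hc, hcn⟩ := exists_centralizer_mem_coset hAK hcop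
    hsolv inf_le_left hN hk (fun a ha => by
      refine ⟨K.mul_mem (K.inv_mem hk) (conj_mem (hAK ha) hk), ?_⟩
      show _ • x = x
      rw [mul_smul, mul_smul, mul_smul, hx _ (inv_mem ha), hkxy, hy a ha, ← hkxy, inv_smul_smul])
  refine ⟨c, hc, ?_⟩
  have h : (k⁻¹ * c) • x = x := hcn.2
  rw [mul_smul, inv_smul_eq_iff, hkxy] at h
  exact h

end FixedPoint

omit hAK hcop hsolv in
/-- Conjugation action on subgroups. -/
@[reducible] def conjAction (G : Type*) [Group G] : MulAction G (Subgroup G) :=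
  MulAction.compHom (Subgroup G) (MulAut.conj (G := G))

omit hAK hcop hsolv [Finite G] in
theorem conjAction_smul (g : G) (H : Subgroup G) :
    letI := conjAction G
    g • H = H.map (MulAut.conj g).toMonoidHom := rfl

/-- Two invariant `K`-conjugate subgroups are conjugate under `C_K(A)`. -/
theorem exists_centralizer_conj {U V : Subgroup G} (hU : A ≤ normalizer (U : Set G))
    (hV : A ≤ normalizer (V : Set G)) {k : G} (hk : k ∈ K)
    (h : U.map (MulAut.conj k).toMonoidHom = V) :
    ∃ c ∈ K ⊓ centralizer (A : Set G), U.map (MulAut.conj c).toMonoidHom = V :=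
  letI := conjAction G
  exists_centralizer_smul_eq hAK hcop hsolv (X := Subgroup G) (fun _ ha => map_conj_eq (hU ha))
    (fun _ ha => map_conj_eq (hV ha)) hk h

/-- Sylow subgroups of `K`, as subgroups of `G`, are permuted by `A`. -/
theorem exists_invariant_sylow (p : ℕ) [Fact p.Prime] :
    ∃ P : Sylow p K, A ≤ normalizer (((P : Subgroup K).map K.subtype : Subgroup G) : Set G) := by
  letI := conjAction G
  set S : Set (Subgroup G) := Set.range fun P : Sylow p K => (P : Subgroup K).map K.subtype with hSdef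
  have hcard : ∀ U : Subgroup G, U ≤ K → Nat.card U = p ^ (Nat.card K).factorization p → U ∈ S := by
    intro U hU hc
    refine ⟨Sylow.ofCard (U.subgroupOf K) ?_, ?_⟩
    · rwa [Nat.card_congr (subgroupOfEquivOfLe hU).toEquiv]
    · simp only [Sylow.coe_ofCard, map_subgroupOf_eq_of_le hU]
  have hstable : ∀ g ∈ normalizer (K : Set G), ∀ U ∈ S, g • U ∈ S := by
    rintro g hg _ ⟨P, rfl⟩
    refine hcard _ ?_ ?_
    · exact (Subgroup.map_mono (map_subtype_le _)).trans_eq (map_conj_eq hg)
    · exact (card_map_conj _ _).trans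
        ((Subgroup.card_map_of_injective K.subtype_injective).trans P.card_eq_multiplicity)
  obtain ⟨U, ⟨P, rfl⟩, hfix⟩ := exists_fixed_point hAK hcop hsolv (S := S)
    (Set.range_nonempty _) (fun a ha => hstable a (hAK ha))
    (by
      rintro _ ⟨P, rfl⟩ _ ⟨Q, rfl⟩
      obtain ⟨k, rfl⟩ := MulAction.exists_smul_eq K P Q
      refine ⟨k, k.2, ?_⟩
      show ((P : Subgroup K).map K.subtype).map (MulAut.conj (k : G)).toMonoidHom =
        ((P : Subgroup K).map (MulAut.conj k).toMonoidHom).map K.subtype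
      rw [Subgroup.map_map, Subgroup.map_map]
      rfl)
    (fun k hk => hstable k (le_normalizer hk))
  exact ⟨P, fun a ha => mem_normalizer_of_map_conj (hfix a ha)⟩

/-- Invariant Sylow subgroups are conjugate under `C_K(A)`. -/
theorem exists_conj_invariant_sylow (p : ℕ) [Fact p.Prime] (P Q : Sylow p K)
    (hP : A ≤ normalizer (((P : Subgroup K).map K.subtype : Subgroup G) : Set G))
    (hQ : A ≤ normalizer (((Q : Subgroup K).map K.subtype : Subgroup G) : Set G)) :
    ∃ c : K, (c : G) ∈ centralizer (A : Set G) ∧ MulAut.conj c • P = Q := by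
  obtain ⟨k, rfl⟩ := MulAction.exists_smul_eq K P Q
  have key : ∀ c : K, (((c • P : Sylow p K) : Subgroup K)).map K.subtype =
      ((P : Subgroup K).map K.subtype).map (MulAut.conj (c : G)).toMonoidHom := by
    intro c
    show ((P : Subgroup K).map (MulAut.conj c).toMonoidHom).map K.subtype = _
    rw [Subgroup.map_map, Subgroup.map_map]
    rfl
  obtain ⟨c, hc, he⟩ := exists_centralizer_conj hAK hcop hsolv hP hQ k.2 (key k).symm
  refine ⟨⟨c, hc.1⟩, hc.2, Sylow.ext (map_injective K.subtype_injective ?_)⟩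
  rw [← he]
  exact key ⟨c, hc.1⟩

/-- An invariant `p`-subgroup lies in an invariant Sylow subgroup. -/
theorem exists_invariant_sylow_ge (p : ℕ) [Fact p.Prime] {U : Subgroup G} (hUK : U ≤ K)
    (hU : IsPGroup p U) (hUA : A ≤ normalizer (U : Set G)) :
    ∃ P : Sylow p K, U ≤ (P : Subgroup K).map K.subtype ∧
      A ≤ normalizer (((P : Subgroup K).map K.subtype : Subgroup G) : Set G) := by
  -- a maximal invariant `p`-subgroup is a Sylow subgroup
  obtain ⟨M, ⟨hUM, hMK, hMp, hMA⟩, hmax⟩ := Set.Finite.exists_maximalFor id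
    {M : Subgroup G | U ≤ M ∧ M ≤ K ∧ IsPGroup p M ∧ A ≤ normalizer (M : Set G)}
    (Set.toFinite _) ⟨U, le_rfl, hUK, hU, hUA⟩
  set L := K ⊓ normalizer (M : Set G) with hL
  have hAL : A ≤ normalizer (L : Set G) := by
    rw [le_normalizer_iff]
    intro a ha x hx
    exact ⟨conj_mem (hAK ha) hx.1,
      (normalizer (M : Set G)).mul_mem ((normalizer (M : Set G)).mul_mem (hMA ha) hx.2)
        ((normalizer (M : Set G)).inv_mem (hMA ha))⟩
  obtain ⟨P, hP⟩ := exists_invariant_sylow hAL (coprime_of_le inf_le_left hcop)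
    (solvable_or_of_le inf_le_left hsolv) p
  set P' := (P : Subgroup L).map L.subtype with hP'
  have hML : M ≤ L := le_inf hMK le_normalizer
  have hMP : M ≤ P' := by
    have : (M.subgroupOf L).Normal := normal_subgroupOf_of_le_normalizer inf_le_right
    have h : M.subgroupOf L ≤ (P : Subgroup L) := by
      obtain ⟨Q, hQ⟩ := (hMp.comap_of_injective L.subtype L.subtype_injective).exists_le_sylow
      obtain ⟨g, rfl⟩ := MulAction.exists_smul_eq L Q P
      rw [← map_conj_eq (H := M.subgroupOf L) (g := g) (by rw [normalizer_eq_top]; exact mem_top g)]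
      exact Subgroup.map_mono hQ
    rw [← map_subgroupOf_eq_of_le hML]
    exact Subgroup.map_mono h
  have hP'K : P' ≤ K := (map_subtype_le _).trans inf_le_left
  have hP'p : IsPGroup p P' := P.isPGroup'.map L.subtype
  have hPM : P' = M :=
    le_antisymm (hmax ⟨hUM.trans hMP, hP'K, hP'p, hP⟩ hMP) hMP
  obtain ⟨Q, hQ⟩ := (hMp.comap_of_injective K.subtype K.subtype_injective).exists_le_sylow
  replace hQ : M.subgroupOf K ≤ (Q : Subgroup K) := hQ
  suffices h : M.subgroupOf K = (Q : Subgroup K) by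
    refine ⟨Q, ?_, ?_⟩ <;> rw [← h, map_subgroupOf_eq_of_le hMK]
    exacts [hUM, hMA]
  by_contra hne
  -- otherwise `M` is properly contained in its normalizer inside `Q`
  have hQn : Group.IsNilpotent (Q : Subgroup K) := Q.isPGroup'.isNilpotent
  have hlt : (M.subgroupOf K).subgroupOf Q < ⊤ := by
    rw [lt_top_iff_ne_top, Ne, subgroupOf_eq_top]
    exact fun h => hne (le_antisymm hQ h)
  obtain ⟨x, hx, hx'⟩ :=
    SetLike.exists_of_lt (Group.normalizerCondition_of_isNilpotent _ hlt)
  apply hx'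
  show ((x : K) : G) ∈ M
  have hxK : (x : K) ∈ normalizer ((M.subgroupOf K : Subgroup K) : Set K) := by
    have h0 := hx
    rw [← subgroupOf_normalizer_eq hQ] at h0
    exact h0
  have hxN : ((x : K) : G) ∈ normalizer (M : Set G) := by
    have h1 := hxK
    rw [← subgroupOf_normalizer_eq hMK] at h1
    exact h1
  rw [← hPM]
  -- the group generated by `M` and `x` is a `p`-subgroup of `L` containing the Sylow subgroup `P'`
  have hPQ : (P : Subgroup L) ≤ ((Q : Subgroup K).map K.subtype).subgroupOf L := by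
    rw [← map_le_map_iff_of_injective L.subtype_injective, ← hP', hPM, subgroupOf_map_subtype]
    refine le_inf ?_ hML
    rw [← map_subgroupOf_eq_of_le hMK]
    exact Subgroup.map_mono hQ
  have := P.is_maximal' ((Q.isPGroup'.map K.subtype).comap_of_injective L.subtype L.subtype_injective) hPQ
  refine ⟨⟨(x : K), (x : K).2, hxN⟩, ?_, rfl⟩
  rw [← this]
  exact ⟨(x : K), x.2, rfl⟩

end Main

end Cfsg.Agent.Coprime
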