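import Cfsg.Agent.Coprime.Action
import Cfsg.Agent.Coprime.Centralize
import Mathlib.GroupTheory.QuotientGroup.Finite

/-!
Generation by fixed points of a coprime abelian group.
-/

namespace Cfsg.Agent.Coprime

open Subgroup
open scoped IsMulCommutative

/-- A noncyclic finite abelian group contains two independent elements of the same prime order. -/
theorem exists_pair_of_not_isCyclic {Q : Type*} [Group Q] [IsMulCommutative Q] [Finite Q]
    (h : ¬ IsCyclic Q) :
    ∃ p : ℕ, p.Prime ∧ ∃ x y : Q, x ^ p = 1 ∧ y ^ p = 1 ∧ x ≠ 1 ∧ y ∉ zpowers x := by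
  classical
  cases nonempty_fintype Q
  by_contra hne
  push Not at hne
  have hp : ∀ p : ℕ, p.Prime → Nat.card (powMonoidHom (α := Q) p).ker ≤ p := by
    intro p hp
    by_cases hb : (powMonoidHom (α := Q) p).ker = ⊥
    · rw [hb, card_bot]; exact hp.one_lt.le
    obtain ⟨⟨x, hx⟩, hxne⟩ := ne_bot_iff_exists_ne_one.mp hb
    have hx1 : x ≠ 1 := fun h => hxne (Subtype.ext h)
    have : Fact p.Prime := ⟨hp⟩
    have hord : orderOf x = p := orderOf_eq_prime (by simpa using hx) hx1
    calc Nat.card (powMonoidHom (α := Q) p).ker ≤ Nat.card (zpowers x) :=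
          Subgroup.card_le_of_le fun y hy => hne p hp x y (by simpa using hx) (by simpa using hy) hx1
      _ = p := by rw [Nat.card_zpowers, hord]
  have hall : ∀ n : ℕ, 0 < n → Nat.card (powMonoidHom (α := Q) n).ker ≤ n := by
    intro n
    induction n using Nat.strong_induction_on with
    | _ n ih =>
      intro hn
      rcases Nat.lt_or_ge n 2 with h2 | h2
      · obtain rfl : n = 1 := by omega
        rw [show (powMonoidHom (α := Q) 1).ker = ⊥ by ext x; simp, card_bot]
      obtain ⟨p, hpp, m, rfl⟩ := Nat.exists_prime_and_dvd (by omega : n ≠ 1)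
      have hm : 0 < m := by rcases Nat.eq_zero_or_pos m with rfl | h' <;> simp_all
      have hlt : m < p * m := lt_mul_of_one_lt_left hm hpp.one_lt
      let f := (powMonoidHom (α := Q) p).comp (powMonoidHom (α := Q) (p * m)).ker.subtype
      have hker : Nat.card f.ker ≤ p := by
        refine le_trans ?_ (hp p hpp)
        rw [← Subgroup.card_map_of_injective (powMonoidHom (α := Q) (p * m)).ker.subtype_injective]
        refine Subgroup.card_le_of_le ?_
        rintro _ ⟨x, hx, rfl⟩
        exact hx
      have hran : Nat.card f.range ≤ m := by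
        refine le_trans (Subgroup.card_le_of_le ?_) (ih m hlt hm)
        rintro _ ⟨x, rfl⟩
        have := x.2
        rw [MonoidHom.mem_ker, powMonoidHom_apply] at this ⊢
        simpa [f, ← pow_mul] using this
      rw [← card_mul_index f.ker, index_ker]
      exact Nat.mul_le_mul hker hran
  refine h (isCyclic_of_card_pow_eq_one_le fun n hn => le_trans (le_of_eq ?_) (hall n hn))
  rw [Nat.card_eq_fintype_card]
  symm
  apply Fintype.card_of_subtype
  intro x; simp

variable {G : Type*} [Group G] [Finite G]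

/-- If `x, y` commute, have `p`-th powers centralizing the abelian group `V` of order prime to `p`,
and no element of the family `y, x y^i` fixes a nontrivial element of `V`, then `V` is trivial. -/
theorem eq_bot_of_fixed_point_free {V : Subgroup G} [IsMulCommutative V] {p : ℕ} [hpF : Fact p.Prime]
    {x y : G} (hx : x ∈ normalizer (V : Set G)) (hy : y ∈ normalizer (V : Set G))
    (hxy : Commute x y) (hxp : x ^ p ∈ centralizer (V : Set G)) (hyp : y ^ p ∈ centralizer (V : Set G))
    (hcop : p.Coprime (Nat.card V))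
    (hfy : ∀ v ∈ V, y * v * y⁻¹ = v → v = 1)
    (hfx : ∀ i < p, ∀ v ∈ V, (x * y ^ i) * v * (x * y ^ i)⁻¹ = v → v = 1) : V = ⊥ := by
  classical
  set σ : MulAut V := V.normalizerMonoidHom ⟨x, hx⟩ with hσ
  set τ : MulAut V := V.normalizerMonoidHom ⟨y, hy⟩ with hτ
  have hσp : σ ^ p = 1 := by
    rw [hσ, ← map_pow, ← MonoidHom.mem_ker, V.normalizerMonoidHom_ker]
    exact hxp
  have hτp : τ ^ p = 1 := by
    rw [hτ, ← map_pow, ← MonoidHom.mem_ker, V.normalizerMonoidHom_ker]
    exact hyp
  have hcomm : Commute σ τ := by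
    rw [hσ, hτ]
    refine Commute.map (show Commute (⟨x, hx⟩ : normalizer (V : Set G)) ⟨y, hy⟩ from Subtype.ext hxy) _
  let N : MulAut V → V → V := fun z v => ∏ j ∈ Finset.range p, (z ^ j) v
  have hfix : ∀ z : MulAut V, z ^ p = 1 → ∀ v, z (N z v) = N z v := by
    intro z hz v
    show z (∏ j ∈ Finset.range p, (z ^ j) v) = ∏ j ∈ Finset.range p, (z ^ j) v
    rw [map_prod]
    have h1 := Finset.prod_range_succ (fun j => (z ^ j) v) p
    have h2 := Finset.prod_range_succ' (fun j => (z ^ j) v) p
    rw [h2, pow_zero, hz, MulAut.one_apply] at h1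
    simp only [pow_succ', MulAut.mul_apply] at h1
    exact mul_right_cancel h1
  have hN1 : ∀ v, N τ v = 1 := by
    intro v
    exact Subtype.ext (hfy _ (N τ v).2 (congr_arg Subtype.val (hfix τ hτp v)))
  have hN2 : ∀ i < p, ∀ v, N (σ * τ ^ i) v = 1 := by
    intro i hi v
    have hz : (σ * τ ^ i) ^ p = 1 := by
      rw [(hcomm.pow_right i).mul_pow, hσp, ← pow_mul, mul_comm, pow_mul, hτp, one_pow, one_mul]
    refine Subtype.ext (hfx i hi _ (N (σ * τ ^ i) v).2 ?_)
    have e : σ * τ ^ i = V.normalizerMonoidHom ⟨x * y ^ i, mul_mem hx (pow_mem hy i)⟩ := by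
      rw [hσ, hτ, ← map_pow, ← map_mul]
      rfl
    have := congr_arg Subtype.val (hfix _ hz v)
    rw [e] at this ⊢
    exact this
  rw [eq_bot_iff]
  intro w hw
  set v : V := ⟨w, hw⟩ with hv
  -- the product of all norms is `v ^ p`
  have hprod : (∏ i ∈ Finset.range p, N (σ * τ ^ i) v) = v ^ p := by
    show (∏ i ∈ Finset.range p, ∏ j ∈ Finset.range p, ((σ * τ ^ i) ^ j) v) = v ^ p
    rw [Finset.prod_comm]
    obtain ⟨q, hq⟩ := Nat.exists_eq_add_of_le' hpF.out.pos
    rw [show Finset.range p = Finset.range (q + 1) by rw [hq], Finset.prod_range_succ' _ q]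
    have h0 : ∀ j ∈ Finset.range q,
        (∏ i ∈ Finset.range (q + 1), ((σ * τ ^ i) ^ (j + 1)) v) = 1 := by
      intro j hj
      rw [Finset.mem_range] at hj
      have hjp : (j + 1).Coprime p :=
        ((Nat.Prime.coprime_iff_not_dvd hpF.out).mpr fun hd => by
          have := Nat.le_of_dvd (by omega) hd
          omega).symm
      rw [← hq]
      have hterm : ∀ i, ((σ * τ ^ i) ^ (j + 1)) v = (σ ^ (j + 1)) ((τ ^ (i * (j + 1) % p)) v) := by
        intro i
        rw [(hcomm.pow_right i).mul_pow, ← pow_mul, MulAut.mul_apply,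
          pow_eq_pow_mod (i * (j + 1)) hτp]
      simp only [hterm]
      rw [← map_prod]
      refine (MulEquiv.map_eq_one_iff _).mpr ?_
      rw [← hN1 v]
      refine Finset.prod_nbij' (fun i => i * (j + 1) % p)
        (fun i => i * (Nat.exists_mul_mod_eq_one_of_coprime hjp hpF.out.one_lt).choose % p) ?_ ?_ ?_ ?_
        (fun i _ => rfl)
      · intro i _; simp only [Finset.mem_range]; exact Nat.mod_lt _ hpF.out.pos
      · intro i _; simp only [Finset.mem_range]; exact Nat.mod_lt _ hpF.out.pos
      · intro i hi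
        obtain ⟨-, hm⟩ := (Nat.exists_mul_mod_eq_one_of_coprime hjp hpF.out.one_lt).choose_spec
        have hi' : i < p := by simpa using hi
        rw [Nat.mod_mul_mod, mul_assoc, Nat.mul_mod, hm, mul_one, Nat.mod_mod, Nat.mod_eq_of_lt hi']
      · intro i hi
        obtain ⟨-, hm⟩ := (Nat.exists_mul_mod_eq_one_of_coprime hjp hpF.out.one_lt).choose_spec
        have hi' : i < p := by simpa using hi
        rw [Nat.mod_mul_mod, mul_assoc, Nat.mul_mod, mul_comm _ (j + 1), hm, mul_one, Nat.mod_mod,
          Nat.mod_eq_of_lt hi']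
    rw [Finset.prod_eq_one h0, one_mul]
    simp [hq]
  rw [Finset.prod_eq_one fun i hi => hN2 i (Finset.mem_range.mp hi) v] at hprod
  have h2 : v ^ Nat.card V = 1 := pow_card_eq_one'
  have h3 := pow_gcd_eq_one.mpr ⟨hprod.symm, h2⟩
  rw [Nat.Coprime.gcd_eq_one hcop, pow_one] at h3
  exact congr_arg Subtype.val h3

/-- Elements normalizing `N` and stabilizing the coset `k N`. -/
def cosetStabilizer (N : Subgroup G) (k : G) : Subgroup G where
  carrier := {a | a ∈ normalizer (N : Set G) ∧ k⁻¹ * (a * k * a⁻¹) ∈ N}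
  one_mem' := ⟨one_mem _, by simp⟩
  mul_mem' := by
    rintro a b ⟨ha, ha'⟩ ⟨hb, hb'⟩
    refine ⟨mul_mem ha hb, ?_⟩
    have := mul_mem ha' (conj_mem ha hb')
    simpa [mul_assoc] using this
  inv_mem' := by
    rintro a ⟨ha, ha'⟩
    refine ⟨inv_mem ha, ?_⟩
    have := conj_mem' ha (inv_mem ha')
    simpa [mul_assoc] using this

/-- Sylow subgroups, one for each prime, generate. -/
theorem le_of_exists_sylow_le {K M : Subgroup G}
    (h : ∀ q : ℕ, q.Prime → ∃ Q : Sylow q K, (Q : Subgroup K).map K.subtype ≤ M) : K ≤ M := by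
  rw [← subgroupOf_eq_top]
  have hdvd : Nat.card K ∣ Nat.card (M.subgroupOf K) := by
    rw [← Nat.factorization_prime_le_iff_dvd Nat.card_pos.ne' Nat.card_pos.ne']
    intro q hq
    have : Fact q.Prime := ⟨hq⟩
    obtain ⟨Q, hQ⟩ := h q hq
    rw [← hq.pow_dvd_iff_le_factorization Nat.card_pos.ne', ← Q.card_eq_multiplicity]
    exact card_dvd_of_le (map_le_iff_le_comap.mp hQ)
  exact eq_top_of_card_eq _ (Nat.dvd_antisymm (card_subgroup_dvd_card _) hdvd)

/-- The main generation lemma. -/
theorem le_of_centralizer_le {A : Subgroup G} [IsMulCommutative A] {p : ℕ} [Fact p.Prime] {x y : G}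
    (hx : x ∈ A) (hy : y ∈ A) :
    ∀ (K M : Subgroup G), A ≤ normalizer (K : Set G) → (Nat.card A).Coprime (Nat.card K) →
      p.Coprime (Nat.card K) →
      x ^ p ∈ centralizer (K : Set G) → y ^ p ∈ centralizer (K : Set G) →
      K ⊓ centralizer {y} ≤ M → (∀ i < p, K ⊓ centralizer {x * y ^ i} ≤ M) → K ≤ M := by
  have hAsolv : Group.IsSolvable A := isSolvable_of_isMulCommutative
  intro K
  induction K using WellFoundedLT.induction with
  | ind K ih =>
    intro M hAK hcop hpK hxp hyp hyM hxM
    -- a proper invariant subgroup is contained in `M`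
    have hsub : ∀ L < K, A ≤ normalizer (L : Set G) → L ≤ M := fun L hL hAL =>
      ih L hL M hAL (coprime_of_le hL.le hcop) (hpK.coprime_dvd_right (card_dvd_of_le hL.le))
        (centralizer_le hL.le hxp) (centralizer_le hL.le hyp)
        ((inf_le_inf_right _ hL.le).trans hyM) fun i hi => (inf_le_inf_right _ hL.le).trans (hxM i hi)
    -- first treat the case where `K` is not a group of prime power order
    by_cases hq : ∃ q : ℕ, q.Prime ∧ IsPGroup q K
    swap
    · push Not at hq
      refine le_of_exists_sylow_le fun q hqp => ?_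
      have : Fact q.Prime := ⟨hqp⟩
      obtain ⟨Q, hQ⟩ := exists_invariant_sylow hAK hcop (Or.inl hAsolv) q
      refine ⟨Q, hsub _ (lt_of_le_of_ne (map_subtype_le _) fun he => hq q hqp ?_) hQ⟩
      rw [← he]
      exact Q.isPGroup'.map K.subtype
    obtain ⟨q, hqp, hKq⟩ := hq
    have : Fact q.Prime := ⟨hqp⟩
    by_cases hKb : K = ⊥
    · rw [hKb]; exact bot_le
    have : Nontrivial K := K.nontrivial_iff_ne_bot.mpr hKb
    have : Group.IsNilpotent K := hKq.isNilpotent
    have : Group.IsSolvable K := inferInstance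
    have hDlt : ⁅K, K⁆ < K := by
      have h := map_subtype_lt_map_subtype.mpr (Group.IsSolvable.commutator_lt_top_of_nontrivial K)
      rwa [map_subtype_commutator, ← MonoidHom.range_eq_map, range_subtype] at h
    have hAD : A ≤ normalizer ((⁅K, K⁆ : Subgroup G) : Set G) := by
      rw [le_normalizer_iff]
      intro a ha n hn
      have h := mem_map_of_mem (MulAut.conj a).toMonoidHom hn
      rw [map_commutator, map_conj_eq (hAK ha)] at h
      exact h
    set R := (K ⊓ centralizer {y}) ⊔ ⨆ i ∈ Finset.range p, K ⊓ centralizer {x * y ^ i} with hR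
    set N := ⁅K, K⁆ ⊔ R with hNdef
    have hRM : R ≤ M := sup_le hyM (iSup₂_le fun i hi => hxM i (Finset.mem_range.mp hi))
    have hNM : N ≤ M := sup_le (hsub _ hDlt hAD) hRM
    have hNK : N ≤ K := sup_le (commutator_le_self K) (sup_le inf_le_left (iSup₂_le fun _ _ => inf_le_left))
    suffices hKN : K ≤ N from hKN.trans hNM
    have hKN' : K ≤ normalizer (N : Set G) := by
      rw [le_normalizer_iff]
      intro k hk n hn
      have h := mul_mem (mem_sup_left (T := R) (commutator_mem_commutator hk (hNK hn))) hn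
      simpa [commutatorElement_def] using h
    have hAN : A ≤ normalizer (N : Set G) := by
      have hC : ∀ z ∈ A, A ≤ normalizer ((K ⊓ centralizer {z} : Subgroup G) : Set G) := by
        intro z hz
        rw [le_normalizer_iff]
        intro a ha n hn
        refine ⟨conj_mem (hAK ha) hn.1, mem_centralizer_singleton_iff.mpr ?_⟩
        have hn' : Commute n z := (mem_centralizer_singleton_iff.mp hn.2)
        have haz : Commute a z := Subtype.ext_iff.mp (mul_comm (⟨a, ha⟩ : A) ⟨z, hz⟩)
        exact (haz.mul_left hn').mul_left haz.inv_left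
      intro a ha
      apply mem_normalizer_of_map_conj
      rw [hNdef, hR, Subgroup.map_sup, Subgroup.map_sup, map_conj_eq (hAD ha),
        map_conj_eq (hC y hy ha), Subgroup.map_iSup]
      congr 2
      refine iSup_congr fun i => ?_
      rw [Subgroup.map_iSup]
      exact iSup_congr fun _ => map_conj_eq (hC _ (mul_mem hx (pow_mem hy i)) ha)
    set W := K ⊔ A with hW
    have hWN : W ≤ normalizer (N : Set G) := sup_le hKN' hAN
    have : (N.subgroupOf W).Normal := normal_subgroupOf_of_le_normalizer hWN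
    let f := QuotientGroup.mk' (N.subgroupOf W)
    set V := (K.subgroupOf W).map f with hV
    have hcomm : IsMulCommutative V := by
      rw [← commutator_self_eq_bot_iff, hV, ← map_commutator, Subgroup.map_eq_bot_iff, QuotientGroup.ker_mk',
        ← map_le_map_iff_of_injective W.subtype_injective, map_commutator,
        map_subgroupOf_eq_of_le le_sup_left, map_subgroupOf_eq_of_le (hNK.trans le_sup_left)]
      exact le_sup_left
    have hnorm : ∀ a : W, (a : G) ∈ A → f a ∈ normalizer (V : Set _) := by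
      intro a ha
      refine le_normalizer_map f (mem_map_of_mem f ?_)
      rw [← subgroupOf_normalizer_eq le_sup_left]
      exact hAK ha
    have hfix : ∀ z : W, (z : G) ∈ A → K ⊓ centralizer {(z : G)} ≤ N →
        ∀ v ∈ V, f z * v * (f z)⁻¹ = v → v = 1 := by
      rintro z hz hzN _ ⟨k, hk, rfl⟩ he
      have hmem : (k : G)⁻¹ * ((z : G) * k * (z : G)⁻¹) ∈ N := by
        have h : f (k⁻¹ * (z * k * z⁻¹)) = 1 := by
          rw [map_mul, map_inv, map_mul, map_mul, map_inv, he, inv_mul_cancel]
        rw [QuotientGroup.mk'_apply, QuotientGroup.eq_one_iff] at h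
        exact h
      obtain ⟨c, hc, hcn⟩ := exists_centralizer_mem_coset (A := zpowers (z : G))
        ((zpowers_le.mpr hz).trans hAK) (hcop.coprime_dvd_left (card_dvd_of_le (zpowers_le.mpr hz)))
        (Or.inl (isSolvable_zpowers _)) hNK ((zpowers_le.mpr hz).trans hAN) hk
        (by
          intro a ha
          obtain ⟨m, rfl⟩ := mem_zpowers_iff.mp ha
          -- the set of such elements is a subgroup
          exact ((zpowers_le (H := cosetStabilizer N (k : G))).mpr ⟨hAN hz, hmem⟩ (zpow_mem (mem_zpowers _) m)).2)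
      have hcN : c ∈ N := hzN ⟨hc.1, mem_centralizer_singleton_iff.mpr
        (mem_centralizer_iff.mp hc.2 _ (mem_zpowers _)).symm⟩
      have hkN : (k : G) ∈ N := by
        have := mul_mem hcN (inv_mem hcn)
        simpa using this
      rw [QuotientGroup.mk'_apply, QuotientGroup.eq_one_iff]
      exact hkN
    have hpow : ∀ a : W, (a : G) ^ p ∈ centralizer (K : Set G) → f a ^ p ∈ centralizer (V : Set _) := by
      intro a ha
      rw [mem_centralizer_iff]
      rintro _ ⟨k, hk, rfl⟩
      rw [← map_pow, ← map_mul, ← map_mul]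
      exact congr_arg f (Subtype.ext (mem_centralizer_iff.mp ha _ hk))
    have hVb : V = ⊥ := eq_bot_of_fixed_point_free (x := f ⟨x, mem_sup_right hx⟩) (y := f ⟨y, mem_sup_right hy⟩)
      (hnorm _ hx) (hnorm _ hy)
      (Commute.map (show Commute (⟨x, mem_sup_right hx⟩ : W) ⟨y, mem_sup_right hy⟩ from
        Subtype.ext (Subtype.ext_iff.mp (mul_comm (⟨x, hx⟩ : A) ⟨y, hy⟩) : Commute x y)) f)
      (hpow _ hxp) (hpow _ hyp)
      (hpK.coprime_dvd_right ((Subgroup.card_map_dvd _ _).trans
        (dvd_of_eq (Nat.card_congr (subgroupOfEquivOfLe le_sup_left).toEquiv))))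
      (hfix _ hy (le_trans le_sup_left le_sup_right))
      (by
        intro i hi
        rw [← map_pow, ← map_mul]
        exact hfix (⟨x, mem_sup_right hx⟩ * ⟨y, mem_sup_right hy⟩ ^ i) (mul_mem hx (pow_mem hy i))
          (le_trans (le_trans (le_iSup₂ (f := fun i _ => K ⊓ centralizer {x * y ^ i}) i
            (Finset.mem_range.mpr hi)) le_sup_right) le_sup_right))
    intro k hk
    have := mem_map_of_mem f (show (⟨k, mem_sup_left hk⟩ : W) ∈ K.subgroupOf W from hk)
    rw [← hV, hVb, mem_bot, QuotientGroup.mk'_apply, QuotientGroup.eq_one_iff] at this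
    exact this

/-- The prime of a nontrivial pair acting on `K` is prime to `|K|`. -/
theorem coprime_card_of_pow_mem {A B : Subgroup G} {p : ℕ} (hp : p.Prime) {K : Subgroup G}
    (hcop : (Nat.card A).Coprime (Nat.card K)) {x : G} (hx : x ∈ A) (hxp : x ^ p ∈ B) (hxB : x ∉ B) :
    p.Coprime (Nat.card K) := by
  rw [hp.coprime_iff_not_dvd]
  intro hd
  have hco : (orderOf x).Coprime p := ((hcop.coprime_dvd_left (orderOf_dvd_natCard A hx)).coprime_dvd_right hd)
  obtain ⟨m, hm⟩ := exists_pow_eq_self_of_coprime hco.symm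
  exact hxB (hm ▸ pow_mem hxp m)

/-- `K` is generated by `C_K(B)` for the `B ≤ A` with `A / B` cyclic. -/
theorem le_of_centralizer_cyclic_quotient_le {A K M : Subgroup G} [IsMulCommutative A]
    (hAK : A ≤ normalizer (K : Set G)) (hcop : (Nat.card A).Coprime (Nat.card K))
    (hM : ∀ B ≤ A, (∃ a ∈ A, B ⊔ zpowers a = A) → K ⊓ centralizer (B : Set G) ≤ M) : K ≤ M := by
  suffices ∀ B : Subgroup G, B ≤ A → K ⊓ centralizer (B : Set G) ≤ M by
    have h := this ⊥ bot_le
    rwa [coe_bot, centralizer_eq_top_iff_subset.mpr (by simp), inf_top_eq] at h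
  intro B
  induction B using WellFoundedGT.induction with
  | ind B ih =>
    intro hBA
    by_cases hgood : ∃ a ∈ A, B ⊔ zpowers a = A
    · exact hM B hBA hgood
    have : (B.subgroupOf A).Normal := normal_of_isMulCommutative _
    have hQ : ¬ IsCyclic (A ⧸ B.subgroupOf A) := by
      intro hc
      obtain ⟨g, hg⟩ := hc.exists_generator
      obtain ⟨a, rfl⟩ := QuotientGroup.mk'_surjective _ g
      refine hgood ⟨a, a.2, le_antisymm (sup_le hBA (zpowers_le.mpr a.2)) fun u hu => ?_⟩
      obtain ⟨m, hm⟩ := mem_zpowers_iff.mp (hg (QuotientGroup.mk' _ ⟨u, hu⟩))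
      rw [← map_zpow, QuotientGroup.mk'_eq_mk'] at hm
      obtain ⟨z, hz, hz'⟩ := hm
      have hu' : ((a : G) ^ m) * z = u := by simpa using congr_arg Subtype.val hz'
      rw [← hu']
      exact mul_mem (mem_sup_right (zpow_mem (mem_zpowers _) m)) (mem_sup_left hz)
    obtain ⟨p, hp, X, Y, hXp, hYp, hX1, hYX⟩ := exists_pair_of_not_isCyclic hQ
    have : Fact p.Prime := ⟨hp⟩
    obtain ⟨x, rfl⟩ := QuotientGroup.mk'_surjective _ X
    obtain ⟨y, rfl⟩ := QuotientGroup.mk'_surjective _ Y
    have hxB : (x : G) ∉ B := fun h => hX1 ((QuotientGroup.eq_one_iff _).mpr h)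
    have hxpB : (x : G) ^ p ∈ B := by
      rw [← map_pow, QuotientGroup.mk'_apply, QuotientGroup.eq_one_iff] at hXp; exact hXp
    have hypB : (y : G) ^ p ∈ B := by
      rw [← map_pow, QuotientGroup.mk'_apply, QuotientGroup.eq_one_iff] at hYp; exact hYp
    have hK' : A ≤ normalizer ((K ⊓ centralizer (B : Set G) : Subgroup G) : Set G) := by
      rw [le_normalizer_iff]
      intro a ha n hn
      refine ⟨conj_mem (hAK ha) hn.1, mem_centralizer_iff.mpr fun c hc => ?_⟩
      have hac : Commute c a := Subtype.ext_iff.mp (mul_comm (⟨c, hBA hc⟩ : A) ⟨a, ha⟩)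
      have hn' : Commute c n := mem_centralizer_iff.mp hn.2 c hc
      exact (hac.mul_right hn').mul_right hac.inv_right
    have step : ∀ z : A, (z : G) ∉ B →
        (K ⊓ centralizer (B : Set G)) ⊓ centralizer {(z : G)} ≤ M := by
      intro z hz
      refine le_trans (le_inf (inf_le_left.trans inf_le_left) ?_)
        (ih (B ⊔ zpowers (z : G)) (lt_of_le_of_ne le_sup_left fun h => hz ?_) (sup_le hBA (zpowers_le.mpr z.2)))
      · rw [le_centralizer_iff, sup_le_iff, le_centralizer_iff, zpowers_le, mem_centralizer_iff]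
        exact ⟨inf_le_left.trans inf_le_right, fun c hc => mem_centralizer_singleton_iff.mp hc.2⟩
      · rw [h]; exact mem_sup_right (mem_zpowers _)
    refine le_of_centralizer_le x.2 y.2 _ M hK' (coprime_of_le inf_le_left hcop)
      (coprime_card_of_pow_mem hp (coprime_of_le inf_le_left hcop) x.2 hxpB hxB)
      (centralizer_le (Set.singleton_subset_iff.mpr hxpB) |> fun h => ?_)
      ?_ (step y fun h => hYX ?_) (fun i hi => step (x * y ^ i) fun h => hYX ?_)
    · exact mem_centralizer_iff.mpr fun c hc => (mem_centralizer_iff.mp hc.2 _ hxpB).symm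
    · exact mem_centralizer_iff.mpr fun c hc => (mem_centralizer_iff.mp hc.2 _ hypB).symm
    · rw [show QuotientGroup.mk' (B.subgroupOf A) y = 1 from (QuotientGroup.eq_one_iff y).mpr h]
      exact one_mem _
    · have hxy : QuotientGroup.mk' (B.subgroupOf A) x * QuotientGroup.mk' (B.subgroupOf A) y ^ i = 1 := by
        rw [← map_pow, ← map_mul, QuotientGroup.mk'_apply, QuotientGroup.eq_one_iff]
        exact h
      rcases Nat.eq_zero_or_pos i with rfl | hpos
      · rw [pow_zero, mul_one] at hxy
        exact absurd hxy hX1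
      have hco : i.Coprime p := ((Nat.Prime.coprime_iff_not_dvd hp).mpr fun hd =>
        absurd (Nat.le_of_dvd hpos hd) (by omega)).symm
      obtain ⟨m, hm⟩ := exists_pow_eq_self_of_coprime
        (hco.coprime_dvd_right (orderOf_dvd_of_pow_eq_one hYp))
      rw [← hm, eq_inv_of_mul_eq_one_right hxy]
      exact pow_mem (inv_mem (mem_zpowers _)) m

/-- A noncyclic abelian group acting coprimely: `K` is generated by the `C_K(a)`, `a ≠ 1`. -/
theorem le_of_centralizer_noncyclic_le {A K M : Subgroup G} [IsMulCommutative A] (hA : ¬ IsCyclic A)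
    (hAK : A ≤ normalizer (K : Set G)) (hcop : (Nat.card A).Coprime (Nat.card K))
    (hM : ∀ a ∈ A, a ≠ 1 → K ⊓ centralizer {a} ≤ M) : K ≤ M := by
  refine le_of_centralizer_cyclic_quotient_le hAK hcop fun B hBA ⟨a, ha, hB⟩ => ?_
  by_cases hb : B = ⊥
  · refine absurd ?_ hA
    rw [hb, bot_sup_eq] at hB
    exact hB ▸ inferInstance
  obtain ⟨⟨b, hbB⟩, hb1⟩ := ne_bot_iff_exists_ne_one.mp hb
  refine le_trans (inf_le_inf_left _ (centralizer_le (Set.singleton_subset_iff.mpr hbB)))
    (hM b (hBA hbB) fun h => hb1 (Subtype.ext h))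

/-- `K = ⟨C_K(B) | A / B cyclic⟩`. -/
theorem iSup_centralizer_cyclic_quotient {A K : Subgroup G} [IsMulCommutative A]
    (hAK : A ≤ normalizer (K : Set G)) (hcop : (Nat.card A).Coprime (Nat.card K)) :
    (⨆ B ∈ {B : Subgroup G | B ≤ A ∧ ∃ a ∈ A, B ⊔ zpowers a = A}, K ⊓ centralizer (B : Set G)) = K :=
  le_antisymm (iSup₂_le fun _ _ => inf_le_left)
    (le_of_centralizer_cyclic_quotient_le hAK hcop fun B h1 h2 =>
      le_iSup_of_le B (le_iSup_of_le ⟨h1, h2⟩ le_rfl))

/-- `[K, A] = ⟨[C_K(B), A] | A / B cyclic⟩`. -/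
theorem iSup_commutator_cyclic_quotient {A K : Subgroup G} [IsMulCommutative A]
    (hAK : A ≤ normalizer (K : Set G)) (hcop : (Nat.card A).Coprime (Nat.card K)) :
    (⨆ B ∈ {B : Subgroup G | B ≤ A ∧ ∃ a ∈ A, B ⊔ zpowers a = A},
      ⁅K ⊓ centralizer (B : Set G), A⁆) = ⁅K, A⁆ := by
  set S := {B : Subgroup G | B ≤ A ∧ ∃ a ∈ A, B ⊔ zpowers a = A} with hSdef
  set T := ⨆ B ∈ S, ⁅K ⊓ centralizer (B : Set G), A⁆ with hT
  refine le_antisymm (iSup₂_le fun _ _ => commutator_mono inf_le_left le_rfl) ?_
  set C := K ⊓ centralizer (A : Set G) with hC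
  have hle : ∀ B ∈ S, C ≤ K ⊓ centralizer (B : Set G) := fun B hB =>
    inf_le_inf_left _ (centralizer_le hB.1)
  have hCT : C ≤ normalizer (T : Set G) := by
    intro c hc
    apply mem_normalizer_of_map_conj
    rw [hT, Subgroup.map_iSup]
    refine iSup_congr fun B => ?_
    rw [Subgroup.map_iSup]
    refine iSup_congr fun hB => ?_
    exact map_conj_eq (normalizer_commutator_ge_left _ _ (hle B hB hc))
  have hKTC : K ≤ T ⊔ C := by
    refine le_of_centralizer_cyclic_quotient_le hAK hcop fun B h1 h2 => ?_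
    have hB : B ∈ S := ⟨h1, h2⟩
    have hAKB : A ≤ normalizer ((K ⊓ centralizer (B : Set G) : Subgroup G) : Set G) := by
      rw [le_normalizer_iff]
      intro a ha n hn
      refine ⟨conj_mem (hAK ha) hn.1, mem_centralizer_iff.mpr fun c hc => ?_⟩
      have hac : Commute c a := Subtype.ext_iff.mp (mul_comm (⟨c, h1 hc⟩ : A) ⟨a, ha⟩)
      have hn' : Commute c n := mem_centralizer_iff.mp hn.2 c hc
      exact (hac.mul_right hn').mul_right hac.inv_right
    conv_lhs => rw [← commutator_sup_centralizer hAKB (coprime_of_le inf_le_left hcop)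
      (Or.inl isSolvable_of_isMulCommutative)]
    refine sup_le_sup ?_ (inf_le_inf_right _ inf_le_left)
    rw [hT]
    exact le_iSup_of_le B (le_iSup_of_le hB le_rfl)
  rw [commutator_le]
  intro k hk a ha
  obtain ⟨t, ht, c, hc, rfl⟩ := (mem_sup_iff hCT).mp (hKTC hk)
  rw [commutatorElement_mul_left_eq_conj_mul,
    commutatorElement_eq_one_iff_mul_comm.mpr (commute_of_mem_centralizer hc.2 ha).symm,
    mul_one, mul_inv_cancel, one_mul]
  have hAT : a ∈ normalizer (T : Set G) := by
    apply mem_normalizer_of_map_conj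
    rw [hT, Subgroup.map_iSup]
    refine iSup_congr fun B => ?_
    rw [Subgroup.map_iSup]
    refine iSup_congr fun _ => ?_
    exact map_conj_eq (normalizer_commutator_ge_right _ _ ha)
  have := mul_mem ht (conj_mem hAT (inv_mem ht))
  simpa [commutatorElement_def, mul_assoc] using this

end Cfsg.Agent.Coprime
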