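import Mathlib.GroupTheory.Sylow
import Mathlib.GroupTheory.Solvable
import Mathlib.GroupTheory.Commutator.Basic
import Mathlib.GroupTheory.Subgroup.Centralizer
import Mathlib.Algebra.Group.Subgroup.Pointwise
import Mathlib.GroupTheory.Index

/-!
Elementary lemmas used by the coprime action library.
-/

namespace Cfsg.Agent.Coprime

open Subgroup

variable {G : Type*} [Group G]

theorem mem_sup_iff {H N : Subgroup G} (h : H ≤ normalizer (N : Set G)) {x : G} :
    x ∈ N ⊔ H ↔ ∃ n ∈ N, ∃ a ∈ H, n * a = x := by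
  rw [← SetLike.mem_coe, coe_mul_of_right_le_normalizer_left N H h, Set.mem_mul]
  simp only [SetLike.mem_coe]

theorem inf_eq_bot {H K : Subgroup G} (h : (Nat.card H).Coprime (Nat.card K)) : H ⊓ K = ⊥ :=
  disjoint_iff.mp (disjoint_of_coprime_natCard h)

theorem card_sup [Finite G] {H N : Subgroup G} (h : H ≤ normalizer (N : Set G)) (hd : N ⊓ H = ⊥) :
    Nat.card ↥(N ⊔ H) = Nat.card N * Nat.card H := by
  rw [← Nat.card_prod]
  refine (Nat.card_eq_of_bijective (fun x : N × H => (⟨(x.1 : G) * x.2,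
    mul_mem (mem_sup_left x.1.2) (mem_sup_right x.2.2)⟩ : ↥(N ⊔ H))) ⟨?_, ?_⟩).symm
  · rintro ⟨n, a⟩ ⟨n', a'⟩ hx
    simp only [Subtype.mk.injEq] at hx
    have he : (n' : G)⁻¹ * n = a' * (a : G)⁻¹ := by
      rw [inv_mul_eq_iff_eq_mul, ← mul_assoc, ← hx, mul_inv_cancel_right]
    have h1 : (n' : G)⁻¹ * n ∈ N ⊓ H :=
      ⟨N.mul_mem (N.inv_mem n'.2) n.2, he ▸ H.mul_mem a'.2 (H.inv_mem a.2)⟩
    rw [hd, mem_bot, inv_mul_eq_one] at h1
    have hn : n' = n := Subtype.ext h1
    subst hn
    simpa using hx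
  · rintro ⟨x, hx⟩
    obtain ⟨n, hn, a, ha, rfl⟩ := (mem_sup_iff h).mp hx
    exact ⟨(⟨n, hn⟩, ⟨a, ha⟩), rfl⟩

theorem card_map_conj (g : G) (H : Subgroup G) :
    Nat.card (H.map (MulAut.conj g).toMonoidHom) = Nat.card H :=
  Subgroup.card_map_of_injective (MulAut.conj g).injective

theorem mem_map_conj {g x : G} {H : Subgroup G} :
    x ∈ H.map (MulAut.conj g).toMonoidHom ↔ g⁻¹ * x * g ∈ H := by
  rw [mem_map]
  constructor
  · rintro ⟨y, hy, rfl⟩
    simpa [mul_assoc] using hy
  · intro h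
    exact ⟨_, h, by simp [mul_assoc]⟩

theorem map_conj_map_conj (g h : G) (H : Subgroup G) :
    (H.map (MulAut.conj h).toMonoidHom).map (MulAut.conj g).toMonoidHom
      = H.map (MulAut.conj (g * h)).toMonoidHom := by
  ext x
  simp [mem_map_conj, mul_assoc]

theorem map_conj_one (H : Subgroup G) : H.map (MulAut.conj 1).toMonoidHom = H := by
  ext x; simp [mem_map_conj]

theorem map_conj_eq {g : G} {H : Subgroup G} (hg : g ∈ normalizer (H : Set G)) :
    H.map (MulAut.conj g).toMonoidHom = H := by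
  ext x
  rw [mem_map_conj]
  exact (mem_normalizer_iff''.mp hg x).symm

theorem mem_normalizer_of_map_conj {g : G} {H : Subgroup G}
    (h : H.map (MulAut.conj g).toMonoidHom = H) : g ∈ normalizer (H : Set G) := by
  rw [mem_normalizer_iff'']
  intro x
  rw [← mem_map_conj, h]

theorem conj_mem {a n : G} {N : Subgroup G} (ha : a ∈ normalizer (N : Set G)) (hn : n ∈ N) :
    a * n * a⁻¹ ∈ N :=
  (mem_normalizer_iff.mp ha n).mp hn

theorem conj_mem' {a n : G} {N : Subgroup G} (ha : a ∈ normalizer (N : Set G)) (hn : n ∈ N) :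
    a⁻¹ * n * a ∈ N :=
  (mem_normalizer_iff''.mp ha n).mp hn

/-- If `A` and `K` meet trivially and `A` normalizes `K`, then elements of `K` normalizing `A`
centralize `A`. -/
theorem mem_centralizer_of_mem_normalizer {A K : Subgroup G} (hAK : A ≤ normalizer (K : Set G))
    (hd : A ⊓ K = ⊥) {c : G} (hc : c ∈ K) (hn : c ∈ normalizer (A : Set G)) :
    c ∈ centralizer (A : Set G) := by
  rw [mem_centralizer_iff]
  intro a ha
  have h1 : c * a * c⁻¹ * a⁻¹ ∈ A ⊓ K :=
    ⟨A.mul_mem (conj_mem hn ha) (A.inv_mem ha), by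
      have := K.mul_mem hc (conj_mem (hAK ha) (K.inv_mem hc))
      simpa [mul_assoc] using this⟩
  rw [hd, mem_bot, mul_inv_eq_one, mul_inv_eq_iff_eq_mul] at h1
  exact h1.symm

theorem commute_of_mem_centralizer {A : Subgroup G} {c a : G}
    (hc : c ∈ centralizer (A : Set G)) (ha : a ∈ A) : a * c = c * a :=
  mem_centralizer_iff.mp hc a ha

theorem conj_eq_of_mem_centralizer {A : Subgroup G} {c a : G}
    (hc : c ∈ centralizer (A : Set G)) (ha : a ∈ A) : a * c * a⁻¹ = c := by
  rw [commute_of_mem_centralizer hc ha, mul_inv_cancel_right]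

theorem mem_centralizer_of_conj_eq {A : Subgroup G} {c : G}
    (h : ∀ a ∈ A, a * c * a⁻¹ = c) : c ∈ centralizer (A : Set G) :=
  mem_centralizer_iff.mpr fun a ha => mul_inv_eq_iff_eq_mul.mp (h a ha)

theorem inf_centralizer_normalizer {A K : Subgroup G} :
    A ≤ normalizer ((K ⊓ centralizer (A : Set G) : Subgroup G) : Set G) := by
  rw [le_normalizer_iff]
  intro a ha c hc
  rw [conj_eq_of_mem_centralizer hc.2 ha]
  exact hc

theorem commutator_le_left_of_normalizer {A K : Subgroup G} (hAK : A ≤ normalizer (K : Set G)) :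
    ⁅K, A⁆ ≤ K :=
  le_normalizer_iff_commutator_le_left.mp hAK

theorem isSolvable_of_le {H K : Subgroup G} (h : H ≤ K) (hK : Group.IsSolvable K) :
    Group.IsSolvable H :=
  Group.isSolvable_of_isSolvable_injective (f := inclusion h) (inclusion_injective h)

theorem isSolvable_map {H' : Type*} [Group H'] (f : G →* H') {K : Subgroup G}
    (hK : Group.IsSolvable K) : Group.IsSolvable (K.map f) :=
  Group.isSolvable_of_surjective (f := f.subgroupMap K) (f.subgroupMap_surjective K)

theorem isSolvable_of_isMulCommutative {H : Type*} [Group H] [IsMulCommutative H] :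
    Group.IsSolvable H :=
  Group.isSolvable_of_comm mul_comm'

theorem isSolvable_zpowers (g : G) : Group.IsSolvable (zpowers g) :=
  isSolvable_of_isMulCommutative

theorem solvable_or_of_le {A H K : Subgroup G} (h : H ≤ K)
    (hs : Group.IsSolvable A ∨ Group.IsSolvable K) :
    Group.IsSolvable A ∨ Group.IsSolvable H :=
  hs.imp_right (isSolvable_of_le h)

theorem coprime_of_le {A H K : Subgroup G} (h : H ≤ K) (hc : (Nat.card A).Coprime (Nat.card K)) :
    (Nat.card A).Coprime (Nat.card H) :=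
  hc.coprime_dvd_right (card_dvd_of_le h)

end Cfsg.Agent.Coprime
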