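import Mathlib.FieldTheory.IsAlgClosed.AlgebraicClosure
import Mathlib.Algebra.Module.ZMod
import Mathlib.Algebra.Field.ZMod
import Mathlib.Algebra.CharP.Lemmas
import Mathlib.LinearAlgebra.Dual.Lemmas
import Mathlib.LinearAlgebra.FiniteDimensional.Basic
import Mathlib.GroupTheory.Subgroup.Center

/-!
A normal elementary abelian `l`-subgroup `N` gives a representation on `Hom(N, K)` with
`K` an algebraic closure of `ZMod l`.
-/

namespace Cfsg.Agent.Coprime.LinRep

open Subgroup
open scoped IsMulCommutative

variable {Y : Type*} [Group Y] [Finite Y] (N : Subgroup Y) [N.Normal] [IsMulCommutative N]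
  (l : ℕ) [Fact l.Prime]

/-- The coefficient field. -/
abbrev Coeff := AlgebraicClosure (ZMod l)

/-- The module of homomorphisms into the coefficient field. -/
abbrev Sp := Additive N →+ Coeff l

/-- Conjugation on `Additive N`. -/
def conjAdd (y : Y) : Additive N →+ Additive N :=
  MonoidHom.toAdditive (MulAut.conjNormal (H := N) y).toMonoidHom

omit [Finite Y] in
theorem conjAdd_mul (y z : Y) : conjAdd N (y * z) = (conjAdd N y).comp (conjAdd N z) := by
  refine AddMonoidHom.ext fun v => ?_
  induction v using Additive.rec with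
  | _ x =>
    exact congrArg Additive.ofMul (congrArg (fun f : MulAut N => f x) (map_mul (MulAut.conjNormal (H := N)) y z))

omit [Finite Y] in
theorem conjAdd_apply (y : Y) (x : N) :
    conjAdd N y (Additive.ofMul x) = Additive.ofMul (MulAut.conjNormal y x) := rfl

/-- The representation on homomorphisms. -/
noncomputable def rep : Y →* Module.End (Coeff l) (Sp N l) where
  toFun y :=
    { toFun := fun f => f.comp (conjAdd N y⁻¹)
      map_add' := fun f g => rfl
      map_smul' := fun c f => rfl }
  map_one' := LinearMap.ext fun f => AddMonoidHom.ext fun v => by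
    induction v using Additive.rec with
    | _ x =>
      show f (conjAdd N (1 : Y)⁻¹ (Additive.ofMul x)) = f (Additive.ofMul x)
      rw [conjAdd_apply, inv_one, map_one]
      rfl
  map_mul' y z := LinearMap.ext fun f => by
    show f.comp (conjAdd N (y * z)⁻¹) = (f.comp (conjAdd N z⁻¹)).comp (conjAdd N y⁻¹)
    rw [mul_inv_rev, conjAdd_mul]
    rfl

omit [Finite Y] in
theorem rep_apply (y : Y) (f : Sp N l) (x : N) :
    rep N l y f (Additive.ofMul x) = f (Additive.ofMul (MulAut.conjNormal y⁻¹ x)) := rfl

instance : FiniteDimensional (Coeff l) (Sp N l) :=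
  FiniteDimensional.of_injective
    ({ toFun := fun f v => f v, map_add' := fun _ _ => rfl, map_smul' := fun _ _ => rfl } :
      Sp N l →ₗ[Coeff l] (Additive N → Coeff l))
    (fun _ _ h => AddMonoidHom.ext fun v => congrFun h v)

omit [Finite Y] in
/-- If `A` fixes only `1` in `N`, the sum over `A` vanishes. -/
theorem sum_rep_eq_zero {A : Type*} [Group A] [Fintype A] (α : A →* Y)
    (h : ∀ x ∈ N, (∀ a, α a * x = x * α a) → x = 1) : ∑ a, rep N l (α a) = 0 := by
  refine LinearMap.ext fun f => AddMonoidHom.ext fun v => ?_
  induction v using Additive.rec with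
  | _ x =>
    simp only [LinearMap.sum_apply, AddMonoidHom.finsetSum_apply, LinearMap.zero_apply,
      AddMonoidHom.zero_apply]
    show ∑ a, f (Additive.ofMul (MulAut.conjNormal (α a)⁻¹ x)) = 0
    rw [← map_sum, ← ofMul_prod]
    suffices h1 : ∏ a, MulAut.conjNormal (α a)⁻¹ x = 1 by rw [h1, ofMul_one, map_zero]
    set z := ∏ a, MulAut.conjNormal (α a)⁻¹ x with hz
    refine Subtype.ext (h _ z.2 fun b => ?_)
    have hfix : MulAut.conjNormal (α b) z = z := by
      rw [hz, map_prod]
      refine Fintype.prod_equiv (Equiv.mulRight b⁻¹) _ _ fun a => Subtype.ext ?_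
      simp [mul_assoc]
    have := congrArg (Subtype.val) hfix
    rw [MulAut.conjNormal_apply, mul_inv_eq_iff_eq_mul] at this
    exact this

omit [Finite Y] in
/-- The kernel is the centralizer when `N` has exponent `l`. -/
theorem rep_eq_one_iff (hexp : ∀ x ∈ N, x ^ l = 1) (y : Y) :
    rep N l y = 1 ↔ y ∈ centralizer (N : Set Y) := by
  constructor
  · intro h
    rw [← inv_mem_iff, mem_centralizer_iff]
    intro x hx
    by_contra hne
    set u : N := MulAut.conjNormal y⁻¹ ⟨x, hx⟩ * (⟨x, hx⟩ : N)⁻¹ with hu
    have hu1 : Additive.ofMul u ≠ 0 := by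
      intro e
      have e' : u = 1 := e
      refine hne ?_
      have := congrArg Subtype.val (mul_inv_eq_one.mp e')
      rw [MulAut.conjNormal_apply] at this
      simp only [inv_inv] at this ⊢
      conv_lhs => rw [← this]
      simp [mul_assoc]
    have hexp' : ∀ v : Additive N, l • v = 0 := fun v => by
      induction v using Additive.rec with
      | _ a => exact congrArg Additive.ofMul (Subtype.ext (hexp a a.2) : a ^ l = 1)
    let _ : Module (ZMod l) (Additive N) := AddCommGroup.zmodModule hexp'
    obtain ⟨φ, hφ⟩ : ∃ φ : Module.Dual (ZMod l) (Additive N), φ.toAddMonoidHom (Additive.ofMul u) ≠ 0 := by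
      by_contra hc
      push Not at hc
      exact hu1 ((Module.forall_dual_apply_eq_zero_iff (ZMod l) _).mp hc)
    let f : Sp N l := (algebraMap (ZMod l) (Coeff l)).toAddMonoidHom.comp φ.toAddMonoidHom
    have hf : rep N l y f = f := by rw [h]; rfl
    have h2 := congrArg (fun g : Sp N l => g (Additive.ofMul (⟨x, hx⟩ : N))) hf
    refine hφ ?_
    have h3 : f (Additive.ofMul u) = 0 := by
      rw [hu, ofMul_mul, ofMul_inv, map_add, map_neg]
      exact (congrArg (· + -f (Additive.ofMul (⟨x, hx⟩ : N))) h2).trans (add_neg_cancel _)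
    exact (algebraMap (ZMod l) (Coeff l)).injective (h3.trans (map_zero _).symm)
  · intro hy
    refine LinearMap.ext fun f => AddMonoidHom.ext fun v => ?_
    induction v using Additive.rec with
    | _ x =>
      rw [rep_apply, Module.End.one_apply]
      congr 2
      refine Subtype.ext ?_
      rw [MulAut.conjNormal_apply, inv_inv, mul_assoc, mem_centralizer_iff.mp hy x x.2, inv_mul_cancel_left]

end Cfsg.Agent.Coprime.LinRep
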