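import Cfsg.Agent.Coprime.Basic

/-!
Commutators modulo a normalized subgroup.
-/

namespace Cfsg.Agent.Coprime

open Subgroup
open scoped commutatorElement

variable {G : Type*} [Group G]

/-- Elements of `normalizer N` centralizing `H` modulo `N`. -/
def relCentralizer (N H : Subgroup G) : Subgroup G where
  carrier := {g | g ∈ normalizer (N : Set G) ∧ ∀ h ∈ H, ⁅g, h⁆ ∈ N}
  one_mem' := ⟨one_mem _, fun h _ => by rw [commutatorElement_one_left]; exact one_mem N⟩
  mul_mem' := by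
    rintro a b ⟨ha, ha'⟩ ⟨hb, hb'⟩
    refine ⟨mul_mem ha hb, fun h hh => ?_⟩
    rw [commutatorElement_mul_left_eq_conj_mul]
    exact mul_mem (conj_mem ha (hb' h hh)) (ha' h hh)
  inv_mem' := by
    rintro a ⟨ha, ha'⟩
    refine ⟨inv_mem ha, fun h hh => ?_⟩
    rw [commutatorElement_inv_left, ← commutatorElement_inv a h]
    exact conj_mem' ha (inv_mem (ha' h hh))

theorem mem_relCentralizer {N H : Subgroup G} {g : G} :
    g ∈ relCentralizer N H ↔ g ∈ normalizer (N : Set G) ∧ ∀ h ∈ H, ⁅g, h⁆ ∈ N := Iff.rfl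

theorem commutator_le_of_le_relCentralizer {N H K : Subgroup G} (h : K ≤ relCentralizer N H) :
    ⁅K, H⁆ ≤ N :=
  commutator_le.mpr fun k hk a ha => (h hk).2 a ha

/-- The three subgroups lemma modulo a subgroup `N` normalized by all three subgroups. -/
theorem commutator_rotate_le {H₁ H₂ H₃ N : Subgroup G} (h₁ : H₁ ≤ normalizer (N : Set G))
    (h₂ : H₂ ≤ normalizer (N : Set G)) (h₃ : H₃ ≤ normalizer (N : Set G))
    (r₁ : ⁅⁅H₂, H₃⁆, H₁⁆ ≤ N) (r₂ : ⁅⁅H₃, H₁⁆, H₂⁆ ≤ N) : ⁅⁅H₁, H₂⁆, H₃⁆ ≤ N := by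
  set L := normalizer (N : Set G) with hL
  have : (N.subgroupOf L).Normal := normal_subgroupOf_of_le_normalizer le_rfl
  let f := QuotientGroup.mk' (N.subgroupOf L)
  have key : ∀ A B C : Subgroup G, A ≤ L → B ≤ L → C ≤ L →
      (⁅⁅(A.subgroupOf L).map f, (B.subgroupOf L).map f⁆, (C.subgroupOf L).map f⁆ = ⊥ ↔
        ⁅⁅A, B⁆, C⁆ ≤ N) := by
    intro A B C hA hB hC
    rw [← map_commutator, ← map_commutator, Subgroup.map_eq_bot_iff, QuotientGroup.ker_mk',
      ← map_le_map_iff_of_injective L.subtype_injective, map_commutator, map_commutator,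
      map_subgroupOf_eq_of_le hA, map_subgroupOf_eq_of_le hB, map_subgroupOf_eq_of_le hC,
      map_subgroupOf_eq_of_le le_normalizer]
  exact (key _ _ _ h₁ h₂ h₃).mp (commutator_commutator_eq_bot_of_rotate
    ((key _ _ _ h₂ h₃ h₁).mpr r₁) ((key _ _ _ h₃ h₁ h₂).mpr r₂))

/-- An element normalizing `H` and `K` normalizes `[H, K]`. -/
theorem mem_normalizer_commutator {H K : Subgroup G} {g : G} (hH : g ∈ normalizer (H : Set G))
    (hK : g ∈ normalizer (K : Set G)) : g ∈ normalizer ((⁅H, K⁆ : Subgroup G) : Set G) := by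
  apply mem_normalizer_of_map_conj
  rw [map_commutator, map_conj_eq hH, map_conj_eq hK]

/-- A subgroup commuting elementwise normalizes. -/
theorem le_normalizer_of_commutator_eq_bot {H K : Subgroup G} (h : ⁅H, K⁆ = ⊥) :
    H ≤ normalizer (K : Set G) :=
  le_normalizer_iff_commutator_le_right.mpr (h.trans_le bot_le)

end Cfsg.Agent.Coprime
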