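import Cfsg.Agent.Coprime.Action
import Cfsg.Agent.Hall.Existence
import Cfsg.Prelude.Def_OddOrderLocal

/-!
Invariant Hall subgroups of a solvable group under a coprime action.
-/

namespace Cfsg.Agent.Coprime

open Subgroup
open scoped Pointwise

universe u

variable {G : Type u} [Group G] [Finite G] {A K : Subgroup G} {π : Set ℕ}

omit [Finite G] in
theorem isPiHallOf_iff {H : Subgroup G} :
    Cfsg.IsPiHallOf π H K ↔ H ≤ K ∧ Cfsg.IsPiHall π (H.subgroupOf K) := by
  constructor
  · rintro ⟨h, h1, h2⟩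
    exact ⟨h, by rwa [Nat.card_congr (subgroupOfEquivOfLe h).toEquiv], h2⟩
  · rintro ⟨h, h1, h2⟩
    rw [Nat.card_congr (subgroupOfEquivOfLe h).toEquiv] at h1
    exact ⟨h, h1, h2⟩

theorem isPiHallOf_map_conj {H : Subgroup G} {g : G} (hg : g ∈ normalizer (K : Set G))
    (h : Cfsg.IsPiHallOf π H K) : Cfsg.IsPiHallOf π (H.map (MulAut.conj g).toMonoidHom) K := by
  obtain ⟨hle, h1, h2⟩ := h
  refine ⟨(Subgroup.map_mono hle).trans_eq (map_conj_eq hg), by rwa [card_map_conj], ?_⟩
  have e : (H.map (MulAut.conj g).toMonoidHom).relIndex K = H.relIndex K := by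
    conv_lhs => rw [← map_conj_eq hg]
    exact relIndex_map_map_of_injective _ _ (MulAut.conj g).injective
  rwa [e]

theorem exists_conj_hallOf (hK : Group.IsSolvable K) {H₁ H₂ : Subgroup G}
    (h₁ : Cfsg.IsPiHallOf π H₁ K) (h₂ : Cfsg.IsPiHallOf π H₂ K) :
    ∃ k ∈ K, H₁.map (MulAut.conj k).toMonoidHom = H₂ := by
  obtain ⟨h₁l, h₁'⟩ := isPiHallOf_iff.mp h₁
  obtain ⟨h₂l, h₂'⟩ := isPiHallOf_iff.mp h₂
  have := hK
  obtain ⟨k, hk⟩ := (Hall.hallDom_of_isSolvable π K).conj h₁' h₂'
  refine ⟨k, k.2, ?_⟩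
  rw [← map_subgroupOf_eq_of_le h₂l, ← hk, ← Hall.map_conj_eq_smul, Subgroup.map_map]
  conv_lhs => rw [← map_subgroupOf_eq_of_le h₁l, Subgroup.map_map]
  congr 1

/-- Invariant Hall subgroups exist. -/
theorem exists_invariant_hall (hAK : A ≤ normalizer (K : Set G))
    (hcop : (Nat.card A).Coprime (Nat.card K)) (hK : Group.IsSolvable K) (π : Set ℕ) :
    ∃ H : Subgroup G, Cfsg.IsPiHallOf π H K ∧ A ≤ normalizer (H : Set G) := by
  letI := conjAction G
  have := hK
  obtain ⟨H₀, hH₀⟩ := (Hall.hallDom_of_isSolvable π K).1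
  obtain ⟨H, hH, hfix⟩ := exists_fixed_point hAK hcop (Or.inr hK)
    (S := {H : Subgroup G | Cfsg.IsPiHallOf π H K})
    ⟨H₀.map K.subtype, isPiHallOf_iff.mpr ⟨map_subtype_le _, by
      rwa [subgroupOf, comap_map_eq_self_of_injective K.subtype_injective]⟩⟩
    (fun a ha H hH => isPiHallOf_map_conj (hAK ha) hH)
    (fun H₁ h₁ H₂ h₂ => exists_conj_hallOf hK h₁ h₂)
    (fun k hk H hH => isPiHallOf_map_conj (le_normalizer hk) hH)
  exact ⟨H, hH, fun a ha => mem_normalizer_of_map_conj (hfix a ha)⟩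

/-- Invariant Hall subgroups are conjugate under `C_K(A)`. -/
theorem exists_centralizer_conj_hall (hAK : A ≤ normalizer (K : Set G))
    (hcop : (Nat.card A).Coprime (Nat.card K)) (hK : Group.IsSolvable K) {H₁ H₂ : Subgroup G}
    (h₁ : Cfsg.IsPiHallOf π H₁ K) (hA₁ : A ≤ normalizer (H₁ : Set G))
    (h₂ : Cfsg.IsPiHallOf π H₂ K) (hA₂ : A ≤ normalizer (H₂ : Set G)) :
    ∃ c ∈ K ⊓ centralizer (A : Set G), H₁.map (MulAut.conj c).toMonoidHom = H₂ := by
  obtain ⟨k, hk, he⟩ := exists_conj_hallOf hK h₁ h₂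
  exact exists_centralizer_conj hAK hcop (Or.inr hK) hA₁ hA₂ hk he

/-- A nontrivial solvable group has an invariant normal nontrivial elementary subgroup. -/
theorem exists_invariant_normal_pgroup (hAK : A ≤ normalizer (K : Set G)) (hK : Group.IsSolvable K)
    (hne : K ≠ ⊥) :
    ∃ (p : ℕ) (N : Subgroup G), p.Prime ∧ N ≠ ⊥ ∧ N ≤ K ∧ K ≤ normalizer (N : Set G) ∧
      A ≤ normalizer (N : Set G) ∧ IsPGroup p N := by
  have := hK
  obtain ⟨n, hn⟩ := Group.IsSolvable.solvable (G := K)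
  classical
  set d := fun i => (derivedSeries K i).map K.subtype with hd
  have hex : ∃ i, d i = ⊥ := ⟨n, by simp [hd, hn]⟩
  have h0 : d 0 ≠ ⊥ := by
    simp only [hd, derivedSeries_zero, ← MonoidHom.range_eq_map, range_subtype]
    exact hne
  obtain ⟨m, hm⟩ := Nat.exists_eq_add_one.mpr (Nat.pos_of_ne_zero (fun h : Nat.find hex = 0 =>
    h0 (h ▸ Nat.find_spec hex)))
  set D := d m with hDdef
  have hDne : D ≠ ⊥ := Nat.find_min hex (by omega)
  have hDD : ⁅D, D⁆ = ⊥ := by
    have := Nat.find_spec hex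
    rw [hm, hd] at this
    simp only [derivedSeries_succ, map_commutator] at this
    exact this
  have hDK : D ≤ K := map_subtype_le _
  have hnorm : normalizer (K : Set G) ≤ normalizer (D : Set G) := by
    intro g hg
    apply mem_normalizer_of_map_conj
    have key : ∀ i, (d i).map (MulAut.conj g).toMonoidHom = d i := by
      intro i
      induction i with
      | zero =>
        simp only [hd, derivedSeries_zero, ← MonoidHom.range_eq_map, range_subtype]
        exact map_conj_eq hg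
      | succ i ih =>
        simp only [hd, derivedSeries_succ, map_commutator] at ih ⊢
        rw [ih]
    exact key m
  obtain ⟨p, hp, hpD⟩ := Nat.exists_prime_and_dvd (mt card_eq_one.mp hDne)
  have : Fact p.Prime := ⟨hp⟩
  have hDcomm : ∀ x ∈ D, ∀ y ∈ D, Commute x y := fun x hx y hy =>
    (mem_centralizer_iff.mp (commutator_eq_bot_iff_le_centralizer.mp hDD hx) y hy).symm
  let N : Subgroup G :=
    { carrier := {x | x ∈ D ∧ x ^ p = 1}
      one_mem' := ⟨one_mem _, one_pow _⟩
      mul_mem' := by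
        rintro x y ⟨hx, hx'⟩ ⟨hy, hy'⟩
        exact ⟨mul_mem hx hy, by rw [(hDcomm x hx y hy).mul_pow, hx', hy', one_mul]⟩
      inv_mem' := by
        rintro x ⟨hx, hx'⟩
        exact ⟨inv_mem hx, by rw [inv_pow, hx', inv_one]⟩ }
  have hND : normalizer (D : Set G) ≤ normalizer (N : Set G) := by
    rw [le_normalizer_iff]
    rintro g hg x ⟨hx, hx'⟩
    exact ⟨conj_mem hg hx, by rw [conj_pow, hx', mul_one, mul_inv_cancel]⟩
  refine ⟨p, N, hp, ?_, fun x hx => hDK hx.1, le_normalizer.trans (hnorm.trans hND),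
    hAK.trans (hnorm.trans hND), fun x => ⟨1, Subtype.ext (by simpa using x.2.2)⟩⟩
  obtain ⟨x, hx⟩ := exists_prime_orderOf_dvd_card' (G := D) p hpD
  intro h
  have hxN : (x : G) ∈ N := ⟨x.2, by rw [← hx, ← orderOf_coe, pow_orderOf_eq_one]⟩
  rw [h, mem_bot] at hxN
  rw [← orderOf_coe, hxN, orderOf_one] at hx
  exact hp.ne_one hx.symm

theorem exists_invariant_hall_ge_aux : ∀ (n : ℕ) (G : Type u) [Group G] [Finite G]
    (A K U : Subgroup G), Nat.card K ≤ n → A ≤ normalizer (K : Set G) →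
    (Nat.card A).Coprime (Nat.card K) → Group.IsSolvable K → U ≤ K → A ≤ normalizer (U : Set G) →
    Hall.IsPiNumber π (Nat.card U) →
    ∃ H : Subgroup G, Cfsg.IsPiHallOf π H K ∧ A ≤ normalizer (H : Set G) ∧ U ≤ H := by
  intro n
  induction n with
  | zero =>
    intro G _ _ A K U h
    exact absurd (Nat.card_pos (α := K)) (by omega)
  | succ n ih =>
    intro G _ _ A K U hn hAK hcop hK hUK hAU hU
    by_cases hKb : K = ⊥
    · subst hKb
      refine ⟨U, ⟨hUK, hU, fun p hp _ h => hp.not_dvd_one ?_⟩, hAU, le_rfl⟩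
      rwa [relIndex_bot_right] at h
    obtain ⟨p, N, hp, hNne, hNK, hKN, hAN, hNp⟩ := exists_invariant_normal_pgroup hAK hK hKb
    set W := K ⊔ A with hW
    have hWN : W ≤ normalizer (N : Set G) := sup_le hKN hAN
    have : (N.subgroupOf W).Normal := normal_subgroupOf_of_le_normalizer hWN
    let f := QuotientGroup.mk' (N.subgroupOf W)
    have hNW : N ≤ W := hNK.trans le_sup_left
    set K' := (K.subgroupOf W).map f with hK'
    set A' := (A.subgroupOf W).map f with hA'
    set U' := (U.subgroupOf W).map f with hU'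
    have hdvd : ∀ S : Subgroup G, S ≤ W → Nat.card ((S.subgroupOf W).map f) ∣ Nat.card S :=
      fun S hS => (Subgroup.card_map_dvd _ _).trans
        (dvd_of_eq (Nat.card_congr (subgroupOfEquivOfLe hS).toEquiv))
    have hnorm : ∀ S : Subgroup G, S ≤ W → A ≤ normalizer (S : Set G) →
        A' ≤ normalizer (((S.subgroupOf W).map f : Subgroup _) : Set _) := by
      intro S hS hAS
      refine (Subgroup.map_mono ?_).trans (le_normalizer_map f)
      rw [← subgroupOf_normalizer_eq hS]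
      exact fun x hx => hAS hx
    have hcK : Nat.card K' * Nat.card N = Nat.card K := by
      rw [hK', ← relIndex_ker, QuotientGroup.ker_mk', relIndex_subgroupOf le_sup_left,
        mul_comm, ← relIndex_bot_left, relIndex_mul_relIndex _ _ _ bot_le hNK, relIndex_bot_left]
    have hK'lt : Nat.card K' ≤ n := by
      have h1 := N.one_lt_card_iff_ne_bot.mpr hNne
      have h2 := Nat.card_pos (α := K')
      nlinarith
    obtain ⟨Hb, hHb, hAHb, hUHb⟩ := ih (W ⧸ N.subgroupOf W) A' K' U' hK'lt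
      (hnorm K le_sup_left hAK)
      ((hcop.coprime_dvd_left (hdvd A le_sup_right)).coprime_dvd_right (hdvd K le_sup_left))
      (isSolvable_map f (Hall.isSolvable_subgroupOf le_sup_left hK))
      (Subgroup.map_mono (comap_mono hUK)) (hnorm U (hUK.trans le_sup_left) hAU)
      (hU.of_dvd (hdvd U (hUK.trans le_sup_left)))
    set L' := Hb.comap f with hL'
    set L := L'.map W.subtype with hL
    have hkerL : N.subgroupOf W ≤ L' := by
      rw [← QuotientGroup.ker_mk' (N.subgroupOf W)]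
      exact MonoidHom.ker_le_comap _ _
    have hL'K : L' ≤ K.subgroupOf W := by
      refine (comap_mono hHb.1).trans ?_
      rw [hK', comap_map_eq, QuotientGroup.ker_mk', sup_le_iff]
      exact ⟨le_rfl, comap_mono hNK⟩
    have hLK : L ≤ K := by
      refine (Subgroup.map_mono hL'K).trans ?_
      rw [map_subgroupOf_eq_of_le le_sup_left]
    have hNL : N ≤ L := by
      rw [← map_subgroupOf_eq_of_le hNW]
      exact Subgroup.map_mono hkerL
    have hUL : U ≤ L := by
      rw [← map_subgroupOf_eq_of_le (hUK.trans (le_sup_left : K ≤ W))]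
      exact Subgroup.map_mono (map_le_iff_le_comap.mp hUHb)
    have hAL : A ≤ normalizer (L : Set G) := by
      rw [le_normalizer_iff]
      rintro a ha _ ⟨x, hx, rfl⟩
      refine ⟨⟨a, mem_sup_right ha⟩ * x * ⟨a, mem_sup_right ha⟩⁻¹, ?_, rfl⟩
      show f _ ∈ Hb
      rw [map_mul, map_mul, map_inv]
      exact conj_mem (hAHb (mem_map_of_mem f ha)) hx
    have hLidx : L.relIndex K = Hb.relIndex K' := by
      rw [← map_subgroupOf_eq_of_le (le_sup_left : K ≤ W), hL,
        relIndex_map_map_of_injective _ _ W.subtype_injective, hK',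
        ← map_comap_eq_self_of_surjective (QuotientGroup.mk'_surjective _) Hb, ← hL',
        Hall.relIndex_map_map_of_ker_le f (by rw [QuotientGroup.ker_mk']; exact hkerL) hL'K]
    have hcL : Nat.card L = Nat.card Hb * Nat.card N := by
      rw [hL, Subgroup.card_map_of_injective W.subtype_injective,
        ← relIndex_bot_left (H := L'), ← relIndex_mul_relIndex ⊥ (N.subgroupOf W) L' bot_le hkerL,
        relIndex_bot_left, Nat.card_congr (subgroupOfEquivOfLe hNW).toEquiv, mul_comm]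
      congr 1
      conv_rhs => rw [← map_comap_eq_self_of_surjective (QuotientGroup.mk'_surjective _) Hb, ← hL']
      rw [← relIndex_ker, QuotientGroup.ker_mk']
    have hLπ' : Hall.IsPiNumber πᶜ (L.relIndex K) := by
      rw [hLidx, Hall.isPiNumber_compl_iff]
      exact hHb.2.2
    have : Fact p.Prime := ⟨hp⟩
    obtain ⟨e, he⟩ := IsPGroup.iff_card.mp hNp
    by_cases hpπ : p ∈ π
    · refine ⟨L, ⟨hLK, ?_, Hall.isPiNumber_compl_iff.mp hLπ'⟩, hAL, hUL⟩
      rw [hcL]
      exact Hall.IsPiNumber.mul hHb.2.1 (he ▸ (Hall.IsPiNumber.prime hp hpπ).pow e)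
    have hNπ' : Hall.IsPiNumber πᶜ (Nat.card N) :=
      he ▸ (Hall.IsPiNumber.prime hp (π := πᶜ) hpπ).pow e
    have hcopL := coprime_of_le hLK hcop
    obtain ⟨H₁, hH₁, hAH₁⟩ := exists_invariant_hall hAL hcopL (isSolvable_of_le hLK hK) π
    obtain ⟨hH₁L, hH₁π, hH₁π'⟩ := hH₁
    have hH₁' : Hall.IsPiNumber π (Nat.card H₁) := hH₁π
    have hcH₁ : Nat.card H₁ = Nat.card Hb := by
      refine Hall.piPart_unique hH₁' (Hall.isPiNumber_compl_iff.mpr hH₁π') hHb.2.1 hNπ' ?_
      rw [← hcL]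
      conv_lhs => rw [← relIndex_bot_left]
      rw [relIndex_mul_relIndex _ _ _ bot_le hH₁L, relIndex_bot_left]
    have hLN : L ≤ normalizer (N : Set G) := hLK.trans hKN
    have hdN : ∀ S : Subgroup G, Hall.IsPiNumber π (Nat.card S) → N ⊓ S = ⊥ := fun S hS =>
      inf_eq_bot (hS.coprime hNπ').symm
    have hsupL : N ⊔ H₁ = L := eq_of_le_of_card_ge (sup_le hNL hH₁L)
      (by rw [card_sup (hH₁L.trans hLN) (hdN _ hH₁'), hcL, hcH₁, mul_comm])
    set T := N ⊔ U with hT
    set U₁ := H₁ ⊓ T with hU₁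
    have hU₁π : Hall.IsPiNumber π (Nat.card U₁) :=
      Hall.isPiNumber_card_mono inf_le_left hH₁'
    have hU₁N : U₁ ≤ normalizer (N : Set G) := (inf_le_left.trans hH₁L).trans hLN
    have hTU₁ : N ⊔ U₁ = T := by
      refine le_antisymm (sup_le le_sup_left inf_le_right) fun x hx => ?_
      have hxL : x ∈ N ⊔ H₁ := hsupL.symm ▸ (sup_le hNL hUL : T ≤ L) hx
      obtain ⟨a, ha, b, hb, rfl⟩ := (mem_sup_iff (hH₁L.trans hLN)).mp hxL
      refine mul_mem (mem_sup_left ha) (mem_sup_right ⟨hb, ?_⟩)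
      have := mul_mem (mem_sup_left (T := U) (N.inv_mem ha)) hx
      simpa using this
    have hcU : Nat.card U = Nat.card U₁ := by
      have h1 := card_sup hU₁N (hdN _ hU₁π)
      rw [hTU₁, hT, card_sup (hUL.trans hLN) (hdN _ hU)] at h1
      exact Nat.eq_of_mul_eq_mul_left Nat.card_pos h1
    obtain ⟨k, hk, hconj⟩ := exists_conj_of_le_sup hU₁N (H₂ := U)
      (by rw [hTU₁]; exact le_sup_right) hcU (hU₁π.coprime hNπ') (Or.inr (isSolvable_of_le hNK hK))
    have hAU₁ : A ≤ normalizer (U₁ : Set G) := by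
      have hAT : A ≤ normalizer (T : Set G) :=
        (le_inf hAN hAU).trans (normalizer_inf_normalizer_le_normalizer_sup N U)
      rw [le_normalizer_iff]
      exact fun a ha x hx => ⟨conj_mem (hAH₁ ha) hx.1, conj_mem (hAT ha) hx.2⟩
    obtain ⟨c, hc, hcU'⟩ := exists_centralizer_conj hAN (coprime_of_le hNK hcop)
      (Or.inr (isSolvable_of_le hNK hK)) hAU₁ hAU hk hconj.symm
    refine ⟨H₁.map (MulAut.conj c).toMonoidHom,
      isPiHallOf_map_conj (le_normalizer (hNK hc.1)) ⟨hH₁L.trans hLK, hH₁π, ?_⟩, ?_, ?_⟩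
    · refine Hall.isPiNumber_compl_iff.mp ?_
      rw [← relIndex_mul_relIndex _ _ _ hH₁L hLK]
      exact (Hall.isPiNumber_compl_iff.mpr hH₁π').mul hLπ'
    · rw [le_normalizer_iff]
      rintro a ha _ ⟨x, hx, rfl⟩
      refine ⟨a * x * a⁻¹, conj_mem (hAH₁ ha) hx, ?_⟩
      have h : Commute a c := mem_centralizer_iff.mp hc.2 a ha
      show c * (a * x * a⁻¹) * c⁻¹ = a * (c * x * c⁻¹) * a⁻¹
      calc c * (a * x * a⁻¹) * c⁻¹ = (c * a) * x * (c * a)⁻¹ := by simp [mul_assoc]
        _ = (a * c) * x * (a * c)⁻¹ := by rw [h.eq]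
        _ = _ := by simp [mul_assoc]
    · rw [← hcU']
      exact Subgroup.map_mono inf_le_left

/-- An invariant `π`-subgroup lies in an invariant Hall subgroup. -/
theorem exists_invariant_hall_ge (hAK : A ≤ normalizer (K : Set G))
    (hcop : (Nat.card A).Coprime (Nat.card K)) (hK : Group.IsSolvable K) {U : Subgroup G}
    (hUK : U ≤ K) (hAU : A ≤ normalizer (U : Set G)) (hU : Hall.IsPiNumber π (Nat.card U)) :
    ∃ H : Subgroup G, Cfsg.IsPiHallOf π H K ∧ A ≤ normalizer (H : Set G) ∧ U ≤ H :=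
  exists_invariant_hall_ge_aux _ G A K U le_rfl hAK hcop hK hUK hAU hU

end Cfsg.Agent.Coprime
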