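import Cfsg.Agent.Cores.Fitting
import Cfsg.Agent.H38.ConstStab
import Cfsg.Prelude.Def_Solvable
import Mathlib.GroupTheory.SpecificGroups.ZGroup

/-!
Linear groups of odd order transitive on the non-zero vectors up to sign: the Fitting subgroup is cyclic
and semiregular, and contains the derived subgroup when the group is solvable.
-/

namespace Cfsg.Agent.Coprime.HalfTrans

open Subgroup MulAction
open scoped Pointwise commutatorElement

variable {D E : Type*} [Group D] [Finite D] [AddCommGroup E] [Finite E] [DistribMulAction D E]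
  [FaithfulSMul D E] {q : ℕ}

omit [Finite D] [Finite E] [FaithfulSMul D E] in
theorem card_stabilizer_normal (htrans : ∀ a b : E, a ≠ 0 → b ≠ 0 → ∃ d : D, d • a = b ∨ d • a = -b)
    (N : Subgroup D) [N.Normal] {a b : E} (ha : a ≠ 0) (hb : b ≠ 0) :
    Nat.card (stabilizer N a) = Nat.card (stabilizer N b) := by
  obtain ⟨d, hd⟩ := htrans a b ha hb
  have hstab : stabilizer D (d • a) = stabilizer D b := by
    rcases hd with h | h
    · rw [h]
    · ext g; rw [h, mem_stabilizer_iff, mem_stabilizer_iff, smul_neg, neg_inj]
  have key : ∀ g : D, g • a = a ↔ (d * g * d⁻¹) • b = b := fun g => by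
    rw [← mem_stabilizer_iff (a := b), ← hstab, mem_stabilizer_iff, mul_smul, inv_smul_smul, mul_smul,
      smul_left_cancel_iff]
  refine Nat.card_congr (Equiv.subtypeEquiv (MulAut.conjNormal (H := N) d).toEquiv fun g => ?_)
  rw [mem_stabilizer_iff, mem_stabilizer_iff, Subgroup.smul_def, Subgroup.smul_def]
  simpa using key g

variable (hodd : Odd (Nat.card D)) (hq : q.Prime) (hE : ∀ e : E, q • e = 0)
  (htrans : ∀ a b : E, a ≠ 0 → b ≠ 0 → ∃ d : D, d • a = b ∨ d • a = -b)
include hodd hq hE htrans

theorem pgroup_cyclic_fpf (N : Subgroup D) [N.Normal] {p : ℕ} [hp : Fact p.Prime] (hN : IsPGroup p N) :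
    IsCyclic N ∧ ∀ g : N, g ≠ 1 → ∀ a : E, g • a = a → a = 0 := by
  by_cases hp2 : p = 2
  · subst hp2
    have : Subsingleton N := by
      obtain ⟨k, hk⟩ := IsPGroup.iff_card.mp hN
      rcases k.eq_zero_or_pos with rfl | hk0
      · exact (Nat.card_eq_one_iff_unique.mp (by rw [hk, pow_zero])).1
      · exact absurd ((dvd_pow_self 2 hk0.ne').trans (hk ▸ N.card_subgroup_dvd_card))
          hodd.not_two_dvd_nat
    exact ⟨inferInstance, fun g hg => absurd (Subsingleton.elim g 1) hg⟩
  · exact H38.const_stabilizers hp2 hN hq hE fun a b ha hb => card_stabilizer_normal htrans N ha hb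

/-- The Fitting subgroup is cyclic. -/
theorem fitting_cyclic : IsCyclic (Cfsg.fittingSubgroup D) := by
  set F := Cfsg.fittingSubgroup D
  have := Cores.fittingSubgroup_isNilpotent (G := D)
  have : F.Normal := Cores.fittingSubgroup_normal
  have : IsZGroup F := by
    refine ⟨fun p hp P => ?_⟩
    have : Fact p.Prime := ⟨hp⟩
    have hPn : (P : Subgroup F).Normal := Sylow.normal_of_normalizerCondition Group.normalizerCondition_of_isNilpotent P
    have := Sylow.characteristic_of_normal P hPn
    have := ConjAct.normal_of_characteristic_of_normal (H := F) (K := (P : Subgroup F))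
    have h := (pgroup_cyclic_fpf hodd hq hE htrans ((P : Subgroup F).map F.subtype)
      (P.isPGroup'.map F.subtype)).1
    exact ((P : Subgroup F).equivMapOfInjective F.subtype F.subtype_injective).isCyclic.mpr h
  infer_instance

/-- The non-identity elements of the Fitting subgroup fix only `0`. -/
theorem fitting_fpf : ∀ g ∈ Cfsg.fittingSubgroup D, g ≠ 1 → ∀ a : E, g • a = a → a = 0 := by
  intro g hg hg1 a ha
  set F := Cfsg.fittingSubgroup D
  have := Cores.fittingSubgroup_isNilpotent (G := D)
  have : F.Normal := Cores.fittingSubgroup_normal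
  obtain ⟨p, hp, hpg⟩ := Nat.exists_prime_and_dvd (n := orderOf g) (by simpa using hg1)
  have : Fact p.Prime := ⟨hp⟩
  set h : F := ⟨g, hg⟩ ^ (orderOf g / p) with hh
  have hho : orderOf h = p := by
    rw [hh, orderOf_pow_of_dvd (Nat.div_pos (Nat.le_of_dvd (orderOf_pos g) hpg) hp.pos).ne'
      (by rw [← Subgroup.orderOf_coe]; exact Nat.div_dvd_of_dvd hpg), ← Subgroup.orderOf_coe]
    exact Nat.div_div_self hpg (orderOf_pos g).ne'
  obtain ⟨P, hP⟩ := (IsPGroup.of_card (G := zpowers h) (p := p) (n := 1)
    (by rw [Nat.card_zpowers, hho, pow_one])).exists_le_sylow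
  have hPn : (P : Subgroup F).Normal := Sylow.normal_of_normalizerCondition Group.normalizerCondition_of_isNilpotent P
  have := Sylow.characteristic_of_normal P hPn
  have := ConjAct.normal_of_characteristic_of_normal (H := F) (K := (P : Subgroup F))
  refine (pgroup_cyclic_fpf hodd hq hE htrans ((P : Subgroup F).map F.subtype)
    (P.isPGroup'.map F.subtype)).2 ⟨(h : D), mem_map_of_mem _ (hP (mem_zpowers h))⟩ ?_ a ?_
  · intro h1
    have h2 : (h : D) = 1 := congrArg Subtype.val h1
    have : h = 1 := Subtype.ext h2
    rw [this, orderOf_one] at hho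
    exact hp.ne_one hho.symm
  · change (h : D) • a = a
    rw [hh, SubgroupClass.coe_pow]
    exact (mem_stabilizer_iff).mp (pow_mem (mem_stabilizer_iff.mpr ha) _)

/-- In the solvable case the Fitting subgroup contains the derived subgroup. -/
theorem commutator_le_fitting [Group.IsSolvable D] : commutator D ≤ Cfsg.fittingSubgroup D := by
  set F := Cfsg.fittingSubgroup D
  have : F.Normal := Cores.fittingSubgroup_normal
  have : IsCyclic F := fitting_cyclic hodd hq hE htrans
  have hker : (MulAut.conjNormal (H := F)).ker ≤ centralizer (F : Set D) := by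
    intro g hg
    rw [mem_centralizer_iff]
    intro x hx
    have := congrArg (fun φ : MulAut F => ((φ ⟨x, hx⟩ : F) : D)) (MonoidHom.mem_ker.mp hg)
    simp only [MulAut.conjNormal_apply, MulAut.one_apply] at this
    exact (mul_inv_eq_iff_eq_mul.mp this).symm
  refine le_trans (le_trans ?_ hker) Cores.centralizer_fittingSubgroup_le
  rw [commutator_def, Subgroup.commutator_le]
  intro x _ y _
  rw [MonoidHom.mem_ker, map_commutatorElement, commutatorElement_eq_one_iff_mul_comm]
  apply (IsCyclic.mulAutMulEquiv F).injective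
  rw [map_mul, map_mul, mul_comm]

end Cfsg.Agent.Coprime.HalfTrans
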