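import Cfsg.Agent.Coprime.SchurZassenhaus
import Cfsg.Agent.Hall.Existence
import Cfsg.Agent.Hall.Systems

/-!
Consequences of the odd order theorem, taken as a hypothesis, for groups of coprime order: one of two
coprime orders is odd, so the usual solvability assumption holds.  Hall subgroups that exist and are
conjugate in a normal subgroup and in the quotient exist and are conjugate in the group.
-/

namespace Cfsg.Agent.Coprime

open Subgroup Hall
open scoped Pointwise

universe u v

/-- Groups of odd order are solvable. -/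
def OddSolvable : Prop :=
  ∀ (G : Type u) [Group G] [Finite G], Odd (Nat.card G) → Group.IsSolvable G

/-- Of two groups of coprime order one is solvable. -/
theorem isSolvable_or_of_coprime (hA : OddSolvable.{u}) (hG : OddSolvable.{v}) {A : Type u} {G : Type v}
    [Group A] [Finite A] [Group G] [Finite G] (h : (Nat.card A).Coprime (Nat.card G)) :
    Group.IsSolvable A ∨ Group.IsSolvable G := by
  rcases Nat.even_or_odd (Nat.card A) with he | ho
  · refine Or.inr (hG G (Nat.not_even_iff_odd.mp fun hg => ?_))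
    exact absurd (Nat.eq_one_of_dvd_coprimes h he.two_dvd hg.two_dvd) (by norm_num)
  · exact Or.inl (hA A ho)

/-- A group with a series `π`, `π'`, `π` has Hall `π`-subgroups dominating the `π`-subgroups. -/
theorem hallDom_of_three_step (hFT : OddSolvable.{u}) {G : Type u} [Group G] [Finite G] {π : Set ℕ}
    (B M : Subgroup G) [B.Normal] [M.Normal] (hB : IsPiNumber π (Nat.card B)) (hBM : B ≤ M)
    (hrel : IsPiNumber πᶜ (B.relIndex M)) (hM : IsPiNumber π M.index) : HallDom π G := by
  refine hallDom_of_quotient B (Or.inl hB) ?_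
  set f := QuotientGroup.mk' B with hf
  set M' := M.map f with hM'
  have : M'.Normal := Subgroup.Normal.map ‹_› f (QuotientGroup.mk'_surjective B)
  have hcard : Nat.card M' = B.relIndex M := by
    rw [hM', ← Subgroup.relIndex_ker, hf, QuotientGroup.ker_mk']
  have hidx : IsPiNumber π M'.index :=
    hM.of_dvd (M.index_map_dvd (QuotientGroup.mk'_surjective B))
  refine hallDom_of_quotient M' (Or.inr ⟨hcard ▸ hrel, ?_⟩) ⟨⟨⊤, IsPiHall.mk ?_ ?_⟩, fun H U hH _ => ?_⟩
  · rcases Nat.even_or_odd (Nat.card M') with he | ho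
    · refine Or.inr fun U hU => hFT U (Nat.not_even_iff_odd.mp fun h => ?_)
      exact (hcard ▸ hrel : IsPiNumber πᶜ (Nat.card M')) 2 Nat.prime_two he.two_dvd
        (hU 2 Nat.prime_two h.two_dvd)
    · exact Or.inl (hFT M' ho)
  · rw [Subgroup.card_top]; exact hidx
  · rw [Subgroup.index_top]; exact IsPiNumber.one
  · refine ⟨1, le_of_le_of_eq le_top ?_⟩
    have hT : IsPiNumber π (Nat.card (⊤ : Subgroup ((G ⧸ B) ⧸ M'))) := by
      rw [Subgroup.card_top]; exact hidx
    rw [IsPiHall.eq_of_le hH le_top hT, map_one, one_smul]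

variable {G : Type u} [Group G] [Finite G] {π : Set ℕ}

/-- The trace of a Hall subgroup on a normal subgroup. -/
theorem isPiHall_subgroupOf_normal (A : Subgroup G) [A.Normal] {H : Subgroup G} (hH : IsPiHall π H) :
    IsPiHall π (H.subgroupOf A) := by
  refine IsPiHall.mk ?_ ((IsPiHall.isPiNumber_index hH).of_dvd (relIndex_dvd_index_normal_right H A))
  rw [← Subgroup.card_map_of_injective A.subtype_injective, Subgroup.subgroupOf_map_subtype]
  exact isPiNumber_card_mono inf_le_left hH.1

/-- The index of a normal subgroup in a subgroup of `X` divides its index in `X`. -/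
theorem relIndex_dvd_of_normal_left (A : Subgroup G) [A.Normal] {N X : Subgroup G} (h : N ≤ X) :
    A.relIndex N ∣ A.relIndex X := by
  have h1 : ∀ L : Subgroup G, A.relIndex L = Nat.card (L.map (QuotientGroup.mk' A)) := fun L => by
    rw [← Subgroup.relIndex_ker, QuotientGroup.ker_mk']
  rw [h1, h1]
  exact card_dvd_of_le (map_mono h)

/-- `[A N : N] = [A : A ∩ N]` for `A` normal. -/
theorem relIndex_sup_normal (A N : Subgroup G) [A.Normal] : N.relIndex (A ⊔ N) = N.relIndex A := by
  have h1 := Hall.card_sup_mul_card_inf A N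
  have h2 := Subgroup.relIndex_mul_relIndex ⊥ N (A ⊔ N) bot_le le_sup_right
  have h3 := Subgroup.relIndex_mul_relIndex ⊥ (A ⊓ N) A bot_le inf_le_left
  rw [Subgroup.relIndex_bot_left, Subgroup.relIndex_bot_left] at h2 h3
  rw [Subgroup.inf_relIndex_left] at h3
  rw [← h2, ← h3] at h1
  refine Nat.eq_of_mul_eq_mul_left (Nat.mul_pos Nat.card_pos Nat.card_pos :
    0 < Nat.card N * Nat.card ↥(A ⊓ N)) ?_
  linarith [h1]

section Extension

variable (A : Subgroup G) [A.Normal] {HA : Subgroup G}

/-- The normalizer of a Hall subgroup of `A` within the preimage `X` of a `π`-subgroup of the quotient. -/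
theorem hallDom_normalizer (hFT : OddSolvable.{u}) (hHA : HA ≤ A) (hHAp : IsPiHall π (HA.subgroupOf A))
    {X : Subgroup G} (hAX : A ≤ X) (hX : IsPiNumber π (A.relIndex X)) :
    HallDom π ↥(normalizer (HA : Set G) ⊓ X) := by
  set N := normalizer (HA : Set G) ⊓ X with hN
  have hHN : HA ≤ N := le_inf le_normalizer (hHA.trans hAX)
  have : (HA.subgroupOf N).Normal := normal_subgroupOf_of_le_normalizer inf_le_left
  refine hallDom_of_three_step hFT (HA.subgroupOf N) (A.subgroupOf N) ?_ (fun x hx => hHA hx) ?_ ?_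
  · rw [card_subgroupOf_of_le hHN, ← card_subgroupOf_of_le hHA]
    exact hHAp.1
  · have h1 : (HA.subgroupOf N).relIndex (A.subgroupOf N) = HA.relIndex (A ⊓ N) := by
      rw [← Subgroup.relIndex_map_map_of_injective _ _ N.subtype_injective, Subgroup.subgroupOf_map_subtype,
        Subgroup.subgroupOf_map_subtype, inf_eq_left.mpr hHN]
    rw [h1]
    exact (IsPiHall.isPiNumber_index hHAp).of_dvd
      (Dvd.intro _ (Subgroup.relIndex_mul_relIndex HA (A ⊓ N) A (le_inf hHA hHN) inf_le_left))
  · change IsPiNumber π (A.relIndex N)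
    exact hX.of_dvd (relIndex_dvd_of_normal_left A inf_le_right)

/-- Extensions of groups with conjugate Hall `π`-subgroups. -/
theorem isCPiGroup_of_normal (hFT : OddSolvable.{u}) (hA : IsCPiGroup π A) (hQ : IsCPiGroup π (G ⧸ A)) :
    IsCPiGroup π G := by
  set f := QuotientGroup.mk' A with hf
  have hfs : Function.Surjective f := QuotientGroup.mk'_surjective A
  obtain ⟨⟨HA', hHA'⟩, hAconj⟩ := hA
  set HA := HA'.map A.subtype with hHAdef
  have hHA : HA ≤ A := map_subtype_le _
  have hHAp : IsPiHall π (HA.subgroupOf A) := by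
    rwa [hHAdef, Subgroup.subgroupOf, comap_map_eq_self_of_injective A.subtype_injective]
  -- Frattini: conjugates by elements of `G` are conjugates by elements of `A`
  have hfrat : ∀ H : Subgroup G, H ≤ A → IsPiHall π (H.subgroupOf A) → ∃ a ∈ A, MulAut.conj a • HA = H := by
    intro H hH hHp
    obtain ⟨a, ha⟩ := hAconj _ _ hHA' hHp
    refine ⟨a, a.2, ?_⟩
    have h1 := congrArg (Subgroup.map A.subtype) ha
    rw [Subgroup.map_subgroupOf_eq_of_le hH, Subgroup.map_map] at h1
    rw [h1, hHAdef, ← map_conj_eq_smul, Subgroup.map_map]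
    rfl
  refine ⟨?_, ?_⟩
  · obtain ⟨⟨Hb, hHb⟩, -⟩ := hQ
    set X := Hb.comap f with hXdef
    have hAX : A ≤ X := fun x hx => by
      rw [hXdef, mem_comap, hf, QuotientGroup.mk'_apply, (QuotientGroup.eq_one_iff x).mpr hx]
      exact one_mem _
    have hXr : A.relIndex X = Nat.card Hb := by
      have := Subgroup.relIndex_ker (G := G) (G' := G ⧸ A) X f
      rw [hXdef, map_comap_eq_self_of_surjective hfs, hf, QuotientGroup.ker_mk'] at this
      exact this
    set N := normalizer (HA : Set G) ⊓ X with hN
    obtain ⟨H0, hH0⟩ := (hallDom_normalizer A hFT hHA hHAp hAX (hXr ▸ hHb.1)).1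
    refine ⟨H0.map N.subtype, IsPiHall.mk ?_ ?_⟩
    · rw [card_map_of_injective N.subtype_injective]; exact hH0.1
    · rw [index_map_subtype]
      refine (IsPiHall.isPiNumber_index hH0).mul ?_
      rw [← Subgroup.relIndex_mul_index (show N ≤ X from inf_le_right),
        show X.index = Hb.index from Subgroup.index_comap_of_surjective _ hfs]
      refine IsPiNumber.mul ?_ (IsPiHall.isPiNumber_index hHb)
      -- `X = A N`
      have hsup : A ⊔ N = X := by
        refine le_antisymm (sup_le hAX inf_le_right) fun x hx => ?_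
        obtain ⟨a, ha, hax⟩ := hfrat (MulAut.conj x • HA)
          (by rw [← conj_smul_of_normal x A]; exact conj_smul_mono x hHA)
          (IsPiHall.of_card_eq hHAp (by
            rw [card_subgroupOf_of_le hHA, card_subgroupOf_of_le (by
              rw [← conj_smul_of_normal x A]; exact conj_smul_mono x hHA), card_conj_smul]))
        have hn : a⁻¹ * x ∈ N := by
          refine Subgroup.mem_inf.mpr ⟨?_, mul_mem (inv_mem (hAX ha)) hx⟩
          have h1 : MulAut.conj (a⁻¹ * x) • HA = HA := by
            rw [conj_mul_smul, ← hax, conj_inv_smul_conj_smul]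
          refine mem_normalizer_iff.mpr fun y => ?_
          conv_rhs => rw [← h1, mem_conj_smul]
          simp [mul_assoc]
        rw [← mul_inv_cancel_left a x]
        exact mul_mem (mem_sup_left ha) (mem_sup_right hn)
      rw [← hsup, relIndex_sup_normal A N]
      refine (IsPiHall.isPiNumber_index hHAp).of_dvd ?_
      show N.relIndex A ∣ HA.relIndex A
      exact Subgroup.relIndex_dvd_of_le_left A (le_inf le_normalizer (hHA.trans hAX))
  · intro H K hH hK
    -- make `H` and `K` agree modulo `A`
    obtain ⟨gb, hgb⟩ := hQ.2 _ _ (IsPiHall.map hfs hK) (IsPiHall.map hfs hH)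
    obtain ⟨g, rfl⟩ := hfs gb
    rw [map_conj_eq_smul, ← map_conj_smul] at hgb
    set K1 := MulAut.conj g • K with hK1
    have hK1h : IsPiHall π K1 := IsPiHall.conj g hK
    have hX : A ⊔ H = A ⊔ K1 := sup_eq_of_map_mk'_eq hgb
    -- the traces on `A`
    have hcap : ∀ L : Subgroup G, IsPiHall π L → ∃ a ∈ A, MulAut.conj a • HA = L ⊓ A := fun L hL =>
      hfrat _ inf_le_right (by rw [Subgroup.inf_subgroupOf_right]; exact isPiHall_subgroupOf_normal A hL)
    obtain ⟨a, ha, haH⟩ := hcap H hH
    obtain ⟨b, hb, hbK⟩ := hcap K1 hK1h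
    set H2 := MulAut.conj a⁻¹ • H with hH2
    set K2 := MulAut.conj b⁻¹ • K1 with hK2
    set X := A ⊔ H with hXdef
    set N := normalizer (HA : Set G) ⊓ X with hN
    have hmem : ∀ (L : Subgroup G) (c : G), c ∈ A → L ≤ X → MulAut.conj c • HA = L ⊓ A →
        MulAut.conj c⁻¹ • L ≤ N := by
      intro L c hc hL he
      refine le_inf (le_normalizer_of_conj fun y hy => ?_) ?_
      · have h1 : L ≤ normalizer ((L ⊓ A : Subgroup G) : Set G) :=
          (le_inf le_normalizer (Subgroup.normalizer_eq_top (H := A) ▸ le_top)).trans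
            Subgroup.inf_normalizer_le_normalizer_inf
        have h2 := conj_smul_of_le_normalizer h1 (mem_conj_smul.mp hy)
        rw [inv_inv, ← he, ← conj_mul_smul, mul_assoc, mul_assoc] at h2
        have h3 := congrArg (MulAut.conj c⁻¹ • ·) h2
        simp only [← conj_mul_smul, inv_mul_cancel] at h3
        rw [map_one, one_smul] at h3
        simpa [mul_assoc] using h3
      · rw [show X = MulAut.conj c⁻¹ • X from
          (Subgroup.conj_smul_eq_self_of_mem (inv_mem (le_sup_left (b := H) hc))).symm]
        exact conj_smul_mono _ hL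
    have hH2N : H2 ≤ N := hmem H a ha le_sup_right haH
    have hK2N : K2 ≤ N := hmem K1 b hb (hX ▸ le_sup_right) hbK
    have hrel : IsPiNumber π (A.relIndex X) := by
      rw [hXdef, sup_comm, Subgroup.relIndex_sup_right]
      exact hH.1 |> IsPiNumber.of_dvd <| A.relIndex_dvd_card H
    have hD := hallDom_normalizer A hFT hHA hHAp le_sup_left hrel
    have hsub : ∀ L : Subgroup G, L ≤ N → IsPiHall π L → IsPiHall π (L.subgroupOf N) := fun L hL hLh =>
      IsPiHall.mk (card_subgroupOf_of_le hL ▸ hLh.1)
        ((IsPiHall.isPiNumber_index hLh).of_dvd (Dvd.intro _ (Subgroup.relIndex_mul_index hL)))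
    obtain ⟨n, hn⟩ := hD.conj (hsub _ hH2N (IsPiHall.conj _ hH)) (hsub _ hK2N (IsPiHall.conj _ hK1h))
    have h2 := congrArg (Subgroup.map N.subtype) hn
    rw [map_conj_smul, Subgroup.map_subgroupOf_eq_of_le hH2N, Subgroup.map_subgroupOf_eq_of_le hK2N] at h2
    refine ⟨g⁻¹ * b * (n : G) * a⁻¹, ?_⟩
    rw [map_conj_eq_smul, conj_mul_smul, conj_mul_smul, conj_mul_smul]
    change MulAut.conj (N.subtype n) • H2 = K2 at h2
    rw [← hH2, show ((n : G)) = N.subtype n from rfl, h2, hK2, ← conj_mul_smul b, mul_inv_cancel, map_one,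
      one_smul, hK1, conj_inv_smul_conj_smul]

end Extension

end Cfsg.Agent.Coprime
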