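import Cfsg.Agent.Coprime.HalfTransField
import Cfsg.Agent.Coprime.OddHyp
import Cfsg.Agent.S1127
import Cfsg.Agent.S1130

/-!
The elements of a two-point stabiliser inverted by the involution in the rank-one set-up, given that
groups of odd order are solvable: they form a cyclic normal subgroup.
-/

namespace Cfsg.Agent.Coprime.RankOneKernel

open Subgroup MulAction
open scoped IsMulCommutative

universe u v

variable {G : Type u} {Ω : Type v} [Group G] [Finite G] [MulAction G Ω] [FaithfulSMul G Ω] {a : Ω} {t : G}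
  {Q : Subgroup G}

local notation "DD" => (stabilizer G a ⊓ stabilizer G (t • a))

variable (hFT : OddSolvable.{u}) (hS : Cfsg.IsRankOneSetup G Ω a t Q)
  (h2 : ∃ x y : G, x ≠ 1 ∧ y ≠ 1 ∧ x ≠ y ∧ x * x = 1 ∧ y * y = 1 ∧ x * y = y * x)
include hFT hS h2

set_option maxHeartbeats 800000 in
/-- The inverted elements form a cyclic normal subgroup, and the centralizer of `t` has cyclic quotient
by the centralizer of the inverted elements. -/
theorem main :
    (∃ C : Subgroup G, (C : Set G) = Cfsg.invertedBy DD t ∧ IsCyclic C ∧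
      ∀ d ∈ DD, ∀ c ∈ C, d * c * d⁻¹ ∈ C) ∧
    ∃ v ∈ DD ⊓ centralizer {t},
      (DD ⊓ centralizer {t} ⊓ centralizer (Cfsg.invertedBy DD t)) ⊔ closure {v} =
        DD ⊓ centralizer {t} := by
  classical
  set D : Subgroup G := DD with hD
  set K : Set G := Cfsg.invertedBy D t with hK
  set I : Set G := Cfsg.involutionsIn (stabilizer G a : Set G) with hI
  have hodd : Odd (Nat.card D) := hS.odd_card
  have h1130 := S1130.result hS h2
  -- the group `A` of involutions of the one-point stabiliser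
  let A : Subgroup G :=
    { carrier := insert 1 I
      one_mem' := Set.mem_insert _ _
      mul_mem' := by
        intro x y hx hy
        rcases hx with rfl | hx
        · rwa [one_mul]
        rcases hy with rfl | hy
        · rw [mul_one]; exact Or.inr hx
        exact h1130.2 x hx y hy
      inv_mem' := by
        intro x hx
        rcases hx with rfl | hx
        · rw [inv_one]; exact Or.inl rfl
        · rw [inv_eq_of_mul_eq_one_right hx.2.2]; exact Or.inr hx }
  have hA2 : ∀ x ∈ A, x * x = 1 := fun x hx => hx.elim (fun h => by rw [h, one_mul]) fun h => h.2.2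
  have hAcomm : IsMulCommutative A := .of_setLike_mul_comm fun x hx y hy => by
    have hxy := hA2 _ (mul_mem hx hy)
    calc x * y = (x * y)⁻¹ := (inv_eq_of_mul_eq_one_right hxy).symm
      _ = y * x := by
        rw [mul_inv_rev, inv_eq_of_mul_eq_one_right (hA2 x hx), inv_eq_of_mul_eq_one_right (hA2 y hy)]
  have hnorm : ∀ d ∈ D, ∀ x ∈ A, d * x * d⁻¹ ∈ A := by
    intro d hd x hx
    rcases hx with rfl | hx
    · rw [mul_one, mul_inv_cancel]; exact one_mem _
    · refine Or.inr ?_
      have := H38.conj_mem_invol hS hx (inv_mem hd.1)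
      rwa [inv_inv] at this
  let ρ : D →* MulAut A :=
    { toFun := fun d =>
        { toFun := fun x => ⟨d * x * (d : G)⁻¹, hnorm d d.2 x x.2⟩
          invFun := fun x => ⟨(d : G)⁻¹ * x * ((d : G)⁻¹)⁻¹, hnorm _ (inv_mem d.2) x x.2⟩
          left_inv := fun x => Subtype.ext (by simp [mul_assoc])
          right_inv := fun x => Subtype.ext (by simp [mul_assoc])
          map_mul' := fun x y => Subtype.ext (by simp [mul_assoc]) }
      map_one' := MulEquiv.ext fun x => Subtype.ext (by simp)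
      map_mul' := fun d e => MulEquiv.ext fun x => Subtype.ext (by simp [mul_assoc]) }
  have hρ : ∀ (d : D) (x : A), ((ρ d x : A) : G) = d * x * (d : G)⁻¹ := fun _ _ => rfl
  set W : Subgroup D := ρ.ker with hW
  have h1127 : D ⊓ centralizer {t} ⊓ centralizer K = D ⊓ centralizer I := (S1127.result hS).2
  have hWmem : ∀ d : D, d ∈ W ↔ (d : G) * t = t * d ∧ ∀ k ∈ K, k * (d : G) = d * k := by
    intro d
    have h1 : d ∈ W ↔ (d : G) ∈ D ⊓ centralizer I := by
      rw [hW, MonoidHom.mem_ker, Subgroup.mem_inf, mem_centralizer_iff]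
      refine ⟨fun h => ⟨d.2, fun x hx => ?_⟩, fun h => MulEquiv.ext fun x => Subtype.ext ?_⟩
      · have h' := congrArg Subtype.val (MulEquiv.congr_fun h ⟨x, Or.inr hx⟩)
        simp only [hρ, MulAut.one_apply] at h'
        exact (mul_inv_eq_iff_eq_mul.mp h').symm
      · rw [hρ, MulAut.one_apply, mul_inv_eq_iff_eq_mul]
        rcases x.2 with hx | hx
        · rw [hx, mul_one, one_mul]
        · exact (h.2 _ hx).symm
    rw [h1, ← h1127, Subgroup.mem_inf, Subgroup.mem_inf, mem_centralizer_singleton_iff,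
      mem_centralizer_iff]
    exact ⟨fun h => ⟨h.1.2, h.2⟩, fun h => ⟨⟨d.2, h.1⟩, h.2⟩⟩
  -- the quotient acts faithfully
  let E := Additive A
  let _ : DistribMulAction (D ⧸ W) E :=
    { smul := fun q e => Additive.ofMul (QuotientGroup.kerLift ρ q e.toMul)
      one_smul := fun e => by
        change Additive.ofMul (QuotientGroup.kerLift ρ 1 e.toMul) = e; rw [map_one]; rfl
      mul_smul := fun q q' e => by
        change Additive.ofMul (QuotientGroup.kerLift ρ (q * q') e.toMul) = _; rw [map_mul]; rfl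
      smul_zero := fun q => by
        change Additive.ofMul (QuotientGroup.kerLift ρ q 1) = 0; rw [map_one]; rfl
      smul_add := fun q e e' => by
        change Additive.ofMul (QuotientGroup.kerLift ρ q (e.toMul * e'.toMul)) = _; rw [map_mul]; rfl }
  have : FaithfulSMul (D ⧸ W) E := ⟨fun {q q'} h => QuotientGroup.kerLift_injective ρ
    (MulEquiv.ext fun x => congrArg Additive.toMul (h (Additive.ofMul x)))⟩
  have hoddq : Odd (Nat.card (D ⧸ W)) := hodd.of_dvd_nat (Subgroup.card_quotient_dvd_card W)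
  have : Group.IsSolvable (D ⧸ W) := hFT _ hoddq
  obtain ⟨s₀, s₁, hs₀, hs₁, hs01⟩ := H38.two_le_invol hS h2
  have : Nontrivial E := ⟨⟨Additive.ofMul ⟨s₀, Or.inr hs₀⟩, Additive.ofMul ⟨s₁, Or.inr hs₁⟩,
    fun h => hs01 (congrArg Subtype.val (Additive.ofMul.injective h))⟩⟩
  have hE : ∀ e : E, 2 • e = 0 := fun e => by
    refine congrArg Additive.ofMul (Subtype.ext ?_ : e.toMul ^ 2 = 1)
    rw [SubgroupClass.coe_pow, pow_two]; exact hA2 _ e.toMul.2
  have htrans : ∀ x y : E, x ≠ 0 → y ≠ 0 → ∃ q : D ⧸ W, q • x = y ∨ q • x = -y := by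
    intro x y hx hy
    have hxI : ((x.toMul : A) : G) ∈ I :=
      x.toMul.2.resolve_left fun h => hx (congrArg Additive.ofMul (Subtype.ext h))
    have hyI : ((y.toMul : A) : G) ∈ I :=
      y.toMul.2.resolve_left fun h => hy (congrArg Additive.ofMul (Subtype.ext h))
    obtain ⟨k, hk, hks⟩ := H38.conj_transitive hS hxI hyI
    refine ⟨QuotientGroup.mk' W ⟨k⁻¹, inv_mem hk.1⟩, Or.inl (congrArg Additive.ofMul (Subtype.ext ?_))⟩
    change k⁻¹ * _ * k⁻¹⁻¹ = _
    rw [inv_inv]; exact hks
  set F := Cfsg.fittingSubgroup (D ⧸ W) with hF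
  have hFc : IsCyclic F := HalfTrans.fitting_cyclic hoddq Nat.prime_two hE htrans
  have hFn : F.Normal := Cores.fittingSubgroup_normal
  -- the automorphism induced by `t`
  have htD : ∀ d ∈ D, t * d * t⁻¹ ∈ D := fun d hd => H38.t_mem_normalizer_D hS hd
  let τ : MulAut D :=
    { toFun := fun d => ⟨t * d * t⁻¹, htD d d.2⟩
      invFun := fun d => ⟨t * d * t⁻¹, htD d d.2⟩
      left_inv := fun d => Subtype.ext (by
        change t * (t * d * t⁻¹) * t⁻¹ = d
        rw [H38.t_inv hS, show t * (t * (d : G) * t) * t = (t * t) * d * (t * t) by group, hS.mul_self,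
          one_mul, mul_one])
      right_inv := fun d => Subtype.ext (by
        change t * (t * d * t⁻¹) * t⁻¹ = d
        rw [H38.t_inv hS, show t * (t * (d : G) * t) * t = (t * t) * d * (t * t) by group, hS.mul_self,
          one_mul, mul_one])
      map_mul' := fun d e => Subtype.ext (by simp [mul_assoc]) }
  have hτW : ∀ d ∈ W, τ d = d := fun d hd => Subtype.ext (by
    change t * d * t⁻¹ = d
    rw [← ((hWmem d).mp hd).1, mul_inv_cancel_right])
  have hτmap : W.map τ.toMonoidHom = W := by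
    ext d
    refine ⟨?_, fun hd => ⟨d, hd, hτW d hd⟩⟩
    rintro ⟨e, he, rfl⟩
    change τ e ∈ W
    rw [hτW e he]; exact he
  let τq : (D ⧸ W) ≃* (D ⧸ W) := QuotientGroup.congr W W τ hτmap
  let c : (D ⧸ W) →* MulAut F := MulAut.conjNormal
  have hτF : ∀ x ∈ F, τq x ∈ F := fun x hx => by
    have := Cores.fittingSubgroup_map_mulEquiv (G := D ⧸ W) τq
    rw [hF, ← this]; exact mem_map_of_mem _ hx
  have hKF : ∀ k : D, (k : G) ∈ K → QuotientGroup.mk' W k ∈ F := by
    intro k hk
    set x := QuotientGroup.mk' W k with hx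
    have hτx : τq x = x⁻¹ := by
      rw [hx, ← map_inv]
      change QuotientGroup.mk' W (τ k) = _
      exact congrArg _ (Subtype.ext hk.2)
    have hx2 : x * x ∈ centralizer (F : Set (D ⧸ W)) := by
      rw [mem_centralizer_iff]
      intro g hg
      -- conjugation by `x` and by its image agree on the cyclic group `F`
      obtain ⟨m, hm⟩ := IsCyclic.exists_monoid_generator (α := F)
      have key : ∀ (φ : (D ⧸ W) ≃* (D ⧸ W)), (∀ y ∈ F, φ y ∈ F) →
          ∃ n : ℕ, ∀ y ∈ F, φ y = y ^ n := by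
        intro φ hφ
        obtain ⟨n, hn⟩ := hm ⟨φ m, hφ m m.2⟩
        refine ⟨n, fun y hy => ?_⟩
        obtain ⟨j, hj⟩ := hm ⟨y, hy⟩
        have hj' : y = (m : D ⧸ W) ^ j := (congrArg Subtype.val hj).symm
        have hn' : φ m = (m : D ⧸ W) ^ n := (congrArg Subtype.val hn).symm
        rw [hj', map_pow, hn', ← pow_mul, ← pow_mul, mul_comm]
      obtain ⟨n, hn⟩ := key τq hτF
      obtain ⟨i, hi⟩ := key (MulAut.conj x) fun y hy => hFn.conj_mem y hy x
      obtain ⟨y, hy, rfl⟩ : ∃ y ∈ F, τq y = g := by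
        refine ⟨τq.symm g, ?_, τq.apply_symm_apply g⟩
        have := Cores.fittingSubgroup_map_mulEquiv (G := D ⧸ W) τq.symm
        rw [hF, ← this]; exact mem_map_of_mem _ hg
      have h1 : x⁻¹ * τq y * x = x * τq y * x⁻¹ := by
        calc x⁻¹ * τq y * x = τq (x * y * x⁻¹) := by rw [map_mul, map_mul, map_inv, hτx, inv_inv]
          _ = (x * y * x⁻¹) ^ n := hn _ (hFn.conj_mem y hy x)
          _ = x * y ^ n * x⁻¹ := conj_pow
          _ = x * τq y * x⁻¹ := by rw [hn y hy]
      have := congrArg (fun z => x * z * x) h1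
      simpa [mul_assoc] using this
    have hx2F : x * x ∈ F := Cores.centralizer_fittingSubgroup_le hx2
    obtain ⟨j, hj⟩ := hoddq
    have : x = (x * x) ^ (j + 1) := by
      rw [← pow_two, ← pow_mul, show 2 * (j + 1) = (2 * j + 1) + 1 by ring, pow_succ, ← hj,
        pow_card_eq_one', one_mul]
    rw [this]; exact pow_mem hx2F _
  have hinj : ∀ k k' : D, (k : G) ∈ K → (k' : G) ∈ K →
      QuotientGroup.mk' W k = QuotientGroup.mk' W k' → k = k' := by
    intro k k' hk hk' h
    have h1 : k⁻¹ * k' ∈ W := QuotientGroup.eq.mp h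
    have hc : ∀ x ∈ I, ((k⁻¹ * k' : D) : G) * x = x * ((k⁻¹ * k' : D) : G) := fun x hx => by
      have h' := congrArg Subtype.val (MulEquiv.congr_fun (MonoidHom.mem_ker.mp h1) ⟨x, Or.inr hx⟩)
      exact mul_inv_eq_iff_eq_mul.mp h'
    have hinv : ∀ {k : D}, (k : G) ∈ K → ((k⁻¹ : D) : G) ∈ K := fun {k} hk =>
      ⟨inv_mem hk.1, by rw [Subgroup.coe_inv, ← conj_inv, hk.2]⟩
    have := H38.conj_inj hS hs₀ (hinv hk) (hinv hk') (by
      have h3 := hc s₀ hs₀
      simp only [Subgroup.coe_inv, inv_inv, Subgroup.coe_mul] at h3 ⊢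
      have h4 := congrArg (fun z => (k : G) * z * (k' : G)⁻¹) h3
      simpa [mul_assoc] using h4.symm)
    exact inv_injective (Subtype.ext this)
  -- every element of `F` comes from an inverted element
  have hKsurj : ∀ y ∈ F, ∃ k : D, (k : G) ∈ K ∧ QuotientGroup.mk' W k = y := by
    let f : K → F := fun k => ⟨QuotientGroup.mk' W ⟨k, k.2.1⟩, hKF _ k.2⟩
    have hf : Function.Injective f := fun k k' h =>
      Subtype.ext (congrArg Subtype.val (hinj _ _ k.2 k'.2 (congrArg Subtype.val h)) :)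
    have hcard : Nat.card F ≤ Nat.card K := by
      refine le_trans ?_ (le_of_eq (H38.card_inverted_eq hS).symm)
      let e₀ : E := Additive.ofMul ⟨s₀, Or.inr hs₀⟩
      have he₀ : e₀ ≠ 0 := fun h => hs₀.2.1 (congrArg Subtype.val (congrArg Additive.toMul h))
      refine Nat.card_le_card_of_injective
        (fun y : F => (⟨(((y : D ⧸ W) • e₀).toMul : A), ?_⟩ : I)) ?_
      · refine (((y : D ⧸ W) • e₀).toMul).2.resolve_left fun h => he₀ ?_
        have h0 : (y : D ⧸ W) • e₀ = 0 := congrArg Additive.ofMul (Subtype.ext h)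
        exact (smul_eq_zero_iff_eq _).mp h0
      · intro y y' h
        have h' := congrArg Subtype.val h
        have h0 : (y : D ⧸ W) • e₀ = (y' : D ⧸ W) • e₀ :=
          congrArg Additive.ofMul (Subtype.ext h')
        by_contra hne
        refine he₀ (HalfTrans.fitting_fpf hoddq Nat.prime_two hE htrans ((y' : D ⧸ W)⁻¹ * y)
          (mul_mem (inv_mem y'.2) y.2) ?_ e₀ (by rw [mul_smul, h0, inv_smul_smul]))
        exact fun h1 => hne (Subtype.ext (inv_mul_eq_one.mp h1).symm)
    intro y hy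
    obtain ⟨k, hk⟩ := ((Nat.bijective_iff_injective_and_card f).mpr
      ⟨hf, le_antisymm (Nat.card_le_card_of_injective f hf) hcard⟩).2 ⟨y, hy⟩
    exact ⟨⟨k, k.2.1⟩, k.2, congrArg Subtype.val hk⟩
  -- the abelian group containing the inverted elements
  set N : Subgroup D := F.comap (QuotientGroup.mk' W) ⊓ centralizer (W : Set D) with hN
  have hNn : N.Normal := by
    have := hFn.comap (QuotientGroup.mk' W)
    have : (centralizer (W : Set D)).Normal := Subgroup.normal_centralizer
    rw [hN]; infer_instance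
  have hKN : ∀ k : D, (k : G) ∈ K → k ∈ N := fun k hk => ⟨hKF k hk, mem_centralizer_iff.mpr
    fun w hw => Subtype.ext (((hWmem w).mp hw).2 _ hk).symm⟩
  have hNcomm : ∀ x ∈ N, ∀ y ∈ N, x * y = y * x := by
    let π : N →* F := ((QuotientGroup.mk' W).comp N.subtype).codRestrict F fun n => n.2.1
    have hπ : π.ker ≤ center N := by
      intro n hn
      have hn' : (n : D) ∈ W := by
        rw [← QuotientGroup.eq_one_iff]; exact congrArg Subtype.val (MonoidHom.mem_ker.mp hn)
      rw [Subgroup.mem_center_iff]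
      exact fun m => Subtype.ext (mem_centralizer_iff.mp m.2.2 _ hn').symm
    have := MonoidHom.isMulCommutative_of_isCyclic_of_ker_le_center π hπ
    intro x hx y hy
    exact congrArg Subtype.val (mul_comm' (⟨x, hx⟩ : N) ⟨y, hy⟩)
  let C : Subgroup G :=
    { carrier := K
      one_mem' := ⟨one_mem _, by group⟩
      mul_mem' := by
        intro x y hx hy
        refine ⟨mul_mem hx.1 hy.1, ?_⟩
        rw [show t * (x * y) * t⁻¹ = (t * x * t⁻¹) * (t * y * t⁻¹) by group, hx.2, hy.2, ← mul_inv_rev,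
          inv_inj]
        exact congrArg Subtype.val
          (hNcomm ⟨y, hy.1⟩ (hKN _ hy) ⟨x, hx.1⟩ (hKN _ hx))
      inv_mem' := fun {x} hx => ⟨inv_mem hx.1, by rw [← conj_inv, hx.2]⟩ }
  refine ⟨⟨C, rfl, ?_, ?_⟩, ?_⟩
  · let f : C →* F :=
      { toFun := fun k => ⟨QuotientGroup.mk' W ⟨k, k.2.1⟩, hKF _ k.2⟩
        map_one' := rfl
        map_mul' := fun k k' => rfl }
    exact isCyclic_of_injective f fun k k' h =>
      Subtype.ext (congrArg Subtype.val (hinj _ _ k.2 k'.2 (congrArg Subtype.val h)) :)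
  · intro d hd k hk
    set x := d⁻¹ * (t * d * t⁻¹) with hx
    have hxD : x ∈ D := mul_mem (inv_mem hd) (htD d hd)
    have hxt : t * x * t⁻¹ = x⁻¹ := by
      rw [hx, mul_inv_rev, inv_inv, H38.t_inv hS]
      rw [show t * (d⁻¹ * (t * d * t)) * t = (t * d⁻¹ * t) * d * (t * t) by group, hS.mul_self, mul_one,
        mul_inv_rev, mul_inv_rev, H38.t_inv hS]
      simp [mul_assoc]
    set r := H38.rt D x with hr
    have hrD : r ∈ D := H38.rt_mem hxD
    have hr2 : r * r = x := H38.rt_mul_self hodd hxD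
    have hrK : r ∈ K := ⟨hrD, by rw [hr, H38.conj_rt, hxt, H38.rt_inv]⟩
    set v := d * r with hv
    have hvt : t * v * t⁻¹ = v := by
      rw [hv, show t * (d * r) * t⁻¹ = (t * d * t⁻¹) * (t * r * t⁻¹) by group, hrK.2,
        show t * d * t⁻¹ = d * x by rw [hx, mul_inv_cancel_left], ← hr2]
      group
    have hcr : r * k * r⁻¹ = k := by
      have := congrArg Subtype.val (hNcomm ⟨r, hrD⟩ (hKN _ hrK) ⟨k, hk.1⟩ (hKN _ hk))
      simp only [Subgroup.coe_mul] at this
      rw [this, mul_inv_cancel_right]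
    have hdk : d * k * d⁻¹ = v * k * v⁻¹ := by
      conv_lhs => rw [← hcr]
      rw [hv]; group
    rw [hdk]
    refine ⟨hdk ▸ mul_mem (mul_mem hd hk.1) (inv_mem hd), ?_⟩
    rw [show t * (v * k * v⁻¹) * t⁻¹ = (t * v * t⁻¹) * (t * k * t⁻¹) * (t * v * t⁻¹)⁻¹ by group, hvt,
      hk.2]
    group
  · obtain ⟨L, fL, finL, φ, -, ψ, hψ⟩ := HalfTrans.exists_semilinear hoddq Nat.prime_two hE htrans
    have hcycL : IsCyclic (L ≃+* L) := HalfTrans.isCyclic_ringAut L
    set V : Subgroup G := D ⊓ centralizer {t} with hV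
    let χ : V →* (L ≃+* L) := ψ.comp ((QuotientGroup.mk' W).comp (Subgroup.inclusion inf_le_left))
    obtain ⟨⟨_, v, rfl⟩, hv⟩ := IsCyclic.exists_generator (α := χ.range)
    have hker : ∀ w : V, χ w = 1 → (w : G) ∈ V ⊓ centralizer K := by
      intro w hw
      obtain ⟨k, hk, hkw⟩ := hKsurj _ (hψ (MonoidHom.mem_ker.mpr hw))
      set w' : D := Subgroup.inclusion inf_le_left w
      have h1 : k⁻¹ * w' ∈ W := QuotientGroup.eq.mp hkw
      have hwt : (w : G) * t = t * w := mem_centralizer_singleton_iff.mp w.2.2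
      have h2' := ((hWmem _).mp h1).1
      have hk1 : (k : G) = 1 := by
        have h3 : (k : G) * t = t * k := by
          have hkk : (k : G) = (w' : G) * ((k⁻¹ * w' : D) : G)⁻¹ := by simp
          rw [hkk]
          exact ((show Commute (w' : G) t from hwt).mul_left
            ((show Commute ((k⁻¹ * w' : D) : G) t from h2').inv_left)).eq
        have h4 : (k : G) = (k : G)⁻¹ := by
          rw [← hk.2, ← h3, mul_inv_cancel_right]
        exact H38.eq_one_of_mul_self_eq_one hodd k.2 (mul_eq_one_iff_eq_inv.mpr h4)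
      refine ⟨w.2, mem_centralizer_iff.mpr fun z hz => ?_⟩
      have h5 := ((hWmem _).mp h1).2 z hz
      simpa [hk1, w'] using h5
    refine ⟨(v : G), v.2, le_antisymm (sup_le inf_le_left ?_) fun w hw => ?_⟩
    · rw [closure_le, Set.singleton_subset_iff]; exact v.2
    · obtain ⟨j, hj⟩ := mem_zpowers_iff.mp (hv ⟨χ ⟨w, hw⟩, ⟨_, rfl⟩⟩)
      have hj' : χ ⟨w, hw⟩ = χ (v ^ j) := by rw [map_zpow]; exact (congrArg Subtype.val hj).symm
      have h6 := hker (⟨w, hw⟩ * (v ^ j)⁻¹) (by rw [map_mul, map_inv, hj', mul_inv_cancel])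
      have : w = ((⟨w, hw⟩ * (v ^ j)⁻¹ : V) : G) * (v : G) ^ j := by simp
      rw [this]
      refine Subgroup.mul_mem _ (mem_sup_left h6) (mem_sup_right ?_)
      exact Subgroup.zpow_mem _ (Subgroup.mem_closure_singleton_self (v : G)) j

end Cfsg.Agent.Coprime.RankOneKernel
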