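import Cfsg.Agent.Coprime.OddHyp
import Cfsg.Agent.Components.Basic

/-!
Groups in which cyclic `2`-subgroups of the same order are conjugate have at most one component.
-/

namespace Cfsg.Agent.Coprime.CyclicConj

open Subgroup
open scoped commutatorElement

universe u

variable {G : Type u} [Group G] [Finite G]

/-- A quasisimple group has a noncentral `2`-element. -/
theorem exists_two_element (hFT : OddSolvable.{u}) (hG : Cfsg.IsQuasisimple G) :
    ∃ (x : G) (a : ℕ), orderOf x = 2 ^ a ∧ x ∉ center G := by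
  have : Fact (Nat.Prime 2) := ⟨Nat.prime_two⟩
  obtain ⟨P⟩ : Nonempty (Sylow 2 G) := inferInstance
  by_contra hc
  push Not at hc
  have hle : (P : Subgroup G) ≤ center G := fun x hx => by
    obtain ⟨a, ha⟩ := IsPGroup.iff_orderOf.mp P.isPGroup' ⟨x, hx⟩
    exact hc x a (by rw [← Subgroup.orderOf_coe] at ha; exact ha)
  have hodd : Odd (Nat.card (G ⧸ center G)) := by
    refine Nat.not_even_iff_odd.mp fun he => P.not_dvd_index ?_
    exact he.two_dvd.trans (index_dvd_of_le hle)
  have hs := hFT _ hodd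
  have := hG.2
  exact Components.qs_quotient_not_comm hG
    ⟨⟨fun a b => (IsSimpleGroup.comm_iff_isSolvable.mpr hs a b)⟩⟩

/-- A component has a noncentral `2`-element. -/
theorem exists_two_element' (hFT : OddSolvable.{u}) {K : Subgroup G} (hK : Cfsg.IsComponent K) :
    ∃ x ∈ K, ∃ a : ℕ, orderOf x = 2 ^ a ∧ ∃ k ∈ K, x * k ≠ k * x := by
  obtain ⟨x, a, hxa, hxc⟩ := exists_two_element hFT hK.2
  refine ⟨x, x.2, a, by rw [Subgroup.orderOf_coe]; exact hxa, ?_⟩
  rw [mem_center_iff] at hxc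
  push Not at hxc
  obtain ⟨k, hk⟩ := hxc
  exact ⟨k, k.2, fun h => hk (Subtype.ext h.symm)⟩

/-- There is at most one component. -/
theorem component_unique (hFT : OddSolvable.{u})
    (hP : ∀ A B : Subgroup G, IsCyclic ↥A → IsCyclic ↥B → IsPGroup 2 ↥A → Nat.card ↥A = Nat.card ↥B →
      ∃ g : G, B = A.map (MulAut.conj g).toMonoidHom)
    {K L : Subgroup G} (hK : Cfsg.IsComponent K) (hL : Cfsg.IsComponent L) : K = L := by
  by_contra hne
  obtain ⟨x, hx, a, hxa, hxk⟩ := exists_two_element' hFT hK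
  obtain ⟨y, hy, b, hyb, hyl⟩ := exists_two_element' hFT hL
  -- symmetric in the two components
  suffices main : ∀ (K L : Subgroup G), Cfsg.IsComponent K → Cfsg.IsComponent L → K ≠ L →
      ∀ x ∈ K, ∀ y ∈ L, ∀ a b : ℕ, orderOf x = 2 ^ a → orderOf y = 2 ^ b → a ≤ b →
      (∃ k ∈ K, x * k ≠ k * x) → (∃ l ∈ L, y * l ≠ l * y) → False by
    rcases le_total a b with h | h
    · exact main K L hK hL hne x hx y hy a b hxa hyb h hxk hyl
    · exact main L K hL hK (Ne.symm hne) y hy x hx b a hyb hxa h hyl hxk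
  intro K L hK hL hne x hx y hy a b hxa hyb hab hxk hyl
  have hcomm : ∀ {U V : Subgroup G}, Cfsg.IsComponent U → Cfsg.IsComponent V → U ≠ V →
      ∀ u ∈ U, ∀ v ∈ V, u * v = v * u := fun hU hV hUV u hu v hv =>
    Components.commute_of_commutator_eq_bot (Components.components_commute hU hV hUV) hu hv
  have hxy : Commute x y := hcomm hK hL hne x hx y hy
  have h1 : (x * y) ^ 2 ^ b = 1 := by
    rw [hxy.mul_pow, ← hyb, pow_orderOf_eq_one, mul_one, hyb, ← Nat.sub_add_cancel hab, pow_add, mul_comm,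
      pow_mul, ← hxa, pow_orderOf_eq_one, one_pow]
  obtain ⟨c, hcb, hc⟩ := (Nat.dvd_prime_pow Nat.prime_two).mp (orderOf_dvd_of_pow_eq_one h1)
  set w := y ^ 2 ^ (b - c) with hw
  have hwo : orderOf w = 2 ^ c := by
    rw [hw, orderOf_pow' _ (pow_ne_zero _ two_ne_zero), hyb,
      Nat.gcd_eq_right (Nat.pow_dvd_pow 2 (Nat.sub_le b c)), Nat.pow_div (Nat.sub_le b c) two_pos]
    congr 1
    omega
  have hwp : IsPGroup 2 (zpowers w) := IsPGroup.of_card ((Nat.card_zpowers w).trans hwo)
  obtain ⟨g, hg⟩ := hP (zpowers w) (zpowers (x * y)) inferInstance inferInstance hwp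
    (by rw [Nat.card_zpowers, Nat.card_zpowers, hwo, hc])
  set L' := L.map (MulAut.conj g).toMonoidHom
  have hL' : Cfsg.IsComponent L' := Components.component_conj hL g
  have hmem : x * y ∈ L' := by
    have h2 : x * y ∈ zpowers (x * y) := mem_zpowers _
    rw [hg] at h2
    exact map_mono (zpowers_le.mpr (pow_mem hy _)) h2
  have hK' : L' = K := by
    by_contra h
    obtain ⟨k, hk, hkne⟩ := hxk
    refine hkne (mul_right_cancel (b := y) ?_)
    have h3 := hcomm hK hL' (Ne.symm h) k hk _ hmem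
    have h4 := hcomm hK hL hne k hk y hy
    calc x * k * y = x * y * k := by rw [mul_assoc, h4, mul_assoc]
      _ = k * x * y := by rw [← h3, mul_assoc]
  have hLL : L' = L := by
    by_contra h
    obtain ⟨l, hl, hlne⟩ := hyl
    refine hlne (mul_left_cancel (a := x) ?_)
    have h3 := hcomm hL hL' (Ne.symm h) l hl _ hmem
    have h4 := hcomm hK hL hne x hx l hl
    calc x * (y * l) = l * (x * y) := by rw [← mul_assoc, ← h3]
      _ = x * (l * y) := by rw [← mul_assoc, ← mul_assoc, h4]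
  exact hne (hK'.symm.trans hLL)

/-- The layer modulo its centre is simple. -/
theorem layer_simple (hFT : OddSolvable.{u})
    (hP : ∀ A B : Subgroup G, IsCyclic ↥A → IsCyclic ↥B → IsPGroup 2 ↥A → Nat.card ↥A = Nat.card ↥B →
      ∃ g : G, B = A.map (MulAut.conj g).toMonoidHom)
    (hE : Cfsg.layer G ≠ ⊥) :
    IsSimpleGroup (↥(Cfsg.layer G) ⧸ center ↥(Cfsg.layer G)) ∧
      ¬ IsMulCommutative (↥(Cfsg.layer G) ⧸ center ↥(Cfsg.layer G)) := by
  obtain ⟨K, hK⟩ := not_forall_not.mp (fun h => hE (Components.layer_eq_bot_iff.mpr h))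
  have hEK : Cfsg.layer G = K := le_antisymm
    (Components.layer_le_iff.mpr fun L hL => (component_unique hFT hP hL hK).le)
    (Components.component_le_layer hK)
  have hq : Cfsg.IsQuasisimple ↥(Cfsg.layer G) := by rw [hEK]; exact hK.2
  exact ⟨hq.2, Components.qs_quotient_not_comm hq⟩

end Cfsg.Agent.Coprime.CyclicConj
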