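import Cfsg.Agent.Coprime.EndCount
import Mathlib.GroupTheory.PGroup

/-!
An element of prime order `p` without fixed vectors, normalizing an `s`-group `Q` with scalar
commutators, centralizes `Q` modulo the radical, unless `s = 2` and `p = 2 ^ m + 1`.
-/

namespace Cfsg.Agent.Coprime.EndBound

open Weights EndCount
open scoped commutatorElement

variable {k V Q : Type*} [Field k] [AddCommGroup V] [Module k V] [Group Q]

/-- Elements whose images commute with the whole image. -/
def cen (ρ : Q →* Module.End k V) : Subgroup Q where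
  carrier := {x | ∀ y, Commute (ρ x) (ρ y)}
  one_mem' y := by rw [map_one]; exact Commute.one_left _
  mul_mem' ha hb y := by rw [map_mul]; exact (ha y).mul_left (hb y)
  inv_mem' {a} ha y := by
    show ρ a⁻¹ * ρ y = ρ y * ρ a⁻¹
    calc ρ a⁻¹ * ρ y = ρ a⁻¹ * (ρ y * ρ a) * ρ a⁻¹ := by
          rw [mul_assoc, mul_assoc, ← map_mul ρ a a⁻¹, mul_inv_cancel, map_one, mul_one]
      _ = _ := by
          rw [← (ha y).eq, ← mul_assoc (ρ a⁻¹) (ρ a), ← map_mul, inv_mul_cancel, map_one, one_mul]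

theorem mem_cen {ρ : Q →* Module.End k V} {x : Q} : x ∈ cen ρ ↔ ∀ y, Commute (ρ x) (ρ y) := Iff.rfl

instance (ρ : Q →* Module.End k V) : (cen ρ).Normal where
  conj_mem x hx g y := by
    have : ρ (g * x * g⁻¹) = ρ x := by
      rw [map_mul, map_mul, ← (hx g).eq, mul_assoc, ← map_mul, mul_inv_cancel, map_one, mul_one]
    rw [this]
    exact hx y

/-- The subgroup generated by the displacements of `σ`. -/
def moved (σ : MulAut Q) : Subgroup Q := Subgroup.closure (Set.range fun x => x⁻¹ * σ x)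

theorem mem_moved (σ : MulAut Q) (x : Q) : x⁻¹ * σ x ∈ moved σ :=
  Subgroup.subset_closure ⟨x, rfl⟩

theorem moved_map_mem {σ : MulAut Q} {x : Q} (hx : x ∈ moved σ) : σ x ∈ moved σ := by
  induction hx using Subgroup.closure_induction with
  | mem y hy => obtain ⟨z, rfl⟩ := hy; rw [map_mul, map_inv]; exact mem_moved σ (σ z)
  | one => rw [map_one]; exact one_mem _
  | mul a b _ _ ha hb => rw [map_mul]; exact mul_mem ha hb
  | inv a _ ha => rw [map_inv]; exact inv_mem ha

variable {ρ : Q →* Module.End k V} {σ : MulAut Q} {T : Module.End k V}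

theorem cen_map_mem {p : ℕ} (hp : p ≠ 0) (hT : T ^ p = 1) (hcompat : ∀ x, T * ρ x = ρ (σ x) * T)
    {x : Q} (hx : x ∈ cen ρ) : σ x ∈ cen ρ := by
  intro y
  obtain ⟨z, rfl⟩ := σ.surjective y
  let Tu := Units.ofPowEqOne T p hT hp
  have h : ∀ a, ρ (σ a) = T * ρ a * ((Tu⁻¹ : (Module.End k V)ˣ) : Module.End k V) := fun a => by
    rw [hcompat a, mul_assoc]
    exact ((congrArg (ρ (σ a) * ·) Tu.mul_inv).trans (mul_one _)).symm
  show ρ (σ x) * ρ (σ z) = ρ (σ z) * ρ (σ x)
  rw [← map_mul, ← map_mul, ← map_mul, ← map_mul, h, h, map_mul, map_mul, (hx z).eq]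

/-- Elements fixed modulo the radical commute with the displacements. -/
theorem commute_of_mem_moved [Nontrivial V] (hcomm : ∀ x y : Q, ∃ c : k, ρ ⁅x, y⁆ = c • 1)
    (hcompat : ∀ x, T * ρ x = ρ (σ x) * T) {p : ℕ} (hp : p ≠ 0) (hT : T ^ p = 1) {c : Q}
    (hc : c⁻¹ * σ c ∈ cen ρ) {u : Q} (hu : u ∈ moved σ) : Commute (ρ u) (ρ c) := by
  induction hu using Subgroup.closure_induction with
  | one => rw [map_one]; exact Commute.one_left _
  | mul a b _ _ ha hb => rw [map_mul]; exact ha.mul_left hb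
  | inv a _ ha =>
    show ρ a⁻¹ * ρ c = ρ c * ρ a⁻¹
    calc ρ a⁻¹ * ρ c = ρ a⁻¹ * (ρ c * ρ a) * ρ a⁻¹ := by
          rw [mul_assoc, mul_assoc, ← map_mul ρ a a⁻¹, mul_inv_cancel, map_one, mul_one]
      _ = _ := by
          rw [← ha.eq, ← mul_assoc (ρ a⁻¹) (ρ a), ← map_mul, inv_mul_cancel, map_one, one_mul]
  | mem y hy =>
    obtain ⟨x, rfl⟩ := hy
    show ρ (x⁻¹ * σ x) * ρ c = ρ c * ρ (x⁻¹ * σ x)
    obtain ⟨a, ha⟩ := hcomm x c
    let Tu := Units.ofPowEqOne T p hT hp
    -- `σ` fixes the scalar attached to `⁅x, c⁆`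
    have h1 : ρ ⁅σ x, σ c⁆ = a • 1 := by
      have := hcompat ⁅x, c⁆
      rw [ha, map_commutatorElement, mul_smul_comm, mul_one] at this
      calc ρ ⁅σ x, σ c⁆ = ρ ⁅σ x, σ c⁆ * T * ((Tu⁻¹ : (Module.End k V)ˣ) : Module.End k V) := by
            rw [mul_assoc]
            exact ((congrArg (ρ ⁅σ x, σ c⁆ * ·) Tu.mul_inv).trans (mul_one _)).symm
        _ = _ := by rw [← this, smul_mul_assoc]; exact congrArg (a • ·) Tu.mul_inv
    have h2 : ρ ⁅σ x, c⁆ = a • 1 := by
      have e : σ c = c * (c⁻¹ * σ c) := by group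
      have hz : Commute (ρ (c⁻¹ * σ c)) (ρ (σ x)) := hc _
      rw [e] at h1
      have e4 : ⁅σ x, c * (c⁻¹ * σ c)⁆ = ⁅σ x, c⁆ * (c * ⁅σ x, c⁻¹ * σ c⁆ * c⁻¹) := by
        simp only [commutatorElement_def]; group
      have e5 : ρ ⁅σ x, c⁻¹ * σ c⁆ = 1 := by
        rw [commutatorElement_def, map_mul, map_mul, map_mul, ← hz.eq,
          mul_assoc (ρ (c⁻¹ * σ c)) (ρ (σ x)) (ρ (σ x)⁻¹), ← map_mul ρ (σ x), mul_inv_cancel, map_one,
          mul_one, ← map_mul, mul_inv_cancel, map_one]
      rw [e4, map_mul, map_mul, map_mul, e5, mul_one, ← map_mul ρ c, mul_inv_cancel, map_one,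
        mul_one] at h1
      exact h1
    rw [← map_mul, ← map_mul]
    have key : ρ (⁅x, c⁆⁻¹ * ⁅σ x, c⁆) = 1 := by
      rw [map_mul, h2, ← ha, ← map_mul, inv_mul_cancel, map_one]
    have e3 : x⁻¹ * σ x * c = x⁻¹ * (⁅x, c⁆ * (⁅x, c⁆⁻¹ * ⁅σ x, c⁆)) * (c * σ x) := by
      simp only [commutatorElement_def]; group
    rw [e3, map_mul, map_mul, map_mul ρ ⁅x, c⁆, key, mul_one, ← map_mul, ← map_mul]
    congr 1
    simp only [commutatorElement_def]; group

variable [Finite Q]

/-- `Q` is generated by the displacements and the elements fixed modulo the radical. -/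
theorem mem_of_moved_of_fixed {s p : ℕ} [Fact s.Prime] (hQ : IsPGroup s Q) (hp : p.Prime) (hsp : p ≠ s)
    (hcomm : ∀ x y : Q, ∃ c : k, ρ ⁅x, y⁆ = c • 1) (hT : T ^ p = 1)
    (hcompat : ∀ x, T * ρ x = ρ (σ x) * T) (K : Subgroup Q) (hm : moved σ ≤ K)
    (hf : ∀ c, c⁻¹ * σ c ∈ cen ρ → c ∈ K) (x : Q) : x ∈ K := by
  have hcenmem : ∀ a b : Q, ⁅a, b⁆ ∈ cen ρ := by
    intro a b y
    obtain ⟨c, hc⟩ := hcomm a b
    rw [hc]
    exact (Commute.one_left _).smul_left c
  have hK : cen ρ ≤ K := fun z hz =>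
    hf z (mul_mem (inv_mem hz) (cen_map_mem hp.ne_zero hT hcompat hz))
  let _ : CommGroup (Q ⧸ cen ρ) :=
    { (inferInstance : Group (Q ⧸ cen ρ)) with
      mul_comm := fun a b => by
        obtain ⟨a, rfl⟩ := QuotientGroup.mk_surjective a
        obtain ⟨b, rfl⟩ := QuotientGroup.mk_surjective b
        rw [← QuotientGroup.mk_mul, ← QuotientGroup.mk_mul, QuotientGroup.eq]
        have h := hcenmem b⁻¹ a⁻¹
        rw [commutatorElement_def, inv_inv, inv_inv] at h
        rwa [mul_inv_rev, ← mul_assoc] }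
  let π : Q →* Q ⧸ cen ρ := QuotientGroup.mk' (cen ρ)
  have hπp : π ((σ ^ p) x) = π x := by
    have hpow : ∀ n y, T ^ n * ρ y = ρ ((σ ^ n) y) * T ^ n := by
      intro n
      induction n with
      | zero => simp
      | succ n ih =>
        intro y
        rw [pow_succ', mul_assoc, ih, ← mul_assoc, hcompat, mul_assoc, pow_succ', MulAut.mul_apply]
    have := hpow p x
    rw [hT, one_mul, mul_one] at this
    refine ((QuotientGroup.eq (s := cen ρ)).mpr ?_).symm
    intro y
    rw [map_mul, ← this, ← map_mul, inv_mul_cancel, map_one]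
    exact Commute.one_left _
  obtain ⟨y, hy⟩ : ∃ y, π y = ∏ i ∈ Finset.range p, π ((σ ^ i) x) :=
    QuotientGroup.mk'_surjective _ _
  have hyK : y ∈ K := by
    refine hf y ((QuotientGroup.eq_one_iff _).mp ?_)
    show π (y⁻¹ * σ y) = 1
    have hshift : π (σ y) = π y := by
      have hσ : ∀ a b, π a = π b → π (σ a) = π (σ b) := by
        intro a b hab
        refine QuotientGroup.eq.mpr ?_
        rw [← map_inv, ← map_mul]
        exact cen_map_mem hp.ne_zero hT hcompat (QuotientGroup.eq.mp hab)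
      obtain ⟨n, hn⟩ : ∃ n, p = n + 1 := ⟨p - 1, (Nat.succ_pred_eq_of_pos hp.pos).symm⟩
      obtain ⟨z, hz⟩ : ∃ z : Q, π z = ∏ i ∈ Finset.range n, π ((σ ^ (i + 1)) x) :=
        QuotientGroup.mk'_surjective _ _
      have key : ∀ (n : ℕ) (y : Q), π y = ∏ i ∈ Finset.range n, π ((σ ^ i) x) →
          π (σ y) = ∏ i ∈ Finset.range n, π ((σ ^ (i + 1)) x) := by
        intro n
        induction n with
        | zero =>
          intro y hy
          rw [Finset.prod_range_zero] at hy ⊢
          rw [hσ y 1 (by rw [hy, map_one]), map_one, map_one]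
        | succ m ih =>
          intro y hy
          obtain ⟨w, hw⟩ : ∃ w, π w = ∏ i ∈ Finset.range m, π ((σ ^ i) x) :=
            QuotientGroup.mk'_surjective _ _
          rw [Finset.prod_range_succ, ← hw, ← map_mul] at hy
          rw [hσ y _ hy, map_mul, map_mul, ih w hw, Finset.prod_range_succ, pow_succ' σ m,
            MulAut.mul_apply]
      rw [key p y hy, hn, Finset.prod_range_succ, hy, hn, Finset.prod_range_succ', pow_zero,
        MulAut.one_apply, ← hn, hπp]
    rw [map_mul, map_inv, hshift, inv_mul_cancel]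
  have hsplit : x ^ p ∈ K := by
    have hmem : ∀ i, (σ ^ i) x * x⁻¹ ∈ K := by
      intro i
      induction i with
      | zero => simp
      | succ i ih =>
        have e : (σ ^ (i + 1)) x * x⁻¹ = ((σ ^ i) x) * (((σ ^ i) x)⁻¹ * σ ((σ ^ i) x)) *
            ((σ ^ i) x)⁻¹ * ((σ ^ i) x * x⁻¹) := by
          rw [pow_succ' σ i, MulAut.mul_apply]; group
        rw [e]
        refine mul_mem ?_ ih
        have : ⁅(σ ^ i) x, ((σ ^ i) x)⁻¹ * σ ((σ ^ i) x)⁆ *
            (((σ ^ i) x)⁻¹ * σ ((σ ^ i) x)) ∈ K := mul_mem (hK (hcenmem _ _)) (hm (mem_moved σ _))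
        simpa [commutatorElement_def, mul_assoc] using this
    have hprod : ∀ n : ℕ, ∃ z ∈ K, π (x ^ n) * π z = ∏ i ∈ Finset.range n, π ((σ ^ i) x) := by
      intro n
      induction n with
      | zero => exact ⟨1, one_mem _, by simp⟩
      | succ n ih =>
        obtain ⟨z, hzK, hz⟩ := ih
        refine ⟨z * ((σ ^ n) x * x⁻¹), mul_mem hzK (hmem n), ?_⟩
        rw [Finset.prod_range_succ, ← hz, map_mul, map_mul, pow_succ, map_mul, map_inv]
        rw [mul_comm (π ((σ ^ n) x)) (π x)⁻¹]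
        simp only [mul_assoc]
        rw [mul_left_comm (π x) (π z), mul_inv_cancel_left]
    obtain ⟨z, hzK, hz⟩ := hprod p
    rw [← hy, ← map_mul] at hz
    have hh := hK (QuotientGroup.eq.mp hz)
    have e : x ^ p = (y * ((x ^ p * z)⁻¹ * y)⁻¹) * z⁻¹ := by group
    rw [e]
    exact mul_mem (mul_mem hyK (inv_mem hh)) (inv_mem hzK)
  have hord : (orderOf x).Coprime p := by
    obtain ⟨j, hj⟩ := IsPGroup.iff_orderOf.mp hQ x
    rw [hj]
    exact Nat.Coprime.pow_left _ ((Nat.coprime_primes Fact.out hp).mpr (Ne.symm hsp))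
  obtain ⟨m, hm'⟩ := exists_pow_eq_self_of_coprime hord.symm
  rw [← hm']
  exact pow_mem hsplit m

variable [IsAlgClosed k] [FiniteDimensional k V] [Nontrivial V]

/-- A setting with an element of prime order: the dichotomy on the index. -/
theorem index_dichotomy {N : Subgroup Q} [N.Normal] {s p : ℕ} [Fact s.Prime] [Fact p.Prime]
    (hQ : IsPGroup s Q) (hsk : (s : k) ≠ 0) (hpk : (p : k) ≠ 0) (S : Setting ρ N) (σ : MulAut Q)
    (T : Module.End k V) (hT : T ^ p = 1) (hsum : ∑ i ∈ Finset.range p, T ^ i = 0)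
    (hcompat : ∀ x, T * ρ x = ρ (σ x) * T) (hfpf : ∀ x, x⁻¹ * σ x ∈ N → x ∈ N) :
    N.index = 1 ∨ s = 2 ∧ ∃ m, 0 < m ∧ p = 2 ^ m + 1 ∧ N.index = 2 ^ (2 * m) := by
  classical
  obtain ⟨j, hj⟩ := IsPGroup.iff_card.mp hQ
  obtain ⟨i, -, hi⟩ := (Nat.dvd_prime_pow (Fact.out : s.Prime)).mp (hj ▸ N.index_dvd_card)
  have hU : (N.index : k) ≠ 0 := by rw [hi, Nat.cast_pow]; exact pow_ne_zero _ hsk
  obtain ⟨hdvd, hle⟩ := S.count hU hpk σ T hT hsum hcompat hfpf
  -- an irreducible constituent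
  have hex : ∃ d, ∃ W : Submodule k V, W ≠ ⊥ ∧ (∀ x, ∀ v ∈ W, ρ x v ∈ W) ∧ Module.finrank k W = d :=
    ⟨_, ⊤, top_ne_bot, fun _ _ _ => Submodule.mem_top, rfl⟩
  obtain ⟨W, hW0, hWinv, hWd⟩ := Nat.find_spec hex
  let ρW : Q →* Module.End k W :=
    { toFun := fun x => (ρ x).restrict (hWinv x)
      map_one' := LinearMap.ext fun v => Subtype.ext (by simp)
      map_mul' := fun x y => LinearMap.ext fun v => Subtype.ext (by simp) }
  have hWne : Nontrivial W := Submodule.nontrivial_iff_ne_bot.mpr hW0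
  have SW : Setting ρW N := by
    refine ⟨fun x y => ?_, fun x hx => ?_, fun x hx => ?_⟩
    · obtain ⟨c, hc⟩ := S.comm x y
      exact ⟨c, LinearMap.ext fun v => Subtype.ext (congrArg (fun f : Module.End k V => f v) hc)⟩
    · obtain ⟨c, hc⟩ := S.scal x hx
      exact ⟨c, LinearMap.ext fun v => Subtype.ext (congrArg (fun f : Module.End k V => f v) hc)⟩
    · refine S.nondeg x fun y => ?_
      obtain ⟨c, hc⟩ := S.comm x y
      have hcW : ρW ⁅x, y⁆ = c • 1 :=
        LinearMap.ext fun v => Subtype.ext (congrArg (fun f : Module.End k V => f v) hc)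
      have h1 : ρW ⁅x, y⁆ = 1 := by
        rw [commutatorElement_def, map_mul, map_mul, map_mul, (hx y).eq, mul_assoc (ρW y),
          ← map_mul ρW x, mul_inv_cancel, map_one, mul_one, ← map_mul, mul_inv_cancel, map_one]
      rw [hcW] at h1
      have hc1 : c = 1 :=
        smul_left_injective k (one_ne_zero (α := Module.End k W))
          (by simpa only [one_smul] using h1)
      rw [hc1, one_smul] at hc
      show ρ x * ρ y = ρ y * ρ x
      have : ρ (x * y) = ρ (⁅x, y⁆ * (y * x)) := by rw [commutatorElement_def]; group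
      rw [← map_mul, this, map_mul, hc, one_mul, map_mul]
  have hn := SW.index_eq_sq hU fun W' hW' => by
    by_cases h0 : W' = ⊥
    · exact Or.inl h0
    · refine Or.inr ?_
      have hinv : ∀ x, ∀ v ∈ W'.map W.subtype, ρ x v ∈ W'.map W.subtype := by
        rintro x _ ⟨v, hv, rfl⟩
        exact ⟨ρW x v, hW' x v hv, rfl⟩
      have hne : W'.map W.subtype ≠ ⊥ := fun h => h0 (by
        rwa [← Submodule.finrank_eq_zero, Submodule.finrank_map_subtype_eq, Submodule.finrank_eq_zero] at h)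
      have := Nat.find_min' hex ⟨_, hne, hinv, rfl⟩
      rw [← hWd, Submodule.finrank_map_subtype_eq] at this
      exact Submodule.eq_top_of_finrank_eq (le_antisymm (Submodule.finrank_le _) this)
  set n := Module.finrank k W with hndef
  obtain ⟨m, -, hm⟩ := (Nat.dvd_prime_pow (Fact.out : s.Prime)).mp
    (show n ∣ s ^ i from ⟨n, by rw [← hi, hn]⟩)
  rcases Nat.eq_zero_or_pos m with rfl | hm0
  · left
    rw [hn, hm]
    simp
  right
  have hp : p.Prime := Fact.out
  have hs : s.Prime := Fact.out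
  have hn2 : 2 ≤ n := hm ▸ hs.two_le.trans (Nat.le_self_pow hm0.ne' s)
  rw [hn] at hdvd hle
  have hnp : n ≤ p - 1 := Nat.mul_self_le_mul_self_iff.mp hle
  have hp2 : p = n + 1 := by
    obtain ⟨o, ho⟩ : ∃ o, n = o + 1 := ⟨n - 1, by omega⟩
    rw [ho, show (o + 1) * (o + 1) - 1 = o * (o + 2) by ring_nf; omega] at hdvd
    rcases hp.dvd_mul.mp hdvd with h | h
    · have := Nat.le_of_dvd (by omega) h; omega
    · have := Nat.le_of_dvd (by omega) h; omega
  have hs2 : s = 2 := by
    have hodd : p % 2 = 1 := Nat.odd_iff.mp (hp.odd_of_ne_two (by omega))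
    have h2 : 2 ∣ s ^ m := by rw [← hm]; omega
    exact ((Nat.prime_dvd_prime_iff_eq Nat.prime_two hs).mp (Nat.prime_two.dvd_of_dvd_pow h2)).symm
  subst hs2
  exact ⟨rfl, m, hm0, by rw [hp2, hm], by rw [hn, hm, ← pow_add, two_mul]⟩

/-- The dichotomy for an element without fixed vectors on a group with scalar commutators. -/
theorem moved_le_cen_or_fermat {s p : ℕ} [Fact s.Prime] [Fact p.Prime] (hQ : IsPGroup s Q)
    (hsp : p ≠ s) (hsk : (s : k) ≠ 0) (hpk : (p : k) ≠ 0)
    (hcomm : ∀ x y : Q, ∃ c : k, ρ ⁅x, y⁆ = c • 1) (σ : MulAut Q) (T : Module.End k V)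
    (hT : T ^ p = 1) (hsum : ∑ i ∈ Finset.range p, T ^ i = 0)
    (hcompat : ∀ x, T * ρ x = ρ (σ x) * T) :
    moved σ ≤ cen ρ ∨ s = 2 ∧ ∃ m, 0 < m ∧ p = 2 ^ m + 1 ∧
      ((cen ρ).subgroupOf (moved σ)).index = 2 ^ (2 * m) := by
  classical
  have hp : p.Prime := Fact.out
  set Q1 := moved σ with hQ1
  set N1 := (cen ρ).subgroupOf Q1 with hN1
  have horth : ∀ c, c⁻¹ * σ c ∈ cen ρ → ∀ u ∈ Q1, Commute (ρ u) (ρ c) := fun c hc u hu =>
    commute_of_mem_moved hcomm hcompat hp.ne_zero hT hc hu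
  have hrad : ∀ x : Q, (∀ y ∈ Q1, Commute (ρ x) (ρ y)) → x ∈ Q1 → x ∈ cen ρ := by
    intro x hx hx1 y
    let K : Subgroup Q :=
      { carrier := {y | Commute (ρ x) (ρ y)}
        one_mem' := by show Commute _ _; rw [map_one]; exact Commute.one_right _
        mul_mem' := fun {a b} ha hb => by
          show Commute _ _; rw [map_mul]; exact Commute.mul_right ha hb
        inv_mem' := fun {a} ha => by
          show Commute (ρ x) (ρ a⁻¹)
          let u := ρ.toHomUnits a
          have : Commute (ρ x) ((u : (Module.End k V)ˣ) : Module.End k V) := ha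
          exact (map_inv ρ.toHomUnits a ▸ this.units_inv_right : Commute (ρ x) ((ρ.toHomUnits a⁻¹ : (Module.End k V)ˣ) : Module.End k V)) }
    exact mem_of_moved_of_fixed hQ hp hsp hcomm hT hcompat K hx (fun c hc => horth c hc x hx1) y
  -- the image of the radical
  let Tu : (Module.End k V)ˣ := Units.ofPowEqOne T p hT hp.ne_zero
  let ι : ↥(Q1 ⊓ cen ρ) →* (Module.End k V)ˣ := ρ.toHomUnits.comp (Q1 ⊓ cen ρ).subtype
  have hιcomm : ∀ a b : ι.range, a * b = b * a := by
    rintro ⟨_, a, rfl⟩ ⟨_, b, rfl⟩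
    exact Subtype.ext (Units.ext (a.2.2 (b : Q)).eq)
  let _ : CommGroup ι.range := { (inferInstance : Group ι.range) with mul_comm := hιcomm }
  have : Finite ι.range := Finite.of_surjective _ ι.rangeRestrict_surjective
  have hconj : ∀ u ∈ ι.range, Tu * u * Tu⁻¹ ∈ ι.range := by
    rintro _ ⟨a, rfl⟩
    refine ⟨⟨σ a, moved_map_mem a.2.1, cen_map_mem hp.ne_zero hT hcompat a.2.2⟩, ?_⟩
    rw [eq_mul_inv_iff_mul_eq]
    exact Units.ext (hcompat a).symm
  have hTun : Tu ∈ Subgroup.normalizer (ι.range : Set (Module.End k V)ˣ) := by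
    refine Subgroup.mem_normalizer_iff.mpr fun u => ⟨hconj u, fun hu => ?_⟩
    have hiter : ∀ (n : ℕ) (u : (Module.End k V)ˣ), u ∈ ι.range → Tu ^ n * u * (Tu ^ n)⁻¹ ∈ ι.range := by
      intro n
      induction n with
      | zero => simp
      | succ n ih =>
        intro u hu
        have := hconj _ (ih u hu)
        rw [pow_succ', mul_inv_rev]
        simpa only [mul_assoc] using this
    have hTp : Tu ^ p = 1 := Units.ext hT
    have := hiter (p - 1) _ hu
    have e : Tu ^ (p - 1) * (Tu * u * Tu⁻¹) * (Tu ^ (p - 1))⁻¹ = Tu ^ p * u * (Tu ^ p)⁻¹ := by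
      conv_rhs => rw [show p = p - 1 + 1 from (Nat.succ_pred_eq_of_pos hp.pos).symm, pow_succ]
      group
    rwa [e, hTp, one_mul, inv_one, mul_one] at this
  let σ0 : MulAut ι.range := Subgroup.normalizerMonoidHom ι.range ⟨Tu, hTun⟩
  let τ : ι.range →* Module.End k V := (Units.coeHom _).comp ι.range.subtype
  have hUk : (Nat.card ι.range : k) ≠ 0 := by
    obtain ⟨j, hj⟩ := IsPGroup.iff_card.mp hQ
    obtain ⟨i, -, hi⟩ := (Nat.dvd_prime_pow (Fact.out : s.Prime)).mp
      (hj ▸ (Subgroup.card_range_dvd ι).trans (Subgroup.card_subgroup_dvd_card _))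
    rw [hi, Nat.cast_pow]
    exact pow_ne_zero _ hsk
  have hg : ∀ (n : ℕ) (u : ι.range), T ^ n * τ u = τ ((σ0 ^ n) u) * T ^ n := by
    intro n
    induction n with
    | zero => simp
    | succ n ih =>
      intro u
      rw [pow_succ', mul_assoc, ih, ← mul_assoc, pow_succ' σ0, MulAut.mul_apply]
      conv_rhs => rw [← mul_assoc]
      congr 1
      set w := (σ0 ^ n) u
      show (Tu : Module.End k V) * _ = ((Tu * (w : (Module.End k V)ˣ) * Tu⁻¹ : (Module.End k V)ˣ) : Module.End k V) * (Tu : Module.End k V)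
      rw [← Units.val_mul, inv_mul_cancel_right, Units.val_mul]
      rfl
  obtain ⟨ψ, hψ⟩ : ∃ ψ : ι.range →* kˣ, proj τ ψ ≠ 0 := by
    by_contra h
    push Not at h
    have := finite_chars (U := ι.range) hUk
    let _ := Fintype.ofFinite (ι.range →* kˣ)
    have h1 := sum_proj hUk τ
    simp only [h, Finset.sum_const_zero] at h1
    exact zero_ne_one h1
  -- the weight is fixed by `T`
  have hfixψ : ∀ u, ψ (σ0 u) = ψ u := by
    by_contra hne
    let St : Subgroup (MulAut ι.range) :=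
      { carrier := {t | ∀ u, ψ (t u) = ψ u}
        one_mem' := fun u => rfl
        mul_mem' := fun {a b} ha hb u => (ha (b u)).trans (hb u)
        inv_mem' := fun {a} ha u => by rw [← ha (a⁻¹ u), MulAut.apply_inv_self] }
    have hσp : σ0 ^ p = 1 := by
      show Subgroup.normalizerMonoidHom ι.range ⟨Tu, hTun⟩ ^ p = 1
      rw [← map_pow, show (⟨Tu, hTun⟩ : Subgroup.normalizer (ι.range : Set (Module.End k V)ˣ)) ^ p = 1
        from Subtype.ext (Units.ext hT), map_one]
    have hi : ∀ i ∈ Finset.range p, i ≠ 0 → proj τ ψ * T ^ i * proj τ ψ = 0 := by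
      intro i hi hi0
      rw [mul_assoc, mul_proj_of_conj (hg i), ← mul_assoc, proj_mul_proj, zero_mul]
      intro heq
      have hmem : (σ0 ^ i) ∈ St := fun u => by
        conv_lhs => rw [heq]
        show ψ ((σ0 ^ i).symm ((σ0 ^ i) u)) = ψ u
        rw [MulEquiv.symm_apply_apply]
      have hcop : i.Coprime (orderOf σ0) := Nat.Coprime.coprime_dvd_right
        (orderOf_dvd_of_pow_eq_one hσp)
        ((hp.coprime_iff_not_dvd.mpr (Nat.not_dvd_of_pos_of_lt (Nat.pos_of_ne_zero hi0)
          (Finset.mem_range.mp hi))).symm)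
      obtain ⟨m, hm⟩ := exists_pow_eq_self_of_coprime hcop
      exact hne fun u => (hm ▸ pow_mem hmem m : σ0 ∈ St) u
    refine hψ ?_
    have h0 : proj τ ψ * (∑ i ∈ Finset.range p, T ^ i) * proj τ ψ = 0 := by
      rw [hsum, mul_zero, zero_mul]
    rw [Finset.mul_sum, Finset.sum_mul, Finset.sum_eq_single 0 hi
      (fun h => absurd (Finset.mem_range.mpr hp.pos) h), pow_zero, mul_one, proj_mul_self hUk] at h0
    exact h0
  set V' := LinearMap.range (proj τ ψ) with hV'
  have : Nontrivial V' := Submodule.nontrivial_iff_ne_bot.mpr (mt LinearMap.range_eq_bot.mp hψ)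
  have hQinv : ∀ x, ∀ v ∈ V', ρ x v ∈ V' := by
    intro x v hv
    rw [hV', mem_range_iff hUk] at hv ⊢
    rintro ⟨_, a, rfl⟩
    show ρ (a : Q) (ρ x v) = _
    have := congrArg (fun f : Module.End k V => f v) (a.2.2 x).eq
    simp only [Module.End.mul_apply] at this
    rw [this, show ρ (a : Q) v = _ from hv ⟨_, a, rfl⟩, map_smul]
  have hTinv : ∀ v ∈ V', T v ∈ V' := by
    intro v hv
    rw [hV', mem_range_iff hUk] at hv ⊢
    intro u
    obtain ⟨w, rfl⟩ := σ0.surjective u
    have := congrArg (fun f : Module.End k V => f v) (hg 1 w)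
    simp only [pow_one, Module.End.mul_apply] at this
    rw [← this, hv w, map_smul, hfixψ]
  let ρ' : Q1 →* Module.End k V' :=
    { toFun := fun x => (ρ x).restrict (hQinv x)
      map_one' := LinearMap.ext fun v => Subtype.ext (by simp)
      map_mul' := fun x y => LinearMap.ext fun v => Subtype.ext (by simp) }
  let T' : Module.End k V' := T.restrict hTinv
  have S : Setting ρ' N1 := by
    refine ⟨fun x y => ?_, fun x hx => ?_, fun x hx => ?_⟩
    · obtain ⟨c, hc⟩ := hcomm x y
      exact ⟨c, LinearMap.ext fun v => Subtype.ext (congrArg (fun f : Module.End k V => f v) hc)⟩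
    · refine ⟨(ψ ⟨_, ⟨x, x.2, hx⟩, rfl⟩ : kˣ), LinearMap.ext fun v => Subtype.ext ?_⟩
      exact (mem_range_iff hUk).mp v.2 ⟨_, ⟨x, x.2, hx⟩, rfl⟩
    · refine hrad x (fun y hy => ?_) x.2
      obtain ⟨c, hc⟩ := hcomm x y
      let y' : Q1 := ⟨y, hy⟩
      have hcW : ρ' ⁅x, y'⁆ = c • 1 :=
        LinearMap.ext fun v => Subtype.ext (congrArg (fun f : Module.End k V => f v) hc)
      have h1 : ρ' ⁅x, y'⁆ = 1 := by
        rw [commutatorElement_def, map_mul, map_mul, map_mul, (hx y').eq, mul_assoc (ρ' y'),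
          ← map_mul ρ' x, mul_inv_cancel, map_one, mul_one, ← map_mul, mul_inv_cancel, map_one]
      rw [hcW] at h1
      have hc1 : c = 1 :=
        smul_left_injective k (one_ne_zero (α := Module.End k V'))
          (by simpa only [one_smul] using h1)
      rw [hc1, one_smul] at hc
      show ρ x * ρ y = ρ y * ρ x
      have : ρ (x * y) = ρ (⁅(x : Q), y⁆ * (y * x)) := by rw [commutatorElement_def]; group
      rw [← map_mul, this, map_mul, hc, one_mul, map_mul]
  let f1 : Q1 →* Q1 :=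
    { toFun := fun x => ⟨σ x, moved_map_mem x.2⟩
      map_one' := Subtype.ext (map_one σ)
      map_mul' := fun x y => Subtype.ext (map_mul σ (x : Q) (y : Q)) }
  let σ1 : MulAut Q1 := MulEquiv.ofBijective f1
    (Finite.injective_iff_bijective.mp fun x y h => Subtype.ext (σ.injective (congrArg Subtype.val h)))
  have hT' : ∀ n v, (((T' ^ n) v : V') : V) = (T ^ n) v := by
    intro n
    induction n with
    | zero => intro v; rfl
    | succ n ih => intro v; rw [pow_succ', pow_succ', Module.End.mul_apply, Module.End.mul_apply, ← ih]; rfl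
  rcases index_dichotomy (hQ.to_subgroup Q1) hsk hpk S σ1 T'
      (LinearMap.ext fun v => Subtype.ext (by rw [hT', hT]; rfl))
      (LinearMap.ext fun v => Subtype.ext (by
        simp only [LinearMap.sum_apply, Submodule.coe_sum, hT', LinearMap.zero_apply, Submodule.coe_zero]
        have := congrArg (fun f : Module.End k V => f v) hsum
        simpa only [LinearMap.sum_apply, LinearMap.zero_apply] using this))
      (fun x => LinearMap.ext fun v => Subtype.ext (congrArg (fun f : Module.End k V => f v) (hcompat x)))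
      (fun x hx => hrad x (fun y hy => (horth x hx y hy).symm) x.2) with h | h
  · left
    intro x hx
    have : N1 = ⊤ := Subgroup.index_eq_one.mp h
    exact (this.symm ▸ Subgroup.mem_top (⟨x, hx⟩ : Q1) : (⟨x, hx⟩ : Q1) ∈ N1)
  · exact Or.inr h

end Cfsg.Agent.Coprime.EndBound
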