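import Cfsg.Agent.Coprime.Weights
import Mathlib.Algebra.Order.Chebyshev
import Mathlib.LinearAlgebra.Eigenspace.Triangularizable
import Mathlib.LinearAlgebra.FreeModule.Finite.Matrix
import Mathlib.GroupTheory.GroupAction.Quotient
import Mathlib.GroupTheory.SpecificGroups.Cyclic.Basic
import Mathlib.GroupTheory.QuotientGroup.Basic
import Mathlib.GroupTheory.Commutator.Basic

/-!
Counting argument for an element `T` of prime order with no fixed vector normalizing a group with
scalar commutators: compare the dimension of the commutant of `T` in `End V` computed from the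
eigenspaces of `T` with the one computed from the weight decomposition of `End V`.
-/

namespace Cfsg.Agent.Coprime.EndCount

open Weights
open scoped commutatorElement

variable {k V Q : Type*} [Field k] [AddCommGroup V] [Module k V] [Group Q]

/-- Scalar commutators, `N` scalar and equal to the radical of the commutator pairing. -/
structure Setting (ρ : Q →* Module.End k V) (N : Subgroup Q) : Prop where
  comm : ∀ x y : Q, ∃ c : k, ρ ⁅x, y⁆ = c • 1
  scal : ∀ x ∈ N, ∃ c : k, ρ x = c • 1
  nondeg : ∀ x : Q, (∀ y, Commute (ρ x) (ρ y)) → x ∈ N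

variable {ρ : Q →* Module.End k V} {N : Subgroup Q}

theorem Setting.commute_of_mem (S : Setting ρ N) {x : Q} (hx : x ∈ N) (f : Module.End k V) :
    Commute (ρ x) f := by
  obtain ⟨c, hc⟩ := S.scal x hx
  rw [hc]
  exact (Commute.one_left f).smul_left c

theorem Setting.commutator_mem (S : Setting ρ N) (x y : Q) : ⁅x, y⁆ ∈ N := by
  obtain ⟨c, hc⟩ := S.comm x y
  refine S.nondeg _ fun z => ?_
  rw [hc]
  exact (Commute.one_left _).smul_left c

/-- The quotient by the radical is commutative. -/
@[reducible] def Setting.quotComm [N.Normal] (S : Setting ρ N) : CommGroup (Q ⧸ N) :=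
  { (inferInstance : Group (Q ⧸ N)) with
    mul_comm := fun a b => by
      obtain ⟨x, rfl⟩ := QuotientGroup.mk_surjective a
      obtain ⟨y, rfl⟩ := QuotientGroup.mk_surjective b
      rw [← QuotientGroup.mk_mul, ← QuotientGroup.mk_mul, QuotientGroup.eq]
      have h := S.commutator_mem y⁻¹ x⁻¹
      rw [commutatorElement_def, inv_inv, inv_inv] at h
      rwa [mul_inv_rev, ← mul_assoc] }

/-- Conjugation by `x` on the endomorphism ring. -/
def conjEnd (ρ : Q →* Module.End k V) (x : Q) : Module.End k (Module.End k V) :=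
  LinearMap.mulLeft k (ρ x) ∘ₗ LinearMap.mulRight k (ρ x⁻¹)

@[simp] theorem conjEnd_apply (x : Q) (f : Module.End k V) : conjEnd ρ x f = ρ x * f * ρ x⁻¹ := by
  simp [conjEnd, mul_assoc]

/-- Conjugation as an action of the quotient by the radical. -/
noncomputable def Setting.conjHom [N.Normal] (S : Setting ρ N) :
    Q ⧸ N →* Module.End k (Module.End k V) :=
  QuotientGroup.lift N
    { toFun := conjEnd ρ
      map_one' := LinearMap.ext fun f => by simp
      map_mul' := fun x y => LinearMap.ext fun f => by simp [mul_assoc] }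
    (fun x hx => LinearMap.ext fun f => by
      show conjEnd ρ x f = f
      rw [conjEnd_apply, (S.commute_of_mem hx f).eq, mul_assoc, ← map_mul, mul_inv_cancel, map_one,
        mul_one])

theorem Setting.conjHom_apply [N.Normal] (S : Setting ρ N) (x : Q) (f : Module.End k V) :
    S.conjHom (x : Q ⧸ N) f = ρ x * f * ρ x⁻¹ :=
  conjEnd_apply x f

theorem smul_cancel (ρ : Q →* Module.End k V) [Nontrivial V] {c d : k} (y : Q) (h : c • ρ y = d • ρ y) : c = d := by
  have h' := congrArg (· * ρ y⁻¹) h
  simp only [smul_mul_assoc, ← map_mul, mul_inv_cancel, map_one] at h'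
  exact smul_left_injective k (one_ne_zero (α := Module.End k V)) h'

/-- The pairing given by the commutators. -/
theorem Setting.exists_wtHom [N.Normal] [Nontrivial V] (S : Setting ρ N) :
    ∃ w : Q →* (Q ⧸ N →* kˣ), w.ker = N ∧
      ∀ (y : Q) (u : Q ⧸ N), S.conjHom u (ρ y) = (w y u : k) • ρ y := by
  classical
  have hex : ∀ (y : Q) (u : Q ⧸ N), ∃ c : kˣ, S.conjHom u (ρ y) = (c : k) • ρ y := by
    intro y u
    obtain ⟨x, rfl⟩ := QuotientGroup.mk_surjective u
    obtain ⟨c, hc⟩ := S.comm x y
    have hc0 : c ≠ 0 := by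
      rintro rfl
      rw [zero_smul] at hc
      have : ρ (⁅x, y⁆ * ⁅x, y⁆⁻¹) = 0 := by rw [map_mul, hc, zero_mul]
      rw [mul_inv_cancel, map_one] at this
      exact one_ne_zero this
    refine ⟨Units.mk0 c hc0, ?_⟩
    rw [S.conjHom_apply, Units.val_mk0, ← map_mul, ← map_mul,
      show x * y * x⁻¹ = ⁅x, y⁆ * y by rw [commutatorElement_def]; group, map_mul, hc,
      smul_mul_assoc, one_mul]
  choose f hf using hex
  have hone : ∀ y, f y 1 = 1 := fun y => Units.ext (smul_cancel ρ y (by
    rw [← hf, map_one, Module.End.one_apply, Units.val_one, one_smul]))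
  have hmul : ∀ y u v, f y (u * v) = f y u * f y v := fun y u v => Units.ext (smul_cancel ρ y (by
    rw [← hf, map_mul, Module.End.mul_apply, hf y v, map_smul, hf y u, smul_smul, Units.val_mul,
      mul_comm]))
  have hy : ∀ y z u, f (y * z) u = f y u * f z u := by
    intro y z u
    refine Units.ext (smul_cancel ρ (y * z) ?_)
    obtain ⟨x, rfl⟩ := QuotientGroup.mk_surjective u
    rw [← hf, S.conjHom_apply, Units.val_mul, map_mul, ← smul_mul_smul_comm, ← hf, ← hf,
      S.conjHom_apply, S.conjHom_apply]
    simp only [← map_mul]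
    congr 1
    group
  refine ⟨{ toFun := fun y => { toFun := f y, map_one' := hone y, map_mul' := hmul y }
            map_one' := ?_, map_mul' := ?_ }, ?_, fun y u => hf y u⟩
  · refine MonoidHom.ext fun u => ?_
    obtain ⟨x, rfl⟩ := QuotientGroup.mk_surjective u
    refine Units.ext (smul_cancel ρ 1 ?_)
    show (f 1 (x : Q ⧸ N) : k) • ρ 1 = ((1 : kˣ) : k) • ρ 1
    rw [← hf, S.conjHom_apply, Units.val_one, one_smul, map_one, mul_one, ← map_mul, mul_inv_cancel,
      map_one]
  · intro y z
    exact MonoidHom.ext fun u => hy y z u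
  · ext y
    refine ⟨fun h => S.nondeg y fun z => ?_, fun h => ?_⟩
    · have h1 : f y (z : Q ⧸ N) = 1 := congrArg (fun w : Q ⧸ N →* kˣ => w (z : Q ⧸ N)) h
      have := hf y (z : Q ⧸ N)
      rw [h1, Units.val_one, one_smul, S.conjHom_apply] at this
      show ρ y * ρ z = ρ z * ρ y
      conv_lhs => rw [← this, mul_assoc (ρ z * ρ y) (ρ z⁻¹) (ρ z), ← map_mul ρ z⁻¹ z, inv_mul_cancel, map_one, mul_one]
    · refine MonoidHom.ext fun u => Units.ext (smul_cancel ρ y ?_)
      obtain ⟨x, rfl⟩ := QuotientGroup.mk_surjective u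
      show (f y (x : Q ⧸ N) : k) • ρ y = ((1 : kˣ) : k) • ρ y
      rw [← hf, Units.val_one, one_smul, S.conjHom_apply, ← (S.commute_of_mem h (ρ x)).eq, mul_assoc,
        ← map_mul, mul_inv_cancel, map_one, mul_one]

variable [Finite Q] [IsAlgClosed k] [FiniteDimensional k V] [Nontrivial V]

/-- Every weight space of `End V` has the same dimension. -/
theorem Setting.weights_uniform [N.Normal] (S : Setting ρ N) (hU : (N.index : k) ≠ 0) :
    letI := S.quotComm
    (∀ φ : Q ⧸ N →* kˣ, Module.finrank k (LinearMap.range (proj S.conjHom φ)) =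
        Module.finrank k (LinearMap.range (proj S.conjHom 1))) ∧
      Module.finrank k V * Module.finrank k V =
        N.index * Module.finrank k (LinearMap.range (proj S.conjHom 1)) ∧
      ∀ φ : Q ⧸ N →* kˣ, ∃ y : Q, ∀ u, S.conjHom u (ρ y) = (φ u : k) • ρ y := by
  let _ := S.quotComm
  have hU' : (Nat.card (Q ⧸ N) : k) ≠ 0 := hU
  have := finite_chars (U := Q ⧸ N) hU'
  obtain ⟨w, hker, hw⟩ := S.exists_wtHom
  have hsurj : Function.Surjective w := by
    rw [← MonoidHom.range_eq_top]
    refine Subgroup.eq_top_of_card_eq _ ?_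
    rw [card_chars hU', ← Subgroup.index_ker, hker]
    rfl
  have hle : ∀ (y : Q) (ψ : Q ⧸ N →* kˣ), Module.finrank k (LinearMap.range (proj S.conjHom ψ)) ≤
      Module.finrank k (LinearMap.range (proj S.conjHom (w y * ψ))) := by
    intro y ψ
    refine LinearMap.finrank_le_finrank_of_injective
      (f := (LinearMap.mulLeft k (ρ y)).restrict (p := LinearMap.range (proj S.conjHom ψ))
        (q := LinearMap.range (proj S.conjHom (w y * ψ))) fun f hf => ?_) ?_
    · rw [mem_range_iff hU'] at hf ⊢
      intro u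
      have h1 := hw y u
      have h2 := hf u
      obtain ⟨x, rfl⟩ := QuotientGroup.mk_surjective u
      rw [S.conjHom_apply] at h1 h2
      show S.conjHom (x : Q ⧸ N) (ρ y * f) = _
      rw [S.conjHom_apply, MonoidHom.mul_apply, Units.val_mul]
      calc ρ x * (ρ y * f) * ρ x⁻¹ = (ρ x * ρ y * ρ x⁻¹) * (ρ x * f * ρ x⁻¹) := by
            simp only [mul_assoc]
            rw [← mul_assoc (ρ x⁻¹) (ρ x), ← map_mul ρ x⁻¹ x, inv_mul_cancel, map_one, one_mul]
        _ = _ := by rw [h1, h2, smul_mul_smul_comm]; rfl
    · intro a b hab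
      have hab' : ρ y * (a : Module.End k V) = ρ y * (b : Module.End k V) := congrArg Subtype.val hab
      have := congrArg (fun z => ρ y⁻¹ * z) hab'
      simp only [← mul_assoc, ← map_mul,
        inv_mul_cancel, map_one, one_mul] at this
      exact Subtype.ext this
  have huni : ∀ φ : Q ⧸ N →* kˣ, Module.finrank k (LinearMap.range (proj S.conjHom φ)) =
      Module.finrank k (LinearMap.range (proj S.conjHom 1)) := by
    intro φ
    obtain ⟨y, rfl⟩ := hsurj φ
    refine le_antisymm ?_ ?_
    · have := hle y⁻¹ (w y)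
      rwa [map_inv, inv_mul_cancel] at this
    · have := hle y 1
      have e : (w y * 1 : Q ⧸ N →* kˣ) = w y := MonoidHom.ext fun u => mul_one _
      rwa [e] at this
  refine ⟨huni, ?_, fun φ => ?_⟩
  · let _ := Fintype.ofFinite (Q ⧸ N →* kˣ)
    rw [← Module.finrank_linearMap k k V V,
      finrank_eq_sum hU' S.conjHom, Finset.sum_congr rfl fun φ _ => huni φ, Finset.sum_const,
      Finset.card_univ, ← Nat.card_eq_fintype_card, card_chars hU', smul_eq_mul]
    rfl
  · obtain ⟨y, rfl⟩ := hsurj φ
    exact ⟨y, hw y⟩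

/-- An irreducible setting has `|Q : N| = (dim V)²`. -/
theorem Setting.index_eq_sq (S : Setting ρ N) [N.Normal] (hU : (N.index : k) ≠ 0)
    (hirr : ∀ W : Submodule k V, (∀ x, ∀ v ∈ W, ρ x v ∈ W) → W = ⊥ ∨ W = ⊤) :
    N.index = Module.finrank k V * Module.finrank k V := by
  let _ := S.quotComm
  have hU' : (Nat.card (Q ⧸ N) : k) ≠ 0 := hU
  obtain ⟨-, h2, -⟩ := S.weights_uniform hU
  suffices LinearMap.range (proj S.conjHom 1) = Submodule.span k {(1 : Module.End k V)} by
    rw [h2, this, finrank_span_singleton one_ne_zero, mul_one]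
  refine le_antisymm (fun f hf => ?_) ?_
  · rw [mem_range_iff hU'] at hf
    obtain ⟨μ, hμ⟩ := Module.End.exists_eigenvalue f
    have hcomm : ∀ x, Commute (ρ x) f := by
      intro x
      have := hf (x : Q ⧸ N)
      rw [S.conjHom_apply, MonoidHom.one_apply, Units.val_one, one_smul] at this
      show ρ x * f = f * ρ x
      conv_rhs => rw [← this, mul_assoc (ρ x * f) (ρ x⁻¹) (ρ x), ← map_mul ρ x⁻¹ x, inv_mul_cancel, map_one, mul_one]
    have hinv : ∀ x, ∀ v ∈ f.eigenspace μ, ρ x v ∈ f.eigenspace μ := by
      intro x v hv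
      rw [Module.End.mem_eigenspace_iff] at hv ⊢
      have := congrArg (fun g : Module.End k V => g v) (hcomm x).eq
      simp only [Module.End.mul_apply, hv, map_smul] at this
      exact this.symm
    rcases hirr (f.eigenspace μ) hinv with h | h
    · exact absurd h hμ
    · refine Submodule.mem_span_singleton.mpr ⟨μ, LinearMap.ext fun v => ?_⟩
      have : v ∈ f.eigenspace μ := h ▸ Submodule.mem_top
      rw [Module.End.mem_eigenspace_iff] at this
      simpa using this.symm
  · rw [Submodule.span_le, Set.singleton_subset_iff]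
    refine (mem_range_iff hU').mpr fun u => ?_
    obtain ⟨x, rfl⟩ := QuotientGroup.mk_surjective u
    rw [S.conjHom_apply, MonoidHom.one_apply, Units.val_one, one_smul, mul_one, ← map_mul,
      mul_inv_cancel, map_one]

omit [Finite Q] [IsAlgClosed k] [Nontrivial V] in
/-- Lower bound for the commutant of an element of order `p` without fixed vectors. -/
theorem sq_le_commutant [IsAlgClosed k] {p : ℕ} [Fact p.Prime] (hpk : (p : k) ≠ 0)
    (T : Module.End k V) (hT : T ^ p = 1) (hsum : ∑ i ∈ Finset.range p, T ^ i = 0)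
    (F : Submodule k (Module.End k V)) (hF : ∀ f, Commute T f → f ∈ F) :
    Module.finrank k V * Module.finrank k V ≤ (p - 1) * Module.finrank k F := by
  classical
  have hp : p.Prime := Fact.out
  rcases subsingleton_or_nontrivial V with hV | hV
  · rw [Module.finrank_zero_of_subsingleton]
    simp
  let Tu : (Module.End k V)ˣ := Units.ofPowEqOne T p hT hp.ne_zero
  have hTu : orderOf Tu = p := by
    refine orderOf_eq_prime (Units.ext hT) fun h => ?_
    have h1 : T = 1 := congrArg Units.val h
    rw [h1] at hsum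
    simp only [one_pow, Finset.sum_const, Finset.card_range, ← Nat.cast_smul_eq_nsmul k] at hsum
    exact hpk ((smul_eq_zero.mp hsum).resolve_right one_ne_zero)
  have hfin : IsOfFinOrder Tu := orderOf_pos_iff.mp (hTu ▸ hp.pos)
  let B := Subgroup.zpowers Tu
  have : Finite B := hfin.finite_zpowers
  let _ : CommGroup B := { (inferInstance : Group B) with mul_comm := mul_comm' }
  have hBcard : Nat.card B = p := by rw [Nat.card_zpowers, hTu]
  have hB : (Nat.card B : k) ≠ 0 := by rwa [hBcard]
  let τ : B →* Module.End k V := (Units.coeHom (Module.End k V)).comp B.subtype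
  have := finite_chars (U := B) hB
  let _ := Fintype.ofFinite (B →* kˣ)
  have hone : proj τ 1 = 0 := by
    let _ := Fintype.ofFinite B
    have : ∑ u : B, τ u = 0 := by
      rw [← hsum, ← Fin.sum_univ_eq_sum_range (fun i => T ^ i) p]
      refine (Fintype.sum_equiv ((finCongr hTu.symm).trans (finEquivZPowers hfin)) _ _ fun i => ?_).symm
      simp [τ, Tu, B, finEquivZPowers_apply]
    simp only [proj, MonoidHom.one_apply, inv_one, Units.val_one, one_smul, this, smul_zero]
  let d : (B →* kˣ) → ℕ := fun χ => Module.finrank k (LinearMap.range (proj τ χ))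
  have hd1 : d 1 = 0 := by simp [d, hone]
  have hN : Module.finrank k V = ∑ χ ∈ Finset.univ.erase 1, d χ := by
    rw [finrank_eq_sum hB τ, Finset.sum_erase _ hd1]
  have hcs := sq_sum_le_card_mul_sum_sq (s := Finset.univ.erase (1 : B →* kˣ)) (f := d)
  rw [← hN, Finset.card_erase_of_mem (Finset.mem_univ _), Finset.card_univ,
    ← Nat.card_eq_fintype_card, card_chars hB, hBcard, pow_two] at hcs
  refine hcs.trans (Nat.mul_le_mul_left _ ?_)
  calc ∑ χ ∈ Finset.univ.erase 1, d χ ^ 2 ≤ ∑ χ : B →* kˣ, d χ ^ 2 :=
        Finset.sum_le_univ_sum_of_nonneg fun _ => Nat.zero_le _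
    _ = Module.finrank k (∀ χ : B →* kˣ, Module.End k (LinearMap.range (proj τ χ))) := by
        rw [Module.finrank_pi_fintype]
        refine Finset.sum_congr rfl fun χ _ => ?_
        rw [pow_two, Module.finrank_linearMap]
    _ ≤ Module.finrank k F := by
        let e : (χ : B →* kˣ) → Module.End k (LinearMap.range (proj τ χ)) →ₗ[k] Module.End k V :=
          fun χ =>
            { toFun := fun h => (LinearMap.range (proj τ χ)).subtype ∘ₗ h ∘ₗ (proj τ χ).rangeRestrict
              map_add' := fun _ _ => by ext; simp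
              map_smul' := fun _ _ => by ext; simp }
        let Φ : ((χ : B →* kˣ) → Module.End k (LinearMap.range (proj τ χ))) →ₗ[k] Module.End k V :=
          ∑ χ : B →* kˣ, e χ ∘ₗ LinearMap.proj χ
        have happ : ∀ h v, Φ h v = ∑ χ : B →* kˣ, (h χ ((proj τ χ).rangeRestrict v) : V) :=
          fun h v => by simp [Φ, e]
        have hcomm : ∀ h, Φ h ∈ F := by
          intro h
          refine hF _ (LinearMap.ext fun v => ?_)
          show T (Φ h v) = Φ h (T v)
          rw [happ, happ, map_sum]
          refine Finset.sum_congr rfl fun χ _ => ?_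
          have h1 : (proj τ χ).rangeRestrict (T v) = (χ ⟨Tu, Subgroup.mem_zpowers _⟩ : k) •
              (proj τ χ).rangeRestrict v :=
            Subtype.ext (congrArg (fun g : Module.End k V => g v)
              (proj_mul_act τ χ ⟨Tu, Subgroup.mem_zpowers _⟩))
          rw [h1, map_smul, Submodule.coe_smul]
          exact (mem_range_iff hB).mp (h χ _).2 ⟨Tu, Subgroup.mem_zpowers _⟩
        refine LinearMap.finrank_le_finrank_of_injective (f := Φ.codRestrict F hcomm) ?_
        intro a b hab
        have hab' : Φ a = Φ b := congrArg Subtype.val hab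
        funext χ
        refine LinearMap.ext fun x => Subtype.ext ?_
        have hsingle : ∀ h : (ψ : B →* kˣ) → Module.End k (LinearMap.range (proj τ ψ)),
            Φ h (x : V) = (h χ x : V) := by
          intro h
          obtain ⟨z, hz⟩ := x.2
          rw [happ, Finset.sum_eq_single χ]
          · congr 2
            refine Subtype.ext ?_
            show proj τ χ (x : V) = x
            rw [← hz]
            exact congrArg (fun g : Module.End k V => g z) (proj_mul_self hB τ χ)
          · intro ψ _ hψ
            have : (proj τ ψ).rangeRestrict (x : V) = 0 := Subtype.ext (by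
              show proj τ ψ (x : V) = 0
              rw [← hz]
              exact congrArg (fun g : Module.End k V => g z) (proj_mul_proj τ hψ))
            rw [this, map_zero, Submodule.coe_zero]
          · exact fun h => absurd (Finset.mem_univ _) h
        rw [← hsingle, ← hsingle, hab']

/-- The counting bound, with the congruence of the index modulo `p`. -/
theorem Setting.count (S : Setting ρ N) [N.Normal] (hU : (N.index : k) ≠ 0) {p : ℕ} [Fact p.Prime]
    (hpk : (p : k) ≠ 0) (σ : MulAut Q) (T : Module.End k V) (hT : T ^ p = 1)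
    (hsum : ∑ i ∈ Finset.range p, T ^ i = 0) (hcompat : ∀ x, T * ρ x = ρ (σ x) * T)
    (hfpf : ∀ x, x⁻¹ * σ x ∈ N → x ∈ N) :
    p ∣ N.index - 1 ∧ N.index ≤ (p - 1) * (p - 1) := by
  classical
  let _ := S.quotComm
  have hp : p.Prime := Fact.out
  have hU' : (Nat.card (Q ⧸ N) : k) ≠ 0 := hU
  obtain ⟨w, hker, hw⟩ := S.exists_wtHom
  obtain ⟨huni, hsq, hall⟩ := S.weights_uniform hU
  let Tu : (Module.End k V)ˣ := Units.ofPowEqOne T p hT hp.ne_zero
  let T' : Module.End k V := ((Tu⁻¹ : (Module.End k V)ˣ) : Module.End k V)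
  have hTT : T * T' = 1 := Tu.mul_inv
  have hT'T : T' * T = 1 := Tu.inv_mul
  have hcompat' : ∀ x, ρ (σ x) = T * ρ x * T' := fun x => by
    rw [hcompat x, mul_assoc, hTT, mul_one]
  have hσN : N.map σ.toMonoidHom = N := by
    refine Subgroup.eq_of_le_of_card_ge ?_ (le_of_eq (Subgroup.card_map_of_injective σ.injective).symm)
    rintro _ ⟨x, hx, rfl⟩
    obtain ⟨c, hc⟩ := S.scal x hx
    refine S.nondeg _ fun y => ?_
    show Commute (ρ (σ x)) (ρ y)
    rw [hcompat', hc, mul_smul_comm, mul_one, smul_mul_assoc, hTT]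
    exact (Commute.one_left _).smul_left c
  let σU : Q ⧸ N ≃* Q ⧸ N := QuotientGroup.congr N N σ hσN
  let g : Module.End k (Module.End k V) := LinearMap.mulLeft k T ∘ₗ LinearMap.mulRight k T'
  have hg_apply : ∀ f, g f = T * f * T' := fun f => by simp [g, mul_assoc]
  have hg : ∀ u, g * S.conjHom u = S.conjHom (σU u) * g := by
    intro u
    obtain ⟨x, rfl⟩ := QuotientGroup.mk_surjective u
    refine LinearMap.ext fun f => ?_
    show g (S.conjHom _ f) = S.conjHom ((σ x : Q) : Q ⧸ N) (g f)
    rw [S.conjHom_apply, S.conjHom_apply, hg_apply, hg_apply, hcompat', ← map_inv σ, hcompat']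
    simp only [mul_assoc]
    rw [← mul_assoc T' T, hT'T, one_mul, ← mul_assoc T' T, hT'T, one_mul]
  let s : Equiv.Perm (Q ⧸ N →* kˣ) :=
    { toFun := fun φ => φ.comp σU.symm.toMonoidHom
      invFun := fun φ => φ.comp σU.toMonoidHom
      left_inv := fun φ => MonoidHom.ext fun u => by simp
      right_inv := fun φ => MonoidHom.ext fun u => by simp }
  have hgs : ∀ φ, g * proj S.conjHom φ = proj S.conjHom (s φ) * g := fun φ => mul_proj_of_conj hg φ
  have hsw : ∀ y, s (w y) = w (σ y) := by
    intro y
    refine MonoidHom.ext fun u => Units.ext (smul_cancel ρ (σ y) ?_)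
    show (w y (σU.symm u) : k) • ρ (σ y) = (w (σ y) u : k) • ρ (σ y)
    have h := congrArg (fun G : Module.End k (Module.End k V) => G (ρ y)) (hg (σU.symm u))
    simp only [Module.End.mul_apply, hw, hg_apply, mul_smul_comm, smul_mul_assoc, ← hcompat', MulEquiv.apply_symm_apply] at h
    exact h
  have hspow : ∀ n y, (s ^ n) (w y) = w ((σ ^ n) y) := by
    intro n
    induction n with
    | zero => simp
    | succ n ih => intro y; rw [pow_succ', Equiv.Perm.mul_apply, ih, hsw, pow_succ', MulAut.mul_apply]
  have hpow : ∀ n x, T ^ n * ρ x = ρ ((σ ^ n) x) * T ^ n := by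
    intro n
    induction n with
    | zero => simp
    | succ n ih =>
      intro x
      rw [pow_succ', mul_assoc, ih, ← mul_assoc, hcompat, mul_assoc, pow_succ', MulAut.mul_apply]
  have hsp : s ^ p = 1 := by
    refine Equiv.ext fun φ => ?_
    obtain ⟨y, hy⟩ := hall φ
    have : φ = w y := MonoidHom.ext fun u => Units.ext (smul_cancel ρ y (by rw [← hy, ← hw]))
    rw [this, hspow, Equiv.Perm.one_apply]
    have hρ : ρ ((σ ^ p) y) = ρ y := by
      have := hpow p y
      rw [hT, one_mul, mul_one] at this
      exact this.symm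
    refine MonoidHom.ext fun u => Units.ext (smul_cancel ρ y ?_)
    rw [← hw y u, ← hρ, ← hw]
  have := finite_chars (U := Q ⧸ N) hU'
  let H := Subgroup.zpowers s
  let Ω := MulAction.orbitRel.Quotient H (Q ⧸ N →* kˣ)
  let _ := Fintype.ofFinite Ω
  let _ := Fintype.ofFinite (Q ⧸ N →* kˣ)
  have hHcard : Nat.card H ∣ p := by
    rw [Nat.card_zpowers]
    exact orderOf_dvd_of_pow_eq_one hsp
  have horbit : ∀ φ : Q ⧸ N →* kˣ, φ ≠ 1 → Nat.card (MulAction.orbit H φ) = p := by
    intro φ hφ
    have hd : Nat.card (MulAction.orbit H φ) ∣ p := by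
      rw [Nat.card_coe_set_eq, ← MulAction.index_stabilizer]
      exact (Subgroup.index_dvd_card _).trans hHcard
    rcases (Nat.dvd_prime hp).mp hd with h | h
    · exfalso
      refine hφ ?_
      rw [Nat.card_eq_one_iff_unique] at h
      have hfix : s φ = φ := congrArg Subtype.val (h.1.elim
        ⟨_, MulAction.mem_orbit φ (⟨s, Subgroup.mem_zpowers s⟩ : H)⟩ ⟨φ, MulAction.mem_orbit_self φ⟩)
      obtain ⟨y, hy⟩ := hall φ
      have hφy : φ = w y := MonoidHom.ext fun u => Units.ext (smul_cancel ρ y (by rw [← hy, ← hw]))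
      rw [hφy, hsw] at hfix
      have hyN : y ∈ N := hfpf y (by rw [← hker, MonoidHom.mem_ker, map_mul, map_inv, hfix, inv_mul_cancel])
      rw [hφy]
      exact MonoidHom.mem_ker.mp (hker.symm ▸ hyN)
    · exact h
  have hone : MulAction.orbit H (1 : Q ⧸ N →* kˣ) = {1} := by
    refine Set.eq_singleton_iff_unique_mem.mpr ⟨MulAction.mem_orbit_self _, ?_⟩
    rintro _ ⟨⟨h, hh⟩, rfl⟩
    obtain ⟨n, rfl⟩ := Subgroup.mem_zpowers_iff.mp hh
    show (s ^ n) 1 = 1
    exact Equiv.Perm.zpow_apply_eq_self_of_apply_eq_self (MonoidHom.ext fun u => rfl) n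
  let ω₀ : Ω := Quotient.mk'' 1
  have hcount : Nat.card (Q ⧸ N →* kˣ) = (Fintype.card Ω - 1) * p + 1 := by
    rw [Nat.card_congr (MulAction.selfEquivSigmaOrbits' H (Q ⧸ N →* kˣ)), Nat.card_sigma,
      ← Finset.sum_erase_add _ _ (Finset.mem_univ ω₀)]
    have h0 : Nat.card (MulAction.orbitRel.Quotient.orbit ω₀) = 1 := by
      rw [show MulAction.orbitRel.Quotient.orbit ω₀ = MulAction.orbit H (1 : Q ⧸ N →* kˣ) from
        MulAction.orbitRel.Quotient.orbit_mk _, hone]
      simp
    rw [h0, Finset.sum_congr rfl fun ω hω => ?_, Finset.sum_const,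
      Finset.card_erase_of_mem (Finset.mem_univ _), Finset.card_univ, smul_eq_mul]
    obtain ⟨φ, rfl⟩ := Quotient.mk''_surjective ω
    rw [MulAction.orbitRel.Quotient.orbit_mk]
    refine horbit φ fun h => Finset.ne_of_mem_erase hω ?_
    rw [h]
  have hidx : N.index = (Fintype.card Ω - 1) * p + 1 := by rw [← hcount, card_chars hU']; rfl
  let F : Submodule k (Module.End k V) := LinearMap.ker (g - 1)
  have hF : ∀ f, Commute T f → f ∈ F := fun f hf => by
    rw [LinearMap.mem_ker, LinearMap.sub_apply, Module.End.one_apply, hg_apply, hf.eq, mul_assoc, hTT,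
      mul_one, sub_self]
  have hupper : Module.finrank k F ≤
      Fintype.card Ω * Module.finrank k (LinearMap.range (proj S.conjHom 1)) := by
    calc Module.finrank k F ≤ Module.finrank k ((ω : Ω) → LinearMap.range (proj S.conjHom ω.out)) := by
          refine LinearMap.finrank_le_finrank_of_injective
            (f := LinearMap.pi fun ω : Ω => (proj S.conjHom ω.out).rangeRestrict ∘ₗ F.subtype) ?_
          rw [← LinearMap.ker_eq_bot, Submodule.eq_bot_iff]
          intro f hf
          refine Subtype.ext (eq_zero_of_forall_proj hU' S.conjHom fun φ => ?_)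
          have hgf : g (f : Module.End k V) = f := by
            have := f.2
            rwa [LinearMap.mem_ker, LinearMap.sub_apply, Module.End.one_apply, sub_eq_zero] at this
          let P : (Q ⧸ N →* kˣ) → Prop := fun ψ => proj S.conjHom ψ (f : Module.End k V) = 0
          have hP : ∀ ψ, P ψ → ∀ n : ℕ, P ((s ^ n) ψ) := by
            intro ψ hψ n
            induction n with
            | zero => simpa using hψ
            | succ n ih =>
              show proj S.conjHom ((s ^ (n + 1)) ψ) (f : Module.End k V) = 0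
              rw [pow_succ', Equiv.Perm.mul_apply, ← hgf]
              have := congrArg (fun G : Module.End k (Module.End k V) => G (f : Module.End k V))
                (hgs ((s ^ n) ψ))
              simp only [Module.End.mul_apply] at this
              rw [← this, ih, map_zero]
          have hout : P (Quotient.mk'' φ : Ω).out :=
            congrArg Subtype.val (congrFun (LinearMap.mem_ker.mp hf) (Quotient.mk'' φ : Ω))
          obtain ⟨⟨h, hh⟩, hhφ⟩ : φ ∈ MulAction.orbit H (Quotient.mk'' φ : Ω).out :=
            (MulAction.orbit_eq_iff.mpr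
              (MulAction.orbitRel_apply.mp (Quotient.mk_out (s := MulAction.orbitRel H _) φ))).symm ▸
              MulAction.mem_orbit_self φ
          obtain ⟨n, rfl⟩ := (IsOfFinOrder.mem_powers_iff_mem_zpowers
            (isOfFinOrder_iff_pow_eq_one.mpr ⟨p, hp.pos, hsp⟩)).mpr hh
          rw [← hhφ]
          exact hP _ hout n
      _ = _ := by
          rw [Module.finrank_pi_fintype, Finset.sum_congr rfl fun ω _ => huni _, Finset.sum_const,
            Finset.card_univ, smul_eq_mul]
  have hlow := sq_le_commutant hpk T hT hsum F hF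
  rw [hsq] at hlow
  set D := Module.finrank k (LinearMap.range (proj S.conjHom 1)) with hD
  have hDpos : 0 < D := by
    rcases Nat.eq_zero_or_pos D with h | h
    · rw [h, mul_zero] at hsq
      exact absurd (mul_self_eq_zero.mp hsq) Module.finrank_pos.ne'
    · exact h
  have h1 : N.index * D ≤ ((p - 1) * Fintype.card Ω) * D := by
    rw [mul_assoc]
    exact hlow.trans (Nat.mul_le_mul_left _ hupper)
  have h2 : N.index ≤ (p - 1) * Fintype.card Ω := Nat.le_of_mul_le_mul_right h1 hDpos
  refine ⟨⟨Fintype.card Ω - 1, by rw [hidx, Nat.add_sub_cancel, mul_comm]⟩, ?_⟩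
  have : 0 < Fintype.card Ω := Fintype.card_pos_iff.mpr ⟨ω₀⟩
  obtain ⟨o, ho⟩ : ∃ o, Fintype.card Ω = o + 1 := ⟨_, (Nat.succ_pred_eq_of_pos this).symm⟩
  obtain ⟨q, rfl⟩ : ∃ q, p = q + 1 := ⟨_, (Nat.succ_pred_eq_of_pos hp.pos).symm⟩
  rw [ho] at h2 hidx
  simp only [Nat.add_sub_cancel] at h2 hidx ⊢
  nlinarith

end Cfsg.Agent.Coprime.EndCount
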