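import Cfsg.Agent.Coprime.EndCount
import Cfsg.Agent.H71.NilpotentCommutant

/-!
The counting argument of `EndCount` for an element of prime power order.
-/

namespace Cfsg.Agent.Coprime.EndCountPow

open Weights EndCount
open scoped commutatorElement

variable {k V Q : Type*} [Field k] [AddCommGroup V] [Module k V] [Group Q]
variable {ρ : Q →* Module.End k V} {N : Subgroup Q}
variable [Finite Q] [IsAlgClosed k] [FiniteDimensional k V] [Nontrivial V]

omit [Finite Q] [IsAlgClosed k] [Nontrivial V] in
/-- Lower bound for the commutant of an element of order `p` without fixed vectors. -/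
theorem sq_le_commutant [IsAlgClosed k] {p : ℕ} (hp : 0 < p) (hpk : (p : k) ≠ 0)
    (T : Module.End k V) (hT : T ^ p = 1) (hord : ∀ m, 0 < m → m < p → T ^ m ≠ 1) (hsum : ∑ i ∈ Finset.range p, T ^ i = 0)
    (F : Submodule k (Module.End k V)) (hF : ∀ f, Commute T f → f ∈ F) :
    Module.finrank k V * Module.finrank k V ≤ (p - 1) * Module.finrank k F := by
  classical
  rcases subsingleton_or_nontrivial V with hV | hV
  · rw [Module.finrank_zero_of_subsingleton]
    simp
  let Tu : (Module.End k V)ˣ := Units.ofPowEqOne T p hT hp.ne'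
  have hTu : orderOf Tu = p := (orderOf_eq_iff hp).mpr ⟨Units.ext hT, fun m hm hm0 h =>
    hord m hm0 hm (congrArg Units.val h)⟩
  have hfin : IsOfFinOrder Tu := orderOf_pos_iff.mp (hTu ▸ hp)
  let B := Subgroup.zpowers Tu
  have : Finite B := hfin.finite_zpowers
  let _ : CommGroup B := { (inferInstance : Group B) with mul_comm := mul_comm' }
  have hBcard : Nat.card B = p := by rw [Nat.card_zpowers, hTu]
  have hB : (Nat.card B : k) ≠ 0 := by rwa [hBcard]
  let τ : B →* Module.End k V := (Units.coeHom (Module.End k V)).comp B.subtype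
  have := finite_chars (U := B) hB
  let _ := Fintype.ofFinite (B →* kˣ)
  have hone : proj τ 1 = 0 := by
    let _ := Fintype.ofFinite B
    have : ∑ u : B, τ u = 0 := by
      rw [← hsum, ← Fin.sum_univ_eq_sum_range (fun i => T ^ i) p]
      refine (Fintype.sum_equiv ((finCongr hTu.symm).trans (finEquivZPowers hfin)) _ _ fun i => ?_).symm
      simp [τ, Tu, B, finEquivZPowers_apply]
    simp only [proj, MonoidHom.one_apply, inv_one, Units.val_one, one_smul, this, smul_zero]
  let d : (B →* kˣ) → ℕ := fun χ => Module.finrank k (LinearMap.range (proj τ χ))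
  have hd1 : d 1 = 0 := by simp [d, hone]
  have hN : Module.finrank k V = ∑ χ ∈ Finset.univ.erase 1, d χ := by
    rw [finrank_eq_sum hB τ, Finset.sum_erase _ hd1]
  have hcs := sq_sum_le_card_mul_sum_sq (s := Finset.univ.erase (1 : B →* kˣ)) (f := d)
  rw [← hN, Finset.card_erase_of_mem (Finset.mem_univ _), Finset.card_univ,
    ← Nat.card_eq_fintype_card, card_chars hB, hBcard, pow_two] at hcs
  refine hcs.trans (Nat.mul_le_mul_left _ ?_)
  calc ∑ χ ∈ Finset.univ.erase 1, d χ ^ 2 ≤ ∑ χ : B →* kˣ, d χ ^ 2 :=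
        Finset.sum_le_univ_sum_of_nonneg fun _ => Nat.zero_le _
    _ = Module.finrank k (∀ χ : B →* kˣ, Module.End k (LinearMap.range (proj τ χ))) := by
        rw [Module.finrank_pi_fintype]
        refine Finset.sum_congr rfl fun χ _ => ?_
        rw [pow_two, Module.finrank_linearMap]
    _ ≤ Module.finrank k F := by
        let e : (χ : B →* kˣ) → Module.End k (LinearMap.range (proj τ χ)) →ₗ[k] Module.End k V :=
          fun χ =>
            { toFun := fun h => (LinearMap.range (proj τ χ)).subtype ∘ₗ h ∘ₗ (proj τ χ).rangeRestrict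
              map_add' := fun _ _ => by ext; simp
              map_smul' := fun _ _ => by ext; simp }
        let Φ : ((χ : B →* kˣ) → Module.End k (LinearMap.range (proj τ χ))) →ₗ[k] Module.End k V :=
          ∑ χ : B →* kˣ, e χ ∘ₗ LinearMap.proj χ
        have happ : ∀ h v, Φ h v = ∑ χ : B →* kˣ, (h χ ((proj τ χ).rangeRestrict v) : V) :=
          fun h v => by simp [Φ, e]
        have hcomm : ∀ h, Φ h ∈ F := by
          intro h
          refine hF _ (LinearMap.ext fun v => ?_)
          show T (Φ h v) = Φ h (T v)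
          rw [happ, happ, map_sum]
          refine Finset.sum_congr rfl fun χ _ => ?_
          have h1 : (proj τ χ).rangeRestrict (T v) = (χ ⟨Tu, Subgroup.mem_zpowers _⟩ : k) •
              (proj τ χ).rangeRestrict v :=
            Subtype.ext (congrArg (fun g : Module.End k V => g v)
              (proj_mul_act τ χ ⟨Tu, Subgroup.mem_zpowers _⟩))
          rw [h1, map_smul, Submodule.coe_smul]
          exact (mem_range_iff hB).mp (h χ _).2 ⟨Tu, Subgroup.mem_zpowers _⟩
        refine LinearMap.finrank_le_finrank_of_injective (f := Φ.codRestrict F hcomm) ?_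
        intro a b hab
        have hab' : Φ a = Φ b := congrArg Subtype.val hab
        funext χ
        refine LinearMap.ext fun x => Subtype.ext ?_
        have hsingle : ∀ h : (ψ : B →* kˣ) → Module.End k (LinearMap.range (proj τ ψ)),
            Φ h (x : V) = (h χ x : V) := by
          intro h
          obtain ⟨z, hz⟩ := x.2
          rw [happ, Finset.sum_eq_single χ]
          · congr 2
            refine Subtype.ext ?_
            show proj τ χ (x : V) = x
            rw [← hz]
            exact congrArg (fun g : Module.End k V => g z) (proj_mul_self hB τ χ)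
          · intro ψ _ hψ
            have : (proj τ ψ).rangeRestrict (x : V) = 0 := Subtype.ext (by
              show proj τ ψ (x : V) = 0
              rw [← hz]
              exact congrArg (fun g : Module.End k V => g z) (proj_mul_proj τ hψ))
            rw [this, map_zero, Submodule.coe_zero]
          · exact fun h => absurd (Finset.mem_univ _) h
        rw [← hsingle, ← hsingle, hab']

/-- The counting bound in any characteristic; `T` is unipotent when the characteristic is `q`. -/
theorem count' (S : Setting ρ N) [N.Normal] (hU : (N.index : k) ≠ 0) {q l : ℕ} [Fact q.Prime]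
    (hl : 0 < l) (σ : MulAut Q) (T : Module.End k V) (hT : T ^ (q ^ l) = 1)
    (hsum : ∑ i ∈ Finset.range (q ^ l), T ^ i = 0) (hcompat : ∀ x, T * ρ x = ρ (σ x) * T)
    (hfpf : ∀ x, x⁻¹ * (σ ^ q ^ (l - 1)) x ∈ N → x ∈ N) :
    N.index = 1 ∨ q ^ l ∣ N.index - 1 ∧ N.index ≤ (q ^ l - 1) * (q ^ l - 1) := by
  classical
  let _ := S.quotComm
  have hq : q.Prime := Fact.out
  set p := q ^ l with hpdef
  have hp : 0 < p := pow_pos hq.pos l
  have hU' : (Nat.card (Q ⧸ N) : k) ≠ 0 := hU
  obtain ⟨w, hker, hw⟩ := S.exists_wtHom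
  obtain ⟨huni, hsq, hall⟩ := S.weights_uniform hU
  let Tu : (Module.End k V)ˣ := Units.ofPowEqOne T p hT hp.ne'
  let T' : Module.End k V := ((Tu⁻¹ : (Module.End k V)ˣ) : Module.End k V)
  have hTT : T * T' = 1 := Tu.mul_inv
  have hT'T : T' * T = 1 := Tu.inv_mul
  have hcompat' : ∀ x, ρ (σ x) = T * ρ x * T' := fun x => by
    rw [hcompat x, mul_assoc, hTT, mul_one]
  have hσN : N.map σ.toMonoidHom = N := by
    refine Subgroup.eq_of_le_of_card_ge ?_ (le_of_eq (Subgroup.card_map_of_injective σ.injective).symm)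
    rintro _ ⟨x, hx, rfl⟩
    obtain ⟨c, hc⟩ := S.scal x hx
    refine S.nondeg _ fun y => ?_
    show Commute (ρ (σ x)) (ρ y)
    rw [hcompat', hc, mul_smul_comm, mul_one, smul_mul_assoc, hTT]
    exact (Commute.one_left _).smul_left c
  let σU : Q ⧸ N ≃* Q ⧸ N := QuotientGroup.congr N N σ hσN
  let g : Module.End k (Module.End k V) := LinearMap.mulLeft k T ∘ₗ LinearMap.mulRight k T'
  have hg_apply : ∀ f, g f = T * f * T' := fun f => by simp [g, mul_assoc]
  have hg : ∀ u, g * S.conjHom u = S.conjHom (σU u) * g := by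
    intro u
    obtain ⟨x, rfl⟩ := QuotientGroup.mk_surjective u
    refine LinearMap.ext fun f => ?_
    show g (S.conjHom _ f) = S.conjHom ((σ x : Q) : Q ⧸ N) (g f)
    rw [S.conjHom_apply, S.conjHom_apply, hg_apply, hg_apply, hcompat', ← map_inv σ, hcompat']
    simp only [mul_assoc]
    rw [← mul_assoc T' T, hT'T, one_mul, ← mul_assoc T' T, hT'T, one_mul]
  let s : Equiv.Perm (Q ⧸ N →* kˣ) :=
    { toFun := fun φ => φ.comp σU.symm.toMonoidHom
      invFun := fun φ => φ.comp σU.toMonoidHom
      left_inv := fun φ => MonoidHom.ext fun u => by simp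
      right_inv := fun φ => MonoidHom.ext fun u => by simp }
  have hgs : ∀ φ, g * proj S.conjHom φ = proj S.conjHom (s φ) * g := fun φ => mul_proj_of_conj hg φ
  have hsw : ∀ y, s (w y) = w (σ y) := by
    intro y
    refine MonoidHom.ext fun u => Units.ext (smul_cancel ρ (σ y) ?_)
    show (w y (σU.symm u) : k) • ρ (σ y) = (w (σ y) u : k) • ρ (σ y)
    have h := congrArg (fun G : Module.End k (Module.End k V) => G (ρ y)) (hg (σU.symm u))
    simp only [Module.End.mul_apply, hw, hg_apply, mul_smul_comm, smul_mul_assoc, ← hcompat', MulEquiv.apply_symm_apply] at h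
    exact h
  have hspow : ∀ n y, (s ^ n) (w y) = w ((σ ^ n) y) := by
    intro n
    induction n with
    | zero => simp
    | succ n ih => intro y; rw [pow_succ', Equiv.Perm.mul_apply, ih, hsw, pow_succ', MulAut.mul_apply]
  have hpow : ∀ n x, T ^ n * ρ x = ρ ((σ ^ n) x) * T ^ n := by
    intro n
    induction n with
    | zero => simp
    | succ n ih =>
      intro x
      rw [pow_succ', mul_assoc, ih, ← mul_assoc, hcompat, mul_assoc, pow_succ', MulAut.mul_apply]
  have hsp : s ^ p = 1 := by
    refine Equiv.ext fun φ => ?_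
    obtain ⟨y, hy⟩ := hall φ
    have : φ = w y := MonoidHom.ext fun u => Units.ext (smul_cancel ρ y (by rw [← hy, ← hw]))
    rw [this, hspow, Equiv.Perm.one_apply]
    have hρ : ρ ((σ ^ p) y) = ρ y := by
      have := hpow p y
      rw [hT, one_mul, mul_one] at this
      exact this.symm
    refine MonoidHom.ext fun u => Units.ext (smul_cancel ρ y ?_)
    rw [← hw y u, ← hρ, ← hw]
  by_cases hsmall : ∃ m, 0 < m ∧ m < p ∧ T ^ m = 1
  · left
    obtain ⟨m, hm0, hmp, hm⟩ := hsmall
    obtain ⟨j, hj, hjeq⟩ := (Nat.dvd_prime_pow hq).mp (Nat.gcd_dvd_right m p)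
    have hlt : j < l := by
      rcases hj.lt_or_eq with h | rfl
      · exact h
      · exact absurd ((Nat.le_of_dvd hm0 (hjeq ▸ Nat.gcd_dvd_left m (q ^ j) : q ^ j ∣ m))) (not_le.mpr hmp)
    have hT1 : T ^ q ^ (l - 1) = 1 := by
      have h1 : T ^ Nat.gcd m p = 1 := by
        have := (pow_gcd_eq_one (a := Tu) (m := m) (n := p)).mpr ⟨Units.ext hm, Units.ext hT⟩
        exact congrArg Units.val this
      obtain ⟨c, hc⟩ := Nat.pow_dvd_pow q (Nat.le_sub_one_of_lt hlt)
      rw [hc, pow_mul, ← hjeq, h1, one_pow]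
    refine Subgroup.index_eq_one.mpr (eq_top_iff.mpr fun x _ => hfpf x ?_)
    have := hpow (q ^ (l - 1)) x
    rw [hT1, one_mul, mul_one] at this
    refine S.nondeg _ fun y => ?_
    rw [map_mul, ← this, ← map_mul, inv_mul_cancel, map_one]
    exact Commute.one_left _
  right
  push Not at hsmall
  have := finite_chars (U := Q ⧸ N) hU'
  let H := Subgroup.zpowers s
  let Ω := MulAction.orbitRel.Quotient H (Q ⧸ N →* kˣ)
  let _ := Fintype.ofFinite Ω
  let _ := Fintype.ofFinite (Q ⧸ N →* kˣ)
  have hHcard : Nat.card H ∣ p := by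
    rw [Nat.card_zpowers]
    exact orderOf_dvd_of_pow_eq_one hsp
  have horbit : ∀ φ : Q ⧸ N →* kˣ, φ ≠ 1 → Nat.card (MulAction.orbit H φ) = p := by
    intro φ hφ
    have hd : Nat.card (MulAction.orbit H φ) ∣ p := by
      rw [Nat.card_coe_set_eq, ← MulAction.index_stabilizer]
      exact (Subgroup.index_dvd_card _).trans hHcard
    obtain ⟨j, hjl, hj⟩ := (Nat.dvd_prime_pow hq).mp hd
    rcases hjl.lt_or_eq with hlt | rfl
    swap
    · exact hj
    exfalso
    refine hφ ?_
    set a := q ^ (l - 1)
    have hfix : (s ^ a) φ = φ := by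
      have h1 : Function.minimalPeriod s φ ∣ a := by
        have h2 : Function.minimalPeriod s φ = q ^ j := by
          let _ := Fintype.ofFinite (MulAction.orbit (Subgroup.zpowers s) φ)
          rw [← hj, Nat.card_eq_fintype_card]
          exact MulAction.minimalPeriod_eq_card (a := s) (b := φ)
        rw [h2]
        exact Nat.pow_dvd_pow q (Nat.le_sub_one_of_lt hlt)
      rw [Equiv.Perm.coe_pow]
      exact Function.isPeriodicPt_iff_minimalPeriod_dvd.mpr h1
    obtain ⟨y, hy⟩ := hall φ
    have hφy : φ = w y := MonoidHom.ext fun u => Units.ext (smul_cancel ρ y (by rw [← hy, ← hw]))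
    rw [hφy, hspow] at hfix
    have hyN : y ∈ N := hfpf y (by rw [← hker, MonoidHom.mem_ker, map_mul, map_inv, hfix, inv_mul_cancel])
    rw [hφy]
    exact MonoidHom.mem_ker.mp (hker.symm ▸ hyN)
  have hone : MulAction.orbit H (1 : Q ⧸ N →* kˣ) = {1} := by
    refine Set.eq_singleton_iff_unique_mem.mpr ⟨MulAction.mem_orbit_self _, ?_⟩
    rintro _ ⟨⟨h, hh⟩, rfl⟩
    obtain ⟨n, rfl⟩ := Subgroup.mem_zpowers_iff.mp hh
    show (s ^ n) 1 = 1
    exact Equiv.Perm.zpow_apply_eq_self_of_apply_eq_self (MonoidHom.ext fun u => rfl) n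
  let ω₀ : Ω := Quotient.mk'' 1
  have hcount : Nat.card (Q ⧸ N →* kˣ) = (Fintype.card Ω - 1) * p + 1 := by
    rw [Nat.card_congr (MulAction.selfEquivSigmaOrbits' H (Q ⧸ N →* kˣ)), Nat.card_sigma,
      ← Finset.sum_erase_add _ _ (Finset.mem_univ ω₀)]
    have h0 : Nat.card (MulAction.orbitRel.Quotient.orbit ω₀) = 1 := by
      rw [show MulAction.orbitRel.Quotient.orbit ω₀ = MulAction.orbit H (1 : Q ⧸ N →* kˣ) from
        MulAction.orbitRel.Quotient.orbit_mk _, hone]
      simp
    rw [h0, Finset.sum_congr rfl fun ω hω => ?_, Finset.sum_const,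
      Finset.card_erase_of_mem (Finset.mem_univ _), Finset.card_univ, smul_eq_mul]
    obtain ⟨φ, rfl⟩ := Quotient.mk''_surjective ω
    rw [MulAction.orbitRel.Quotient.orbit_mk]
    refine horbit φ fun h => Finset.ne_of_mem_erase hω ?_
    rw [h]
  have hidx : N.index = (Fintype.card Ω - 1) * p + 1 := by rw [← hcount, card_chars hU']; rfl
  let F : Submodule k (Module.End k V) := LinearMap.ker (g - 1)
  have hF : ∀ f, Commute T f → f ∈ F := fun f hf => by
    rw [LinearMap.mem_ker, LinearMap.sub_apply, Module.End.one_apply, hg_apply, hf.eq, mul_assoc, hTT,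
      mul_one, sub_self]
  have hupper : Module.finrank k F ≤
      Fintype.card Ω * Module.finrank k (LinearMap.range (proj S.conjHom 1)) := by
    calc Module.finrank k F ≤ Module.finrank k ((ω : Ω) → LinearMap.range (proj S.conjHom ω.out)) := by
          refine LinearMap.finrank_le_finrank_of_injective
            (f := LinearMap.pi fun ω : Ω => (proj S.conjHom ω.out).rangeRestrict ∘ₗ F.subtype) ?_
          rw [← LinearMap.ker_eq_bot, Submodule.eq_bot_iff]
          intro f hf
          refine Subtype.ext (eq_zero_of_forall_proj hU' S.conjHom fun φ => ?_)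
          have hgf : g (f : Module.End k V) = f := by
            have := f.2
            rwa [LinearMap.mem_ker, LinearMap.sub_apply, Module.End.one_apply, sub_eq_zero] at this
          let P : (Q ⧸ N →* kˣ) → Prop := fun ψ => proj S.conjHom ψ (f : Module.End k V) = 0
          have hP : ∀ ψ, P ψ → ∀ n : ℕ, P ((s ^ n) ψ) := by
            intro ψ hψ n
            induction n with
            | zero => simpa using hψ
            | succ n ih =>
              show proj S.conjHom ((s ^ (n + 1)) ψ) (f : Module.End k V) = 0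
              rw [pow_succ', Equiv.Perm.mul_apply, ← hgf]
              have := congrArg (fun G : Module.End k (Module.End k V) => G (f : Module.End k V))
                (hgs ((s ^ n) ψ))
              simp only [Module.End.mul_apply] at this
              rw [← this, ih, map_zero]
          have hout : P (Quotient.mk'' φ : Ω).out :=
            congrArg Subtype.val (congrFun (LinearMap.mem_ker.mp hf) (Quotient.mk'' φ : Ω))
          obtain ⟨⟨h, hh⟩, hhφ⟩ : φ ∈ MulAction.orbit H (Quotient.mk'' φ : Ω).out :=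
            (MulAction.orbit_eq_iff.mpr
              (MulAction.orbitRel_apply.mp (Quotient.mk_out (s := MulAction.orbitRel H _) φ))).symm ▸
              MulAction.mem_orbit_self φ
          obtain ⟨n, rfl⟩ := (IsOfFinOrder.mem_powers_iff_mem_zpowers
            (isOfFinOrder_iff_pow_eq_one.mpr ⟨p, hp, hsp⟩)).mpr hh
          rw [← hhφ]
          exact hP _ hout n
      _ = _ := by
          rw [Module.finrank_pi_fintype, Finset.sum_congr rfl fun ω _ => huni _, Finset.sum_const,
            Finset.card_univ, smul_eq_mul]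
  have hlow : Module.finrank k V * Module.finrank k V ≤ (p - 1) * Module.finrank k F := by
    by_cases hqk : (q : k) = 0
    · exact H71.sq_le_commutant_of_sum_eq_zero hqk l T hsum F hF
    · exact sq_le_commutant hp (by rw [hpdef, Nat.cast_pow]; exact pow_ne_zero _ hqk) T hT hsmall hsum F hF
  rw [hsq] at hlow
  set D := Module.finrank k (LinearMap.range (proj S.conjHom 1)) with hD
  have hDpos : 0 < D := by
    rcases Nat.eq_zero_or_pos D with h | h
    · rw [h, mul_zero] at hsq
      exact absurd (mul_self_eq_zero.mp hsq) Module.finrank_pos.ne'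
    · exact h
  have h1 : N.index * D ≤ ((p - 1) * Fintype.card Ω) * D := by
    rw [mul_assoc]
    exact hlow.trans (Nat.mul_le_mul_left _ hupper)
  have h2 : N.index ≤ (p - 1) * Fintype.card Ω := Nat.le_of_mul_le_mul_right h1 hDpos
  refine ⟨⟨Fintype.card Ω - 1, by rw [hidx, Nat.add_sub_cancel, mul_comm]⟩, ?_⟩
  have : 0 < Fintype.card Ω := Fintype.card_pos_iff.mpr ⟨ω₀⟩
  obtain ⟨o, ho⟩ : ∃ o, Fintype.card Ω = o + 1 := ⟨_, (Nat.succ_pred_eq_of_pos this).symm⟩
  obtain ⟨u, hu⟩ : ∃ u, p = u + 1 := ⟨_, (Nat.succ_pred_eq_of_pos hp).symm⟩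
  rw [hu] at h2 hidx ⊢
  rw [ho] at h2 hidx
  simp only [Nat.add_sub_cancel] at h2 hidx ⊢
  nlinarith

/-- The counting bound, with the congruence of the index modulo `p`. -/
theorem count (S : Setting ρ N) [N.Normal] (hU : (N.index : k) ≠ 0) {q l : ℕ} [Fact q.Prime]
    (hl : 0 < l) (hqk : (q : k) ≠ 0) (σ : MulAut Q) (T : Module.End k V) (hT : T ^ (q ^ l) = 1)
    (hsum : ∑ i ∈ Finset.range (q ^ l), T ^ i = 0) (hcompat : ∀ x, T * ρ x = ρ (σ x) * T)
    (hfpf : ∀ x, x⁻¹ * (σ ^ q ^ (l - 1)) x ∈ N → x ∈ N) :
    N.index = 1 ∨ q ^ l ∣ N.index - 1 ∧ N.index ≤ (q ^ l - 1) * (q ^ l - 1) :=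
  count' S hU hl σ T hT hsum hcompat hfpf

end Cfsg.Agent.Coprime.EndCountPow
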