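import Cfsg.Agent.Coprime.Action
import Cfsg.Agent.Coprime.Centralize
import Cfsg.Agent.Coprime.Generation
import Mathlib.GroupTheory.SemidirectProduct
import Mathlib.GroupTheory.GroupAction.Defs

/-!
External form of coprime action: `A` acts on `G` by automorphisms. Everything is transported from the
internal form in the semidirect product `G ⋊ A`.
-/

namespace Cfsg.Agent.Coprime

open Subgroup SemidirectProduct
open scoped Pointwise

variable (A G : Type*) [Group A] [Group G] [MulDistribMulAction A G]

/-- The semidirect product of an action by automorphisms. -/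
abbrev Ext := G ⋊[MulDistribMulAction.toMulAut A G] A

variable {A G}

/-- The copy of `G` in `Ext A G`. -/
abbrev extG : Subgroup (Ext A G) := (inl : G →* Ext A G).range

/-- The copy of `A` in `Ext A G`. -/
abbrev extA : Subgroup (Ext A G) := (inr : A →* Ext A G).range

theorem inr_conj_inl (a : A) (g : G) :
    (inr a : Ext A G) * inl g * (inr a)⁻¹ = inl (a • g) := by
  rw [← map_inv inr, ← inl_aut]
  rfl

/-- A subgroup of `G` is invariant under `A`. -/
def IsInvariant (A : Type*) {G : Type*} [Group A] [Group G] [MulDistribMulAction A G]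
    (L : Subgroup G) : Prop :=
  ∀ a : A, ∀ x ∈ L, a • x ∈ L

theorem IsInvariant.smul_mem_iff {L : Subgroup G} (h : IsInvariant A L) (a : A) (x : G) :
    a • x ∈ L ↔ x ∈ L :=
  ⟨fun hx => by simpa using h a⁻¹ _ hx, h a x⟩

theorem extA_le_normalizer_map {L : Subgroup G} :
    extA ≤ normalizer ((L.map (inl : G →* Ext A G) : Subgroup (Ext A G)) : Set (Ext A G)) ↔
      IsInvariant A L := by
  rw [le_normalizer_iff]
  constructor
  · intro h a x hx
    obtain ⟨y, hy, hxy⟩ := h _ ⟨a, rfl⟩ _ (mem_map_of_mem inl hx)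
    rw [inr_conj_inl] at hxy
    rwa [← inl_injective hxy]
  · rintro h _ ⟨a, rfl⟩ _ ⟨x, hx, rfl⟩
    exact ⟨a • x, h a x hx, (inr_conj_inl a x).symm⟩

theorem map_top_inl : (⊤ : Subgroup G).map (inl : G →* Ext A G) = extG :=
  (MonoidHom.range_eq_map _).symm

theorem extA_le_normalizer_extG :
    extA ≤ normalizer ((extG : Subgroup (Ext A G)) : Set (Ext A G)) := by
  rw [← map_top_inl, extA_le_normalizer_map]
  exact fun _ _ _ => mem_top _

theorem card_extG : Nat.card (extG : Subgroup (Ext A G)) = Nat.card G :=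
  Nat.card_congr (MonoidHom.ofInjective (inl_injective (φ := MulDistribMulAction.toMulAut A G))).toEquiv.symm

theorem card_extA : Nat.card (extA : Subgroup (Ext A G)) = Nat.card A :=
  Nat.card_congr (MonoidHom.ofInjective (inr_injective (φ := MulDistribMulAction.toMulAut A G))).toEquiv.symm

theorem card_map_inl (L : Subgroup G) : Nat.card (L.map (inl : G →* Ext A G)) = Nat.card L :=
  Subgroup.card_map_of_injective inl_injective

theorem ext_coprime (h : (Nat.card A).Coprime (Nat.card G)) :
    (Nat.card (extA : Subgroup (Ext A G))).Coprime (Nat.card (extG : Subgroup (Ext A G))) := by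
  rwa [card_extA, card_extG]

theorem ext_solvable (h : Group.IsSolvable A ∨ Group.IsSolvable G) :
    Group.IsSolvable (extA : Subgroup (Ext A G)) ∨ Group.IsSolvable (extG : Subgroup (Ext A G)) := by
  rcases h with h | h
  · exact Or.inl (Group.isSolvable_of_surjective (MonoidHom.rangeRestrict_surjective _))
  · exact Or.inr (Group.isSolvable_of_surjective (MonoidHom.rangeRestrict_surjective _))

theorem inl_mem_centralizer_extA {g : G} :
    (inl g : Ext A G) ∈ centralizer ((extA : Subgroup (Ext A G)) : Set (Ext A G)) ↔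
      g ∈ FixedPoints.subgroup A G := by
  constructor
  · intro h a
    have := mem_centralizer_iff.mp h _ ⟨a, rfl⟩
    rw [← mul_inv_eq_iff_eq_mul, inr_conj_inl] at this
    exact inl_injective this
  · intro h
    refine mem_centralizer_of_conj_eq ?_
    rintro _ ⟨a, rfl⟩
    rw [inr_conj_inl, h a]

theorem map_fixed :
    (FixedPoints.subgroup A G).map (inl : G →* Ext A G) = extG ⊓ centralizer ((extA : Subgroup (Ext A G)) : Set (Ext A G)) := by
  ext x
  constructor
  · rintro ⟨g, hg, rfl⟩
    exact ⟨⟨g, rfl⟩, inl_mem_centralizer_extA.mpr hg⟩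
  · rintro ⟨⟨g, rfl⟩, hg⟩
    exact ⟨g, inl_mem_centralizer_extA.mp hg, rfl⟩

theorem inl_mem_map {L : Subgroup G} {g : G} :
    (inl g : Ext A G) ∈ L.map (inl : G →* Ext A G) ↔ g ∈ L :=
  mem_map_iff_mem inl_injective

theorem map_conj_inl (g : G) (L : Subgroup G) :
    (L.map (inl : G →* Ext A G)).map (MulAut.conj (inl g : Ext A G)).toMonoidHom =
      (L.map (MulAut.conj g).toMonoidHom).map (inl : G →* Ext A G) := by
  rw [Subgroup.map_map, Subgroup.map_map]
  congr 1
  ext x : 1
  show (inl g : Ext A G) * inl x * (inl g)⁻¹ = inl (g * x * g⁻¹)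
  rw [map_mul, map_mul, map_inv]

/-- The commutator subgroup `[G, A]` of an action. -/
def actionCommutator (A G : Type*) [Group A] [Group G] [MulDistribMulAction A G] : Subgroup G :=
  closure {y : G | ∃ (a : A) (g : G), y = g⁻¹ * a • g}

theorem map_actionCommutator :
    (actionCommutator A G).map (inl : G →* Ext A G) = ⁅(extG : Subgroup (Ext A G)), extA⁆ := by
  rw [actionCommutator, MonoidHom.map_closure, Subgroup.commutator_def]
  congr 1
  ext x
  constructor
  · rintro ⟨_, ⟨a, g, rfl⟩, rfl⟩
    refine ⟨inl g⁻¹, ⟨g⁻¹, rfl⟩, inr a, ⟨a, rfl⟩, ?_⟩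
    rw [map_mul, ← inr_conj_inl, commutatorElement_def, map_inv, inv_inv]
    simp only [mul_assoc]
  · rintro ⟨_, ⟨g, rfl⟩, _, ⟨a, rfl⟩, rfl⟩
    refine ⟨g * a • g⁻¹, ⟨a, g⁻¹, by rw [inv_inv]⟩, ?_⟩
    rw [map_mul, ← inr_conj_inl, commutatorElement_def, map_inv]
    simp only [mul_assoc]

variable [Finite A] [Finite G]

instance : Finite (Ext A G) := Finite.of_equiv _ SemidirectProduct.equivProd.symm

variable (hcop : (Nat.card A).Coprime (Nat.card G))

include hcop

section Solvable

variable (hsolv : Group.IsSolvable A ∨ Group.IsSolvable G)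

include hsolv

/-- A coset `g N` of an invariant subgroup stable under `A` contains a fixed point. -/
theorem exists_fixed_mem_coset {N : Subgroup G} (hN : IsInvariant A N) {g : G}
    (hfix : ∀ a : A, g⁻¹ * a • g ∈ N) : ∃ c ∈ FixedPoints.subgroup A G, g⁻¹ * c ∈ N := by
  obtain ⟨c, ⟨⟨c', rfl⟩, hc⟩, hcn⟩ := exists_centralizer_mem_coset (extA_le_normalizer_extG (A := A) (G := G))
    (ext_coprime hcop) (ext_solvable hsolv) (map_le_range inl N) (extA_le_normalizer_map.mpr hN)
    (k := inl g) ⟨g, rfl⟩ (by
      rintro _ ⟨a, rfl⟩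
      rw [inr_conj_inl, ← map_inv, ← map_mul]
      exact mem_map_of_mem _ (hfix a))
  rw [← map_inv, ← map_mul] at hcn
  exact ⟨c', inl_mem_centralizer_extA.mp hc, inl_mem_map.mp hcn⟩

/-- `G = [G, A] C_G(A)`. -/
theorem actionCommutator_sup_fixed : actionCommutator A G ⊔ FixedPoints.subgroup A G = ⊤ := by
  apply map_injective (f := (inl : G →* Ext A G)) inl_injective
  rw [Subgroup.map_sup, map_actionCommutator, map_fixed, map_top_inl,
    commutator_sup_centralizer extA_le_normalizer_extG (ext_coprime hcop) (ext_solvable hsolv)]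

omit hcop hsolv in
/-- The Sylow subgroups of `extG` are the images of those of `G`. -/
theorem exists_map_inl_eq (p : ℕ) [Fact p.Prime] (P : Sylow p (extG : Subgroup (Ext A G))) :
    ∃ Q : Sylow p G, (Q : Subgroup G).map (inl : G →* Ext A G) =
      (P : Subgroup (extG : Subgroup (Ext A G))).map extG.subtype := by
  set P' := (P : Subgroup (extG : Subgroup (Ext A G))).map extG.subtype with hP'
  have hle : P' ≤ (inl : G →* Ext A G).range := map_subtype_le _
  have hcard : Nat.card (P'.comap (inl : G →* Ext A G)) = p ^ (Nat.card G).factorization p := by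
    rw [← card_map_inl (A := A), map_comap_eq_self hle, hP',
      Subgroup.card_map_of_injective (Subgroup.subtype_injective _), P.card_eq_multiplicity, card_extG]
  exact ⟨Sylow.ofCard _ hcard, by rw [Sylow.coe_ofCard, map_comap_eq_self hle]⟩

/-- Invariant Sylow subgroups exist. -/
theorem exists_invariant_sylow' (p : ℕ) [Fact p.Prime] :
    ∃ P : Sylow p G, IsInvariant A (P : Subgroup G) := by
  obtain ⟨P, hP⟩ := exists_invariant_sylow (extA_le_normalizer_extG (A := A) (G := G))
    (ext_coprime hcop) (ext_solvable hsolv) p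
  obtain ⟨Q, hQ⟩ := exists_map_inl_eq p P
  exact ⟨Q, extA_le_normalizer_map.mp (hQ ▸ hP)⟩

/-- An invariant `p`-subgroup lies in an invariant Sylow subgroup. -/
theorem exists_invariant_sylow_ge' (p : ℕ) [Fact p.Prime] {U : Subgroup G} (hU : IsPGroup p U)
    (hUA : IsInvariant A U) : ∃ P : Sylow p G, U ≤ P ∧ IsInvariant A (P : Subgroup G) := by
  obtain ⟨P, hUP, hP⟩ := exists_invariant_sylow_ge (extA_le_normalizer_extG (A := A) (G := G))
    (ext_coprime hcop) (ext_solvable hsolv) p (map_le_range inl U) (hU.map inl)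
    (extA_le_normalizer_map.mpr hUA)
  obtain ⟨Q, hQ⟩ := exists_map_inl_eq p P
  exact ⟨Q, (map_le_map_iff_of_injective inl_injective).mp (hQ ▸ hUP),
    extA_le_normalizer_map.mp (hQ ▸ hP)⟩

/-- Invariant conjugate subgroups are conjugate by a fixed point. -/
theorem exists_fixed_conj {U V : Subgroup G} (hU : IsInvariant A U) (hV : IsInvariant A V) {g : G}
    (h : U.map (MulAut.conj g).toMonoidHom = V) :
    ∃ c ∈ FixedPoints.subgroup A G, U.map (MulAut.conj c).toMonoidHom = V := by
  obtain ⟨c, ⟨⟨c', rfl⟩, hc⟩, he⟩ := exists_centralizer_conj (extA_le_normalizer_extG (A := A) (G := G))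
    (ext_coprime hcop) (ext_solvable hsolv) (extA_le_normalizer_map.mpr hU) (extA_le_normalizer_map.mpr hV)
    (k := inl g) ⟨g, rfl⟩ (by rw [map_conj_inl, h])
  rw [map_conj_inl] at he
  exact ⟨c', inl_mem_centralizer_extA.mp hc, map_injective inl_injective he⟩

/-- Invariant Sylow subgroups are conjugate by fixed points. -/
theorem exists_fixed_conj_sylow (p : ℕ) [Fact p.Prime] (P Q : Sylow p G)
    (hP : IsInvariant A (P : Subgroup G)) (hQ : IsInvariant A (Q : Subgroup G)) :
    ∃ c ∈ FixedPoints.subgroup A G, MulAut.conj c • (P : Subgroup G) = Q := by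
  obtain ⟨g, rfl⟩ := MulAction.exists_smul_eq G P Q
  exact exists_fixed_conj hcop hsolv hP hQ rfl

end Solvable

/-- For abelian noncyclic `A`, `G` is generated by the fixed points of nontrivial elements. -/
theorem eq_top_of_fixed_le [IsMulCommutative A] (hA : ¬ IsCyclic A) {M : Subgroup G}
    (hM : ∀ a : A, a ≠ 1 → ∀ g : G, a • g = g → g ∈ M) : M = ⊤ := by
  have : IsMulCommutative (extA : Subgroup (Ext A G)) := by
    refine ⟨⟨?_⟩⟩
    rintro ⟨_, a, rfl⟩ ⟨_, b, rfl⟩
    exact Subtype.ext (by simp only [Subgroup.coe_mul, ← map_mul, mul_comm' a b])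
  have hA' : ¬ IsCyclic (extA : Subgroup (Ext A G)) := fun h => hA
    (isCyclic_of_surjective (MonoidHom.ofInjective (inr_injective (φ := MulDistribMulAction.toMulAut A G))).symm.toMonoidHom
      (MonoidHom.ofInjective inr_injective).symm.surjective)
  have h := le_of_centralizer_noncyclic_le (M := M.map (inl : G →* Ext A G)) hA'
    extA_le_normalizer_extG (ext_coprime hcop) (by
      rintro _ ⟨a, rfl⟩ ha _ ⟨⟨g, rfl⟩, hg⟩
      refine mem_map_of_mem _ (hM a (fun h => ha (by rw [h, map_one])) g ?_)
      have hg' := (mem_centralizer_singleton_iff.mp hg).symm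
      rw [← mul_inv_eq_iff_eq_mul, inr_conj_inl] at hg'
      exact inl_injective hg')
  rw [← map_top_inl, map_le_map_iff_of_injective inl_injective] at h
  exact top_le_iff.mp h

end Cfsg.Agent.Coprime
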