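import Cfsg.Agent.Coprime.FpfPrime
import Cfsg.Agent.Coprime.LinRep
import Cfsg.Prelude.Def_Local

/-!
An element of prime order without fixed points on an elementary abelian group centralizes the image of
every coprime group it normalizes, outside the Fermat exception.
-/

namespace Cfsg.Agent.Coprime.FpfElem

open Subgroup
open scoped commutatorElement

variable {X : Type*} [Group X] [Finite X]

/-- The main statement for groups. -/
theorem commutator_le_centralizer' {l r : ℕ} [Fact l.Prime] [hr : Fact r.Prime] (V : Subgroup X)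
    [IsMulCommutative V] (hexp : ∀ v ∈ V, v ^ l = 1) (t : X) (htr : t ^ r = 1) (hlr : l ≠ r)
    (htV : t ∈ normalizer (V : Set X)) (hfix : ∀ v ∈ V, t * v = v * t → v = 1) (K : Subgroup X)
    (hKV : K ≤ normalizer (V : Set X)) (htK : t ∈ normalizer (K : Set X))
    (hK : ∀ s : ℕ, s.Prime → s ∣ Nat.card K → s ≠ l ∧ s ≠ r ∧
      (¬ (s = 2 ∧ ∃ m, 0 < m ∧ r = 2 ^ m + 1) ∨ IsMulCommutative K)) :
    ⁅zpowers t, K⁆ ≤ centralizer (V : Set X) := by
  classical
  rcases eq_or_ne t 1 with rfl | ht1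
  · rw [zpowers_one_eq_bot, commutator_bot_left]
    exact bot_le
  have ho : orderOf t = r := orderOf_eq_prime htr ht1
  let Y := normalizer (V : Set X)
  let N := V.subgroupOf Y
  have : IsMulCommutative N := ⟨⟨fun a b => Subtype.ext (Subtype.ext
    (show ((a : Y) : X) * ((b : Y) : X) = ((b : Y) : X) * ((a : Y) : X) from
      congrArg Subtype.val (mul_comm' (⟨((a : Y) : X), a.2⟩ : V) ⟨((b : Y) : X), b.2⟩)))⟩⟩
  have : N.Normal := Subgroup.normal_in_normalizer
  have hexpN : ∀ v ∈ N, v ^ l = 1 := fun v hv => Subtype.ext (by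
    rw [SubmonoidClass.coe_pow]; exact hexp _ hv)
  let ρ := LinRep.rep N l
  let T : Y := ⟨t, htV⟩
  have hoT : orderOf T = r := (orderOf_mk t htV).trans ho
  let _ := Fintype.ofFinite (zpowers T)
  have hsum0 : ∑ a : zpowers T, ρ ((zpowers T).subtype a) = 0 := by
    refine LinRep.sum_rep_eq_zero N l _ fun x hx hc => Subtype.ext (hfix _ hx ?_)
    exact congrArg Subtype.val (hc ⟨T, mem_zpowers T⟩)
  have hfin : IsOfFinOrder T := isOfFinOrder_of_finite T
  have hsum : ∑ i ∈ Finset.range r, ρ T ^ i = 0 := by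
    rw [← hsum0, Finset.sum_range]
    symm
    refine Fintype.sum_equiv ((finEquivZPowers hfin).symm.trans (finCongr hoT)) _ _ fun a => ?_
    obtain ⟨i, rfl⟩ := (finEquivZPowers hfin).surjective a
    rw [Equiv.trans_apply, Equiv.symm_apply_apply, finEquivZPowers_apply, ← map_pow]
    rfl
  have hrk : ((r : ℕ) : LinRep.Coeff l) ≠ 0 := fun h =>
    hlr ((Nat.prime_dvd_prime_iff_eq (Fact.out : l.Prime) hr.out).mp ((CharP.cast_eq_zero_iff _ l r).mp h))
  have htKn : zpowers t ≤ normalizer (K : Set X) := zpowers_le.mpr htK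
  have hcop : (Nat.card (zpowers t)).Coprime (Nat.card K) := by
    rw [Nat.card_zpowers, ho]
    exact hr.out.coprime_iff_not_dvd.mpr fun h => (hK r hr.out h).2.1 rfl
  -- the elements of `K` moved only within the kernel
  let D : Subgroup K :=
    { carrier := {k | ρ (T * ⟨k, hKV k.2⟩ * T⁻¹) = ρ ⟨k, hKV k.2⟩}
      one_mem' := by
        show ρ (T * 1 * T⁻¹) = ρ 1
        rw [mul_one, mul_inv_cancel]
      mul_mem' := fun {a b} ha hb => by
        show ρ (T * (⟨a, hKV a.2⟩ * ⟨b, hKV b.2⟩) * T⁻¹) = ρ (⟨a, hKV a.2⟩ * ⟨b, hKV b.2⟩)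
        rw [show T * ((⟨a, hKV a.2⟩ : Y) * ⟨b, hKV b.2⟩) * T⁻¹ =
          (T * ⟨a, hKV a.2⟩ * T⁻¹) * (T * ⟨b, hKV b.2⟩ * T⁻¹) by group, map_mul ρ (T * _ * T⁻¹),
          map_mul ρ (⟨a, hKV a.2⟩ : Y), ha, hb]
      inv_mem' := fun {a} ha => by
        show ρ (T * (⟨a, hKV a.2⟩)⁻¹ * T⁻¹) = ρ (⟨a, hKV a.2⟩)⁻¹
        have h1 : ρ.toHomUnits (T * ⟨a, hKV a.2⟩ * T⁻¹) = ρ.toHomUnits ⟨a, hKV a.2⟩ := Units.ext ha
        rw [show T * (⟨a, hKV a.2⟩ : Y)⁻¹ * T⁻¹ = (T * ⟨a, hKV a.2⟩ * T⁻¹)⁻¹ by group]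
        exact congrArg Units.val
          (show ρ.toHomUnits (T * ⟨a, hKV a.2⟩ * T⁻¹)⁻¹ = ρ.toHomUnits (⟨a, hKV a.2⟩ : Y)⁻¹ by
            rw [map_inv, map_inv, h1]) }
  have hDtop : D = ⊤ := by
    refine eq_top_of_card_eq _ (Nat.dvd_antisymm (card_subgroup_dvd_card _) ?_)
    rw [← Nat.factorization_prime_le_iff_dvd Nat.card_pos.ne' Nat.card_pos.ne']
    intro s hs
    have : Fact s.Prime := ⟨hs⟩
    by_cases hsd : s ∣ Nat.card K
    swap
    · rw [Nat.factorization_eq_zero_of_not_dvd hsd]; exact Nat.zero_le _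
    obtain ⟨hsl, hsr, hnf⟩ := hK s hs hsd
    have hsk : ((s : ℕ) : LinRep.Coeff l) ≠ 0 := fun h =>
      hsl ((Nat.prime_dvd_prime_iff_eq (Fact.out : l.Prime) hs).mp ((CharP.cast_eq_zero_iff _ l s).mp h)).symm
    obtain ⟨P, hP⟩ := exists_invariant_sylow htKn hcop (Or.inl (isSolvable_zpowers t)) s
    rw [← hs.pow_dvd_iff_le_factorization Nat.card_pos.ne', ← P.card_eq_multiplicity]
    refine card_dvd_of_le fun x hx => ?_
    set S := ((P : Subgroup K).map K.subtype).subgroupOf Y with hS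
    have hSp : IsPGroup s S := (P.isPGroup'.map K.subtype).comap_subtype
    have hTS : T ∈ normalizer (S : Set Y) := by
      rw [mem_normalizer_iff]
      intro h
      exact mem_normalizer_iff.mp (hP (mem_zpowers t)) (h : X)
    exact FpfPrime.map_conj_eq_of_fpf' (ρ := ρ) (Ne.symm hsr) hsk hrk S hSp
      (hnf.imp_right fun hc => by
        rintro ⟨a, _⟩ ⟨a', _, ha⟩ ⟨b, _⟩ ⟨b', _, hb⟩
        have := hc
        change (a' : X) = a at ha
        change (b' : X) = b at hb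
        subst ha hb
        exact Subtype.ext (show (a' : X) * (b' : X) = (b' : X) * (a' : X) from
          congrArg Subtype.val (mul_comm' a' b'))) T hTS
      (by rw [← hoT]; exact pow_orderOf_eq_one T) hsum (x := ⟨x, hKV x.2⟩) ⟨x, hx, rfl⟩
  refine commutator_le.mpr fun a ha k hk => ?_
  obtain ⟨i, rfl⟩ := mem_zpowers_iff.mp ha
  let k' : Y := ⟨k, hKV hk⟩
  have hc : Commute (ρ.toHomUnits T) (ρ.toHomUnits k') := by
    have h1 : (⟨k, hk⟩ : K) ∈ D := hDtop ▸ mem_top _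
    have h2 : ρ.toHomUnits (T * k' * T⁻¹) = ρ.toHomUnits k' := Units.ext h1
    rw [map_mul, map_mul, map_inv, mul_inv_eq_iff_eq_mul] at h2
    exact h2
  have h3 : ρ.toHomUnits ⁅T ^ i, k'⁆ = 1 := by
    rw [map_commutatorElement, map_zpow]
    exact commutatorElement_eq_one_iff_commute.mpr (hc.zpow_left i)
  have h4 := (LinRep.rep_eq_one_iff N l hexpN _).mp (congrArg Units.val h3)
  rw [mem_centralizer_iff] at h4 ⊢
  intro v hv
  have h5 := congrArg Subtype.val (h4 ⟨v, le_normalizer hv⟩ hv)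
  simpa [commutatorElement_def, k', T] using h5

/-- The version outside the Fermat exception. -/
theorem commutator_le_centralizer {l r : ℕ} [Fact l.Prime] [Fact r.Prime] (V : Subgroup X)
    [IsMulCommutative V] (hexp : ∀ v ∈ V, v ^ l = 1) (t : X) (htr : t ^ r = 1) (hlr : l ≠ r)
    (htV : t ∈ normalizer (V : Set X)) (hfix : ∀ v ∈ V, t * v = v * t → v = 1) (K : Subgroup X)
    (hKV : K ≤ normalizer (V : Set X)) (htK : t ∈ normalizer (K : Set X))
    (hK : ∀ s : ℕ, s.Prime → s ∣ Nat.card K → s ≠ l ∧ s ≠ r ∧ ¬ (s = 2 ∧ ∃ m, 0 < m ∧ r = 2 ^ m + 1)) :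
    ⁅zpowers t, K⁆ ≤ centralizer (V : Set X) :=
  commutator_le_centralizer' V hexp t htr hlr htV hfix K hKV htK fun s hs hd =>
    ⟨(hK s hs hd).1, (hK s hs hd).2.1, Or.inl (hK s hs hd).2.2⟩

end Cfsg.Agent.Coprime.FpfElem
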