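import Cfsg.Agent.Coprime.PQTower
import Cfsg.Agent.Coprime.Centralize

/-!
An element of prime order without fixed vectors centralizes every group of coprime prime power order
which it normalizes, outside the Fermat exception.
-/

namespace Cfsg.Agent.Coprime.FpfPrime

open Subgroup
open scoped commutatorElement

variable {k V Y : Type*} [Field k] [AddCommGroup V] [Module k V] [Group Y]

/-- The elements commuting with `e`. -/
def stab (ρ : Y →* Module.End k V) (e : Module.End k V) : Subgroup Y where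
  carrier := {y | Commute (ρ y) e}
  one_mem' := by show Commute _ _; rw [map_one]; exact Commute.one_left _
  mul_mem' := fun {a b} ha hb => by show Commute _ _; rw [map_mul]; exact Commute.mul_left ha hb
  inv_mem' := fun {a} ha => by
    show ρ a⁻¹ * e = e * ρ a⁻¹
    calc ρ a⁻¹ * e = ρ a⁻¹ * (e * ρ a) * ρ a⁻¹ := by
          rw [mul_assoc, mul_assoc, ← map_mul ρ a a⁻¹, mul_inv_cancel, map_one, mul_one]
      _ = _ := by
          rw [← (ha : Commute (ρ a) e).eq, ← mul_assoc (ρ a⁻¹) (ρ a), ← map_mul, inv_mul_cancel, map_one,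
            one_mul]

/-- The representation of `stab ρ e` on the range of `e`. -/
def sub (ρ : Y →* Module.End k V) (e : Module.End k V) :
    stab ρ e →* Module.End k (LinearMap.range e) where
  toFun y := (ρ (y : Y)).restrict (p := LinearMap.range e) (q := LinearMap.range e) (fun v hv => by
    obtain ⟨w, rfl⟩ := hv
    exact ⟨ρ (y : Y) w, (congrArg (fun f : Module.End k V => f w) y.2.eq).symm⟩)
  map_one' := LinearMap.ext fun v => Subtype.ext (by simp)
  map_mul' := fun a b => LinearMap.ext fun v => Subtype.ext (by simp)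

variable {ρ : Y →* Module.End k V} {e : Module.End k V}

theorem sub_apply (y : stab ρ e) (v : LinearMap.range e) : ((sub ρ e y v : LinearMap.range e) : V) = ρ (y : Y) v :=
  rfl

theorem sub_eq_iff (y : stab ρ e) (f : Module.End k V) (g : Module.End k (LinearMap.range e))
    (hfg : ∀ v, ((g v : LinearMap.range e) : V) = f v) : sub ρ e y = g ↔ ρ (y : Y) * e = f * e := by
  constructor
  · intro h
    refine LinearMap.ext fun v => ?_
    show ρ (y : Y) (e v) = f (e v)
    rw [← hfg ⟨e v, v, rfl⟩, ← h]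
    rfl
  · intro h
    refine LinearMap.ext fun ⟨_, v, rfl⟩ => Subtype.ext ?_
    rw [hfg]
    exact congrArg (fun F : Module.End k V => F v) h

theorem sub_eq_one_iff (y : stab ρ e) : sub ρ e y = 1 ↔ ρ (y : Y) * e = e := by
  rw [sub_eq_iff y 1 1 (fun v => rfl), one_mul]

variable [IsAlgClosed k] [FiniteDimensional k V] [Finite Y]

open EndBound in
/-- The faithful case. -/
theorem commute_of_fpf_faithful {s p : ℕ} [Fact s.Prime] [Fact p.Prime] (hsp : p ≠ s)
    (hsk : (s : k) ≠ 0) (hpk : (p : k) ≠ 0)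
    (hinj : Function.Injective ρ) (R : Subgroup Y) (hR : IsPGroup s R)
    (hnf : ¬ (s = 2 ∧ ∃ m, 0 < m ∧ p = 2 ^ m + 1) ∨ ∀ x ∈ R, ∀ y ∈ R, Commute x y) (t : Y)
    (ht : t ∈ normalizer (R : Set Y)) (htp : t ^ p = 1) (hsum : ∑ i ∈ Finset.range p, ρ t ^ i = 0) :
    zpowers t ≤ centralizer (R : Set Y) := by
  classical
  have hp : p.Prime := Fact.out
  suffices main : ∀ n, ∀ R : Subgroup Y, Nat.card R = n → IsPGroup s R → t ∈ normalizer (R : Set Y) →
      (¬ (s = 2 ∧ ∃ m, 0 < m ∧ p = 2 ^ m + 1) ∨ ∀ x ∈ R, ∀ y ∈ R, Commute x y) →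
      zpowers t ≤ centralizer (R : Set Y) from main _ R rfl hR ht hnf
  intro n
  induction n using Nat.strong_induction_on with
  | _ n ih =>
  intro R hn hR ht hnf
  have htR : zpowers t ≤ normalizer (R : Set Y) := zpowers_le.mpr ht
  have hcop : (Nat.card (zpowers t)).Coprime (Nat.card R) := by
    obtain ⟨j, hj⟩ := IsPGroup.iff_card.mp hR
    rw [Nat.card_zpowers, hj]
    exact Nat.Coprime.coprime_dvd_left (orderOf_dvd_of_pow_eq_one htp)
      (((Nat.coprime_primes hp (Fact.out : s.Prime)).mpr hsp).pow_right j)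
  rcases eq_or_ne R ⊥ with rfl | hRbot
  · intro a _
    exact mem_centralizer_iff.mpr fun y hy => by
      rw [SetLike.mem_coe, Subgroup.mem_bot] at hy; rw [hy, one_mul, mul_one]
  have hlt : ∀ {H : Subgroup Y}, H ≤ R → H ≠ R → Nat.card H < n := by
    intro H hH hne
    refine hn ▸ lt_of_le_of_ne (Nat.le_of_dvd Nat.card_pos (card_dvd_of_le hH)) fun h => ?_
    exact hne (eq_of_le_of_card_ge hH h.ge)
  have hRt : ⁅R, zpowers t⁆ ≤ R := commutator_le_left_of_normalizer htR
  by_cases hRe : ⁅R, zpowers t⁆ = R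
  swap
  · have h := ih _ (hlt hRt hRe) _ rfl (hR.to_le hRt)
      (normalizer_commutator_ge_right R (zpowers t) (mem_zpowers t))
      (hnf.imp_right fun hc x hx y hy => hc x (hRt hx) y (hRt hy))
    exact le_centralizer_of_commutator_le_centralizer htR hcop (le_centralizer_iff.mp h)
  set Φ := (frattini R).map R.subtype with hΦ
  have hΦR : Φ ≤ R := map_subtype_le _
  have hΦne : Φ ≠ R := by
    intro h
    have : Nontrivial R := R.nontrivial_iff_ne_bot.mpr hRbot
    have h2 : frattini R = ⊤ :=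
      map_injective R.subtype_injective (by rw [← MonoidHom.range_eq_map, R.range_subtype]; exact h)
    exact bot_ne_top (frattini_nongenerating (K := (⊥ : Subgroup R)) (by rw [bot_sup_eq, h2]))
  have hΦt : zpowers t ≤ centralizer (Φ : Set Y) :=
    ih _ (hlt hΦR hΦne) _ rfl (hR.to_le hΦR) (PQTower.mem_normalizer_frattini ht)
      (hnf.imp_right fun hc x hx y hy => hc x (hΦR hx) y (hΦR hy))
  have hΦn : R ≤ normalizer (Φ : Set Y) := fun y hy => PQTower.mem_normalizer_frattini (le_normalizer hy)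
  have h1 : ⁅⁅zpowers t, R⁆, Φ⁆ = ⊥ := by
    refine commutator_commutator_eq_bot_of_rotate ?_ ?_
    · rw [eq_bot_iff, ← (commutator_eq_bot_iff_le_centralizer.mpr (le_centralizer_iff.mp hΦt))]
      exact commutator_mono (le_normalizer_iff_commutator_le_right.mp hΦn) le_rfl
    · rw [commutator_eq_bot_iff_le_centralizer.mpr (le_centralizer_iff.mp hΦt), commutator_bot_left]
  rw [commutator_comm (zpowers t) R, hRe, commutator_eq_bot_iff_le_centralizer] at h1
  -- `U := ⁅R, R⁆` is central
  set U := (⁅R, R⁆ : Subgroup Y) with hU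
  have hUΦ : U ≤ Φ := by
    rw [hU, hΦ, ← map_subtype_commutator]
    exact map_mono (PGroups.commutator_le_frattini hR)
  have hUR : U ≤ R := hUΦ.trans hΦR
  have hUcen : ∀ u ∈ U, ∀ y ∈ R, Commute u y := fun u hu y hy =>
    mem_centralizer_iff.mp (h1 hy) u (hUΦ hu)
  have hUt : ∀ u ∈ U, Commute u t := fun u hu =>
    mem_centralizer_iff.mp (hΦt (mem_zpowers t)) u (hUΦ hu)
  let _ : CommGroup U :=
    { (inferInstance : Group U) with mul_comm := fun a b => Subtype.ext (hUcen a a.2 b (hUR b.2)) }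
  have hUk : (Nat.card U : k) ≠ 0 := by
    obtain ⟨j, hj⟩ := IsPGroup.iff_card.mp (hR.to_le hUR)
    rw [hj, Nat.cast_pow]
    exact pow_ne_zero _ hsk
  let τ : U →* Module.End k V := ρ.comp U.subtype
  have hab : ∀ x ∈ R, ∀ y ∈ R, Commute x y := by
    intro x hx y hy
    by_contra hne
    replace hnf := hnf.resolve_right fun hc => hne (hc x hx y hy)
    have hc : ρ ⁅x, y⁆ ≠ 1 := fun h => hne (commutatorElement_eq_one_iff_commute.mp
      (hinj (h.trans (map_one ρ).symm)))
    obtain ⟨χ, hχ, hχu⟩ := Weights.exists_proj_ne_zero_of_act_ne_one hUk (τ := τ)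
      (u := ⟨⁅x, y⁆, commutator_mem_commutator hx hy⟩) hc
    set e := Weights.proj τ χ with he
    have hmem : ∀ g : Y, (∀ u ∈ U, Commute u g) → g ∈ stab ρ e := by
      intro g hg
      have h3 := Weights.mul_proj_of_conj (τ := τ) (σ := MulEquiv.refl U) (g := ρ g) (fun u => by
        show ρ g * ρ u = ρ u * ρ g
        rw [← map_mul, ← map_mul, (hg u u.2).eq]) χ
      exact h3
    have hRst : ∀ z ∈ R, z ∈ stab ρ e := fun z hz => hmem z fun u hu => hUcen u hu z hz
    have htst : t ∈ stab ρ e := hmem t hUt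
    let ι : R →* stab ρ e := R.subtype.codRestrict _ fun z => hRst z z.2
    let ρW := (sub ρ e).comp ι
    have : Nontrivial (LinearMap.range e) :=
      Submodule.nontrivial_iff_ne_bot.mpr (fun h => hχ (LinearMap.range_eq_bot.mp h))
    have hscal : ∀ u : U, ∀ hu, sub ρ e ⟨u, hu⟩ = (χ u : k) • 1 := fun u hu =>
      (sub_eq_iff _ ((χ u : k) • 1) ((χ u : k) • 1) (fun v => rfl)).mpr (by
        rw [smul_mul_assoc, one_mul]
        exact Weights.act_mul_proj τ χ u)
    have hcomm : ∀ a b : R, ∃ c : k, ρW ⁅a, b⁆ = c • 1 := fun a b =>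
      ⟨(χ ⟨⁅(a : Y), b⁆, commutator_mem_commutator a.2 b.2⟩ : kˣ),
        hscal ⟨⁅(a : Y), b⁆, commutator_mem_commutator a.2 b.2⟩ _⟩
    let σ : MulAut R := Subgroup.normalizerMonoidHom R ⟨t, ht⟩
    let T := sub ρ e ⟨t, htst⟩
    have hTp : ∀ i, T ^ i = sub ρ e (⟨t, htst⟩ ^ i) := fun i => (map_pow _ _ i).symm
    rcases moved_le_cen_or_fermat (ρ := ρW) (V := LinearMap.range e) hR hsp hsk hpk hcomm σ T
      (by rw [hTp, show (⟨t, htst⟩ : stab ρ e) ^ p = 1 from Subtype.ext htp, map_one])
      (LinearMap.ext fun v => Subtype.ext (by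
        have hTv : ∀ i : ℕ, (((T ^ i) v : LinearMap.range e) : V) = (ρ t ^ i) v := fun i => by
          rw [hTp, ← map_pow]
          show ρ (((⟨t, htst⟩ : stab ρ e) ^ i : stab ρ e) : Y) v = _
          rw [SubmonoidClass.coe_pow]
        simp only [LinearMap.sum_apply, Submodule.coe_sum, hTv, LinearMap.zero_apply, Submodule.coe_zero]
        have := congrArg (fun f : Module.End k V => f v) hsum
        simpa only [LinearMap.sum_apply, LinearMap.zero_apply] using this))
      (fun z => by
        show T * sub ρ e (ι z) = sub ρ e (ι (σ z)) * T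
        rw [← map_mul, ← map_mul]
        congr 1
        exact Subtype.ext (by
          show t * (z : Y) = t * z * t⁻¹ * t
          rw [inv_mul_cancel_right]))
      with h | ⟨h2, m, hm, hpm, -⟩
    · -- `R` is generated by displacements
      have hle : ⁅R, zpowers t⁆ ≤ (moved σ).map R.subtype := by
        refine commutator_le.mpr fun z hz a ha => ?_
        obtain ⟨i, rfl⟩ := (mem_zpowers_iff.mp ha)
        have hK : ∀ w : R, ⁅(w : Y), t ^ i⁆ ∈ (moved σ).map R.subtype := by
          intro w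
          have hj : t ^ i = t ^ (i % p).toNat := by
            rw [← zpow_natCast, Int.toNat_of_nonneg (Int.emod_nonneg _ (by exact_mod_cast hp.ne_zero)),
              zpow_eq_zpow_emod' i htp]
          rw [hj]
          generalize (i % p).toNat = j
          induction j generalizing w with
          | zero => rw [pow_zero, commutatorElement_one_right]; exact one_mem _
          | succ j ihj =>
            rw [pow_succ', show ⁅(w : Y), t * t ^ j⁆ = ⁅(w : Y), t⁆ * (t * ⁅(w : Y), t ^ j⁆ * t⁻¹) by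
              simp only [commutatorElement_def]; group]
            have h4 : ⁅(w : Y), t⁆ ∈ (moved σ).map R.subtype := by
              refine ⟨(w⁻¹)⁻¹ * σ w⁻¹, mem_moved σ _, ?_⟩
              show ((w : Y)⁻¹)⁻¹ * (t * (w : Y)⁻¹ * t⁻¹) = _
              simp [commutatorElement_def, mul_assoc]
            refine mul_mem h4 ?_
            obtain ⟨u, hu, hu'⟩ := ihj w
            refine ⟨σ u, moved_map_mem hu, ?_⟩
            show t * (u : Y) * t⁻¹ = _
            rw [show (u : Y) = ⁅(w : Y), t ^ j⁆ from hu']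
        exact hK ⟨z, hz⟩
      rw [hRe] at hle
      have hcxy : Commute (ρW ⟨x, hx⟩) (ρW ⟨y, hy⟩) := by
        obtain ⟨u, hu, hu'⟩ := hle hx
        have hu2 : u = ⟨x, hx⟩ := Subtype.ext hu'
        exact mem_cen.mp (h (hu2 ▸ hu)) _
      have h5 : ρW.toHomUnits ⁅(⟨x, hx⟩ : R), ⟨y, hy⟩⁆ = 1 := by
        rw [map_commutatorElement, commutatorElement_eq_one_iff_commute]
        exact Units.ext hcxy.eq
      have h6 := hscal ⟨⁅x, y⁆, commutator_mem_commutator hx hy⟩ (hRst _ (hUR (commutator_mem_commutator hx hy)))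
      have h7 : ((χ ⟨⁅x, y⁆, commutator_mem_commutator hx hy⟩ : kˣ) : k) = 1 := by
        refine smul_left_injective k (one_ne_zero (α := Module.End k (LinearMap.range e))) ?_
        show _ • (1 : Module.End k (LinearMap.range e)) = (1 : k) • 1
        rw [← h6, one_smul]
        exact congrArg Units.val h5
      exact hχu (Units.ext h7)
    · exact hnf ⟨h2, m, hm, hpm⟩
  -- the abelian case
  rw [zpowers_le, mem_centralizer_iff]
  intro x hx
  let _ : CommGroup R :=
    { (inferInstance : Group R) with mul_comm := fun a b => Subtype.ext (hab a a.2 b b.2) }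
  have hRk : (Nat.card R : k) ≠ 0 := by
    obtain ⟨j, hj⟩ := IsPGroup.iff_card.mp hR
    rw [hj, Nat.cast_pow]
    exact pow_ne_zero _ hsk
  refine hinj ?_
  rw [map_mul, map_mul]
  have := Weights.finite_chars (k := k) (U := R) hRk
  let _ := Fintype.ofFinite (R →* kˣ)
  let σ : MulAut R := Subgroup.normalizerMonoidHom R ⟨t, ht⟩
  rw [← mul_one (ρ x * ρ t), ← mul_one (ρ t * ρ x), ← Weights.sum_proj hRk (ρ.comp R.subtype),
    Finset.mul_sum, Finset.mul_sum]
  refine Finset.sum_congr rfl fun χ _ => ?_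
  set e := Weights.proj (ρ.comp R.subtype) χ with he
  by_cases hz : e = 0
  · rw [hz, mul_zero, mul_zero]
  rcases (Nat.dvd_prime hp).mp (orderOf_dvd_of_pow_eq_one htp) with ho | ho
  · rw [orderOf_eq_one_iff.mp ho, map_one, one_mul, mul_one]
  -- the weight is stable
  let _ := Fintype.ofFinite (zpowers t)
  have hsum' : ∑ a : zpowers t, ρ ((zpowers t).subtype a) = 0 := by
    rw [← hsum, Finset.sum_range]
    refine Fintype.sum_equiv ((finEquivZPowers (orderOf_pos_iff.mp (ho ▸ hp.pos))).symm.trans (finCongr ho)) _ _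
      fun a => ?_
    obtain ⟨i, rfl⟩ := (finEquivZPowers (orderOf_pos_iff.mp (ho ▸ hp.pos))).surjective a
    rw [Equiv.trans_apply, Equiv.symm_apply_apply, finEquivZPowers_apply, ← map_pow]
    rfl
  let σA : zpowers t →* MulAut R := (Subgroup.normalizerMonoidHom R).comp (Subgroup.inclusion htR)
  obtain ⟨⟨a, ha1, ha⟩, -⟩ := PQTower.weight_stab (α := (zpowers t).subtype) hsum' R.subtype σA
    (fun a u => rfl) hRk χ hz
  have hfix : ∀ u : R, χ (σ u) = χ u := by
    obtain ⟨n, hn⟩ : ∃ n : ℕ, a ^ n = ⟨t, mem_zpowers t⟩ := by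
      have hc : Nat.card (zpowers t) = p := by rw [Nat.card_zpowers, ho]
      exact Submonoid.mem_powers_iff _ _ |>.mp
        (mem_powers_of_prime_card (G := zpowers t) hc (g := a) (g' := ⟨t, mem_zpowers t⟩) ha1)
    intro u
    have hall : ∀ n : ℕ, χ (σA (a ^ n) u) = χ u := by
      intro n
      induction n with
      | zero => rw [pow_zero, map_one, MulAut.one_apply]
      | succ n ihn => rw [pow_succ', map_mul, MulAut.mul_apply, ha, ihn]
    have := hall n
    rw [hn] at this
    exact this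
  have hxe := Weights.act_mul_proj (ρ.comp R.subtype) χ ⟨x, hx⟩
  have hxe' := Weights.act_mul_proj (ρ.comp R.subtype) χ (σ ⟨x, hx⟩)
  rw [hfix, ← hxe] at hxe'
  simp only [MonoidHom.comp_apply, Subgroup.coe_subtype] at hxe'
  change ρ (t * x * t⁻¹) * e = ρ x * e at hxe'
  have hte : Commute (ρ t) e := by
    have h3 := Weights.mul_proj_of_conj (τ := ρ.comp R.subtype) (σ := σ) (g := ρ t) (fun u => by
      show ρ t * ρ u = ρ (t * u * t⁻¹) * ρ t
      rw [← map_mul, ← map_mul, inv_mul_cancel_right]) χ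
    have hc : χ.comp σ.symm.toMonoidHom = χ := MonoidHom.ext fun u => by
      have := hfix (σ.symm u)
      rw [MulEquiv.apply_symm_apply] at this
      exact this.symm
    rwa [hc] at h3
  calc ρ x * ρ t * e = ρ x * e * ρ t := by rw [mul_assoc, hte.eq, mul_assoc]
    _ = ρ (t * x * t⁻¹) * e * ρ t := by rw [hxe']
    _ = ρ (t * x * t⁻¹) * ρ t * e := by simp only [mul_assoc, hte.eq]
    _ = ρ t * ρ x * e := by rw [← map_mul, ← map_mul, inv_mul_cancel_right]

/-- An element of prime order without fixed vectors acts trivially on a coprime `s`-group it normalizes. -/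
theorem map_conj_eq_of_fpf' {s p : ℕ} [Fact s.Prime] [Fact p.Prime] (hsp : p ≠ s)
    (hsk : (s : k) ≠ 0) (hpk : (p : k) ≠ 0) (R : Subgroup Y) (hR : IsPGroup s R)
    (hnf : ¬ (s = 2 ∧ ∃ m, 0 < m ∧ p = 2 ^ m + 1) ∨ ∀ x ∈ R, ∀ y ∈ R, Commute x y) (t : Y) (ht : t ∈ normalizer (R : Set Y)) (htp : t ^ p = 1)
    (hsum : ∑ i ∈ Finset.range p, ρ t ^ i = 0) {x : Y} (hx : x ∈ R) :
    ρ (t * x * t⁻¹) = ρ x := by
  let π := QuotientGroup.mk' ρ.ker
  let ρ' : Y ⧸ ρ.ker →* Module.End k V := QuotientGroup.lift ρ.ker ρ le_rfl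
  have hinj : Function.Injective ρ' := by
    refine (injective_iff_map_eq_one' ρ').mpr fun v => ⟨fun hv => ?_, fun hv => by rw [hv, map_one]⟩
    obtain ⟨w, rfl⟩ := QuotientGroup.mk_surjective v
    exact (QuotientGroup.eq_one_iff _).mpr hv
  have h := commute_of_fpf_faithful hsp hsk hpk hinj (R.map π) (hR.map π)
    (hnf.imp_right fun hc => by
      rintro _ ⟨a, ha, rfl⟩ _ ⟨b, hb, rfl⟩
      exact (hc a ha b hb).map π) (π t)
    (Subgroup.le_normalizer_map π ⟨t, ht, rfl⟩) (by rw [← map_pow, htp, map_one]) hsum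
  have h2 := mem_centralizer_iff.mp (h (mem_zpowers _)) (π x) (mem_map_of_mem _ hx)
  show ρ' (π (t * x * t⁻¹)) = ρ' (π x)
  rw [map_mul, map_mul π t, ← h2, mul_assoc, ← map_mul π t, mul_inv_cancel, map_one, mul_one]

/-- The version outside the Fermat exception. -/
theorem map_conj_eq_of_fpf {s p : ℕ} [Fact s.Prime] [Fact p.Prime] (hsp : p ≠ s)
    (hnf : ¬ (s = 2 ∧ ∃ m, 0 < m ∧ p = 2 ^ m + 1)) (hsk : (s : k) ≠ 0) (hpk : (p : k) ≠ 0)
    (R : Subgroup Y) (hR : IsPGroup s R) (t : Y) (ht : t ∈ normalizer (R : Set Y)) (htp : t ^ p = 1)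
    (hsum : ∑ i ∈ Finset.range p, ρ t ^ i = 0) {x : Y} (hx : x ∈ R) :
    ρ (t * x * t⁻¹) = ρ x :=
  map_conj_eq_of_fpf' hsp hsk hpk R hR (Or.inl hnf) t ht htp hsum hx

end Cfsg.Agent.Coprime.FpfPrime
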