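import Cfsg.Agent.H77.AutPGroup
import Cfsg.Agent.Cores.PCore

/-!
Small tools about elements acting without fixed points.
-/

namespace Cfsg.Agent.Coprime.FpfTools

open Subgroup

variable {X Y : Type*} [Group X] [Group Y]

/-- If `x` normalizes `T` and fixes only `1` there, every element of `T` is a commutator with `x`. -/
theorem exists_eq [Finite X] {x : X} {T : Subgroup X} (hxT : ∀ u ∈ T, x * u * x⁻¹ ∈ T)
    (hfix : ∀ u ∈ T, x * u = u * x → u = 1) {u : X} (hu : u ∈ T) :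
    ∃ v ∈ T, u = v⁻¹ * (x * v * x⁻¹) := by
  let f : T → T := fun v => ⟨(v : X)⁻¹ * (x * v * x⁻¹), mul_mem (inv_mem v.2) (hxT v v.2)⟩
  have hinj : Function.Injective f := by
    intro v w h
    have h' : (v : X)⁻¹ * (x * v * x⁻¹) = (w : X)⁻¹ * (x * w * x⁻¹) := congrArg Subtype.val h
    have h1 : x * ((v : X) * (w : X)⁻¹) * x⁻¹ = (v : X) * (w : X)⁻¹ := by
      calc x * ((v : X) * (w : X)⁻¹) * x⁻¹
          = (v : X) * ((v : X)⁻¹ * (x * v * x⁻¹)) * ((w : X)⁻¹ * (x * w * x⁻¹))⁻¹ * (w : X)⁻¹ := by group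
        _ = (v : X) * (w : X)⁻¹ := by rw [h']; group
    exact Subtype.ext (mul_inv_eq_one.mp
      (hfix _ (mul_mem v.2 (inv_mem w.2)) (mul_inv_eq_iff_eq_mul.mp h1)))
  obtain ⟨v, hv⟩ := Finite.surjective_of_injective hinj ⟨u, hu⟩
  exact ⟨v, v.2, (congrArg Subtype.val hv).symm⟩

/-- Fixed-point-free action passes to images. -/
theorem fix_map [Finite X] (f : X →* Y) {x : X} {T : Subgroup X} (hxT : ∀ u ∈ T, x * u * x⁻¹ ∈ T)
    (hfix : ∀ u ∈ T, x * u = u * x → u = 1) {z : Y} (hz : z ∈ T.map f) (hc : f x * z = z * f x) :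
    z = 1 := by
  let g : T.map f → T.map f := fun v => ⟨(v : Y)⁻¹ * (f x * v * (f x)⁻¹), by
    obtain ⟨u, hu, hu'⟩ := v.2
    refine ⟨u⁻¹ * (x * u * x⁻¹), mul_mem (inv_mem hu) (hxT u hu), ?_⟩
    simp only [map_mul, map_inv, hu']⟩
  have hsurj : Function.Surjective g := by
    rintro ⟨_, u, hu, rfl⟩
    obtain ⟨v, hv, rfl⟩ := exists_eq hxT hfix hu
    exact ⟨⟨f v, v, hv, rfl⟩, Subtype.ext (by simp [g])⟩
  have : Finite (T.map f) := Finite.of_surjective (fun v : T => (⟨f v, v, v.2, rfl⟩ : T.map f)) (by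
    rintro ⟨_, u, hu, rfl⟩; exact ⟨⟨u, hu⟩, rfl⟩)
  have hinj := Finite.injective_iff_surjective.mpr hsurj
  have h1 : g ⟨z, hz⟩ = g 1 := Subtype.ext (by
    show z⁻¹ * (f x * z * (f x)⁻¹) = ((1 : T.map f) : Y)⁻¹ * (f x * ((1 : T.map f) : Y) * (f x)⁻¹)
    rw [hc]
    simp)
  exact congrArg Subtype.val (hinj h1)

/-- A Sylow subgroup maps onto a `p`-group image. -/
theorem map_sylow_eq [Finite X] (f : X →* Y) (M : Subgroup X) {p : ℕ} [Fact p.Prime]
    (hp : IsPGroup p (M.map f)) (P : Sylow p M) :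
    ((P : Subgroup M).map M.subtype).map f = M.map f := by
  have hs := f.subgroupMap_surjective M
  have h1 : ((P.mapSurjective hs : Sylow p (M.map f)) : Subgroup (M.map f)) = ⊤ :=
    ((P.mapSurjective hs).is_maximal' (hp.to_subgroup ⊤) le_top).symm
  rw [Sylow.coe_mapSurjective] at h1
  refine le_antisymm (Subgroup.map_mono (Subgroup.map_subtype_le _)) ?_
  rintro _ ⟨m, hm, rfl⟩
  have h2 : (⟨f m, m, hm, rfl⟩ : M.map f) ∈ (P : Subgroup M).map (f.subgroupMap M) := h1 ▸ mem_top _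
  obtain ⟨q, hq, hq'⟩ := h2
  exact ⟨q, ⟨q, hq, rfl⟩, congrArg Subtype.val hq'⟩

/-- An element of odd order acting trivially on the Frattini quotient of a 2-group acts trivially. -/
theorem mulAut_eq_one [Finite X] (hX : IsPGroup 2 X) (a : MulAut X) (ha : Odd (orderOf a))
    (h : ∀ u : X, a u * u⁻¹ ∈ frattini X) : a = 1 := by
  obtain ⟨r, hr⟩ := hX.index (frattini X)
  let A : Subgroup (MulAut X) :=
    { carrier := {b | ∀ u : X, b u * u⁻¹ ∈ frattini X}
      one_mem' := fun u => by simp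
      mul_mem' := fun {b c} hb hc u => by
        have := mul_mem (hb (c u)) (hc u)
        simpa [mul_assoc] using this
      inv_mem' := fun {b} hb u => by
        have := inv_mem (hb (b⁻¹ u))
        simpa using this }
  have hA := (Cfsg.Agent.H77.card_trivial_on_frattini_dvd hX hr A fun b hb u => hb u)
  have h1 : orderOf a ∣ Nat.card (frattini X) ^ r := by
    rw [← Subgroup.orderOf_mk a (show a ∈ A from h)]
    exact (_root_.orderOf_dvd_natCard _).trans hA
  obtain ⟨k, hk⟩ := IsPGroup.iff_card.mp (hX.to_subgroup (frattini X))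
  rw [hk, ← pow_mul] at h1
  obtain ⟨i, -, hi⟩ := (Nat.dvd_prime_pow Nat.prime_two).mp h1
  rcases i.eq_zero_or_pos with rfl | hi0
  · exact orderOf_eq_one_iff.mp hi
  · exact absurd (hi ▸ dvd_pow_self 2 hi0.ne') ha.not_two_dvd_nat

/-- A commuting pair all of whose products `x * w ^ i` are fixed-point-free of order dividing the odd
prime `l` on a group of exponent two: `w` is trivial. -/
theorem pair_eq_one {E : Type*} [AddCommGroup E] (hE : ∀ v : E, v + v = 0) (x w : AddMonoid.End E)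
    {l : ℕ} (hl : l.Prime) (hl2 : l ≠ 2) (hxw : Commute x w) (hx : x ^ l = 1) (hw : w ^ l = 1)
    (hfix : ∀ i v, (x * w ^ i) v = v → v = 0) : w = 1 := by
  have hgeom : ∀ z : AddMonoid.End E, z ^ l = 1 → (∀ v, z v = v → v = 0) →
      ∑ j ∈ Finset.range l, z ^ j = 0 := by
    intro z hz hzf
    refine DFunLike.ext _ _ fun v => hzf _ ?_
    have h : (z - 1) * ∑ j ∈ Finset.range l, z ^ j = 0 := by rw [mul_geom_sum, hz, sub_self]
    exact sub_eq_zero.mp (DFunLike.congr_fun h v)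
  obtain ⟨m, hm⟩ := hl.odd_of_ne_two hl2
  have h2 : ((2 : ℕ) : AddMonoid.End E) = 0 := DFunLike.ext _ _ fun v => by
    rw [AddMonoid.End.natCast_apply, two_nsmul, hE]; rfl
  have hl1 : ((l : ℕ) : AddMonoid.End E) = 1 := by
    rw [hm, Nat.cast_add, Nat.cast_mul, h2, zero_mul, zero_add, Nat.cast_one]
  have h0 := hgeom x hx fun v hv => hfix 0 v (by rw [pow_zero, mul_one]; exact hv)
  have hsum : ∑ i ∈ Finset.range l, ∑ j ∈ Finset.range l, (x * w ^ i) ^ j = 0 :=
    Finset.sum_eq_zero fun i _ => hgeom _ (by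
      rw [(hxw.pow_right i).mul_pow, hx, one_mul, ← pow_mul, mul_comm, pow_mul, hw, one_pow]) (hfix i)
  set Z := ∑ i ∈ Finset.range l, w ^ i with hZ
  rw [Finset.sum_comm] at hsum
  have hterm : ∀ j ∈ Finset.range l, ∑ i ∈ Finset.range l, (x * w ^ i) ^ j =
      if j = 0 then (1 : AddMonoid.End E) else x ^ j * Z := by
    intro j hj
    rw [Finset.mem_range] at hj
    split_ifs with h
    · subst h
      simp only [pow_zero, Finset.sum_const, Finset.card_range, nsmul_eq_mul, mul_one, hl1]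
    · have hcop : j.Coprime l :=
        ((hl.coprime_iff_not_dvd).mpr (Nat.not_dvd_of_pos_of_lt (Nat.pos_of_ne_zero h) hj)).symm
      rw [Finset.sum_congr rfl fun i _ => show (x * w ^ i) ^ j = x ^ j * w ^ (i * j) by
        rw [(hxw.pow_right i).mul_pow, ← pow_mul], ← Finset.mul_sum]
      congr 1
      rw [hZ]
      have hw' : ∀ i, w ^ i = w ^ (i % l) := fun i => by
        conv_lhs => rw [← Nat.mod_add_div i l, pow_add, pow_mul, hw, one_pow, mul_one]
      refine Finset.sum_bij (fun i _ => i * j % l) (fun i _ => Finset.mem_range.mpr (Nat.mod_lt _ hl.pos))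
        (fun a ha b hb hab => ?_) (fun b hb => ?_) fun i _ => hw' _
      · have := Nat.ModEq.cancel_right_of_coprime (m := l) (c := j) hcop.symm hab
        rwa [Nat.ModEq, Nat.mod_eq_of_lt (Finset.mem_range.mp ha),
          Nat.mod_eq_of_lt (Finset.mem_range.mp hb)] at this
      · obtain ⟨k, -, hk⟩ := Nat.exists_mul_mod_eq_one_of_coprime hcop hl.one_lt
        refine ⟨b * k % l, Finset.mem_range.mpr (Nat.mod_lt _ hl.pos), ?_⟩
        rw [Nat.mod_mul_mod, mul_assoc, mul_comm k, Nat.mul_mod, hk, mul_one, Nat.mod_mod,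
          Nat.mod_eq_of_lt (Finset.mem_range.mp hb)]
  rw [Finset.sum_congr rfl hterm] at hsum
  obtain ⟨l', rfl⟩ : ∃ l', l = l' + 1 := ⟨l - 1, by have := hl.pos; omega⟩
  rw [Finset.sum_range_succ', if_pos rfl,
    Finset.sum_congr rfl (fun j _ => if_neg (Nat.succ_ne_zero j)), ← Finset.sum_mul] at hsum
  rw [Finset.sum_range_succ', pow_zero] at h0
  rw [eq_neg_of_add_eq_zero_left h0, neg_one_mul, add_comm, ← sub_eq_add_neg, sub_eq_zero] at hsum
  have hgs := geom_sum_mul w (l' + 1)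
  rw [← hZ, ← hsum, one_mul, hw, sub_self, sub_eq_zero] at hgs
  exact hgs

end Cfsg.Agent.Coprime.FpfTools
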