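import Cfsg.Agent.Coprime.HalfTrans
import Mathlib.FieldTheory.Fixed
import Mathlib.FieldTheory.Finite.GaloisField
import Mathlib.RingTheory.LittleWedderburn

/-!
A solvable linear group of odd order transitive on the non-zero vectors up to sign is semilinear of
dimension one over a finite field.
-/

namespace Cfsg.Agent.Coprime.HalfTrans

open Subgroup MulAction

universe u v

variable {D : Type v} {E : Type u} [Group D] [Finite D] [AddCommGroup E] [Finite E] [DistribMulAction D E]
  [FaithfulSMul D E] {q : ℕ}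

/-- Automorphisms of a finite field of order `q ^ k` are at most `k` in number. -/
theorem card_ringAut_le (K : Type u) [Field K] [Finite K] (q : ℕ) [Fact q.Prime] [CharP K q] :
    ∃ k : ℕ, Nat.card K = q ^ k ∧ Nat.card (K ≃+* K) ≤ k := by
  let _ : Algebra (ZMod q) K := ZMod.algebra K q
  refine ⟨Module.finrank (ZMod q) K, by rw [Module.natCard_eq_pow_finrank (K := ZMod q), Nat.card_zmod],
    le_trans ?_ (AlgEquiv.card_le (F := ZMod q) (K := K))⟩
  rw [← Nat.card_eq_fintype_card]
  refine Nat.card_le_card_of_injective (fun σ : K ≃+* K => AlgEquiv.ofRingEquiv (f := σ) fun x => ?_) ?_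
  · exact RingHom.congr_fun (RingHom.ext_zmod ((σ : K →+* K).comp (algebraMap (ZMod q) K)) _) x
  · intro σ τ h
    exact RingEquiv.ext fun x => AlgEquiv.congr_fun h x

/-- The automorphism group of a finite field is cyclic. -/
theorem isCyclic_ringAut (K : Type u) [Field K] [Finite K] : IsCyclic (K ≃+* K) := by
  have := Fintype.ofFinite K
  obtain ⟨p, hp⟩ := CharP.exists K
  have : Fact p.Prime := ⟨(CharP.char_is_prime_or_zero K p).resolve_right fun h => by
    subst h; exact CharP.char_ne_zero_of_finite K 0 rfl⟩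
  let _ : Algebra (ZMod p) K := ZMod.algebra K p
  let Ψ : (K ≃+* K) →* (K ≃ₐ[ZMod p] K) :=
    { toFun := fun σ => AlgEquiv.ofRingEquiv (f := σ) fun x =>
        RingHom.congr_fun (RingHom.ext_zmod ((σ : K →+* K).comp (algebraMap (ZMod p) K)) _) x
      map_one' := AlgEquiv.ext fun _ => rfl
      map_mul' := fun _ _ => AlgEquiv.ext fun _ => rfl }
  exact isCyclic_of_injective Ψ fun σ τ h => RingEquiv.ext fun x => AlgEquiv.congr_fun h x

variable [Nontrivial E] [Group.IsSolvable D] (hodd : Odd (Nat.card D)) (hq : q.Prime)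
  (hE : ∀ e : E, q • e = 0) (htrans : ∀ a b : E, a ≠ 0 → b ≠ 0 → ∃ d : D, d • a = b ∨ d • a = -b)
include hodd hq hE htrans

/-- The group is contained in the semilinear group of dimension one. -/
theorem exists_semilinear :
    ∃ (K : Type u) (_ : Field K) (_ : Finite K) (φ : E ≃+ K),
      (∀ d : D, ∃ (a : Kˣ) (σ : K ≃+* K), ∀ x : E, φ (d • x) = a * σ (φ x)) ∧
        ∃ ψ : D →* (K ≃+* K), ψ.ker ≤ Cfsg.fittingSubgroup D := by
  classical
  set ρ : D →* AddMonoid.End E := DistribMulAction.toAddMonoidEnd D E with hρ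
  have hρinj : Function.Injective ρ := fun a b h =>
    FaithfulSMul.eq_of_smul_eq_smul fun x => DFunLike.congr_fun h x
  set F := Cfsg.fittingSubgroup D with hF
  have hFn : F.Normal := Cores.fittingSubgroup_normal
  obtain ⟨z, hz⟩ := (fitting_cyclic hodd hq hE htrans).exists_generator
  have : Finite (AddMonoid.End E) := Finite.of_injective (fun f => (f : E → E)) DFunLike.coe_injective
  set S := Subring.closure ({ρ (z : D)} : Set (AddMonoid.End E)) with hS
  have : IsMulCommutative S := Subring.isMulCommutative_closure (by rintro x rfl y rfl; rfl)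
  have hFS : ∀ g ∈ F, ρ g ∈ S := by
    intro g hg
    obtain ⟨i, hi⟩ := Subgroup.mem_zpowers_iff.mp (hz ⟨g, hg⟩)
    obtain ⟨j, hj⟩ := (IsOfFinOrder.mem_powers_iff_mem_zpowers (isOfFinOrder_of_finite z)).mpr (hz ⟨g, hg⟩)
    have : g = (z : D) ^ j := (congrArg Subtype.val hj).symm
    rw [this, map_pow]
    exact pow_mem (Subring.subset_closure (Set.mem_singleton _)) j
  -- conjugation preserves the ring
  have hconj : ∀ (d : D), ∀ s ∈ S, ρ d * s * ρ d⁻¹ ∈ S := by
    intro d s hs
    have h1 : ρ d⁻¹ * ρ d = 1 := by rw [← map_mul, inv_mul_cancel, map_one]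
    induction hs using Subring.closure_induction with
    | mem x hx =>
      obtain rfl := hx
      rw [← map_mul, ← map_mul]
      exact hFS _ (hFn.conj_mem _ z.2 d)
    | zero => simp
    | one => rw [mul_one, ← map_mul, mul_inv_cancel, map_one]; exact one_mem _
    | add x y _ _ hx hy => rw [mul_add, add_mul]; exact add_mem hx hy
    | neg x _ hx => rw [mul_neg, neg_mul]; exact neg_mem hx
    | mul x y _ _ hx hy =>
      have : ρ d * (x * y) * ρ d⁻¹ = (ρ d * x * ρ d⁻¹) * (ρ d * y * ρ d⁻¹) := by
        rw [mul_assoc (ρ d * x) (ρ d⁻¹), ← mul_assoc (ρ d⁻¹) (ρ d * y), ← mul_assoc (ρ d⁻¹) (ρ d),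
          h1, one_mul]
        simp only [mul_assoc]
      rw [this]; exact mul_mem hx hy
  let cj : D → S → S := fun d s => ⟨ρ d * s * ρ d⁻¹, hconj d s s.2⟩
  have cj_smul : ∀ d s (x : E), (cj d s : AddMonoid.End E) (d • x) = d • ((s : AddMonoid.End E) x) := by
    intro d s x
    change d • ((s : AddMonoid.End E) (d⁻¹ • d • x)) = _
    rw [inv_smul_smul]
  -- annihilators
  let Ann : E → Set S := fun x => {s | (s : AddMonoid.End E) x = 0}
  have hcard : ∀ x y : E, x ≠ 0 → y ≠ 0 → Nat.card (Ann x) = Nat.card (Ann y) := by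
    intro x y hx hy
    have main : ∀ x y : E, x ≠ 0 → y ≠ 0 → Nat.card (Ann x) ≤ Nat.card (Ann y) := by
      intro x y hx hy
      obtain ⟨d, hd⟩ := htrans x y hx hy
      refine Nat.card_le_card_of_injective
        (fun s : Ann x => (⟨cj d s.1, ?_⟩ : Ann y)) ?_
      · have h0 : (cj d s.1 : AddMonoid.End E) (d • x) = 0 := by
          rw [cj_smul]; exact (congrArg (d • ·) s.2).trans (smul_zero _)
        rcases hd with h | h
        · exact h ▸ h0
        · rw [h, map_neg, neg_eq_zero] at h0; exact h0
      · intro s t h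
        refine Subtype.ext (Subtype.ext (DFunLike.ext _ _ fun w => ?_))
        have := congrArg (fun r : S => (r : AddMonoid.End E) (d • w)) (congrArg Subtype.val h)
        simpa only [cj_smul, smul_left_cancel_iff] using this
    exact le_antisymm (main x y hx hy) (main y x hy hx)
  have hprime : ∀ x : E, x ≠ 0 → ∀ s t : S, s * t ∈ Ann x → s ∈ Ann x ∨ t ∈ Ann x := by
    intro x hx s t hst
    refine (em ((t : AddMonoid.End E) x = 0)).symm.imp (fun ht => ?_) id
    have hsub : Ann x ⊆ Ann ((t : AddMonoid.End E) x) := by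
      intro r hr
      change ((r * t : S) : AddMonoid.End E) x = 0
      rw [setLike_mul_comm r.2 t.2 |> Subtype.ext (a1 := r * t) (a2 := t * r)]
      exact (congrArg (t : AddMonoid.End E) hr).trans (map_zero _)
    have heq := Set.eq_of_subset_of_ncard_le hsub (le_of_eq (by
      rw [← Nat.card_coe_set_eq, ← Nat.card_coe_set_eq]; exact hcard _ _ ht hx)) (Set.toFinite _)
    rw [heq]; exact hst
  have hann : ∀ x y : E, x ≠ 0 → y ≠ 0 → Ann x ⊆ Ann y := by
    intro x y hx hy s hs
    by_contra hsy
    by_cases hxy : x + y = 0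
    · exact hsy (show (s : AddMonoid.End E) y = 0 by
        rw [eq_neg_of_add_eq_zero_right hxy, map_neg, show (s : AddMonoid.End E) x = 0 from hs, neg_zero])
    have hne : ¬ Ann y ⊆ Ann x := fun h => hsy (by
      rw [Set.eq_of_subset_of_ncard_le h (le_of_eq (by
        rw [← Nat.card_coe_set_eq, ← Nat.card_coe_set_eq]; exact hcard _ _ hx hy)) (Set.toFinite _)]
      exact hs)
    obtain ⟨t, hty, htx⟩ := Set.not_subset.mp hne
    have hst : s * t ∈ Ann (x + y) := by
      change (s : AddMonoid.End E) ((t : AddMonoid.End E) (x + y)) = 0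
      rw [map_add, map_add, show (t : AddMonoid.End E) y = 0 from hty, map_zero, add_zero]
      change ((s * t : S) : AddMonoid.End E) x = 0
      rw [mul_comm']
      exact (congrArg (t : AddMonoid.End E) hs).trans (map_zero _)
    rcases hprime _ hxy s t hst with h | h
    · exact hsy (show (s : AddMonoid.End E) y = 0 by simpa [show (s : AddMonoid.End E) x = 0 from hs] using
        (show (s : AddMonoid.End E) x + (s : AddMonoid.End E) y = 0 from (map_add _ _ _).symm.trans h))
    · exact htx (show (t : AddMonoid.End E) x = 0 by simpa [show (t : AddMonoid.End E) y = 0 from hty] using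
        (show (t : AddMonoid.End E) x + (t : AddMonoid.End E) y = 0 from (map_add _ _ _).symm.trans h))
  have hinj : ∀ (s : S) (x : E), x ≠ 0 → (s : AddMonoid.End E) x = 0 → s = 0 := by
    intro s x hx hs
    refine Subtype.ext (DFunLike.ext _ _ fun y => ?_)
    by_cases hy : y = 0
    · simp [hy]
    · exact hann x y hx hy hs
  obtain ⟨v, hv⟩ := exists_ne (0 : E)
  have : Nontrivial S := ⟨0, 1, fun h => hv (by
    have := congrArg (fun r : S => (r : AddMonoid.End E) v) h
    simpa using this.symm)⟩
  have hq0 : (q : S) = 0 := by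
    refine hinj _ v hv ?_
    change ((q : AddMonoid.End E)) v = 0
    rw [AddMonoid.End.natCast_apply]; exact hE v
  have hqS : CharP S q := ringChar.of_eq (CharP.ringChar_of_prime_eq_zero hq hq0)
  have : Fact q.Prime := ⟨hq⟩
  -- the induced field automorphisms
  have cj_mul : ∀ d s t, cj d (s * t) = cj d s * cj d t := by
    intro d s t
    refine Subtype.ext (DFunLike.ext _ _ fun x => ?_)
    change d • ((s : AddMonoid.End E) ((t : AddMonoid.End E) (d⁻¹ • x))) =
      d • ((s : AddMonoid.End E) (d⁻¹ • d • ((t : AddMonoid.End E) (d⁻¹ • x))))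
    rw [inv_smul_smul]
  have cj_add : ∀ d s t, cj d (s + t) = cj d s + cj d t := fun d s t => Subtype.ext (by
    change ρ d * ((s : AddMonoid.End E) + t) * ρ d⁻¹ = _
    rw [mul_add, add_mul]; rfl)
  have cj_cj : ∀ d e s, cj d (cj e s) = cj (d * e) s := fun d e s => Subtype.ext (by
    change ρ d * (ρ e * s * ρ e⁻¹) * ρ d⁻¹ = ρ (d * e) * s * ρ (d * e)⁻¹
    rw [mul_inv_rev, map_mul, map_mul]; simp only [mul_assoc])
  have cj_one : ∀ s, cj 1 s = s := fun s => Subtype.ext (by
    change ρ 1 * s * ρ 1⁻¹ = (s : AddMonoid.End E)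
    rw [inv_one, map_one, one_mul, mul_one])
  have : NoZeroDivisors S := ⟨fun {s t} hst => by
    refine (hprime v hv s t (show ((s * t : S) : AddMonoid.End E) v = 0 by rw [hst]; rfl)).imp
      (fun h => hinj _ v hv h) (fun h => hinj _ v hv h)⟩
  have : IsDomain S := NoZeroDivisors.to_isDomain _
  let fld : Field S := (Finite.isDomain_to_isField S).toField
  let σ : D → (S ≃+* S) := fun d =>
    { toFun := cj d
      invFun := cj d⁻¹
      left_inv := fun s => by rw [cj_cj, inv_mul_cancel, cj_one]
      right_inv := fun s => by rw [cj_cj, mul_inv_cancel, cj_one]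
      map_mul' := cj_mul d
      map_add' := cj_add d }
  have : Finite (S ≃+* S) := Finite.of_injective (fun f => (f : S → S)) DFunLike.coe_injective
  let σh : D →* (S ≃+* S) :=
    { toFun := σ
      map_one' := RingEquiv.ext cj_one
      map_mul' := fun d e => RingEquiv.ext fun s => (cj_cj d e s).symm }
  have hker : σh.ker ≤ F := by
    refine le_trans (fun d hd => ?_) Cores.centralizer_fittingSubgroup_le
    rw [mem_centralizer_iff]
    intro g hg
    have h1 := congrArg Subtype.val (RingEquiv.congr_fun (MonoidHom.mem_ker.mp hd) ⟨ρ g, hFS g hg⟩)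
    change ρ d * ρ g * ρ d⁻¹ = ρ g at h1
    rw [← map_mul, ← map_mul] at h1
    exact (mul_inv_eq_iff_eq_mul.mp (hρinj h1)).symm
  -- counting
  obtain ⟨k, hk, hk'⟩ := card_ringAut_le S q
  have hFle : Nat.card F + 1 ≤ Nat.card S := by
    have h1 : Nat.card (Option F) ≤ Nat.card S := by
      refine Nat.card_le_card_of_injective
        (fun o => o.elim (0 : S) fun g => ⟨ρ g, hFS g g.2⟩) ?_
      have h0 : ∀ g : F, (⟨ρ g, hFS g g.2⟩ : S) ≠ 0 := fun g h => hv (by
        have : (g : D) • v = 0 := congrArg (fun r : S => (r : AddMonoid.End E) v) h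
        exact (smul_eq_zero_iff_eq _).mp this)
      rintro (_ | g) (_ | g') h
      · rfl
      · exact absurd h.symm (h0 g')
      · exact absurd h (h0 g)
      · exact congrArg some (Subtype.ext (hρinj (congrArg Subtype.val h)))
    rwa [Finite.card_option] at h1
  have hDle : Nat.card D ≤ k * Nat.card F := by
    rw [← σh.ker.index_mul_card, Subgroup.index_ker]
    exact Nat.mul_le_mul (le_trans (Subgroup.card_le_card_group _) hk') (Subgroup.card_le_of_le hker)
  have hEle : Nat.card E ≤ 2 * Nat.card D + 1 := by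
    have h1 : Nat.card E ≤ Nat.card (Option (D ⊕ D)) := by
      refine Nat.card_le_card_of_surjective
        (fun o => o.elim 0 (Sum.elim (fun d => d • v) fun d => -(d • v))) fun y => ?_
      by_cases hy : y = 0
      · exact ⟨none, hy.symm⟩
      obtain ⟨d, hd | hd⟩ := htrans v y hv hy
      · exact ⟨some (Sum.inl d), hd⟩
      · exact ⟨some (Sum.inr d), show -(d • v) = y by rw [hd, neg_neg]⟩
    rw [Finite.card_option, Nat.card_sum] at h1
    omega
  -- the line through `v` is everything
  have hev : Function.Injective (fun s : S => (s : AddMonoid.End E) v) := fun s t h =>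
    sub_eq_zero.mp (hinj _ v hv (show ((s - t : S) : AddMonoid.End E) v = 0 by
      change (s : AddMonoid.End E) v - (t : AddMonoid.End E) v = 0
      exact sub_eq_zero.mpr h))
  have hsurj : Function.Surjective (fun s : S => (s : AddMonoid.End E) v) := by
    by_contra hns
    simp only [Function.Surjective, not_forall, not_exists] at hns
    obtain ⟨w, hw⟩ := hns
    have h2 : Nat.card (S × S) ≤ Nat.card E := by
      refine Nat.card_le_card_of_injective
        (fun p : S × S => (p.1 : AddMonoid.End E) v + (p.2 : AddMonoid.End E) w) ?_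
      rintro ⟨a, b⟩ ⟨a', b'⟩ h
      have hsum : ((b - b' : S) : AddMonoid.End E) w = ((a' - a : S) : AddMonoid.End E) v := by
        change (b : AddMonoid.End E) w - (b' : AddMonoid.End E) w =
          (a' : AddMonoid.End E) v - (a : AddMonoid.End E) v
        rw [sub_eq_sub_iff_add_eq_add, add_comm]
        simpa [add_comm] using h
      by_cases hb : b = b'
      · subst hb
        exact Prod.ext (hev (add_right_cancel h)) rfl
      · exfalso
        refine hw ((b - b')⁻¹ * (a' - a)) ?_
        change (((b - b')⁻¹ : S) : AddMonoid.End E) (((a' - a : S) : AddMonoid.End E) v) = w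
        rw [← hsum]
        change ((((b - b')⁻¹ * (b - b') : S)) : AddMonoid.End E) w = w
        rw [inv_mul_cancel₀ (sub_ne_zero.mpr hb)]
        rfl
    rw [Nat.card_prod] at h2
    have h3 : 2 * k < Nat.card S + 1 := by
      rw [hk]
      have := (Nat.lt_two_pow_self (n := k))
      have h5 : 2 * k ≤ 2 ^ k := by
        rcases k.eq_zero_or_pos with rfl | hk0
        · simp
        · calc 2 * k ≤ 2 * 2 ^ (k - 1) := Nat.mul_le_mul_left 2 (Nat.lt_two_pow_self (n := k - 1) |>.nat_succ_le |> fun h => by omega)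
            _ = 2 ^ k := by rw [← pow_succ']; congr 1; omega
      exact Nat.lt_succ_of_le (h5.trans (Nat.pow_le_pow_left hq.two_le k))
    have h4 : 2 * Nat.card D + 1 ≤ 2 * (k * (Nat.card S - 1)) + 1 := by
      have : Nat.card D ≤ k * (Nat.card S - 1) := hDle.trans (Nat.mul_le_mul_left _ (by omega))
      omega
    have h1 : 2 ≤ Nat.card S := Finite.one_lt_card
    obtain ⟨m, hm⟩ : ∃ m, Nat.card S = m + 1 := ⟨Nat.card S - 1, by omega⟩
    rw [hm] at h2 h3 h4 h1
    simp only [Nat.add_sub_cancel] at h4
    nlinarith [hEle, h2, h4, Nat.mul_le_mul_right m (show 2 * k ≤ m + 1 by omega)]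
  set ε : S ≃+ E := AddEquiv.ofBijective
    (AddMonoidHom.mk' (fun s : S => (s : AddMonoid.End E) v) fun s t => rfl) ⟨hev, hsurj⟩ with hε
  have hεa : ∀ s : S, ε s = (s : AddMonoid.End E) v := fun s => rfl
  refine ⟨S, fld, inferInstance, ε.symm, fun d => ?_, σh, hker⟩
  have hdv : ε.symm (d • v) ≠ 0 := fun h => hv (by
    rw [AddEquiv.map_eq_zero_iff] at h
    exact (smul_eq_zero_iff_eq _).mp h)
  refine ⟨Units.mk0 _ hdv, σ d, fun x => ?_⟩
  obtain ⟨s, rfl⟩ := ε.surjective x
  rw [AddEquiv.symm_apply_apply, AddEquiv.symm_apply_eq, Units.val_mk0, mul_comm, hεa, hεa]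
  change d • ((s : AddMonoid.End E) v) =
    (cj d s : AddMonoid.End E) (((ε.symm (d • v) : S) : AddMonoid.End E) v)
  rw [show ((ε.symm (d • v) : S) : AddMonoid.End E) v = d • v from ε.apply_symm_apply _, cj_smul]

end Cfsg.Agent.Coprime.HalfTrans
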