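import Cfsg.Agent.Coprime.FpfElem
import Cfsg.Agent.Coprime.EndBound
import Cfsg.Agent.Coprime.Action
import Mathlib.GroupTheory.Frattini

/-!
Fixed points of an element of prime order in a module for a `q`-group it acts on.
-/

namespace Cfsg.Agent.Coprime.HallHigmanFix

open Subgroup
open Cfsg
open scoped commutatorElement

variable {G : Type*} [Group G] [Finite G] {p q r : ℕ}

omit [Finite G] in
theorem exists_gen {X : Subgroup G} (hr : r.Prime) (hX : Nat.card X = r) :
    ∃ t ∈ X, X = zpowers t ∧ t ^ r = 1 := by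
  have : Fact r.Prime := ⟨hr⟩
  obtain ⟨t, ht⟩ := (isCyclic_of_prime_card (α := X) hX).exists_generator
  refine ⟨t, t.2, le_antisymm (fun x hx => ?_) (zpowers_le.mpr t.2), ?_⟩
  · obtain ⟨i, hi⟩ := mem_zpowers_iff.mp (ht ⟨x, hx⟩)
    exact ⟨i, congrArg Subtype.val hi⟩
  · rw [← hX, ← SubmonoidClass.coe_pow, pow_card_eq_one']
    rfl

omit [Finite G] in
theorem fix_gen {X V : Subgroup G} {t : G} (hXt : X = zpowers t)
    (hCV : V ⊓ centralizer (X : Set G) = ⊥) {v : G} (hv : v ∈ V) (hc : t * v = v * t) : v = 1 := by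
  have h1 : v ∈ V ⊓ centralizer (X : Set G) := by
    refine ⟨hv, mem_centralizer_iff.mpr fun x hx => ?_⟩
    obtain ⟨i, rfl⟩ := mem_zpowers_iff.mp (hXt ▸ hx : x ∈ zpowers t)
    exact (Commute.zpow_left (show Commute t v from hc) i).eq
  rw [hCV] at h1
  exact mem_bot.mp h1

/-- Outside the exception, `C_V(X) ≠ 1`. -/
theorem not_trivial (hp : p.Prime) (hq : q.Prime) (hr : r.Prime) (hpq : p ≠ q) (hpr : p ≠ r) (hqr : q ≠ r)
    (X Q V : Subgroup G) (hX : Nat.card X = r) (hQ : IsPGroup q Q) (hXQ : X ≤ normalizer (Q : Set G))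
    (hXfaith : X ⊓ centralizer (Q : Set G) = ⊥) (hV : IsElementaryAbelian p V)
    (hXV : X ≤ normalizer (V : Set G)) (hQV : Q ≤ normalizer (V : Set G))
    (hfaith : (X ⊔ Q) ⊓ centralizer (V : Set G) = ⊥) (hCV : V ⊓ centralizer (X : Set G) = ⊥)
    (hexc : (q = 2 ∧ ∃ m, 0 < m ∧ r = 2 ^ m + 1) → IsMulCommutative Q) : False := by
  have : Fact p.Prime := ⟨hp⟩
  have : Fact r.Prime := ⟨hr⟩
  have := hV.1
  obtain ⟨t, htX, hXt, htr⟩ := exists_gen hr hX
  have h := FpfElem.commutator_le_centralizer' (l := p) (r := r) V hV.2 t htr hpr (hXV htX)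
    (fun v hv hc => fix_gen hXt hCV hv hc) Q hQV (hXQ htX) (fun s hs hsd => by
      have : Fact q.Prime := ⟨hq⟩
      obtain ⟨n, hn⟩ := IsPGroup.iff_card.mp hQ
      have : s = q := (Nat.prime_dvd_prime_iff_eq hs hq).mp (hs.dvd_of_dvd_pow (hn ▸ hsd))
      subst this
      refine ⟨Ne.symm hpq, hqr, ?_⟩
      by_cases he : s = 2 ∧ ∃ m, 0 < m ∧ r = 2 ^ m + 1
      · exact Or.inr (hexc he)
      · exact Or.inl he)
  rw [← hXt] at h
  have h2 : ⁅X, Q⁆ = ⊥ := by
    rw [eq_bot_iff, ← hfaith]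
    refine le_inf ?_ h
    exact (le_normalizer_iff_commutator_le_right.mp hXQ).trans le_sup_right
  rw [commutator_eq_bot_iff_le_centralizer] at h2
  have h3 : X = ⊥ := by rw [eq_bot_iff, ← hXfaith]; exact le_inf le_rfl h2
  rw [h3, card_bot] at hX
  exact hr.ne_one hX.symm

set_option maxHeartbeats 1000000 in
open EndBound in
/-- The extraspecial case. -/
theorem extraspecial_case (hp : p.Prime) (hq : q.Prime) (hr : r.Prime) (hpq : p ≠ q) (hpr : p ≠ r)
    (hqr : q ≠ r) (X Q V : Subgroup G) (hX : Nat.card X = r) (hQ : IsExtraspecial q Q)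
    (hXQ : X ≤ normalizer (Q : Set G))
    (hCQ : Q ⊓ centralizer (X : Set G) = (center Q).map Q.subtype) (hV : IsElementaryAbelian p V)
    (hXV : X ≤ normalizer (V : Set G)) (hQV : Q ≤ normalizer (V : Set G))
    (hfaith : (X ⊔ Q) ⊓ centralizer (V : Set G) = ⊥) (hCV : V ⊓ centralizer (X : Set G) = ⊥) :
    q = 2 ∧ ∃ n : ℕ, r = 2 ^ n + 1 ∧ Nat.card Q = 2 ^ (2 * n + 1) := by
  classical
  obtain ⟨⟨hQp, hfr, hcm⟩, hcZ⟩ := hQ
  have : Fact p.Prime := ⟨hp⟩
  have : Fact r.Prime := ⟨hr⟩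
  have : Fact q.Prime := ⟨hq⟩
  have hna : ¬ IsMulCommutative Q := by
    intro h
    have h1 : commutator Q = ⊥ := by
      rw [_root_.commutator_def, eq_bot_iff]
      exact commutator_le.mpr fun x _ y _ =>
        mem_bot.mpr (commutatorElement_eq_one_iff_mul_comm.mpr (mul_comm' x y))
    rw [← hcm, h1, card_bot] at hcZ
    exact hq.ne_one hcZ.symm
  have := hV.1
  obtain ⟨t, htX, hXt, htr⟩ := exists_gen hr hX
  have hXQne : ¬ X ≤ centralizer (Q : Set G) := by
    intro h
    refine hna ⟨⟨fun a b => ?_⟩⟩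
    have h2 : (b : G) ∈ (center Q).map Q.subtype := by
      rw [← hCQ]
      exact ⟨b.2, le_centralizer_iff.mp h b.2⟩
    obtain ⟨c, hc, hcb⟩ := h2
    have : c = b := Subtype.ext hcb
    subst this
    exact mem_center_iff.mp hc a
  have hXfaith : X ⊓ centralizer (Q : Set G) = ⊥ := by
    rcases (Nat.dvd_prime hr).mp (hX ▸ card_dvd_of_le (inf_le_left : X ⊓ centralizer (Q : Set G) ≤ X)) with h | h
    · exact card_eq_one.mp h
    · exact absurd (inf_eq_left.mp (eq_of_le_of_card_ge inf_le_left (hX.trans h.symm).le)) hXQne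
  obtain ⟨hq2, m0, -, hm0⟩ : q = 2 ∧ ∃ m, 0 < m ∧ r = 2 ^ m + 1 := by
    by_contra hne
    exact not_trivial hp hq hr hpq hpr hqr X Q V hX hQp hXQ hXfaith hV hXV hQV hfaith hCV
      fun h => absurd h hne
  refine ⟨hq2, ?_⟩
  -- the representation
  let Y := normalizer (V : Set G)
  let N := V.subgroupOf Y
  have : IsMulCommutative N := ⟨⟨fun a b => Subtype.ext (Subtype.ext
    (show ((a : Y) : G) * ((b : Y) : G) = ((b : Y) : G) * ((a : Y) : G) from
      congrArg Subtype.val (mul_comm' (⟨((a : Y) : G), a.2⟩ : V) ⟨((b : Y) : G), b.2⟩)))⟩⟩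
  have : N.Normal := Subgroup.normal_in_normalizer
  have hexpN : ∀ v ∈ N, v ^ p = 1 := fun v hv => Subtype.ext (by
    rw [SubmonoidClass.coe_pow]; exact hV.2 _ hv)
  let ρ := LinRep.rep N p
  let T : Y := ⟨t, hXV htX⟩
  have hTr : T ^ r = 1 := Subtype.ext htr
  have ht1 : t ≠ 1 := by
    intro h
    rw [h, zpowers_one_eq_bot] at hXt
    rw [hXt, card_bot] at hX
    exact hr.ne_one hX.symm
  have hoT : orderOf T = r := orderOf_eq_prime hTr fun h => ht1 (congrArg Subtype.val h)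
  let _ := Fintype.ofFinite (zpowers T)
  have hsum0 : ∑ a : zpowers T, ρ ((zpowers T).subtype a) = 0 := by
    refine LinRep.sum_rep_eq_zero N p _ fun x hx hc => Subtype.ext (fix_gen hXt hCV hx ?_)
    exact congrArg Subtype.val (hc ⟨T, mem_zpowers T⟩)
  have hfin : IsOfFinOrder T := isOfFinOrder_of_finite T
  have hsum : ∑ i ∈ Finset.range r, ρ T ^ i = 0 := by
    rw [← hsum0, Finset.sum_range]
    symm
    refine Fintype.sum_equiv ((finEquivZPowers hfin).symm.trans (finCongr hoT)) _ _ fun a => ?_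
    obtain ⟨i, rfl⟩ := (finEquivZPowers hfin).surjective a
    rw [Equiv.trans_apply, Equiv.symm_apply_apply, finEquivZPowers_apply, ← map_pow]
    rfl
  have hrk : ((r : ℕ) : LinRep.Coeff p) ≠ 0 := fun h =>
    hpr ((Nat.prime_dvd_prime_iff_eq hp hr).mp ((CharP.cast_eq_zero_iff _ p r).mp h))
  have hqk : ((q : ℕ) : LinRep.Coeff p) ≠ 0 := fun h =>
    hpq ((Nat.prime_dvd_prime_iff_eq hp hq).mp ((CharP.cast_eq_zero_iff _ p q).mp h))
  let ιY : Q →* Y := Q.subtype.codRestrict _ fun x => hQV x.2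
  let _ : CommGroup (center Q) :=
    { (inferInstance : Group (center Q)) with
      mul_comm := fun a b => Subtype.ext (mem_center_iff.mp b.2 a) }
  have hUk : ((Nat.card (center Q) : ℕ) : LinRep.Coeff p) ≠ 0 := by rw [hcZ]; exact hqk
  let τ := ρ.comp (ιY.comp (center Q).subtype)
  have hinj : ∀ x : Q, ρ (ιY x) = 1 → x = 1 := by
    intro x hx
    have h1 := (LinRep.rep_eq_one_iff N p hexpN _).mp hx
    have h2 : (x : G) ∈ (X ⊔ Q) ⊓ centralizer (V : Set G) := by
      refine ⟨mem_sup_right x.2, mem_centralizer_iff.mpr fun v hv => ?_⟩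
      exact congrArg Subtype.val (mem_centralizer_iff.mp h1 ⟨v, le_normalizer hv⟩ hv)
    rw [hfaith] at h2
    exact Subtype.ext (mem_bot.mp h2)
  have : Nontrivial (center Q) := Finite.one_lt_card_iff_nontrivial.mp (hcZ ▸ hq.one_lt)
  obtain ⟨z, hz⟩ := exists_ne (1 : center Q)
  obtain ⟨χ, hχ, hχz⟩ := Weights.exists_proj_ne_zero_of_act_ne_one hUk (τ := τ) (u := z)
    (fun h => hz (Subtype.ext (hinj _ h)))
  have hχinj : ∀ u : center Q, χ u = 1 → u = 1 := by
    intro u hu
    by_contra hne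
    obtain ⟨i, hi⟩ := Submonoid.mem_powers_iff _ _ |>.mp
      (mem_powers_of_prime_card (G := center Q) hcZ (g := u) (g' := z) hne)
    exact hχz (by rw [← hi, map_pow, hu, one_pow])
  set e := Weights.proj τ χ with he
  have hmem : ∀ g : Y, (∀ u : center Q, Commute (ιY u) g) → g ∈ FpfPrime.stab ρ e := by
    intro g hg
    have h3 := Weights.mul_proj_of_conj (τ := τ) (σ := MulEquiv.refl _) (g := ρ g) (fun u => by
      show ρ g * ρ (ιY u) = ρ (ιY u) * ρ g
      rw [← map_mul, ← map_mul, (hg u).eq]) χ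
    exact h3
  have hTst : T ∈ FpfPrime.stab ρ e := hmem T fun u => Subtype.ext (by
    have : ((u : Q) : G) ∈ Q ⊓ centralizer (X : Set G) := by rw [hCQ]; exact ⟨u, u.2, rfl⟩
    exact (mem_centralizer_iff.mp this.2 t htX).symm)
  have hQst : ∀ x : Q, ιY x ∈ FpfPrime.stab ρ e := fun x => hmem _ fun u => by
    show ιY u * ιY x = ιY x * ιY u
    rw [← map_mul, ← map_mul, mem_center_iff.mp u.2 x]
  let ρW := (FpfPrime.sub ρ e).comp (ιY.codRestrict _ hQst)
  have hWnt : Nontrivial (LinearMap.range e) :=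
    Submodule.nontrivial_iff_ne_bot.mpr (fun h => hχ (LinearMap.range_eq_bot.mp h))
  have hscal : ∀ u : center Q, ρW u = ((χ u : (LinRep.Coeff p)ˣ) : LinRep.Coeff p) • 1 := fun u =>
    (FpfPrime.sub_eq_iff _ ((χ u : LinRep.Coeff p) • 1) ((χ u : LinRep.Coeff p) • 1) (fun v => rfl)).mpr (by
      rw [smul_mul_assoc, one_mul]
      exact Weights.act_mul_proj τ χ u)
  have hcc : ∀ a b : Q, ⁅a, b⁆ ∈ center Q := fun a b =>
    hcm ▸ commutator_mem_commutator (mem_top a) (mem_top b)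
  have hcomm : ∀ a b : Q, ∃ c : LinRep.Coeff p, ρW ⁅a, b⁆ = c • 1 := fun a b => ⟨_, hscal ⟨_, hcc a b⟩⟩
  let σ : MulAut Q := Subgroup.normalizerMonoidHom Q ⟨t, hXQ htX⟩
  let TW := FpfPrime.sub ρ e ⟨T, hTst⟩
  have hTWp : ∀ i, TW ^ i = FpfPrime.sub ρ e (⟨T, hTst⟩ ^ i) := fun i => (map_pow _ _ i).symm
  have hmoved : moved σ = ⊤ := by
    refine frattini_nongenerating ?_
    rw [hfr, eq_top_iff]
    intro x _
    have hcop : (Nat.card X).Coprime (Nat.card Q) := by
      obtain ⟨n, hn⟩ := IsPGroup.iff_card.mp hQp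
      rw [hX, hn]
      exact ((Nat.coprime_primes hr hq).mpr (Ne.symm hqr)).pow_right n
    have hle : ⁅Q, X⁆ ⊔ (Q ⊓ centralizer (X : Set G)) ≤ (moved σ ⊔ center Q).map Q.subtype := by
      rw [hCQ, Subgroup.map_sup]
      refine sup_le_sup_right ?_ _
      rw [hXt]
      refine commutator_le.mpr fun w hw a ha => ?_
      obtain ⟨i, rfl⟩ := (isOfFinOrder_of_finite t).mem_zpowers_iff_mem_range_orderOf.mp ha |>
        Finset.mem_image.mp |> fun ⟨n, _, hn⟩ => (⟨n, hn⟩ : ∃ n : ℕ, t ^ n = a)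
      suffices ∀ w : Q, ⁅(w : G), t ^ i⁆ ∈ (moved σ).map Q.subtype from this ⟨w, hw⟩
      clear ha hw
      induction i with
      | zero => intro w; rw [pow_zero, commutatorElement_one_right]; exact one_mem _
      | succ j ihj =>
        intro w
        rw [pow_succ', show ⁅(w : G), t * t ^ j⁆ = ⁅(w : G), t⁆ * (t * ⁅(w : G), t ^ j⁆ * t⁻¹) by
          simp only [commutatorElement_def]; group]
        have h4 : ⁅(w : G), t⁆ ∈ (moved σ).map Q.subtype := by
          refine ⟨(w⁻¹)⁻¹ * σ w⁻¹, mem_moved σ _, ?_⟩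
          show ((w : G)⁻¹)⁻¹ * (t * (w : G)⁻¹ * t⁻¹) = _
          simp [commutatorElement_def, mul_assoc]
        refine mul_mem h4 ?_
        obtain ⟨u, hu, hu'⟩ := ihj w
        refine ⟨σ u, moved_map_mem hu, ?_⟩
        show t * (u : G) * t⁻¹ = _
        rw [show (u : G) = ⁅(w : G), t ^ j⁆ from hu']
    rw [commutator_sup_centralizer hXQ hcop (Or.inl (hXt ▸ isSolvable_zpowers t))] at hle
    obtain ⟨y, hy, hyx⟩ := hle x.2
    rwa [Subtype.ext hyx] at hy
  have hcen : cen (V := LinearMap.range e) ρW = center Q := by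
    refine le_antisymm (fun x hx => mem_center_iff.mpr fun y => ?_) (fun x hx y => ?_)
    · have h1 : ρW.toHomUnits ⁅x, y⁆ = 1 := by
        rw [map_commutatorElement, commutatorElement_eq_one_iff_commute]
        exact Units.ext (hx y).eq
      have h2 := congrArg Units.val h1
      rw [MonoidHom.coe_toHomUnits, hscal ⟨_, hcc x y⟩, Units.val_one] at h2
      have h3 : χ ⟨_, hcc x y⟩ = 1 := by
        obtain ⟨v, hv⟩ := exists_ne (0 : LinearMap.range e)
        have h4 := congrArg (fun f => f v) h2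
        simp only [LinearMap.smul_apply, Module.End.one_apply] at h4
        have hv' : (v : LinRep.Sp N p) ≠ 0 := fun h => hv (Subtype.ext h)
        refine Units.ext (smul_left_injective _ hv' ?_)
        show _ • (v : LinRep.Sp N p) = (1 : LinRep.Coeff p) • (v : LinRep.Sp N p)
        rw [one_smul]
        exact congrArg Subtype.val h4
      exact (commutatorElement_eq_one_iff_mul_comm.mp (congrArg Subtype.val (hχinj _ h3))).symm
    · rw [show ρW x = _ from hscal ⟨x, hx⟩]
      exact (Commute.one_left _).smul_left _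
  rcases moved_le_cen_or_fermat (ρ := ρW) (V := LinearMap.range e) hQp (Ne.symm hqr) hqk hrk hcomm σ TW
    (by rw [hTWp, show (⟨T, hTst⟩ : FpfPrime.stab ρ e) ^ r = 1 from Subtype.ext hTr, map_one])
    (LinearMap.ext fun v => Subtype.ext (by
      have hTv : ∀ i : ℕ, (((TW ^ i) v : LinearMap.range e) : LinRep.Sp N p) = (ρ T ^ i) v := fun i => by
        rw [hTWp, ← map_pow]
        show ρ (((⟨T, hTst⟩ : FpfPrime.stab ρ e) ^ i : FpfPrime.stab ρ e) : Y) v = _
        rw [SubmonoidClass.coe_pow]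
      simp only [LinearMap.sum_apply, Submodule.coe_sum, hTv, LinearMap.zero_apply, Submodule.coe_zero]
      have := congrArg (fun f : Module.End (LinRep.Coeff p) (LinRep.Sp N p) => f v) hsum
      simpa only [LinearMap.sum_apply, LinearMap.zero_apply] using this))
    (fun w => by
      show TW * FpfPrime.sub ρ e _ = FpfPrime.sub ρ e _ * TW
      rw [← map_mul, ← map_mul]
      congr 1
      exact Subtype.ext (Subtype.ext (by
        show t * (w : G) = t * w * t⁻¹ * t
        rw [inv_mul_cancel_right])))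
    with h | ⟨-, m, hm, hrm, hidx⟩
  · rw [hcen, hmoved, top_le_iff] at h
    exact absurd ⟨⟨fun a b => mem_center_iff.mp (h ▸ mem_top b) a⟩⟩ hna
  · refine ⟨m, hrm, ?_⟩
    have h5 : (center Q).index = 2 ^ (2 * m) := by
      rw [← hidx, ← Subgroup.relIndex, hmoved, relIndex_top_right, hcen]
    rw [← card_mul_index (center Q), hcZ, h5, hq2, pow_succ']

end Cfsg.Agent.Coprime.HallHigmanFix
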