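import Cfsg.Agent.Coprime.External
import Cfsg.Agent.Coprime.OddHyp
import Cfsg.Agent.H77.GT
import Cfsg.Agent.Fusion.PComplement
import Cfsg.Agent.H25.Transfer
import Cfsg.Agent.Cores.Fitting

/-!
A group acted on coprimely, all of whose proper invariant subgroups are nilpotent.
-/

namespace Cfsg.Agent.Coprime

open Subgroup
open scoped commutatorElement

universe u v

variable {A : Type u} [Group A] {G : Type v} [Group G] [MulDistribMulAction A G]

/-- The action on the quotient by an invariant normal subgroup. -/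
noncomputable def quotHom (N : Subgroup G) [N.Normal] (hN : IsInvariant A N) : A →* MulAut (G ⧸ N) where
  toFun a := QuotientGroup.congr N N (MulDistribMulAction.toMulAut A G a) (by
    ext x
    constructor
    · rintro ⟨y, hy, rfl⟩; exact hN a y hy
    · intro hx; exact ⟨a⁻¹ • x, hN a⁻¹ x hx, smul_inv_smul a x⟩)
  map_one' := by
    ext x
    obtain ⟨g, rfl⟩ := QuotientGroup.mk_surjective x
    exact congrArg QuotientGroup.mk (one_smul A g)
  map_mul' a b := by
    ext x
    obtain ⟨g, rfl⟩ := QuotientGroup.mk_surjective x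
    exact congrArg QuotientGroup.mk (mul_smul a b g)

theorem isInvariant_of_characteristic (L : Subgroup G) [L.Characteristic] : IsInvariant A L :=
  fun a x hx => by
    rw [← (characteristic_iff_map_eq.mp (inferInstance : L.Characteristic))
      (MulDistribMulAction.toMulAut A G a)]
    exact mem_map_of_mem _ hx

theorem IsInvariant.map_eq {L : Subgroup G} (h : IsInvariant A L) (a : A) :
    L.map (MulDistribMulAction.toMulAut A G a).toMonoidHom = L := by
  ext x
  constructor
  · rintro ⟨y, hy, rfl⟩; exact h a y hy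
  · intro hx; exact ⟨a⁻¹ • x, h a⁻¹ x hx, smul_inv_smul a x⟩

theorem IsInvariant.sup {L M : Subgroup G} (hL : IsInvariant A L) (hM : IsInvariant A M) :
    IsInvariant A (L ⊔ M) := fun a x hx => by
  have := mem_map_of_mem (MulDistribMulAction.toMulAut A G a).toMonoidHom hx
  rwa [Subgroup.map_sup, hL.map_eq, hM.map_eq] at this

theorem IsInvariant.normalizer {L : Subgroup G} (hL : IsInvariant A L) :
    IsInvariant A (Subgroup.normalizer (L : Set G)) := fun a x hx => by
  refine mem_normalizer_iff.mpr fun y => ?_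
  obtain ⟨z, rfl⟩ : ∃ z, a • z = y := ⟨a⁻¹ • y, smul_inv_smul a y⟩
  rw [← smul_inv', ← smul_mul', ← smul_mul', hL.smul_mem_iff, hL.smul_mem_iff]
  exact mem_normalizer_iff.mp hx z

theorem IsInvariant.zjay {P : Subgroup G} (hP : IsInvariant A P) (e : ℕ) :
    IsInvariant A (Thompson.zjay e P) := fun a x hx => by
  have h1 := Thompson.zjay_map (e := e) (P := P) (MulDistribMulAction.toMulAut A G a).toMonoidHom
    (MulDistribMulAction.toMulAut A G a).injective
  rw [hP.map_eq] at h1
  rw [h1]
  exact mem_map_of_mem _ hx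

variable [Finite A] [Finite G]

omit [Finite A] [Finite G] in
/-- A group without proper nontrivial invariant normal subgroups whose proper invariant subgroups have a
normal `p`-complement, `p` odd, is a `p`-group once `p` divides its order. -/
theorem isPGroup_of_simple_action (hsimple : ∀ N : Subgroup G, N.Normal → IsInvariant A N → N = ⊥ ∨ N = ⊤)
    [Finite G] {p : ℕ} [Fact p.Prime] (hp2 : p ≠ 2) (hd : p ∣ Nat.card G) (P : Sylow p G)
    (hP : IsInvariant A (P : Subgroup G))
    (h : ∀ H : Subgroup G, H ≠ ⊤ → IsInvariant A H → (P : Subgroup G) ≤ H → HasNormalPComplement p H) :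
    IsPGroup p G := by
  by_cases hPtop : (P : Subgroup G) = ⊤
  · have h' := P.isPGroup'
    rw [hPtop] at h'
    exact h'.of_equiv Subgroup.topEquiv
  set Z := Thompson.zjay p (P : Subgroup G) with hZ
  have hZne : Z ≠ ⊥ := Thompson.zjay_ne_bot P.isPGroup' (P.ne_bot_of_dvd_card hd) (Or.inr rfl)
  have hPN : (P : Subgroup G) ≤ Subgroup.normalizer (Z : Set G) := by
    intro x hx
    refine mem_normalizer_of_map_conj ?_
    rw [hZ, ← Thompson.zjay_map (MulAut.conj x).toMonoidHom (MulAut.conj x).injective]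
    congr 1
    rw [Hall.map_conj_eq_smul, Hall.conj_smul_eq_self_of_mem hx]
  have hNtop : Subgroup.normalizer (Z : Set G) ≠ ⊤ := fun e => by
    rcases hsimple Z (normalizer_eq_top_iff.mp e) (hP.zjay p) with h1 | h1
    · exact hZne h1
    · exact hPtop (top_le_iff.mp (h1.ge.trans Thompson.zjay_le))
  have hnpc : HasNormalPComplement p G := by
    refine H77.gtHyp G p hp2 P ?_
    rw [Thompson.centerThompsonOf_eq]
    exact h _ hNtop (hP.zjay p).normalizer hPN
  rcases hsimple (pResidual p G) inferInstance (isInvariant_of_characteristic _) with h1 | h1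
  · refine fun g => ?_
    obtain ⟨i, m, hm, him⟩ := Nat.exists_eq_pow_mul_and_not_dvd (orderOf_pos g).ne' p (Fact.out : p.Prime).ne_one
    refine ⟨i, ?_⟩
    have hmem : g ^ p ^ i ∈ pResidual p G := Fusion.mem_pResidual (by
      rw [orderOf_pow' _ (pow_ne_zero _ (Fact.out : p.Prime).ne_zero), him,
        Nat.gcd_eq_right (Dvd.intro m rfl), Nat.mul_div_cancel_left _ (pow_pos (Fact.out : p.Prime).pos _)]
      exact ((Fact.out : p.Prime).coprime_iff_not_dvd.mpr hm).symm)
    rwa [h1, mem_bot] at hmem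
  · exfalso
    have := Fusion.hasNormalPComplement_iff_pResidual.mp hnpc
    rw [h1, Subgroup.card_top] at this
    exact this hd

theorem isPGroup_of_forall_eq {q : ℕ} [Fact q.Prime] (h : ∀ p : ℕ, p.Prime → p ∣ Nat.card G → p = q) :
    IsPGroup q G :=
  IsPGroup.of_card (n := (Nat.card G).primeFactorsList.length)
    (Nat.eq_prime_pow_of_unique_prime_dvd Nat.card_pos.ne' (fun hp hd => h _ hp hd))

/-- A group all of whose proper invariant subgroups are nilpotent is solvable. -/
theorem isSolvable_of_invariant_nilpotent (hA : OddSolvable.{u}) (hG : OddSolvable.{v}) :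
    ∀ (n : ℕ) (G : Type v) [Group G] [Finite G] [MulDistribMulAction A G], Nat.card G ≤ n →
      (Nat.card A).Coprime (Nat.card G) →
      (∀ H : Subgroup G, H ≠ ⊤ → IsInvariant A H → Group.IsNilpotent H) → Group.IsSolvable G := by
  intro n
  induction n using Nat.strong_induction_on with
  | _ n ih =>
  intro G _ _ _ hn hcop h
  by_cases hsimple : ∀ N : Subgroup G, N.Normal → IsInvariant A N → N = ⊥ ∨ N = ⊤
  · by_cases hodd : ∃ p : ℕ, p.Prime ∧ p ≠ 2 ∧ p ∣ Nat.card G
    · obtain ⟨p, hp, hp2, hd⟩ := hodd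
      have : Fact p.Prime := ⟨hp⟩
      obtain ⟨P, hP⟩ := exists_invariant_sylow' hcop (isSolvable_or_of_coprime hA hG hcop) p
      have := (isPGroup_of_simple_action hsimple hp2 hd P hP fun H hH hHi _ =>
        have := h H hH hHi; Fusion.hasNormalPComplement_of_isNilpotent).isNilpotent
      infer_instance
    · push Not at hodd
      have := (isPGroup_of_forall_eq (G := G) (q := 2) fun p hp hd => by
        by_contra h2
        exact hodd p hp h2 hd).isNilpotent
      infer_instance
  push Not at hsimple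
  obtain ⟨N, hNn, hNi, hNb, hNt⟩ := hsimple
  have hNnil := h N hNt hNi
  letI : MulDistribMulAction A (G ⧸ N) := MulDistribMulAction.compHom _ (quotHom N hNi)
  have hlt : Nat.card (G ⧸ N) < Nat.card G := Hall.card_quotient_lt N hNb
  have hQ : Group.IsSolvable (G ⧸ N) := by
    refine ih _ (lt_of_lt_of_le hlt hn) (G ⧸ N) le_rfl
      (hcop.coprime_dvd_right (card_quotient_dvd_card N)) fun H hH hHi => ?_
    have hne : H.comap (QuotientGroup.mk' N) ≠ ⊤ := fun e => hH (by
      rw [← map_comap_eq_self_of_surjective (QuotientGroup.mk'_surjective N) H, e, ← MonoidHom.range_eq_map,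
        QuotientGroup.range_mk'])
    have := h _ hne fun a x hx => hHi a _ hx
    exact Group.nilpotent_of_surjective ((QuotientGroup.mk' N).subgroupComap H)
      (MonoidHom.subgroupComap_surjective_of_surjective _ _ (QuotientGroup.mk'_surjective N))
  have : Group.IsSolvable N := inferInstance
  exact Group.isSolvable_of_ker_le_range N.subtype (QuotientGroup.mk' N) (by rw [QuotientGroup.ker_mk', range_subtype])

/-- Structure of a non-nilpotent solvable group all of whose proper invariant subgroups are nilpotent. -/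
theorem structure_of_invariant_nilpotent [Group.IsSolvable G] (hcop : (Nat.card A).Coprime (Nat.card G))
    (h : ∀ H : Subgroup G, H ≠ ⊤ → IsInvariant A H → Group.IsNilpotent H) (hG : ¬ Group.IsNilpotent G) :
    (∃ p q a b : ℕ, p.Prime ∧ q.Prime ∧ p ≠ q ∧ Nat.card G = p ^ a * q ^ b) ∧
      ∃ (p : ℕ) (P : Sylow p G), p.Prime ∧ p ∣ Nat.card G ∧ (P : Subgroup G).Normal ∧
        IsInvariant A (P : Subgroup G) := by
  classical
  have hs : Group.IsSolvable A ∨ Group.IsSolvable G := Or.inr inferInstance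
  set D := commutator G with hD
  have hDi : IsInvariant A D := isInvariant_of_characteristic _
  -- a Sylow subgroup of `D P` is normal in `G`
  have hstep : ∀ (q : ℕ) [Fact q.Prime] (Q : Sylow q G), IsInvariant A (Q : Subgroup G) →
      D ⊔ (Q : Subgroup G) ≠ ⊤ → (Q : Subgroup G).Normal := by
    intro q _ Q hQ hne
    have hnil := h _ hne (hDi.sup hQ)
    have hn : (D ⊔ (Q : Subgroup G)).Normal := by
      refine ⟨fun x hx g => ?_⟩
      have h1 : ⁅g, x⁆ ∈ D := commutator_mem_commutator (mem_top g) (mem_top x)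
      have h2 := mul_mem (mem_sup_left (T := (Q : Subgroup G)) h1) hx
      rwa [commutatorElement_def, inv_mul_cancel_right] at h2
    have hle : (Q : Subgroup G) ≤ D ⊔ (Q : Subgroup G) := le_sup_right
    have hc : (((Q.subtype hle) : Sylow q _) : Subgroup ↥(D ⊔ (Q : Subgroup G))).Characteristic :=
      Sylow.characteristic_of_normal _ inferInstance
    rw [Sylow.coe_subtype] at hc
    have h3 := ConjAct.normal_of_characteristic_of_normal
      (H := D ⊔ (Q : Subgroup G)) (K := (Q : Subgroup G).subgroupOf (D ⊔ (Q : Subgroup G)))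
    simpa [Subgroup.map_subgroupOf_eq_of_le hle] using h3
  -- at most one prime has a non-normal invariant Sylow subgroup
  have huniq : ∀ p q : ℕ, p.Prime → q.Prime → ∀ (P : Sylow p G) (Q : Sylow q G),
      D ⊔ (P : Subgroup G) = ⊤ → D ⊔ (Q : Subgroup G) = ⊤ → p ≠ q → False := by
    intro p q hp hq P Q hP hQ hpq
    have : Fact p.Prime := ⟨hp⟩
    have : Fact q.Prime := ⟨hq⟩
    have key : ∀ (p : ℕ) (P : Sylow p G), D ⊔ (P : Subgroup G) = ⊤ → IsPGroup p (G ⧸ D) := by
      intro p P hP
      refine P.isPGroup'.of_surjective ((QuotientGroup.mk' D).comp (P : Subgroup G).subtype) fun x => ?_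
      obtain ⟨g, rfl⟩ := QuotientGroup.mk_surjective x
      have hg : g ∈ D ⊔ (P : Subgroup G) := hP ▸ mem_top g
      rw [← SetLike.mem_coe, Subgroup.normal_mul] at hg
      obtain ⟨d, hd, y, hy, rfl⟩ := hg
      exact ⟨⟨y, hy⟩, by
        show (y : G ⧸ D) = ((d * y : G) : G ⧸ D)
        rw [QuotientGroup.mk_mul, (QuotientGroup.eq_one_iff d).mpr hd, one_mul]⟩
    have hsub : Subsingleton (G ⧸ D) := by
      obtain ⟨i, hi⟩ := IsPGroup.iff_card.mp (key p P hP)
      obtain ⟨j, hj⟩ := IsPGroup.iff_card.mp (key q Q hQ)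
      refine (Nat.card_eq_one_iff_unique.mp ?_).1
      exact Nat.eq_one_of_dvd_coprimes (((Nat.coprime_primes hp hq).mpr hpq).pow i j) (hi ▸ dvd_rfl) (hj ▸ dvd_rfl)
    have hDtop : D = ⊤ := QuotientGroup.subgroup_eq_top_of_subsingleton D hsub
    have : Nontrivial G := by
      by_contra hc
      rw [not_nontrivial_iff_subsingleton] at hc
      exact hG inferInstance
    exact (Group.IsSolvable.commutator_lt_top_of_nontrivial G).ne hDtop
  obtain ⟨r, hr, hrd, R, hR, hRn⟩ : ∃ r : ℕ, ∃ hr : r.Prime, r ∣ Nat.card G ∧ ∃ R : Sylow r G,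
      IsInvariant A (R : Subgroup G) ∧ ¬ (R : Subgroup G).Normal := by
    by_contra hc
    push Not at hc
    refine hG ((Group.isNilpotent_of_finite_tfae (G := G).out 0 3).mpr fun p hp P => ?_)
    have : Fact p.Prime := hp
    by_cases hd : p ∣ Nat.card G
    · obtain ⟨Q, hQ⟩ := exists_invariant_sylow' (A := A) (G := G) hcop hs p
      have hQn := hc p hp.out hd Q hQ
      let _ := Sylow.unique_of_normal Q hQn
      rwa [Subsingleton.elim P Q]
    · have : (P : Subgroup G) = ⊥ := by
        rw [← card_eq_one, P.card_eq_multiplicity, Nat.factorization_eq_zero_of_not_dvd hd, pow_zero]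
      rw [this]; infer_instance
  have : Fact r.Prime := ⟨hr⟩
  have hRtop : D ⊔ (R : Subgroup G) = ⊤ := by
    by_contra hne
    exact hRn (hstep r R hR hne)
  have hnorm : ∀ q : ℕ, q.Prime → q ≠ r → ∀ Q : Sylow q G, IsInvariant A (Q : Subgroup G) →
      (Q : Subgroup G).Normal := fun q hq hqr Q hQ => by
    have : Fact q.Prime := ⟨hq⟩
    exact hstep q Q hQ fun e => huniq q r hq hr Q R e hRtop hqr
  obtain ⟨q, hq, hqd, hqr, Q, hQ, hQn, hsup⟩ : ∃ q : ℕ, ∃ _ : q.Prime, q ∣ Nat.card G ∧ q ≠ r ∧
      ∃ Q : Sylow q G, IsInvariant A (Q : Subgroup G) ∧ (Q : Subgroup G).Normal ∧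
        (Q : Subgroup G) ⊔ R = ⊤ := by
    by_contra hc
    refine hRn (normalizer_eq_top_iff.mp (Subgroup.eq_top_of_le_card _ (Nat.le_of_dvd Nat.card_pos ?_)))
    rw [← Nat.factorization_le_iff_dvd Nat.card_pos.ne' Nat.card_pos.ne']
    intro t
    by_cases ht : t.Prime
    swap
    · simp [Nat.factorization_eq_zero_of_not_prime _ ht]
    have : Fact t.Prime := ⟨ht⟩
    refine (ht.pow_dvd_iff_le_factorization Nat.card_pos.ne').mp ?_
    by_cases htr : t = r
    · subst htr
      rw [← R.card_eq_multiplicity]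
      exact card_dvd_of_le le_normalizer
    by_cases htd : t ∣ Nat.card G
    swap
    · rw [Nat.factorization_eq_zero_of_not_dvd htd, pow_zero]; exact one_dvd _
    obtain ⟨T, hT⟩ := exists_invariant_sylow' (A := A) (G := G) hcop hs t
    have hTn := hnorm t ht htr T hT
    rw [← T.card_eq_multiplicity]
    refine card_dvd_of_le (le_trans ?_ (Subgroup.centralizer_le_normalizer _))
    have hne : (T : Subgroup G) ⊔ R ≠ ⊤ := fun e => hc ⟨t, ht, htd, htr, T, hT, hTn, e⟩
    have := h _ hne (hT.sup hR)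
    intro y hy
    refine Subgroup.mem_centralizer_iff.mpr fun z hz => ?_
    obtain ⟨i, hi⟩ := IsPGroup.iff_orderOf.mp R.isPGroup' ⟨z, hz⟩
    obtain ⟨j, hj⟩ := IsPGroup.iff_orderOf.mp T.isPGroup' ⟨y, hy⟩
    have := H25.commute_of_coprime_orderOf (⟨z, mem_sup_right hz⟩ : ↥((T : Subgroup G) ⊔ R))
      ⟨y, mem_sup_left hy⟩ (by
      rw [← Subgroup.orderOf_coe, ← Subgroup.orderOf_coe]
      rw [← Subgroup.orderOf_coe] at hi hj
      simp only at hi hj ⊢
      rw [hi, hj]
      exact ((Nat.coprime_primes hr ht).mpr (Ne.symm htr)).pow i j)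
    exact congrArg Subtype.val this
  have : Fact q.Prime := ⟨hq⟩
  refine ⟨?_, q, Q, hq, hqd, hQn, hQ⟩
  obtain ⟨a, ha⟩ := IsPGroup.iff_card.mp Q.isPGroup'
  obtain ⟨b, hb⟩ := IsPGroup.iff_card.mp R.isPGroup'
  refine ⟨q, r, a, b, hq, hr, hqr, ?_⟩
  rw [← Subgroup.card_top (G := G), ← hsup, ← ha, ← hb,
    Coprime.card_sup Subgroup.le_normalizer_of_normal (disjoint_iff.mp (IsPGroup.disjoint_of_ne q r hqr _ _ Q.isPGroup' R.isPGroup'))]

end Cfsg.Agent.Coprime

namespace Cfsg.Agent.Coprime

open Subgroup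

universe u v

/-- An invariant proper subgroup lies in a maximal one. -/
theorem exists_maximal_invariant {A : Type u} [Group A] {G : Type v} [Group G] [Finite G]
    [MulDistribMulAction A G] : ∀ H : Subgroup G, H ≠ ⊤ → IsInvariant A H →
      ∃ M : Subgroup G, H ≤ M ∧ M ≠ ⊤ ∧ IsInvariant A M ∧
        ∀ K : Subgroup G, M < K → IsInvariant A K → K = ⊤ := by
  intro H
  induction H using WellFoundedGT.induction with
  | _ H ih =>
    intro hH hi
    by_cases h : ∀ K : Subgroup G, H < K → IsInvariant A K → K = ⊤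
    · exact ⟨H, le_rfl, hH, hi, h⟩
    push Not at h
    obtain ⟨K, hK, hKi, hKt⟩ := h
    obtain ⟨M, hM, h1, h2, h3⟩ := ih K hK hKt hKi
    exact ⟨M, hK.le.trans hM, h1, h2, h3⟩

end Cfsg.Agent.Coprime
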