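/-
Skew nilpotent maps of cube zero on quadratic spaces over the field with three elements:
adapted frames, their existence, and conjugacy of maps with equal frames.
-/
import Cfsg.Agent.Orthogonal.Witt

set_option autoImplicit false
set_option linter.unusedSectionVars false

namespace Cfsg.Agent.Coprime.O7

open QuadraticMap Module Cfsg.Agent.Orthogonal

/-- The field with three elements. -/
abbrev F3 : Type := ZMod 3

variable {V : Type*} [AddCommGroup V] [Module F3 V] {Q : QuadraticForm F3 V}

theorem three_smul_eq (x : V) : x + x + x = 0 := by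
  have h : ((1 : F3) + 1 + 1) • x = 0 := by
    rw [show ((1 : F3) + 1 + 1) = 0 by decide, zero_smul]
  rwa [add_smul, add_smul, one_smul] at h

theorem zsmul_three (x : V) : (3 : ℤ) • x = 0 := by
  rw [show (3 : ℤ) = 1 + 1 + 1 by norm_num, add_zsmul, add_zsmul, one_zsmul, three_smul_eq]

theorem qmap_eq (x : V) : Q x = - polar Q x x := by
  have h : ∀ a : F3, a = -(2 * a) := by decide
  rw [polar_self']
  exact h _

/-- A skew map with cube zero. -/
structure SkewNil (Q : QuadraticForm F3 V) (M : V →ₗ[F3] V) : Prop where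
  skew : ∀ x y, polar Q (M x) y = - polar Q x (M y)
  cube : ∀ x, M (M (M x)) = 0

/-- The logarithm of an isometry of order dividing three. -/
def logO (g : O Q) : V →ₗ[F3] V :=
  ((g * g : O Q) : V ≃ₗ[F3] V).toLinearMap - (g : V ≃ₗ[F3] V).toLinearMap

theorem logO_app (g : O Q) (x : V) :
    logO g x = (g : V ≃ₗ[F3] V) ((g : V ≃ₗ[F3] V) x) - (g : V ≃ₗ[F3] V) x := rfl

theorem app_three {g : O Q} (hg : g ^ 3 = 1) (x : V) :
    (g : V ≃ₗ[F3] V) ((g : V ≃ₗ[F3] V) ((g : V ≃ₗ[F3] V) x)) = x := by
  have h : (g * (g * g) : O Q) = 1 := (pow_three g).symm.trans hg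
  exact LinearEquiv.congr_fun (congrArg Subtype.val h) x

theorem logO_skewNil {g : O Q} (hg : g ^ 3 = 1) : SkewNil Q (logO g) := by
  refine ⟨fun x y => ?_, fun x => ?_⟩
  · rw [logO_app, logO_app, polar_sub_left, polar_sub_right]
    have h1 : polar Q ((g : V ≃ₗ[F3] V) ((g : V ≃ₗ[F3] V) x)) y
        = polar Q x ((g : V ≃ₗ[F3] V) y) := by
      conv_lhs => rw [← app_three hg y]
      rw [O.polar_app, O.polar_app]
    have h2 : polar Q ((g : V ≃ₗ[F3] V) x) y
        = polar Q x ((g : V ≃ₗ[F3] V) ((g : V ≃ₗ[F3] V) y)) := by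
      conv_lhs => rw [← app_three hg y]
      rw [O.polar_app]
    rw [h1, h2]; ring
  · simp only [logO_app, map_sub, app_three hg]
    abel_nf
    simp [zsmul_three]

/-- The exponential of a skew map of cube zero. -/
noncomputable def expO [FiniteDimensional F3 V] (hQ : Nondeg Q) {M : V →ₗ[F3] V}
    (h : SkewNil Q M) : O Q :=
  hQ.ofLinear (LinearMap.id + M - M ∘ₗ M) fun x => by
    rw [qmap_eq, qmap_eq x]
    congr 1
    simp only [LinearMap.add_apply, LinearMap.sub_apply, LinearMap.id_apply, LinearMap.comp_apply,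
      polar_add_left, polar_add_right, polar_sub_left, polar_sub_right]
    have e1 := h.skew x x
    have e2 : polar Q (M x) (M x) = - polar Q x (M (M x)) := h.skew x (M x)
    have e3 : polar Q (M x) (M (M x)) = 0 := by rw [h.skew, h.cube, polar_zero_right, neg_zero]
    have e4 : polar Q (M (M x)) (M (M x)) = 0 := by
      rw [h.skew, h.cube, polar_zero_right, neg_zero]
    rw [polar_comm (⇑Q) (M (M x)) (M x), polar_comm (⇑Q) (M (M x)) x, e2, e3, e4]
    have e5 : polar Q x (M (M x)) + polar Q x (M (M x)) + polar Q x (M (M x)) = 0 := by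
      generalize polar Q x (M (M x)) = a
      revert a; decide
    linear_combination e1 - e5

theorem expO_app [FiniteDimensional F3 V] (hQ : Nondeg Q) {M : V →ₗ[F3] V} (h : SkewNil Q M)
    (x : V) : (expO hQ h : V ≃ₗ[F3] V) x = x + M x - M (M x) := rfl

theorem logO_expO [FiniteDimensional F3 V] (hQ : Nondeg Q) {M : V →ₗ[F3] V} (h : SkewNil Q M) :
    logO (expO hQ h) = M := by
  refine LinearMap.ext fun x => ?_
  simp only [logO_app, expO_app, map_sub, map_add, h.cube, map_zero]
  abel

theorem expO_cube [FiniteDimensional F3 V] (hQ : Nondeg Q) {M : V →ₗ[F3] V} (h : SkewNil Q M) :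
    expO hQ h ^ 3 = 1 := by
  refine O.ext_app fun x => ?_
  rw [pow_succ, pow_two]
  show (expO hQ h : V ≃ₗ[F3] V) ((expO hQ h : V ≃ₗ[F3] V) ((expO hQ h : V ≃ₗ[F3] V) x)) = x
  simp only [expO_app, map_sub, map_add, h.cube, map_zero]
  abel_nf
  simp [zsmul_three]

theorem app_eq_exp_log {g : O Q} (hg : g ^ 3 = 1) (x : V) :
    (g : V ≃ₗ[F3] V) x = x + logO g x - logO g (logO g x) := by
  simp only [logO_app, map_sub, app_three hg]
  have h1 := three_smul_eq ((g : V ≃ₗ[F3] V) x)
  have h2 := three_smul_eq x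
  linear_combination (norm := abel) h1 - h2

/-- Conjugacy through logarithms. -/
theorem conj_eq_of_log {g g' h : O Q} (hg : g ^ 3 = 1) (hg' : g' ^ 3 = 1)
    (hh : ∀ x, (h : V ≃ₗ[F3] V) (logO g x) = logO g' ((h : V ≃ₗ[F3] V) x)) :
    h * g * h⁻¹ = g' := by
  rw [mul_inv_eq_iff_eq_mul]
  refine O.ext_app fun x => ?_
  show (h : V ≃ₗ[F3] V) ((g : V ≃ₗ[F3] V) x) = (g' : V ≃ₗ[F3] V) ((h : V ≃ₗ[F3] V) x)
  rw [app_eq_exp_log hg, app_eq_exp_log hg', map_sub, map_add, hh, hh, hh]

theorem log_conj {g g' h : O Q} (hh : h * g * h⁻¹ = g') (x : V) :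
    (h : V ≃ₗ[F3] V) (logO g x) = logO g' ((h : V ≃ₗ[F3] V) x) := by
  have h1 : ∀ y, (h : V ≃ₗ[F3] V) ((g : V ≃ₗ[F3] V) y) = (g' : V ≃ₗ[F3] V) ((h : V ≃ₗ[F3] V) y) :=
    fun y => LinearEquiv.congr_fun (congrArg Subtype.val (mul_inv_eq_iff_eq_mul.1 hh)) y
  rw [logO_app, logO_app, map_sub, h1, h1]

theorem log_inv {g : O Q} (hg : g ^ 3 = 1) (x : V) : logO g⁻¹ x = - logO g x := by
  have h : g⁻¹ = g * g := inv_eq_of_mul_eq_one_right ((pow_three g).symm.trans hg)
  rw [logO_app, logO_app, h]
  show (g : V ≃ₗ[F3] V) ((g : V ≃ₗ[F3] V) ((g : V ≃ₗ[F3] V) ((g : V ≃ₗ[F3] V) x))) -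
    (g : V ≃ₗ[F3] V) ((g : V ≃ₗ[F3] V) x) = _
  rw [app_three hg]
  abel

/-- Vectors with monomial Gram matrix on which `M` acts by the partial map `σ`. -/
structure Frame {ι : Type} [DecidableEq ι] (Q : QuadraticForm F3 V) (M : V →ₗ[F3] V)
    (σ : ι → Option ι) (π : ι → ι) (d : ι → F3) (v : ι → V) : Prop where
  pinj : Function.Injective π
  dne : ∀ i, d i ≠ 0
  gram : ∀ i j, polar Q (v i) (v j) = if j = π i then d i else 0
  act : ∀ i, M (v i) = (σ i).elim 0 v

namespace Frame

variable {ι : Type} [DecidableEq ι] {M : V →ₗ[F3] V} {σ : ι → Option ι} {π : ι → ι}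
  {d : ι → F3} {v : ι → V}

/-- Orthogonal to the whole frame. -/
def Perp (Q : QuadraticForm F3 V) (v : ι → V) (y : V) : Prop := ∀ i, polar Q (v i) y = 0

theorem li (h : Frame Q M σ π d v) [Fintype ι] : LinearIndependent F3 v := by
  rw [Fintype.linearIndependent_iff]
  intro c hc j
  obtain ⟨i, rfl⟩ := (Finite.injective_iff_surjective.1 h.pinj) j
  have h1 : polar Q (v i) (∑ k, c k • v k) = 0 := by rw [hc, polar_zero_right]
  rw [← polarBilin_apply', map_sum] at h1
  simp only [map_smul, polarBilin_apply', smul_eq_mul, h.gram, mul_ite, mul_zero,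
    Finset.sum_ite_eq', Finset.mem_univ, if_true] at h1
  exact (mul_eq_zero.1 h1).resolve_right (h.dne i)

theorem card_le (h : Frame Q M σ π d v) [Fintype ι] [FiniteDimensional F3 V] :
    Fintype.card ι ≤ finrank F3 V :=
  h.li.fintype_card_le_finrank

theorem decomp (h : Frame Q M σ π d v) [Fintype ι] (y : V) :
    ∃ (c : ι → F3) (z : V), Perp Q v z ∧ y = (∑ i, c i • v (π i)) + z := by
  refine ⟨fun i => polar Q (v i) y * (d i)⁻¹,
    y - ∑ i, (polar Q (v i) y * (d i)⁻¹) • v (π i), fun j => ?_, by abel⟩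
  rw [polar_sub_right, ← polarBilin_apply' Q (v j) (∑ _i, _), map_sum]
  simp only [map_smul, polarBilin_apply', smul_eq_mul, h.gram, h.pinj.eq_iff, mul_ite, mul_zero,
    Finset.sum_ite_eq', Finset.mem_univ, if_true]
  rw [mul_assoc, inv_mul_cancel₀ (h.dne j), mul_one, sub_self]

theorem perp_map (h : Frame Q M σ π d v) (hM : SkewNil Q M) {y : V} (hy : Perp Q v y) :
    Perp Q v (M y) := by
  intro i
  have h1 := hM.skew (v i) y
  rw [h.act] at h1
  cases hs : σ i with
  | none =>
    rw [hs, Option.elim, polar_zero_left] at h1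
    linear_combination h1
  | some j =>
    rw [hs, Option.elim, hy j] at h1
    linear_combination h1

theorem eq_zero_of_perp (h : Frame Q M σ π d v) [Fintype ι] (hQ : Nondeg Q) {w : V}
    (hw : Perp Q v w) (hw' : ∀ z, Perp Q v z → polar Q w z = 0) : w = 0 := by
  refine hQ w fun y => ?_
  obtain ⟨c, z, hz, rfl⟩ := h.decomp y
  rw [polar_add_right, hw' z hz, ← polarBilin_apply' Q w (∑ _i, _), map_sum, add_zero]
  refine Finset.sum_eq_zero fun i _ => ?_
  rw [map_smul, polarBilin_apply', polar_comm, hw, smul_zero]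

/-- Two maps with the same frame data vanishing off the frames are conjugate. -/
theorem exists_conj (h : Frame Q M σ π d v) [Fintype ι] [FiniteDimensional F3 V] (hQ : Nondeg Q)
    (hk : ∀ y, Perp Q v y → M y = 0) {M' : V →ₗ[F3] V} {v' : ι → V}
    (h' : Frame Q M' σ π d v') (hk' : ∀ y, Perp Q v' y → M' y = 0) :
    ∃ g : O Q, ∀ x, (g : V ≃ₗ[F3] V) (M x) = M' ((g : V ≃ₗ[F3] V) x) := by
  obtain ⟨g, hg⟩ := exists_map_family hQ h.li h'.li
    (fun i => by rw [qmap_eq, qmap_eq (v i), h.gram, h'.gram])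
    (fun i j _ => by rw [h.gram, h'.gram])
  refine ⟨g, fun x => ?_⟩
  obtain ⟨c, z, hz, rfl⟩ := h.decomp x
  have hgz : Perp Q v' ((g : V ≃ₗ[F3] V) z) := fun i => by rw [← hg i, O.polar_app, hz i]
  simp only [map_add, map_sum, map_smul, hk z hz, hk' _ hgz, hg, add_zero]
  refine Finset.sum_congr rfl fun i _ => ?_
  rw [h.act, h'.act]
  cases σ (π i) with
  | none => simp
  | some j => simp [hg]

/-- Orthogonal sum of two frames. -/
theorem sum (h : Frame Q M σ π d v) {κ : Type} [DecidableEq κ] {σ' : κ → Option κ} {π' : κ → κ}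
    {d' : κ → F3} {w : κ → V} (h' : Frame Q M σ' π' d' w) (hp : ∀ k, Perp Q v (w k)) :
    Frame Q M (Sum.elim (fun i => (σ i).map Sum.inl) (fun k => (σ' k).map Sum.inr))
      (Sum.map π π') (Sum.elim d d') (Sum.elim v w) := by
  refine ⟨Sum.map_injective.2 ⟨h.pinj, h'.pinj⟩, ?_, ?_, ?_⟩
  · rintro (i | k)
    exacts [h.dne i, h'.dne k]
  · rintro (i | k) (j | l)
    · simpa using h.gram i j
    · simpa using hp l i
    · simpa [polar_comm] using hp k j
    · simpa using h'.gram k l
  · rintro (i | k)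
    · simp only [Sum.elim_inl, h.act]
      cases σ i <;> simp
    · simp only [Sum.elim_inr, h'.act]
      cases σ' k <;> simp

theorem perp_sum {κ : Type} {w : κ → V} {y : V} :
    Perp Q (Sum.elim v w) y ↔ Perp Q v y ∧ Perp Q w y :=
  ⟨fun h => ⟨fun i => h (.inl i), fun k => h (.inr k)⟩,
    fun h => Sum.rec h.1 h.2⟩

end Frame

/-- Action on a three element chain. -/
def σ3 : Fin 3 → Option (Fin 3) := ![some 1, some 2, none]
/-- Pairing of a three element chain. -/
def π3 : Fin 3 → Fin 3 := ![2, 1, 0]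
/-- Values of the pairing of a three element chain. -/
def d3 (c : F3) : Fin 3 → F3 := ![c, -c, c]
/-- Action on two chains of length two. -/
def σ4 : Fin 4 → Option (Fin 4) := ![some 1, none, some 3, none]
/-- Pairing of two chains of length two. -/
def π4 : Fin 4 → Fin 4 := ![3, 2, 1, 0]
/-- Values of the pairing of two chains of length two. -/
def d4 : Fin 4 → F3 := ![-1, 1, 1, -1]

variable {M : V →ₗ[F3] V}

theorem polar_self_map (hM : SkewNil Q M) (x : V) : polar Q x (M x) = 0 := by
  have h := hM.skew x x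
  rw [polar_comm (⇑Q) (M x) x] at h
  generalize polar Q x (M x) = a at h
  revert a; decide

theorem block3_frame (hM : SkewNil Q M) {x : V} {c : F3} (hc : c ≠ 0) (h0 : polar Q x x = 0)
    (h2 : polar Q x (M (M x)) = c) : Frame Q M σ3 π3 (d3 c) ![x, M x, M (M x)] := by
  have e1 : polar Q x (M x) = 0 := polar_self_map hM x
  have e2 : polar Q (M x) (M x) = -c := by rw [hM.skew, h2]
  have e3 : polar Q (M x) (M (M x)) = 0 := by rw [hM.skew, hM.cube, polar_zero_right, neg_zero]
  have e4 : polar Q (M (M x)) (M (M x)) = 0 := by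
    rw [hM.skew, hM.cube, polar_zero_right, neg_zero]
  refine ⟨by decide, fun i => ?_, fun i j => ?_, fun i => ?_⟩
  · fin_cases i <;> simp [d3, hc]
  · fin_cases i <;> fin_cases j <;>
      simp [π3, d3, h0, e1, e2, e3, e4, h2, polar_comm (⇑Q) (M x) x,
        polar_comm (⇑Q) (M (M x)) x, polar_comm (⇑Q) (M (M x)) (M x)]
  · fin_cases i <;> simp [σ3, hM.cube]

variable {ι : Type} [DecidableEq ι] [Fintype ι] {σ : ι → Option ι} {π : ι → ι} {d : ι → F3}
  {v : ι → V}

/-- A chain of length three orthogonal to a frame. -/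
theorem exists_block3 (hQ : Nondeg Q) (hM : SkewNil Q M) (h : Frame Q M σ π d v)
    {y : V} (hy : Frame.Perp Q v y) (hMy : M (M y) ≠ 0) :
    ∃ (x : V) (c : F3), c ≠ 0 ∧ Frame Q M σ3 π3 (d3 c) ![x, M x, M (M x)] ∧
      ∀ k, Frame.Perp Q v (![x, M x, M (M x)] k) := by
  obtain ⟨x, hx, hc⟩ : ∃ x, Frame.Perp Q v x ∧ polar Q x (M (M x)) ≠ 0 := by
    by_contra hcon
    push Not at hcon
    refine hMy (h.eq_zero_of_perp hQ (h.perp_map hM (h.perp_map hM hy)) fun z hz => ?_)
    have h1 := hcon (y + z) fun i => by rw [polar_add_right, hy i, hz i, add_zero]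
    simp only [map_add, polar_add_left, polar_add_right, hcon y hy, hcon z hz, zero_add,
      add_zero] at h1
    have h2 : polar Q y (M (M z)) = polar Q (M (M y)) z := by
      rw [hM.skew, hM.skew, neg_neg]
    rw [h2, polar_comm (⇑Q) z (M (M y))] at h1
    generalize polar Q (M (M y)) z = a at h1
    revert a; decide
  set c := polar Q x (M (M x)) with hcdef
  set x' := x + (polar Q x x * c⁻¹) • M (M x) with hx'
  have hM2 : M (M x') = M (M x) := by
    rw [hx', map_add, map_smul, map_add, map_smul, hM.cube, smul_zero, add_zero]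
  have e4 : polar Q (M (M x)) (M (M x)) = 0 := by
    rw [hM.skew, hM.cube, polar_zero_right, neg_zero]
  have hperp : Frame.Perp Q v x' := fun i => by
    rw [hx', polar_add_right, polar_smul_right', hx i, h.perp_map hM (h.perp_map hM hx) i,
      mul_zero, add_zero]
  have h0 : polar Q x' x' = 0 := by
    rw [hx', polar_add_left, polar_add_right, polar_add_right, polar_smul_left',
      polar_smul_left', polar_smul_right', polar_smul_right', e4, mul_zero, mul_zero, add_zero,
      polar_comm (⇑Q) (M (M x)) x, ← hcdef, mul_assoc, inv_mul_cancel₀ hc, mul_one]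
    exact three_smul_eq (polar Q x x)
  have h2 : polar Q x' (M (M x')) = c := by
    rw [hM2, hx', polar_add_left, polar_smul_left', e4, mul_zero, add_zero]
  refine ⟨x', c, hc, block3_frame hM hc h0 h2, fun k => ?_⟩
  fin_cases k
  exacts [hperp, h.perp_map hM hperp, h.perp_map hM (h.perp_map hM hperp)]

/-- Two chains of length two orthogonal to a frame. -/
theorem exists_block4 (hQ : Nondeg Q) (hM : SkewNil Q M) (h : Frame Q M σ π d v)
    (hsq : ∀ y, Frame.Perp Q v y → M (M y) = 0) {y : V} (hy : Frame.Perp Q v y) (hMy : M y ≠ 0) :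
    ∃ u w : V, Frame Q M σ4 π4 d4 ![u, M u, w, M w] ∧
      ∀ k, Frame.Perp Q v (![u, M u, w, M w] k) := by
  obtain ⟨w, hw, hγ⟩ : ∃ w, Frame.Perp Q v w ∧ polar Q (M y) w = 1 := by
    obtain ⟨z, hz, hne⟩ : ∃ z, Frame.Perp Q v z ∧ polar Q (M y) z ≠ 0 := by
      by_contra hcon
      push Not at hcon
      exact hMy (h.eq_zero_of_perp hQ (h.perp_map hM hy) hcon)
    exact ⟨(polar Q (M y) z)⁻¹ • z, fun i => by rw [polar_smul_right', hz i, mul_zero],
      by rw [polar_smul_right', inv_mul_cancel₀ hne]⟩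
  have sq0 : ∀ a b, Frame.Perp Q v b → polar Q (M a) (M b) = 0 := fun a b hb => by
    rw [hM.skew, hsq b hb, polar_zero_right, neg_zero]
  have hwy : polar Q (M w) y = -1 := by rw [hM.skew, polar_comm, hγ]
  set a := polar Q y y
  set b := polar Q w w
  set e := polar Q y w
  set u := y + (-a) • M w + (-e) • M y with hu
  set w' := w + b • M y with hw'
  have hMu : M u = M y := by
    rw [hu, map_add, map_add, map_smul, map_smul, hsq w hw, hsq y hy, smul_zero, smul_zero,
      add_zero, add_zero]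
  have hMw : M w' = M w := by rw [hw', map_add, map_smul, hsq y hy, smul_zero, add_zero]
  have huP : Frame.Perp Q v u := fun i => by
    rw [hu, polar_add_right, polar_add_right, polar_smul_right', polar_smul_right', hy i,
      h.perp_map hM hw i, h.perp_map hM hy i, mul_zero, mul_zero, add_zero, add_zero]
  have hwP : Frame.Perp Q v w' := fun i => by
    rw [hw', polar_add_right, polar_smul_right', hw i, h.perp_map hM hy i, mul_zero, add_zero]
  have f1 : polar Q y (M y) = 0 := polar_self_map hM y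
  have f2 : polar Q w (M w) = 0 := polar_self_map hM w
  have f3 : polar Q y (M w) = -1 := by rw [polar_comm, hwy]
  have f4 : polar Q w (M y) = 1 := by rw [polar_comm, hγ]
  have hs : ∀ p q : V, polar Q q p = polar Q p q := fun p q => polar_comm _ q p
  have g1 : polar Q u u = 0 := by
    simp only [hu, polar_add_left, polar_add_right, polar_smul_left', polar_smul_right',
      sq0 _ y hy, sq0 _ w hw, hs y (M y), hs y (M w), f1, f3]
    have : ∀ a : F3, a + a + a = 0 := by decide
    linear_combination this a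
  have g2 : polar Q w' w' = 0 := by
    simp only [hw', polar_add_left, polar_add_right, polar_smul_left', polar_smul_right',
      sq0 _ y hy, hs w (M y), f4]
    have : ∀ a : F3, a + a + a = 0 := by decide
    linear_combination this b
  have g3 : polar Q u w' = 0 := by
    simp only [hu, hw', polar_add_left, polar_add_right, polar_smul_left', polar_smul_right',
      sq0 _ y hy, f1, f2, hγ, hs w (M w)]
    ring
  have g4 : polar Q u (M y) = 0 := by
    simp only [hu, polar_add_left, polar_smul_left', sq0 _ y hy, f1]; ring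
  have g5 : polar Q u (M w) = -1 := by
    simp only [hu, polar_add_left, polar_smul_left', sq0 _ w hw, f3]; ring
  have g6 : polar Q w' (M y) = 1 := by
    simp only [hw', polar_add_left, polar_smul_left', sq0 _ y hy, f4]; ring
  have g7 : polar Q w' (M w) = 0 := by
    simp only [hw', polar_add_left, polar_smul_left', sq0 _ w hw, f2]; ring
  refine ⟨u, w', ⟨by decide, ?_, fun i j => ?_, fun i => ?_⟩, fun k => ?_⟩
  · decide
  · rw [hMu, hMw]
    fin_cases i <;> fin_cases j <;>
      simp [π4, d4, g1, g2, g3, g4, g5, g6, g7, sq0 _ y hy, sq0 _ w hw, hs u w', hs u (M y),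
        hs u (M w), hs w' (M y), hs w' (M w)]
  · rw [hMu, hMw]
    fin_cases i <;> simp [σ4, hMu, hMw, hsq y hy, hsq w hw]
  · fin_cases k
    exacts [huP, h.perp_map hM huP, hwP, h.perp_map hM hwP]

end Cfsg.Agent.Coprime.O7
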