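/-
The possible shapes of a non-zero skew map of cube zero on a seven dimensional space over the
field with three elements.
-/
import Cfsg.Agent.Coprime.SkewNil

set_option autoImplicit false
set_option linter.unusedSectionVars false

namespace Cfsg.Agent.Coprime.O7

open QuadraticMap Module Cfsg.Agent.Orthogonal

variable {V : Type*} [AddCommGroup V] [Module F3 V] {Q : QuadraticForm F3 V} {M : V →ₗ[F3] V}

/-- `M` has an adapted frame with the given data and vanishes on its orthogonal complement. -/
def HasFrame {ι : Type} [DecidableEq ι] (Q : QuadraticForm F3 V) (M : V →ₗ[F3] V)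
    (σ : ι → Option ι) (π : ι → ι) (d : ι → F3) : Prop :=
  ∃ v : ι → V, Frame Q M σ π d v ∧ ∀ y, Frame.Perp Q v y → M y = 0

/-- Action data for a chain of three and two chains of two. -/
def σC : Fin 3 ⊕ Fin 4 → Option (Fin 3 ⊕ Fin 4) :=
  Sum.elim (fun i => (σ3 i).map Sum.inl) (fun k => (σ4 k).map Sum.inr)
/-- Action data for two chains of three. -/
def σD : Fin 3 ⊕ Fin 3 → Option (Fin 3 ⊕ Fin 3) :=
  Sum.elim (fun i => (σ3 i).map Sum.inl) (fun k => (σ3 k).map Sum.inr)

/-- One chain of three. -/
def HasA (Q : QuadraticForm F3 V) (M : V →ₗ[F3] V) (c : F3) : Prop := HasFrame Q M σ3 π3 (d3 c)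
/-- A chain of three and two chains of two. -/
def HasC (Q : QuadraticForm F3 V) (M : V →ₗ[F3] V) (c : F3) : Prop :=
  HasFrame Q M σC (Sum.map π3 π4) (Sum.elim (d3 c) d4)
/-- Two chains of three. -/
def HasD (Q : QuadraticForm F3 V) (M : V →ₗ[F3] V) (c c' : F3) : Prop :=
  HasFrame Q M σD (Sum.map π3 π3) (Sum.elim (d3 c) (d3 c'))
/-- Two chains of two. -/
def HasE (Q : QuadraticForm F3 V) (M : V →ₗ[F3] V) : Prop := HasFrame Q M σ4 π4 d4

theorem eq_pm {c : F3} (hc : c ≠ 0) : c = 1 ∨ c = -1 := by revert c; decide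

theorem d3_value {ι : Type} [DecidableEq ι] {v : ι → V} {σ : ι → Option ι} {π : ι → ι}
    {d : ι → F3} (h : Frame Q M σ π d v) {i j k : ι} (hij : σ i = some j) (hjk : σ j = some k)
    (hk : π i = k) : polar Q (v i) (M (M (v i))) = d i := by
  rw [h.act i, hij, Option.elim, h.act j, hjk, Option.elim, h.gram, if_pos hk.symm]

theorem hasD_swap {c c' : F3} (h : HasD Q M c c') : HasD Q M c' c := by
  obtain ⟨v, hv, hk⟩ := h
  refine ⟨v ∘ Sum.swap, ⟨?_, ?_, ?_, ?_⟩, fun y hy => hk y fun i => ?_⟩
  · exact Sum.map_injective.2 ⟨by decide, by decide⟩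
  · rintro (i | i)
    · exact hv.dne (.inr i)
    · exact hv.dne (.inl i)
  · intro i j
    rw [Function.comp_apply, Function.comp_apply, hv.gram]
    rcases i with i | i <;> rcases j with j | j <;> simp
  · rintro (i | i)
    · rw [Function.comp_apply, hv.act]
      fin_cases i <;> simp [σD, σ3]
    · rw [Function.comp_apply, hv.act]
      fin_cases i <;> simp [σD, σ3]
  · simpa using hy i.swap

theorem hasD_neg (hM : SkewNil Q M) (h : HasD Q M (-1) (-1)) : HasD Q M 1 1 := by
  obtain ⟨v, hv, hk⟩ := h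
  set x := v (.inl 0)
  set x' := v (.inr 0)
  have m1 : v (.inl 1) = M x := (hv.act (.inl 0)).symm
  have m2 : v (.inl 2) = M (M x) := by rw [← m1]; exact (hv.act (.inl 1)).symm
  have n1 : v (.inr 1) = M x' := (hv.act (.inr 0)).symm
  have n2 : v (.inr 2) = M (M x') := by rw [← n1]; exact (hv.act (.inr 1)).symm
  have a0 : polar Q x x = 0 := by rw [hv.gram]; rfl
  have b0 : polar Q x' x' = 0 := by rw [hv.gram]; rfl
  have c0 : polar Q x x' = 0 := by rw [hv.gram]; rfl
  have a2 : polar Q x (M (M x)) = -1 := by rw [← m2, hv.gram]; rfl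
  have b2 : polar Q x' (M (M x')) = -1 := by rw [← n2, hv.gram]; rfl
  have c2 : polar Q x (M (M x')) = 0 := by rw [← n2, hv.gram]; rfl
  have c2' : polar Q x' (M (M x)) = 0 := by rw [← m2, hv.gram]; rfl
  have one : (-1 : F3) + -1 = 1 := by decide
  have f := block3_frame hM (x := x + x') (c := 1) one_ne_zero
    (by simp only [polar_add_left, polar_add_right, a0, b0, c0, polar_comm (⇑Q) x' x, add_zero])
    (by simp only [map_add, polar_add_left, polar_add_right, a2, b2, c2, c2', add_zero, zero_add,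
      one])
  have f' := block3_frame hM (x := x - x') (c := 1) one_ne_zero
    (by simp only [polar_sub_left, polar_sub_right, a0, b0, c0, polar_comm (⇑Q) x' x, sub_zero])
    (by simp only [map_sub, polar_sub_left, polar_sub_right, a2, b2, c2, c2', sub_zero, zero_sub]
        rw [neg_neg]; decide)
  have hsum := f.sum f' (fun k i => by
    have e0 : polar Q (x + x') (x - x') = 0 := by
      simp only [polar_add_left, polar_sub_right, a0, b0, c0, polar_comm (⇑Q) x' x, sub_zero,
        add_zero]
    have e2 : polar Q (x + x') (M (M (x - x'))) = 0 := by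
      simp only [map_sub, polar_add_left, polar_sub_right, a2, b2, c2, c2']; decide
    have e2' : polar Q (M (M (x + x'))) (x - x') = 0 := by
      rw [hM.skew, hM.skew, neg_neg, e2]
    have c1 : polar Q x (M x') = 0 := by rw [← n1, hv.gram]; rfl
    have c1' : polar Q x' (M x) = 0 := by rw [← m1, hv.gram]; rfl
    have a1 : polar Q x (M x) = 0 := polar_self_map hM x
    have b1 : polar Q x' (M x') = 0 := polar_self_map hM x'
    have e1 : polar Q (x + x') (M (x - x')) = 0 := by
      simp only [map_sub, polar_add_left, polar_sub_right, a1, b1, c1, c1', sub_zero, add_zero]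
    have e1' : polar Q (M (x + x')) (x - x') = 0 := by rw [hM.skew, e1, neg_zero]
    fin_cases i <;> fin_cases k
    · exact e0
    · exact e1
    · exact e2
    · exact e1'
    · show polar Q (M (x + x')) (M (x - x')) = 0
      rw [hM.skew, e2, neg_zero]
    · show polar Q (M (x + x')) (M (M (x - x'))) = 0
      rw [hM.skew, hM.cube, polar_zero_right, neg_zero]
    · exact e2'
    · show polar Q (M (M (x + x'))) (M (x - x')) = 0
      rw [hM.skew, hM.skew, hM.cube, polar_zero_right, neg_zero, neg_zero]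
    · show polar Q (M (M (x + x'))) (M (M (x - x'))) = 0
      rw [hM.skew, hM.cube, polar_zero_right, neg_zero])
  refine ⟨_, hsum, fun y hy => hk y ?_⟩
  obtain ⟨hy1, hy2⟩ := Frame.perp_sum.1 hy
  have two : ∀ a b : F3, a + b = 0 → a - b = 0 → a = 0 ∧ b = 0 := by decide
  have s0 := two (polar Q x y) (polar Q x' y) (by rw [← polar_add_left]; exact hy1 0)
    (by rw [← polar_sub_left]; exact hy2 0)
  have s1 := two (polar Q (M x) y) (polar Q (M x') y)
    (by rw [← polar_add_left, ← map_add]; exact hy1 1)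
    (by rw [← polar_sub_left, ← map_sub]; exact hy2 1)
  have s2 := two (polar Q (M (M x)) y) (polar Q (M (M x')) y)
    (by rw [← polar_add_left, ← map_add, ← map_add]; exact hy1 2)
    (by rw [← polar_sub_left, ← map_sub, ← map_sub]; exact hy2 2)
  rintro (i | i) <;> fin_cases i
  · exact s0.1
  · show polar Q (v (.inl 1)) y = 0
    rw [m1]; exact s1.1
  · show polar Q (v (.inl 2)) y = 0
    rw [m2]; exact s2.1
  · exact s0.2
  · show polar Q (v (.inr 1)) y = 0
    rw [n1]; exact s1.2
  · show polar Q (v (.inr 2)) y = 0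
    rw [n2]; exact s2.2

variable [FiniteDimensional F3 V]

/-- A frame of cardinality above four leaves no room for a non-zero map on its complement. -/
theorem kill_of_large {ι : Type} [DecidableEq ι] [Fintype ι] {σ : ι → Option ι} {π : ι → ι}
    {d : ι → F3} {v : ι → V} (hQ : Nondeg Q) (hM : SkewNil Q M) (hfin : finrank F3 V = 7)
    (h : Frame Q M σ π d v) (hc : 5 ≤ Fintype.card ι) {y : V} (hy : Frame.Perp Q v y) :
    M y = 0 := by
  by_contra hne
  by_cases hsq : ∀ z, Frame.Perp Q v z → M (M z) = 0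
  · obtain ⟨u, w, hf, hp⟩ := exists_block4 hQ hM h hsq hy hne
    have := (h.sum hf hp).card_le
    simp only [Fintype.card_sum, Fintype.card_fin, hfin] at this
    omega
  · push Not at hsq
    obtain ⟨z, hz, hz2⟩ := hsq
    obtain ⟨x, c, -, hf, hp⟩ := exists_block3 hQ hM h hz hz2
    have := (h.sum hf hp).card_le
    simp only [Fintype.card_sum, Fintype.card_fin, hfin] at this
    omega

/-- The list of shapes. -/
theorem shapes (hQ : Nondeg Q) (hM : SkewNil Q M) (hfin : finrank F3 V = 7)
    (hne : ∃ x, M x ≠ 0) :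
    HasA Q M 1 ∨ HasA Q M (-1) ∨ HasC Q M 1 ∨ HasC Q M (-1) ∨ HasD Q M 1 1 ∨ HasD Q M 1 (-1) ∨
      HasE Q M := by
  have h0 : Frame Q M (ι := Fin 0) Fin.elim0 id Fin.elim0 (Fin.elim0 : Fin 0 → V) :=
    ⟨fun a => a.elim0, fun a => a.elim0, fun a => a.elim0, fun a => a.elim0⟩
  have htriv : ∀ y : V, Frame.Perp Q (Fin.elim0 : Fin 0 → V) y := fun y i => i.elim0
  by_cases hsq : ∀ z, M (M z) = 0
  · obtain ⟨y, hy⟩ := hne
    obtain ⟨u, w, hf, -⟩ := exists_block4 hQ hM h0 (fun z _ => hsq z) (htriv y) hy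
    refine Or.inr (Or.inr (Or.inr (Or.inr (Or.inr (Or.inr ⟨_, hf, fun z hz => ?_⟩)))))
    by_contra hne'
    obtain ⟨u', w', hf', hp'⟩ := exists_block4 hQ hM hf (fun z _ => hsq z) hz hne'
    have := (hf.sum hf' hp').card_le
    simp only [Fintype.card_sum, Fintype.card_fin, hfin] at this
    omega
  · push Not at hsq
    obtain ⟨z, hz⟩ := hsq
    obtain ⟨x, c, hc, hf, -⟩ := exists_block3 hQ hM h0 (htriv z) hz
    by_cases hk : ∀ y, Frame.Perp Q ![x, M x, M (M x)] y → M y = 0
    · rcases eq_pm hc with rfl | rfl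
      · exact Or.inl ⟨_, hf, hk⟩
      · exact Or.inr (Or.inl ⟨_, hf, hk⟩)
    push Not at hk
    obtain ⟨y, hy, hy1⟩ := hk
    by_cases hsq' : ∀ w, Frame.Perp Q ![x, M x, M (M x)] w → M (M w) = 0
    · obtain ⟨u, w, hf', hp'⟩ := exists_block4 hQ hM hf hsq' hy hy1
      have hs := hf.sum hf' hp'
      have hC : HasC Q M c := ⟨_, hs, fun w hw => kill_of_large hQ hM hfin hs
        (by simp) hw⟩
      rcases eq_pm hc with rfl | rfl
      · exact Or.inr (Or.inr (Or.inl hC))
      · exact Or.inr (Or.inr (Or.inr (Or.inl hC)))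
    · push Not at hsq'
      obtain ⟨w, hw, hw2⟩ := hsq'
      obtain ⟨x', c', hc', hf', hp'⟩ := exists_block3 hQ hM hf hw hw2
      have hs := hf.sum hf' hp'
      have hD : HasD Q M c c' := ⟨_, hs, fun w hw => kill_of_large hQ hM hfin hs
        (by simp) hw⟩
      rcases eq_pm hc with rfl | rfl <;> rcases eq_pm hc' with rfl | rfl
      · exact Or.inr (Or.inr (Or.inr (Or.inr (Or.inl hD))))
      · exact Or.inr (Or.inr (Or.inr (Or.inr (Or.inr (Or.inl hD)))))
      · exact Or.inr (Or.inr (Or.inr (Or.inr (Or.inr (Or.inl (hasD_swap hD))))))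
      · exact Or.inr (Or.inr (Or.inr (Or.inr (Or.inl (hasD_neg hM hD)))))

/-- The determinant condition: shapes `C 1` and `C (-1)` do not occur on the same space. -/
theorem hasC_neg_false (hQ : Nondeg Q) (hfin : finrank F3 V = 7) {M' : V →ₗ[F3] V}
    (h : HasC Q M 1) (h' : HasC Q M' (-1)) : False := by
  obtain ⟨v, hv, -⟩ := h
  obtain ⟨w, hw, -⟩ := h'
  let s : Fin 3 ⊕ Fin 4 → F3 := Sum.elim 1 ![1, 1, -1, -1]
  let b := basisOfLinearIndependentOfCardEqFinrank hv.li (by simp [hfin])
  have hb : ∀ i, b i = v i := fun i => by simp [b]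
  let L : V →ₗ[F3] V := b.constr F3 fun i => s i • w i
  have hL : ∀ i, L (v i) = s i • w i := fun i => by rw [← hb]; exact b.constr_basis F3 _ i
  have hcomp : LinearMap.BilinForm.comp (Q.polarBilin : LinearMap.BilinForm F3 V) L L =
      -(Q.polarBilin : LinearMap.BilinForm F3 V) := by
    refine LinearMap.BilinForm.ext_basis b fun i j => ?_
    simp only [LinearMap.BilinForm.comp_apply, LinearMap.neg_apply, hb, hL, polarBilin_apply',
      polar_smul_left', polar_smul_right', hv.gram, hw.gram, s]
    revert i j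
    decide
  have hdet := congrArg (fun B => (LinearMap.BilinForm.toMatrix b B).det) hcomp
  simp only [LinearMap.BilinForm.toMatrix_comp b b] at hdet
  rw [show LinearMap.BilinForm.toMatrix b (-(Q.polarBilin : LinearMap.BilinForm F3 V)) =
      -LinearMap.BilinForm.toMatrix b Q.polarBilin from
      Matrix.ext fun i j => by simp [LinearMap.BilinForm.toMatrix_apply]] at hdet
  simp only [Matrix.det_mul, Matrix.det_transpose, Matrix.det_neg, Fintype.card_sum,
    Fintype.card_fin] at hdet
  have hne : (LinearMap.BilinForm.toMatrix b Q.polarBilin).det ≠ 0 :=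
    (LinearMap.BilinForm.nondegenerate_iff_det_ne_zero b).1 hQ.polarBilin
  revert hdet hne
  generalize (LinearMap.BilinForm.toMatrix b Q.polarBilin).det = D
  generalize (LinearMap.toMatrix b b L).det = a
  revert a D
  decide

end Cfsg.Agent.Coprime.O7
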