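/-
Representatives of the shapes of skew maps of cube zero in the standard seven dimensional space
over the field with three elements, and the elements of their centralisers with spinor norm -1.
-/
import Cfsg.Agent.Coprime.SkewShapes
import Cfsg.Agent.Orthogonal.StdForms
import Cfsg.Agent.Orthogonal.Spinor

set_option autoImplicit false
set_option linter.unusedSectionVars false

namespace Cfsg.Agent.Coprime.O7

open QuadraticMap Module Cfsg.Agent.Orthogonal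

/-- Coordinates of the seven dimensional space. -/
abbrev I7 : Type := Unit ⊕ (Fin 3 ⊕ Fin 3)
/-- The seven dimensional space. -/
abbrev V7 : Type := I7 → F3
/-- The form `z² + Σ aᵢbᵢ`. -/
noncomputable abbrev Q7 : QuadraticForm F3 V7 := formOdd F3 3

theorem two_ne : (2 : F3) ≠ 0 := by decide

theorem Q7_nondeg : Nondeg Q7 := formOdd_nondeg F3 3 two_ne

theorem finrank_V7 : finrank F3 V7 = 7 := by simp

/-- A vector by coordinates. -/
def mk (z a0 a1 a2 b0 b1 b2 : F3) : V7 :=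
  Sum.elim (fun _ => z) (Sum.elim ![a0, a1, a2] ![b0, b1, b2])

/-- The central coordinate. -/
def cz (v : V7) : F3 := v (.inl ())
/-- The first coordinates. -/
def ca (v : V7) (i : Fin 3) : F3 := v (.inr (.inl i))
/-- The second coordinates. -/
def cb (v : V7) (i : Fin 3) : F3 := v (.inr (.inr i))

@[simp] theorem cz_mk (z a0 a1 a2 b0 b1 b2 : F3) : cz (mk z a0 a1 a2 b0 b1 b2) = z := rfl
@[simp] theorem ca_mk0 (z a0 a1 a2 b0 b1 b2 : F3) : ca (mk z a0 a1 a2 b0 b1 b2) 0 = a0 := rfl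
@[simp] theorem ca_mk1 (z a0 a1 a2 b0 b1 b2 : F3) : ca (mk z a0 a1 a2 b0 b1 b2) 1 = a1 := rfl
@[simp] theorem ca_mk2 (z a0 a1 a2 b0 b1 b2 : F3) : ca (mk z a0 a1 a2 b0 b1 b2) 2 = a2 := rfl
@[simp] theorem cb_mk0 (z a0 a1 a2 b0 b1 b2 : F3) : cb (mk z a0 a1 a2 b0 b1 b2) 0 = b0 := rfl
@[simp] theorem cb_mk1 (z a0 a1 a2 b0 b1 b2 : F3) : cb (mk z a0 a1 a2 b0 b1 b2) 1 = b1 := rfl
@[simp] theorem cb_mk2 (z a0 a1 a2 b0 b1 b2 : F3) : cb (mk z a0 a1 a2 b0 b1 b2) 2 = b2 := rfl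

theorem ext7 {u v : V7} (hz : cz u = cz v) (ha : ∀ i, ca u i = ca v i)
    (hb : ∀ i, cb u i = cb v i) : u = v := by
  funext i
  rcases i with i | i | i
  exacts [hz, ha i, hb i]

@[simp] theorem cz_add (u v : V7) : cz (u + v) = cz u + cz v := rfl
@[simp] theorem ca_add (u v : V7) (i : Fin 3) : ca (u + v) i = ca u i + ca v i := rfl
@[simp] theorem cb_add (u v : V7) (i : Fin 3) : cb (u + v) i = cb u i + cb v i := rfl
@[simp] theorem cz_sub (u v : V7) : cz (u - v) = cz u - cz v := rfl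
@[simp] theorem ca_sub (u v : V7) (i : Fin 3) : ca (u - v) i = ca u i - ca v i := rfl
@[simp] theorem cb_sub (u v : V7) (i : Fin 3) : cb (u - v) i = cb u i - cb v i := rfl
@[simp] theorem cz_smul (c : F3) (v : V7) : cz (c • v) = c * cz v := rfl
@[simp] theorem ca_smul (c : F3) (v : V7) (i : Fin 3) : ca (c • v) i = c * ca v i := rfl
@[simp] theorem cb_smul (c : F3) (v : V7) (i : Fin 3) : cb (c • v) i = c * cb v i := rfl
@[simp] theorem cz_neg (v : V7) : cz (-v) = -cz v := rfl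
@[simp] theorem ca_neg (v : V7) (i : Fin 3) : ca (-v) i = -ca v i := rfl
@[simp] theorem cb_neg (v : V7) (i : Fin 3) : cb (-v) i = -cb v i := rfl
@[simp] theorem cz_zero : cz (0 : V7) = 0 := rfl
@[simp] theorem ca_zero (i : Fin 3) : ca (0 : V7) i = 0 := rfl
@[simp] theorem cb_zero (i : Fin 3) : cb (0 : V7) i = 0 := rfl

theorem mk_eq_zero {z a0 a1 a2 b0 b1 b2 : F3} (hz : z = 0) (h0 : a0 = 0) (h1 : a1 = 0)
    (h2 : a2 = 0) (k0 : b0 = 0) (k1 : b1 = 0) (k2 : b2 = 0) : mk z a0 a1 a2 b0 b1 b2 = 0 := by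
  subst hz h0 h1 h2 k0 k1 k2
  refine ext7 rfl (fun i => ?_) (fun i => ?_) <;> fin_cases i <;> rfl

theorem Q7_app (v : V7) :
    Q7 v = cz v ^ 2 + (ca v 0 * cb v 0 + ca v 1 * cb v 1 + ca v 2 * cb v 2) := by
  rw [formOdd_coe, Cfsg.quadFormOdd, Fin.sum_univ_three]
  rfl

theorem polar7 (u v : V7) : polar Q7 u v = -(cz u * cz v) +
    (ca u 0 * cb v 0 + ca v 0 * cb u 0 + (ca u 1 * cb v 1 + ca v 1 * cb u 1) +
      (ca u 2 * cb v 2 + ca v 2 * cb u 2)) := by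
  rw [polar_formOdd, Fin.sum_univ_three]
  have h : (2 : F3) = -1 := by decide
  rw [h, neg_one_mul, neg_mul]
  rfl

/-- A linear map given by a coordinate formula. -/
def mkMap (f : V7 → V7) (ha : ∀ u v, f (u + v) = f u + f v) (hs : ∀ (c : F3) v, f (c • v) = c • f v) :
    V7 →ₗ[F3] V7 where
  toFun := f
  map_add' := ha
  map_smul' := hs

local macro "coord_ext" : tactic =>
  `(tactic| (refine ext7 ?_ (fun i => ?_) (fun i => ?_) <;> (try fin_cases i) <;>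
      simp <;> ring))

/-- Representative of `A 1`. -/
def mA : V7 →ₗ[F3] V7 := mkMap (fun y => mk (ca y 0) 0 0 0 (cz y) 0 0)
  (fun u v => by coord_ext) (fun c v => by coord_ext)
/-- Representative of `A (-1)`. -/
def mA' : V7 →ₗ[F3] V7 :=
  mkMap (fun y => mk 0 0 (ca y 0) 0 (ca y 1 - cb y 1) (-ca y 0) 0)
  (fun u v => by coord_ext) (fun c v => by coord_ext)
/-- Representative of `D 1 1`. -/
def mD : V7 →ₗ[F3] V7 :=
  mkMap (fun y => mk (ca y 0) 0 0 (ca y 1) (cz y) (-ca y 2 - cb y 2) (ca y 1))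
  (fun u v => by coord_ext) (fun c v => by coord_ext)
/-- Representative of `D 1 (-1)`. -/
def mD' : V7 →ₗ[F3] V7 :=
  mkMap (fun y => mk (ca y 0) 0 0 (ca y 1) (cz y) (ca y 2 - cb y 2) (-ca y 1))
  (fun u v => by coord_ext) (fun c v => by coord_ext)
/-- Representative of `E`. -/
def mE : V7 →ₗ[F3] V7 := mkMap (fun y => mk 0 0 0 0 0 (-ca y 2) (ca y 1))
  (fun u v => by coord_ext) (fun c v => by coord_ext)
/-- Representative of `C 1`. -/
def mC : V7 →ₗ[F3] V7 := mkMap (fun y => mk (ca y 0) 0 0 0 (cz y) (-ca y 2) (ca y 1))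
  (fun u v => by coord_ext) (fun c v => by coord_ext)

@[simp] theorem mA_app (y : V7) : mA y = mk (ca y 0) 0 0 0 (cz y) 0 0 := rfl
@[simp] theorem mA'_app (y : V7) :
    mA' y = mk 0 0 (ca y 0) 0 (ca y 1 - cb y 1) (-ca y 0) 0 := rfl
@[simp] theorem mD_app (y : V7) :
    mD y = mk (ca y 0) 0 0 (ca y 1) (cz y) (-ca y 2 - cb y 2) (ca y 1) := rfl
@[simp] theorem mD'_app (y : V7) :
    mD' y = mk (ca y 0) 0 0 (ca y 1) (cz y) (ca y 2 - cb y 2) (-ca y 1) := rfl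
@[simp] theorem mE_app (y : V7) : mE y = mk 0 0 0 0 0 (-ca y 2) (ca y 1) := rfl
@[simp] theorem mC_app (y : V7) :
    mC y = mk (ca y 0) 0 0 0 (cz y) (-ca y 2) (ca y 1) := rfl

theorem three_f (a : F3) : a + a + a = 0 := by revert a; decide

theorem two_f : ∀ a : F3, a * 2 = -a := by decide

local macro "cube_tac" : tactic =>
  `(tactic| (intro x; simp only [mA_app, mA'_app, mD_app, mD'_app, mE_app, mC_app,
      cz_mk, ca_mk0, ca_mk1, ca_mk2, cb_mk0, cb_mk1, cb_mk2]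
             apply mk_eq_zero <;> first | rfl | (simp; done) | (ring_nf; simp; done)))

theorem mA_skewNil : SkewNil Q7 mA := by
  refine ⟨fun x y => ?_, by cube_tac⟩
  simp [polar7]; ring
theorem mA'_skewNil : SkewNil Q7 mA' := by
  refine ⟨fun x y => ?_, by cube_tac⟩
  simp [polar7]; ring
theorem mD_skewNil : SkewNil Q7 mD := by
  refine ⟨fun x y => ?_, by cube_tac⟩
  simp [polar7]; ring
theorem mD'_skewNil : SkewNil Q7 mD' := by
  refine ⟨fun x y => ?_, by cube_tac⟩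
  simp [polar7]; ring
theorem mE_skewNil : SkewNil Q7 mE := by
  refine ⟨fun x y => ?_, by cube_tac⟩
  simp [polar7]; ring
theorem mC_skewNil : SkewNil Q7 mC := by
  refine ⟨fun x y => ?_, by cube_tac⟩
  simp [polar7]; ring

/-- Frame of `mA`. -/
def vA : Fin 3 → V7 := ![mk 0 1 0 0 0 0 0, mk 1 0 0 0 0 0 0, mk 0 0 0 0 1 0 0]
/-- Frame of `mA'`. -/
def vA' : Fin 3 → V7 := ![mk 0 1 0 0 0 0 0, mk 0 0 1 0 0 (-1) 0, mk 0 0 0 0 (-1) 0 0]
/-- Second chain of `mD`. -/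
def wD : Fin 3 → V7 := ![mk 0 0 1 0 0 0 0, mk 0 0 0 1 0 0 1, mk 0 0 0 0 0 1 0]
/-- Second chain of `mD'`. -/
def wD' : Fin 3 → V7 := ![mk 0 0 1 0 0 0 0, mk 0 0 0 1 0 0 (-1), mk 0 0 0 0 0 (-1) 0]
/-- Frame of `mE`. -/
def vE : Fin 4 → V7 :=
  ![mk 0 0 0 (-1) 0 0 0, mk 0 0 0 0 0 1 0, mk 0 0 1 0 0 0 0, mk 0 0 0 0 0 0 1]

local macro "frame_tac" : tactic =>
  `(tactic| (refine ⟨by decide, by decide, fun i j => ?_, fun i => ?_⟩
             · fin_cases i <;> fin_cases j <;>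
                 simp [polar7, vA, vA', wD, wD', vE, π3, d3, π4, d4] <;> decide
             · fin_cases i <;>
                 (refine ext7 ?_ (fun k => ?_) (fun k => ?_) <;> (try fin_cases k) <;>
                  simp [vA, vA', wD, wD', vE, σ3, σ4] <;> decide)))

theorem frame_mA : Frame Q7 mA σ3 π3 (d3 1) vA := by frame_tac
theorem frame_mA' : Frame Q7 mA' σ3 π3 (d3 (-1)) vA' := by frame_tac
theorem frame_mE : Frame Q7 mE σ4 π4 d4 vE := by frame_tac
theorem frame_mD1 : Frame Q7 mD σ3 π3 (d3 1) vA := by frame_tac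
theorem frame_mD2 : Frame Q7 mD σ3 π3 (d3 1) wD := by frame_tac
theorem frame_mD'1 : Frame Q7 mD' σ3 π3 (d3 1) vA := by frame_tac
theorem frame_mD'2 : Frame Q7 mD' σ3 π3 (d3 (-1)) wD' := by frame_tac
theorem frame_mC1 : Frame Q7 mC σ3 π3 (d3 1) vA := by frame_tac
theorem frame_mC2 : Frame Q7 mC σ4 π4 d4 vE := by frame_tac

theorem hasA_mA : HasA Q7 mA 1 := by
  refine ⟨vA, frame_mA, fun y hy => ?_⟩
  have h1 := hy 1
  have h2 := hy 2
  simp [polar7, vA] at h1 h2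
  rw [mA_app]
  exact mk_eq_zero h2 rfl rfl rfl h1 rfl rfl

theorem hasA_mA' : HasA Q7 mA' (-1) := by
  refine ⟨vA', frame_mA', fun y hy => ?_⟩
  have h1 := hy 1
  have h2 := hy 2
  simp [polar7, vA'] at h1 h2
  rw [mA'_app]
  exact mk_eq_zero rfl rfl h2 rfl (by linear_combination -h1) (by rw [h2, neg_zero]) rfl

theorem hasE_mE : HasE Q7 mE := by
  refine ⟨vE, frame_mE, fun y hy => ?_⟩
  have h1 := hy 1
  have h3 := hy 3
  simp [polar7, vE] at h1 h3
  rw [mE_app]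
  exact mk_eq_zero rfl rfl rfl rfl rfl (by rw [h3, neg_zero]) h1

theorem hasD_mD : HasD Q7 mD 1 1 := by
  have hs := frame_mD1.sum frame_mD2 fun k i => by
    fin_cases i <;> fin_cases k <;> simp [polar7, vA, wD]
  exact ⟨_, hs, fun y hy => kill_of_large Q7_nondeg mD_skewNil finrank_V7 hs (by simp) hy⟩

theorem hasD_mD' : HasD Q7 mD' 1 (-1) := by
  have hs := frame_mD'1.sum frame_mD'2 fun k i => by
    fin_cases i <;> fin_cases k <;> simp [polar7, vA, wD']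
  exact ⟨_, hs, fun y hy => kill_of_large Q7_nondeg mD'_skewNil finrank_V7 hs (by simp) hy⟩

theorem hasC_mC : HasC Q7 mC 1 := by
  have hs := frame_mC1.sum frame_mC2 fun k i => by
    fin_cases i <;> fin_cases k <;> simp [polar7, vA, vE]
  exact ⟨_, hs, fun y hy => kill_of_large Q7_nondeg mC_skewNil finrank_V7 hs (by simp) hy⟩

theorem rO7_app {v : V7} (hv : Q7 v = 1 ∨ Q7 v = -1) (x : V7) :
    (rO Q7 v : V7 ≃ₗ[F3] V7) x = x - (Q7 v * polar Q7 v x) • v := by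
  rw [rO_app, show (Q7 v)⁻¹ = Q7 v from inv_eq_of_mul_eq_one_right (by rcases hv with h | h <;> rw [h] <;> decide)]

/-- The product of two reflections with values `1` and `-1`. -/
noncomputable def pairO (a b : V7) : O Q7 := rO Q7 a * rO Q7 b
/-- The product of four reflections. -/
noncomputable def quadO (a b c d : V7) : O Q7 := rO Q7 a * rO Q7 b * (rO Q7 c * rO Q7 d)

/-- `z` commutes with `M`, is proper and has spinor norm `-1`. -/
def IsTwist (M : V7 →ₗ[F3] V7) (z : O Q7) : Prop :=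
  detSign Q7 Q7_nondeg two_ne z = 1 ∧ spinor Q7 Q7_nondeg two_ne z = -1 ∧
    ∀ x, (z : V7 ≃ₗ[F3] V7) (M x) = M ((z : V7 ≃ₗ[F3] V7) x)

theorem not_isSquare_neg_one : ¬ IsSquare (-1 : F3) := by decide

theorem sign_pairO {a b : V7} (ha : Q7 a = 1) (hb : Q7 b = -1) :
    detSign Q7 Q7_nondeg two_ne (pairO a b) = 1 ∧
      spinor Q7 Q7_nondeg two_ne (pairO a b) = -1 := by
  have ha0 : Q7 a ≠ 0 := by rw [ha]; decide
  have hb0 : Q7 b ≠ 0 := by rw [hb]; decide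
  rw [pairO, map_mul, map_mul, detSign_rO _ _ ha0, detSign_rO _ _ hb0, spinor_rO _ _ ha0,
    spinor_rO _ _ hb0, ha, hb, sqSign_of_isSquare IsSquare.one,
    sqSign_of_not_isSquare not_isSquare_neg_one]
  decide

theorem sign_quadO {a b c d : V7} (ha : Q7 a = 1 ∨ Q7 a = -1) (hb : Q7 b = 1 ∨ Q7 b = -1)
    (hc : Q7 c = 1 ∨ Q7 c = -1) (hd : Q7 d = 1 ∨ Q7 d = -1)
    (hp : Q7 a * Q7 b * (Q7 c * Q7 d) = -1) :
    detSign Q7 Q7_nondeg two_ne (quadO a b c d) = 1 ∧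
      spinor Q7 Q7_nondeg two_ne (quadO a b c d) = -1 := by
  have nz : ∀ t : F3, t = 1 ∨ t = -1 → t ≠ 0 := by decide
  have ha0 := nz _ ha
  have hb0 := nz _ hb
  have hc0 := nz _ hc
  have hd0 := nz _ hd
  rw [quadO, map_mul, map_mul, map_mul, map_mul, map_mul, map_mul, detSign_rO _ _ ha0,
    detSign_rO _ _ hb0, detSign_rO _ _ hc0, detSign_rO _ _ hd0, spinor_rO _ _ ha0,
    spinor_rO _ _ hb0, spinor_rO _ _ hc0, spinor_rO _ _ hd0, ← sqSign_mul two_ne ha0 hb0,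
    ← sqSign_mul two_ne hc0 hd0,
    ← sqSign_mul two_ne (mul_ne_zero ha0 hb0) (mul_ne_zero hc0 hd0), hp,
    sqSign_of_not_isSquare not_isSquare_neg_one]
  decide

theorem comm_of_rO {M : V7 →ₗ[F3] V7} {v : V7} (h1 : M v = 0) (h2 : ∀ x, polar Q7 v (M x) = 0)
    (x : V7) : (rO Q7 v : V7 ≃ₗ[F3] V7) (M x) = M ((rO Q7 v : V7 ≃ₗ[F3] V7) x) := by
  rw [rO_fix (h2 x), rO_app, map_sub, map_smul, h1, smul_zero, sub_zero]

theorem twist_pair {M : V7 →ₗ[F3] V7} {a b : V7} (ha : Q7 a = 1) (hb : Q7 b = -1)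
    (a1 : M a = 0) (a2 : ∀ x, polar Q7 a (M x) = 0) (b1 : M b = 0)
    (b2 : ∀ x, polar Q7 b (M x) = 0) : IsTwist M (pairO a b) :=
  ⟨(sign_pairO ha hb).1, (sign_pairO ha hb).2, fun x => by
    rw [pairO, Subgroup.coe_mul, mul_app, mul_app, comm_of_rO b1 b2, comm_of_rO a1 a2]⟩

local macro "coord_simp" : tactic =>
  `(tactic| (refine ext7 ?_ (fun i => ?_) (fun i => ?_) <;> (try fin_cases i) <;> simp))

theorem twist_mA : ∃ z, IsTwist mA z := by
  refine ⟨_, twist_pair (a := mk 0 0 1 0 0 1 0) (b := mk 0 0 1 0 0 (-1) 0) ?_ ?_ ?_ (fun x => ?_)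
    ?_ (fun x => ?_)⟩ <;> first | coord_simp | simp [Q7_app, polar7]

theorem twist_mA' : ∃ z, IsTwist mA' z := by
  refine ⟨_, twist_pair (a := mk 0 0 0 1 0 0 1) (b := mk 0 0 0 1 0 0 (-1)) ?_ ?_ ?_ (fun x => ?_)
    ?_ (fun x => ?_)⟩ <;> first | coord_simp | simp [Q7_app, polar7]

theorem twist_mE : ∃ z, IsTwist mE z := by
  refine ⟨_, twist_pair (a := mk 0 1 0 0 1 0 0) (b := mk 0 1 0 0 (-1) 0 0) ?_ ?_ ?_ (fun x => ?_)
    ?_ (fun x => ?_)⟩ <;> first | coord_simp | simp [Q7_app, polar7]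

theorem twist_mD' : ∃ z, IsTwist mD' z := by
  let a := mk 1 0 0 0 0 0 0
  let b := mk 0 1 0 0 1 0 0
  let c := mk 0 1 0 0 (-1) 0 0
  let d := mk 0 0 0 1 0 0 1
  have hs := sign_quadO (a := a) (b := b) (c := c) (d := d) (Or.inl (by simp [Q7_app, a]))
    (Or.inl (by simp [Q7_app, b])) (Or.inr (by simp [Q7_app, c])) (Or.inl (by simp [Q7_app, d]))
    (by simp [Q7_app, a, b, c, d])
  refine ⟨_, hs.1, hs.2, fun x => ?_⟩
  simp only [quadO, Subgroup.coe_mul, mul_app,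
    rO7_app (v := a) (Or.inl (by simp [Q7_app, a])), rO7_app (v := b) (Or.inl (by simp [Q7_app, b])),
    rO7_app (v := c) (Or.inr (by simp [Q7_app, c])), rO7_app (v := d) (Or.inl (by simp [Q7_app, d]))]
  refine ext7 ?_ (fun i => ?_) (fun i => ?_) <;> (try fin_cases i) <;>
    simp [Q7_app, polar7, a, b, c, d] <;> ring_nf <;>
    (try simp [two_f])

theorem twist_mD : ∃ z, IsTwist mD z := by
  let a := mk 0 1 (-1) 0 1 (-1) 0
  let b := mk 0 1 (-1) 0 (-1) 1 0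
  let c := mk 1 0 0 (-1) 0 0 (-1)
  let d := mk 0 0 0 1 0 0 (-1)
  have ha : Q7 a = -1 := by rw [Q7_app]; rfl
  have hb : Q7 b = 1 := by rw [Q7_app]; rfl
  have hc : Q7 c = -1 := by rw [Q7_app]; rfl
  have hd : Q7 d = -1 := by rw [Q7_app]; rfl
  have hs := sign_quadO (Or.inr ha) (Or.inl hb) (Or.inr hc) (Or.inr hd)
    (by rw [ha, hb, hc, hd]; decide)
  refine ⟨_, hs.1, hs.2, fun x => ?_⟩
  simp only [quadO, Subgroup.coe_mul, mul_app, rO7_app (Or.inr ha), rO7_app (Or.inl hb),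
    rO7_app (Or.inr hc), rO7_app (Or.inr hd), ha, hb, hc, hd]
  refine ext7 ?_ (fun i => ?_) (fun i => ?_) <;> (try fin_cases i) <;>
    simp [polar7, a, b, c, d] <;> ring_nf <;>
    simp [two_f, show (3 : F3) = 0 by decide] <;> ring

end Cfsg.Agent.Coprime.O7
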