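/-
An isometry of determinant one normalising the subgroup of the representative of shape `C 1` has
trivial spinor norm.
-/
import Cfsg.Agent.Coprime.OmegaSevenModel
import Cfsg.Agent.Linear.Generation

set_option autoImplicit false
set_option linter.unusedSectionVars false

namespace Cfsg.Agent.Coprime.O7

open QuadraticMap Module Cfsg.Agent.Orthogonal Matrix

local notation "dS" => detSign Q7 Q7_nondeg two_ne
local notation "sp" => spinor Q7 Q7_nondeg two_ne

theorem sign_of_cube {g : O Q7} (hg : g ^ 3 = 1) : dS g = 1 ∧ sp g = 1 := by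
  have key : ∀ u : ℤˣ, u ^ 3 = 1 → u = 1 := by decide
  exact ⟨key _ (by rw [← map_pow, hg, map_one]), key _ (by rw [← map_pow, hg, map_one])⟩

/-- A vector with given second coordinates. -/
def ofb (c : Fin 3 → F3) : V7 := mk 0 0 0 0 (c 0) (c 1) (c 2)

theorem eq_ofb {y : V7} (hz : cz y = 0) (ha : ∀ i, ca y i = 0) : y = ofb (cb y) := by
  refine ext7 ?_ (fun i => ?_) (fun i => ?_)
  · rw [hz]; rfl
  · rw [ha]; fin_cases i <;> rfl
  · fin_cases i <;> rfl

/-- The linear map of a matrix on the second and its dual on the first coordinates. -/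
noncomputable def leviMap (A : GL (Fin 3) F3) : V7 →ₗ[F3] V7 where
  toFun y := Sum.elim (fun _ => cz y)
    (Sum.elim (((A⁻¹ : GL (Fin 3) F3) : Matrix (Fin 3) (Fin 3) F3)ᵀ *ᵥ ca y)
      ((A : Matrix (Fin 3) (Fin 3) F3) *ᵥ cb y))
  map_add' u v := by
    refine ext7 rfl (fun i => ?_) (fun i => ?_)
    · exact congrFun (mulVec_add _ (ca u) (ca v)) i
    · exact congrFun (mulVec_add _ (cb u) (cb v)) i
  map_smul' c v := by
    refine ext7 rfl (fun i => ?_) (fun i => ?_)
    · exact congrFun (mulVec_smul _ c (ca v)) i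
    · exact congrFun (mulVec_smul _ c (cb v)) i

theorem cz_levi (A : GL (Fin 3) F3) (y : V7) : cz (leviMap A y) = cz y := rfl
theorem ca_levi (A : GL (Fin 3) F3) (y : V7) :
    ca (leviMap A y) = ((A⁻¹ : GL (Fin 3) F3) : Matrix (Fin 3) (Fin 3) F3)ᵀ *ᵥ ca y := rfl
theorem cb_levi (A : GL (Fin 3) F3) (y : V7) :
    cb (leviMap A y) = (A : Matrix (Fin 3) (Fin 3) F3) *ᵥ cb y := rfl

theorem levi_isometry (A : GL (Fin 3) F3) (y : V7) : Q7 (leviMap A y) = Q7 y := by
  have h : ∀ v : V7, ca v 0 * cb v 0 + ca v 1 * cb v 1 + ca v 2 * cb v 2 = ca v ⬝ᵥ cb v :=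
    fun v => by rw [dotProduct, Fin.sum_univ_three]
  rw [Q7_app, Q7_app, cz_levi, h, h, ca_levi, cb_levi, mulVec_transpose, ← dotProduct_mulVec,
    mulVec_mulVec, ← Units.val_mul, inv_mul_cancel, Units.val_one, one_mulVec]

/-- The Levi embedding of `GL 3` in the orthogonal group. -/
noncomputable def levi : GL (Fin 3) F3 →* O Q7 where
  toFun A := Q7_nondeg.ofLinear (leviMap A) (levi_isometry A)
  map_one' := by
    refine O.ext_app fun y => ext7 rfl (fun i => ?_) (fun i => ?_)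
    · show ca (leviMap 1 y) i = ca y i
      simp [ca_levi]
    · show cb (leviMap 1 y) i = cb y i
      simp [cb_levi]
  map_mul' A B := by
    refine O.ext_app fun y => ext7 rfl (fun i => ?_) (fun i => ?_)
    · show ca (leviMap (A * B) y) i = ca (leviMap A (leviMap B y)) i
      rw [ca_levi, ca_levi, ca_levi, mulVec_mulVec, _root_.mul_inv_rev, Units.val_mul,
        transpose_mul]
    · show cb (leviMap (A * B) y) i = cb (leviMap A (leviMap B y)) i
      rw [cb_levi, cb_levi, cb_levi, mulVec_mulVec, Units.val_mul]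

theorem levi_app (A : GL (Fin 3) F3) (y : V7) : (levi A : V7 ≃ₗ[F3] V7) y = leviMap A y := rfl

theorem sign_levi (A : GL (Fin 3) F3) :
    dS (levi A) = 1 ∧ sp (levi A) = sqSign (A : Matrix (Fin 3) (Fin 3) F3).det := by
  have hperf : commutator (SpecialLinearGroup (Fin 3) F3) = ⊤ :=
    Cfsg.Agent.Linear.commutator_SL_eq_top (Or.inl (by simp))
  have hkill : ∀ (φ : O Q7 →* ℤˣ) (B : GL (Fin 3) F3),
      (B : Matrix (Fin 3) (Fin 3) F3).det = 1 → φ (levi B) = 1 := by
    intro φ B hB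
    have key : ∀ ψ : SpecialLinearGroup (Fin 3) F3 →* ℤˣ, ∀ S, ψ S = 1 := fun ψ S =>
      MonoidHom.mem_ker.1 (Abelianization.commutator_subset_ker ψ
        (by rw [hperf]; exact Subgroup.mem_top S))
    have h := key ((φ.comp levi).comp SpecialLinearGroup.toGL) ⟨_, hB⟩
    have hB' : SpecialLinearGroup.toGL (⟨_, hB⟩ : SpecialLinearGroup (Fin 3) F3) = B :=
      Units.ext rfl
    exact (congrArg (fun C => φ (levi C)) hB'.symm).trans h
  have hd : (A : Matrix (Fin 3) (Fin 3) F3).det = 1 ∨ (A : Matrix (Fin 3) (Fin 3) F3).det = -1 :=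
    eq_pm ((Matrix.isUnit_iff_isUnit_det _).1 A.isUnit).ne_zero
  rcases hd with hd | hd
  · exact ⟨hkill _ A hd, by rw [hkill _ A hd, hd, sqSign_of_isSquare IsSquare.one]⟩
  · let D : GL (Fin 3) F3 :=
      ⟨diagonal ![-1, 1, 1], diagonal ![-1, 1, 1], by decide, by decide⟩
    have hDA : ((D * A : GL (Fin 3) F3) : Matrix (Fin 3) (Fin 3) F3).det = 1 := by
      rw [Units.val_mul, det_mul, hd]
      decide
    have hA : A = D * (D * A) := by
      rw [← mul_assoc, show D * D = 1 from Units.ext (by decide), one_mul]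
    have hlD : levi D = pairO (mk 0 1 0 0 1 0 0) (mk 0 1 0 0 (-1) 0 0) := by
      refine O.ext_app fun y => ?_
      rw [pairO, Subgroup.coe_mul, mul_app, levi_app, rO7_app (Or.inl (by simp [Q7_app])),
        rO7_app (Or.inr (by simp [Q7_app]))]
      refine ext7 ?_ (fun i => ?_) (fun i => ?_) <;> (try fin_cases i) <;>
        simp [cz_levi, ca_levi, cb_levi, D, Q7_app, polar7, mulVec_diagonal, diagonal_transpose]
    have hs := sign_pairO (a := mk 0 1 0 0 1 0 0) (b := mk 0 1 0 0 (-1) 0 0)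
      (by simp [Q7_app]) (by simp [Q7_app])
    refine ⟨?_, ?_⟩
    · rw [hA, map_mul, map_mul, hlD, hs.1, hkill _ _ hDA]; rfl
    · rw [hd, sqSign_of_not_isSquare not_isSquare_neg_one, hA, map_mul, map_mul, hlD, hs.2,
        hkill _ _ hDA]; rfl

/-- The central basis vector. -/
def ez : V7 := mk 1 0 0 0 0 0 0

/-- Fixing the second coordinates pointwise and the central one forces order three. -/
theorem cube_of_fix {k : O Q7} (hk : ∀ c, (k : V7 ≃ₗ[F3] V7) (ofb c) = ofb c)
    (he : cz ((k : V7 ≃ₗ[F3] V7) ez) = 1) : k ^ 3 = 1 := by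
  let D : V7 →ₗ[F3] V7 := (k : V7 ≃ₗ[F3] V7).toLinearMap - LinearMap.id
  have hD : ∀ y, D y = (k : V7 ≃ₗ[F3] V7) y - y := fun _ => rfl
  have ha : ∀ y i, ca (D y) i = 0 := by
    intro y i
    have h : polar Q7 (D y) (ofb (Pi.single i 1)) = 0 := by
      rw [hD, polar_sub_left, sub_eq_zero]
      conv_lhs => rw [← hk (Pi.single i 1)]
      rw [O.polar_app]
    fin_cases i <;> simpa [polar7, ofb, Pi.single_apply] using h
  have hb : ∀ y, cz y = 0 → (∀ i, ca y i = 0) → D y = 0 := fun y hz hy => by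
    rw [hD, eq_ofb hz hy, hk, sub_self]
  have hz0 : D (D ez) = 0 := hb _ (by rw [hD, cz_sub, he]; simp [ez]) (ha ez)
  have h3 : ∀ y, D (D (D y)) = 0 := fun y => by
    have hy : D y = cz (D y) • ez + ofb (cb (D y)) := by
      refine ext7 ?_ (fun i => ?_) (fun i => ?_)
      · simp [ez, ofb]
      · rw [ha]; fin_cases i <;> simp [ez, ofb]
      · fin_cases i <;> simp [ez, ofb]
    rw [hy, map_add, map_smul, hb (ofb _) rfl (fun i => by fin_cases i <;> rfl), add_zero, map_smul,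
      hz0, smul_zero]
  refine O.ext_app fun y => ?_
  rw [pow_three]
  show (k : V7 ≃ₗ[F3] V7) ((k : V7 ≃ₗ[F3] V7) ((k : V7 ≃ₗ[F3] V7) y)) = y
  have h := h3 y
  simp only [hD, map_sub] at h
  have h1 := three_smul_eq ((k : V7 ≃ₗ[F3] V7) ((k : V7 ≃ₗ[F3] V7) y))
  have h2 := three_smul_eq ((k : V7 ≃ₗ[F3] V7) y)
  linear_combination (norm := abel) h + h1 - h2

theorem fix_of_det {k : O Q7} (hk : ∀ c, (k : V7 ≃ₗ[F3] V7) (ofb c) = ofb c) (hd : dS k = 1) :
    k ^ 3 = 1 ∧ cz ((k : V7 ≃ₗ[F3] V7) ez) = 1 := by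
  set e := cz ((k : V7 ≃ₗ[F3] V7) ez) with he
  have ha : ∀ i, ca ((k : V7 ≃ₗ[F3] V7) ez) i = 0 := by
    intro i
    have h : polar Q7 ((k : V7 ≃ₗ[F3] V7) ez) (ofb (Pi.single i 1)) = 0 := by
      rw [← hk (Pi.single i 1), O.polar_app]
      simp [polar7, ez, ofb]
    fin_cases i <;> simpa [polar7, ofb, Pi.single_apply] using h
  have hsq : e ^ 2 = 1 := by
    have h := O.map_app k ez
    rw [Q7_app, Q7_app, ha, ha, ha, ← he] at h
    simpa [ez] using h
  have hpm : e = 1 ∨ e = -1 := by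
    revert hsq; generalize e = t; revert t; decide
  rcases hpm with h1 | h1
  · exact ⟨cube_of_fix hk h1, h1⟩
  · exfalso
    have hz : Q7 ez = 1 := by simp [Q7_app, ez]
    have hz0 : Q7 ez ≠ 0 := by rw [hz]; decide
    have hc := cube_of_fix (k := k * rO Q7 ez)
      (fun c => by rw [Subgroup.coe_mul, mul_app, rO_fix (by simp [polar7, ez, ofb]), hk])
      (by rw [Subgroup.coe_mul, mul_app, rO_self hz0, map_neg, cz_neg, ← he, h1, neg_neg])
    have := (sign_of_cube hc).1
    rw [map_mul, hd, detSign_rO _ _ hz0, one_mul] at this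
    exact absurd this (by decide)

theorem mC_eq_zero_iff {y : V7} :
    mC y = 0 ↔ cz y = 0 ∧ ∀ i, ca y i = 0 := by
  constructor
  · intro h
    have h0 := congrArg cz h
    have h1 := congrArg (fun v => cb v 0) h
    have h2 := congrArg (fun v => cb v 1) h
    have h3 := congrArg (fun v => cb v 2) h
    simp at h0 h1 h2 h3
    refine ⟨h1, fun i => ?_⟩
    fin_cases i <;> assumption
  · rintro ⟨hz, ha⟩
    rw [mC_app]
    exact mk_eq_zero (ha 0) rfl rfl rfl hz (by rw [ha, neg_zero]) (ha 1)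

/-- The normaliser of `C 1` in the special orthogonal group has trivial spinor norm. -/
theorem spinor_norm_C {k : O Q7} (hd : dS k = 1) {ε : F3} (hε : ε * ε = 1)
    (hk : ∀ x, (k : V7 ≃ₗ[F3] V7) (mC x) = ε • mC ((k : V7 ≃ₗ[F3] V7) x)) : sp k = 1 := by
  set K : V7 →ₗ[F3] V7 := (k : V7 ≃ₗ[F3] V7).toLinearMap
  have hK : ∀ x, (k : V7 ≃ₗ[F3] V7) x = K x := fun _ => rfl
  simp only [hK] at hk
  have hS : ∀ c, cz (K (ofb c)) = 0 ∧ ∀ i, ca (K (ofb c)) i = 0 := by
    intro c
    have h : mC (ofb c) = 0 := mC_eq_zero_iff.2 ⟨rfl, fun i => by fin_cases i <;> rfl⟩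
    have h' := hk (ofb c)
    rw [h, map_zero] at h'
    refine mC_eq_zero_iff.1 ((smul_eq_zero.1 h'.symm).resolve_left ?_)
    intro h0; rw [h0, zero_mul] at hε; exact zero_ne_one hε
  let L : (Fin 3 → F3) →ₗ[F3] (Fin 3 → F3) :=
    { toFun := fun c => cb (K (ofb c))
      map_add' := fun c c' => by
        have : ofb (c + c') = ofb c + ofb c' := by
          refine ext7 ?_ (fun i => ?_) (fun i => ?_) <;> (try fin_cases i) <;> simp [ofb]
        rw [this, map_add]; rfl
      map_smul' := fun t c => by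
        have : ofb (t • c) = t • ofb c := by
          refine ext7 ?_ (fun i => ?_) (fun i => ?_) <;> (try fin_cases i) <;> simp [ofb]
        rw [this, map_smul]; rfl }
  have hKb : ∀ c, K (ofb c) = ofb (L c) := fun c => eq_ofb (hS c).1 (hS c).2
  have hinj : Function.Injective L := by
    intro c c' h
    have h1 : K (ofb c) = K (ofb c') := by rw [hKb, hKb, h]
    have h2 := congrArg cb ((k : V7 ≃ₗ[F3] V7).injective h1)
    funext i
    have h3 := congrFun h2 i
    fin_cases i <;> simpa [ofb] using h3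
  have hdet : (LinearMap.toMatrix' L).det ≠ 0 := by
    intro h0
    obtain ⟨v, hv, hv0⟩ := exists_mulVec_eq_zero_iff.2 h0
    rw [LinearMap.toMatrix'_mulVec, ← map_zero L] at hv0
    exact hv (hinj hv0)
  let A : GL (Fin 3) F3 := GeneralLinearGroup.mkOfDetNeZero _ hdet
  have hA : (A : Matrix (Fin 3) (Fin 3) F3) = LinearMap.toMatrix' L := rfl
  set k' := (levi A)⁻¹ * k with hk'
  have hfix : ∀ c, (k' : V7 ≃ₗ[F3] V7) (ofb c) = ofb c := by
    intro c
    apply (levi A : V7 ≃ₗ[F3] V7).injective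
    rw [← mul_app, ← Subgroup.coe_mul, hk', mul_inv_cancel_left, hK, hKb, levi_app]
    refine ext7 rfl (fun i => ?_) (fun i => ?_)
    · rw [ca_levi, show ca (ofb c) = 0 from funext fun j => by fin_cases j <;> rfl, mulVec_zero]
      fin_cases i <;> rfl
    · rw [cb_levi, hA, show cb (ofb c) = c from funext fun j => by fin_cases j <;> rfl,
        LinearMap.toMatrix'_mulVec]
      fin_cases i <;> rfl
  have hd' : dS k' = 1 := by rw [hk', map_mul, map_inv, (sign_levi A).1, hd, inv_one, one_mul]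
  obtain ⟨hcube, hcz⟩ := fix_of_det hfix hd'
  have hsp : sp k = sqSign (A : Matrix (Fin 3) (Fin 3) F3).det := by
    rw [← mul_inv_cancel_left (levi A) k, ← hk', map_mul, (sign_of_cube hcube).2, mul_one,
      (sign_levi A).2]
  have hczk : cz (K ez) = 1 := by
    rw [← hK, ← mul_inv_cancel_left (levi A) k, ← hk', Subgroup.coe_mul, mul_app, levi_app,
      cz_levi, hcz]
  -- the value at the first basis vector
  set x := K (mk 0 1 0 0 0 0 0) with hx
  set u := K (mk 0 0 0 (-1) 0 0 0) with hu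
  set v := K (mk 0 0 1 0 0 0 0) with hv
  have k0 : K (mk 0 0 0 0 1 0 0) = mC (mC x) := by
    have : mk 0 0 0 0 1 0 0 = mC (mC (mk 0 1 0 0 0 0 0)) := by simp
    rw [this, hk, hk, map_smul, smul_smul, hε, one_smul]
  have k1 : K (mk 0 0 0 0 0 1 0) = ε • mC u := by
    have : mk 0 0 0 0 0 1 0 = mC (mk 0 0 0 (-1) 0 0 0) := by simp
    rw [this, hk]
  have k2 : K (mk 0 0 0 0 0 0 1) = ε • mC v := by
    have : mk 0 0 0 0 0 0 1 = mC (mk 0 0 1 0 0 0 0) := by simp
    rw [this, hk]
  have hεa : ε * ca x 0 = 1 := by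
    rw [← hczk, show ez = mC (mk 0 1 0 0 0 0 0) by simp [ez], hk, ← hx]
    simp
  have hε0 : ε ≠ 0 := fun h0 => by rw [h0, zero_mul] at hε; exact zero_ne_one hε
  have hu0 : ca u 0 = 0 := by
    have h := (hS ![0, 1, 0]).1
    rw [show ofb ![0, 1, 0] = mk 0 0 0 0 0 1 0 from rfl, k1] at h
    simp at h
    exact h.resolve_left hε0
  have hv0 : ca v 0 = 0 := by
    have h := (hS ![0, 0, 1]).1
    rw [show ofb ![0, 0, 1] = mk 0 0 0 0 0 0 1 from rfl, k2] at h
    simp at h
    exact h.resolve_left hε0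
  have hgram : ε * (-ca u 2 * ca v 1 + ca u 1 * ca v 2) = 1 := by
    have h : polar Q7 (K (mk 0 0 0 0 0 1 0)) (K (mk 0 0 1 0 0 0 0)) = 1 := by
      rw [← hK, ← hK, O.polar_app]; simp [polar7]
    rw [k1, ← hv] at h
    simp [polar7, hu0, hv0] at h
    linear_combination h
  have hdetA : (A : Matrix (Fin 3) (Fin 3) F3).det = 1 := by
    have col : ∀ i j, (A : Matrix (Fin 3) (Fin 3) F3) i j = cb (K (ofb (Pi.single j 1))) i :=
      fun i j => by rw [hA, LinearMap.toMatrix'_apply]; rfl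
    have p0 : ofb (Pi.single (0 : Fin 3) (1 : F3)) = mk 0 0 0 0 1 0 0 := rfl
    have p1 : ofb (Pi.single (1 : Fin 3) (1 : F3)) = mk 0 0 0 0 0 1 0 := rfl
    have p2 : ofb (Pi.single (2 : Fin 3) (1 : F3)) = mk 0 0 0 0 0 0 1 := rfl
    rw [det_fin_three]
    simp only [col, p0, p1, p2, k0, k1, k2]
    simp
    linear_combination (ε * ε * (ε * (-ca u 2 * ca v 1 + ca u 1 * ca v 2))) * hεa +
      (ε * ε) * hgram + hε - (ε * ε * ca x 0 * (-ca u 2 * ca v 1 + ca u 1 * ca v 2)) * hε
  rw [hsp, hdetA, sqSign_of_isSquare IsSquare.one]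

end Cfsg.Agent.Coprime.O7
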