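/-
The seven classes of elements of order three, up to inversion, of the commutator subgroup of the
seven dimensional orthogonal group over the field with three elements.
-/
import Cfsg.Agent.Coprime.OmegaSevenSplit

set_option autoImplicit false
set_option linter.unusedSectionVars false

namespace Cfsg.Agent.Coprime.O7

open QuadraticMap Module Cfsg.Agent.Orthogonal

local notation "dS" => detSign Q7 Q7_nondeg two_ne
local notation "sp" => spinor Q7 Q7_nondeg two_ne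

/-- `M` has a non-zero square. -/
def P1 (M : V7 →ₗ[F3] V7) : Prop := ∃ y, M (M y) ≠ 0
/-- The induced form takes the value `1`. -/
def P2 (M : V7 →ₗ[F3] V7) : Prop := ∃ y, polar Q7 y (M (M y)) = 1
/-- The induced form takes the value `-1`. -/
def P3 (M : V7 →ₗ[F3] V7) : Prop := ∃ y, polar Q7 y (M (M y)) = -1
/-- The kernel of the square is not mapped into the image of the square. -/
def P4 (M : V7 →ₗ[F3] V7) : Prop := ∃ y, M (M y) = 0 ∧ ∀ w, M y ≠ M (M w)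
/-- The induced form is isotropic. -/
def P5 (M : V7 →ₗ[F3] V7) : Prop := ∃ y, polar Q7 y (M (M y)) = 0 ∧ M (M y) ≠ 0

/-- Conjugate up to sign. -/
def Rel (M M' : V7 →ₗ[F3] V7) : Prop :=
  ∃ (h : O Q7) (ε : F3), ε * ε = 1 ∧
    ∀ x, (h : V7 ≃ₗ[F3] V7) (M x) = ε • M' ((h : V7 ≃ₗ[F3] V7) x)

theorem rel_imp {M M' : V7 →ₗ[F3] V7} (h : Rel M M') :
    (P1 M → P1 M') ∧ (P2 M → P2 M') ∧ (P3 M → P3 M') ∧ (P4 M → P4 M') ∧ (P5 M → P5 M') := by
  obtain ⟨g, ε, hε, hg⟩ := h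
  have h2 : ∀ y, (g : V7 ≃ₗ[F3] V7) (M (M y)) = M' (M' ((g : V7 ≃ₗ[F3] V7) y)) := fun y => by
    rw [hg, hg, map_smul, smul_smul, hε, one_smul]
  have hne : ∀ y, M (M y) ≠ 0 → M' (M' ((g : V7 ≃ₗ[F3] V7) y)) ≠ 0 := fun y hy => by
    rw [← h2]; exact fun h0 => hy ((LinearEquiv.map_eq_zero_iff _).1 h0)
  have hpol : ∀ y, polar Q7 ((g : V7 ≃ₗ[F3] V7) y) (M' (M' ((g : V7 ≃ₗ[F3] V7) y))) =
      polar Q7 y (M (M y)) := fun y => by rw [← h2, O.polar_app]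
  refine ⟨fun ⟨y, hy⟩ => ⟨_, hne y hy⟩, fun ⟨y, hy⟩ => ⟨_, (hpol y).trans hy⟩,
    fun ⟨y, hy⟩ => ⟨_, (hpol y).trans hy⟩, fun ⟨y, hy, hy'⟩ => ?_,
    fun ⟨y, hy, hy'⟩ => ⟨_, (hpol y).trans hy, hne y hy'⟩⟩
  refine ⟨(g : V7 ≃ₗ[F3] V7) y, by rw [← h2, hy, map_zero], fun w hw => ?_⟩
  obtain ⟨w, rfl⟩ := (g : V7 ≃ₗ[F3] V7).surjective w
  refine hy' (ε • w) ((g : V7 ≃ₗ[F3] V7).injective ?_)
  rw [h2, map_smul, map_smul, map_smul, ← hw, hg]

theorem rel_symm {M M' : V7 →ₗ[F3] V7} (h : Rel M M') : Rel M' M := by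
  obtain ⟨g, ε, hε, hg⟩ := h
  refine ⟨g⁻¹, ε, hε, fun x => (g : V7 ≃ₗ[F3] V7).injective ?_⟩
  have e : ∀ z, (g : V7 ≃ₗ[F3] V7) (((g⁻¹ : O Q7) : V7 ≃ₗ[F3] V7) z) = z := fun z => by
    rw [← mul_app, ← Subgroup.coe_mul, mul_inv_cancel]; rfl
  rw [e, map_smul, hg, e, smul_smul, hε, one_smul]

theorem rel_iff {M M' : V7 →ₗ[F3] V7} (h : Rel M M') :
    (P1 M ↔ P1 M') ∧ (P2 M ↔ P2 M') ∧ (P3 M ↔ P3 M') ∧ (P4 M ↔ P4 M') ∧ (P5 M ↔ P5 M') :=
  ⟨⟨(rel_imp h).1, (rel_imp (rel_symm h)).1⟩, ⟨(rel_imp h).2.1, (rel_imp (rel_symm h)).2.1⟩,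
    ⟨(rel_imp h).2.2.1, (rel_imp (rel_symm h)).2.2.1⟩,
    ⟨(rel_imp h).2.2.2.1, (rel_imp (rel_symm h)).2.2.2.1⟩,
    ⟨(rel_imp h).2.2.2.2, (rel_imp (rel_symm h)).2.2.2.2⟩⟩

theorem mk_ne_zero_b0 {z a0 a1 a2 b0 b1 b2 : F3} (h : b0 ≠ 0) : mk z a0 a1 a2 b0 b1 b2 ≠ 0 :=
  fun h0 => h (by simpa using congrArg (fun v => cb v 0) h0)

theorem sq_f : ∀ a : F3, a * a = -1 → False := by decide

/-- A test vector. -/
def e0 : V7 := mk 0 1 0 0 0 0 0
/-- A test vector. -/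
def e1 : V7 := mk 0 0 1 0 0 0 0

theorem profile_mA : P1 mA ∧ P2 mA ∧ ¬ P3 mA ∧ ¬ P4 mA ∧ ¬ P5 mA := by
  refine ⟨⟨e0, ?_⟩, ⟨e0, ?_⟩, ?_, ?_, ?_⟩
  · simp only [mA_app, e0]; exact mk_ne_zero_b0 (by simp)
  · simp [polar7, e0]
  · rintro ⟨y, hy⟩; simp [polar7] at hy; exact sq_f _ hy
  · rintro ⟨y, hy, hy'⟩
    have h0 : ca y 0 = 0 := by simpa using congrArg (fun v => cb v 0) hy
    exact hy' (cz y • e0) (by
      refine ext7 ?_ (fun i => ?_) (fun i => ?_) <;> (try fin_cases i) <;> simp [e0, h0])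
  · rintro ⟨y, hy, hy'⟩; simp [polar7] at hy
    exact hy' (by simp only [mA_app]; exact mk_eq_zero (by simp) rfl rfl rfl (by simp [hy]) rfl rfl)

theorem profile_mA' : P1 mA' ∧ ¬ P2 mA' ∧ P3 mA' ∧ ¬ P4 mA' ∧ ¬ P5 mA' := by
  refine ⟨⟨e0, ?_⟩, ?_, ⟨e0, ?_⟩, ?_, ?_⟩
  · simp only [mA'_app, e0]; exact mk_ne_zero_b0 (by simp; decide)
  · rintro ⟨y, hy⟩; simp [polar7] at hy
    exact (by decide : ∀ a : F3, a * (a + a) = 1 → False) _ (by linear_combination hy)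
  · simp [polar7, e0]; decide
  · rintro ⟨y, hy, hy'⟩
    have h0 : ca y 0 + ca y 0 = 0 := by simpa using congrArg (fun v => cb v 0) hy
    have h0' : ca y 0 = 0 := (by decide : ∀ a : F3, a + a = 0 → a = 0) _ h0
    exact hy' ((cb y 1 - ca y 1) • e0) (by
      refine ext7 ?_ (fun i => ?_) (fun i => ?_) <;> (try fin_cases i) <;> simp [e0, h0'] <;>
        ring_nf <;> simp [two_f] <;> (try ring))
  · rintro ⟨y, hy, hy'⟩; simp [polar7] at hy
    have h0 : ca y 0 = 0 := hy.elim id ((by decide : ∀ a : F3, a + a = 0 → a = 0) _)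
    exact hy' (by simp only [mA'_app]; exact mk_eq_zero rfl rfl (by simp) rfl (by simp [h0]) (by simp) rfl)

theorem profile_mD : P1 mD ∧ P2 mD ∧ P3 mD ∧ ¬ P5 mD := by
  refine ⟨⟨e0, ?_⟩, ⟨e0, ?_⟩, ⟨e0 + e1, ?_⟩, ?_⟩
  · simp only [mD_app, e0]; exact mk_ne_zero_b0 (by simp)
  · simp [polar7, e0]
  · simp [polar7, e0, e1]
  · rintro ⟨y, hy, hy'⟩; simp [polar7] at hy
    obtain ⟨h0, h1⟩ := (by decide : ∀ a b : F3, a * a + b * (-b - b) = 0 → a = 0 ∧ b = 0)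
      (ca y 0) (ca y 1) (by linear_combination hy)
    exact hy' (by
      simp only [mD_app]
      exact mk_eq_zero (by simp) rfl rfl (by simp) (by simp [h0]) (by simp [h1]) (by simp))

theorem profile_mD' : P1 mD' ∧ P2 mD' ∧ P3 mD' ∧ P5 mD' := by
  refine ⟨⟨e0, ?_⟩, ⟨e0, ?_⟩, ⟨e1, ?_⟩, ⟨e0 + e1, ?_, ?_⟩⟩
  · simp only [mD'_app, e0]; exact mk_ne_zero_b0 (by simp)
  · simp [polar7, e0]
  · simp [polar7, e1]; decide
  · simp [polar7, e0, e1]; decide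
  · simp only [mD'_app, e0, e1]; exact mk_ne_zero_b0 (by simp)

theorem profile_mE : ¬ P1 mE := by
  rintro ⟨y, hy⟩
  exact hy (by simp only [mE_app]; exact mk_eq_zero rfl rfl rfl rfl rfl (by simp) (by simp))

theorem profile_mC : P1 mC ∧ P2 mC ∧ ¬ P3 mC ∧ P4 mC := by
  refine ⟨⟨e0, ?_⟩, ⟨e0, ?_⟩, ?_, ⟨e1, ?_, fun w hw => ?_⟩⟩
  · simp only [mC_app, e0]; exact mk_ne_zero_b0 (by simp)
  · simp [polar7, e0]
  · rintro ⟨y, hy⟩; simp [polar7] at hy; exact sq_f _ hy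
  · simp only [mC_app, e1]; exact mk_eq_zero (by simp) rfl rfl rfl (by simp) (by simp) (by simp)
  · simpa [e1] using congrArg (fun v => cb v 2) hw

/-- The basic representatives. -/
noncomputable def baseM : Fin 6 → (V7 →ₗ[F3] V7) := ![mA, mA', mD, mD', mE, mC]

theorem baseM_skewNil : ∀ i, SkewNil Q7 (baseM i) := fun i => by
  fin_cases i
  exacts [mA_skewNil, mA'_skewNil, mD_skewNil, mD'_skewNil, mE_skewNil, mC_skewNil]

theorem baseM_ne : ∀ i, ∃ x, baseM i x ≠ 0 := by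
  have h : ∀ M : V7 →ₗ[F3] V7, P1 M → ∃ x, M x ≠ 0 := fun M ⟨y, hy⟩ => ⟨M y, hy⟩
  intro i
  fin_cases i
  exacts [h _ profile_mA.1, h _ profile_mA'.1, h _ profile_mD.1, h _ profile_mD'.1,
    ⟨e1, fun h0 => by simpa [baseM, e1] using congrArg (fun v => cb v 2) h0⟩, h _ profile_mC.1]

theorem baseM_inj (i j : Fin 6) (h : Rel (baseM i) (baseM j)) : i = j := by
  obtain ⟨r1, r2, r3, r4, r5⟩ := rel_iff h
  obtain ⟨a1, a2, a3, a4, a5⟩ := profile_mA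
  obtain ⟨b1, b2, b3, b4, b5⟩ := profile_mA'
  obtain ⟨c1, c2, c3, c5⟩ := profile_mD
  obtain ⟨d1, d2, d3', d5⟩ := profile_mD'
  have f1 := profile_mE
  obtain ⟨g1, g2, g3, g4⟩ := profile_mC
  fin_cases i <;> fin_cases j
  exacts [rfl, (a3 (r3.2 b3)).elim, (a3 (r3.2 c3)).elim, (a3 (r3.2 d3')).elim, (f1 (r1.1 a1)).elim,
    (a4 (r4.2 g4)).elim,
    (a3 (r3.1 b3)).elim, rfl, (b2 (r2.2 c2)).elim, (b2 (r2.2 d2)).elim, (f1 (r1.1 b1)).elim,
    (b2 (r2.2 g2)).elim,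
    (a3 (r3.1 c3)).elim, (b2 (r2.1 c2)).elim, rfl, (c5 (r5.2 d5)).elim, (f1 (r1.1 c1)).elim,
    (g3 (r3.1 c3)).elim,
    (a3 (r3.1 d3')).elim, (b2 (r2.1 d2)).elim, (c5 (r5.1 d5)).elim, rfl, (f1 (r1.1 d1)).elim,
    (g3 (r3.1 d3')).elim,
    (f1 (r1.2 a1)).elim, (f1 (r1.2 b1)).elim, (f1 (r1.2 c1)).elim, (f1 (r1.2 d1)).elim, rfl,
    (f1 (r1.2 g1)).elim,
    (a4 (r4.1 g4)).elim, (b2 (r2.1 g2)).elim, (g3 (r3.2 c3)).elim, (g3 (r3.2 d3')).elim,
    (f1 (r1.1 g1)).elim, rfl]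

/-- Negation. -/
noncomputable def neg7 : O Q7 := ⟨LinearEquiv.neg F3, fun x => QuadraticMap.map_neg Q7 x⟩

theorem neg7_comm (g : O Q7) : neg7 * g = g * neg7 :=
  O.ext_app fun x => ((g : V7 ≃ₗ[F3] V7).map_neg x).symm

theorem dS_neg7 : dS neg7 = -1 := by
  rcases Int.units_eq_one_or (dS neg7) with h | h
  · exfalso
    rw [detSign_eq_one_iff] at h
    have : ((neg7 : V7 ≃ₗ[F3] V7) : V7 →ₗ[F3] V7) = (-1 : F3) • LinearMap.id :=
      LinearMap.ext fun x => by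
        rw [LinearMap.smul_apply, LinearMap.id_apply, neg_one_smul]; rfl
    rw [this, LinearMap.det_smul, finrank_V7, LinearMap.det_id] at h
    exact absurd h (by decide)
  · exact h

/-- An element of determinant one and spinor norm `-1`. -/
noncomputable def r7 : O Q7 := pairO (mk 0 1 0 0 1 0 0) (mk 0 1 0 0 (-1) 0 0)

theorem r7_sign : dS r7 = 1 ∧ sp r7 = -1 :=
  sign_pairO (by simp [Q7_app]) (by simp [Q7_app])

/-- The six basic elements. -/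
noncomputable def baseG (i : Fin 6) : O Q7 := expO Q7_nondeg (baseM_skewNil i)

/-- The seven representatives. -/
noncomputable def repG : Fin 7 → O Q7 :=
  Fin.snoc baseG (r7 * baseG 5 * r7⁻¹)

theorem baseG_cube (i : Fin 6) : baseG i ^ 3 = 1 := expO_cube _ _

theorem repG_cube (i : Fin 7) : repG i ^ 3 = 1 := by
  refine Fin.lastCases ?_ (fun j => ?_) i
  · rw [repG, Fin.snoc_last, ← MulAut.conj_apply, ← map_pow, baseG_cube, map_one]
  · rw [repG, Fin.snoc_castSucc, baseG_cube]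

theorem baseG_ne_one (i : Fin 6) : baseG i ≠ 1 := by
  intro h
  obtain ⟨x, hx⟩ := baseM_ne i
  apply hx
  have := logO_expO Q7_nondeg (baseM_skewNil i)
  rw [← this, show expO Q7_nondeg (baseM_skewNil i) = 1 from h, logO_app]
  exact sub_self _

theorem repG_ne_one (i : Fin 7) : repG i ≠ 1 := by
  refine Fin.lastCases ?_ (fun j => ?_) i
  · rw [repG, Fin.snoc_last, ne_eq, conj_eq_one_iff]
    exact baseG_ne_one 5
  · rw [repG, Fin.snoc_castSucc]; exact baseG_ne_one j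

theorem mem_comm_iff (g : O Q7) : g ∈ commutator (O Q7) ↔ dS g = 1 ∧ sp g = 1 :=
  mem_commutator_iff Q7_nondeg two_ne g

theorem cube_mem {g : O Q7} (hg : g ^ 3 = 1) : g ∈ commutator (O Q7) :=
  (mem_comm_iff g).2 (sign_of_cube hg)

theorem rel_of_conj {i j : Fin 6} {h : O Q7}
    (hc : h * baseG i * h⁻¹ = baseG j ∨ h * baseG i * h⁻¹ = (baseG j)⁻¹) :
    ∃ ε : F3, ε * ε = 1 ∧
      ∀ x, (h : V7 ≃ₗ[F3] V7) (baseM i x) = ε • baseM j ((h : V7 ≃ₗ[F3] V7) x) := by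
  have li := logO_expO Q7_nondeg (baseM_skewNil i)
  have lj := logO_expO Q7_nondeg (baseM_skewNil j)
  rcases hc with hc | hc
  · refine ⟨1, one_mul 1, fun x => ?_⟩
    rw [one_smul, ← li, ← lj]
    exact log_conj hc x
  · refine ⟨-1, by decide, fun x => ?_⟩
    rw [neg_one_smul, ← li, ← lj]
    exact (log_conj hc x).trans (log_inv (baseG_cube j) _)

theorem repG_inj {i j : Fin 7} {h : O Q7} (hh : h ∈ commutator (O Q7))
    (hc : h * repG i * h⁻¹ = repG j ∨ h * repG i * h⁻¹ = (repG j)⁻¹) : i = j := by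
  have hne : r7⁻¹ * h ∉ commutator (O Q7) ∧ h * r7 ∉ commutator (O Q7) := by
    simp only [mem_comm_iff, map_mul, map_inv, r7_sign.2, ((mem_comm_iff h).1 hh).2]
    exact ⟨fun h0 => absurd h0.2 (by decide), fun h0 => absurd h0.2 (by decide)⟩
  have split : ∀ k : O Q7, dS k = 1 → k ∉ commutator (O Q7) →
      (k * baseG 5 * k⁻¹ = baseG 5 ∨ k * baseG 5 * k⁻¹ = (baseG 5)⁻¹) → False := by
    intro k hd hk hc'
    obtain ⟨ε, hε, hx⟩ := rel_of_conj hc'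
    exact hk ((mem_comm_iff k).2 ⟨hd, spinor_norm_C hd hε hx⟩)
  revert hc
  refine Fin.lastCases ?_ (fun i => ?_) i <;> refine Fin.lastCases ?_ (fun j => ?_) j <;>
    simp only [repG, Fin.snoc_last, Fin.snoc_castSucc] <;> intro hc
  · trivial
  · exfalso
    obtain rfl : 5 = j := baseM_inj 5 j
      ⟨h * r7, rel_of_conj (by simpa only [_root_.mul_inv_rev, mul_assoc] using hc)⟩
    exact split (h * r7) (by rw [map_mul, r7_sign.1, ((mem_comm_iff h).1 hh).1, one_mul]) hne.2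
      (by simpa only [_root_.mul_inv_rev, mul_assoc] using hc)
  · exfalso
    have hc' : r7⁻¹ * h * baseG i * (r7⁻¹ * h)⁻¹ = baseG 5 ∨
        r7⁻¹ * h * baseG i * (r7⁻¹ * h)⁻¹ = (baseG 5)⁻¹ := by
      rcases hc with hc | hc
      · left; rw [show r7⁻¹ * h * baseG i * (r7⁻¹ * h)⁻¹ = r7⁻¹ * (h * baseG i * h⁻¹) * r7 by group, hc]
        group
      · right; rw [show r7⁻¹ * h * baseG i * (r7⁻¹ * h)⁻¹ = r7⁻¹ * (h * baseG i * h⁻¹) * r7 by group, hc]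
        group
    obtain rfl : i = 5 := baseM_inj i 5 ⟨r7⁻¹ * h, rel_of_conj hc'⟩
    exact split (r7⁻¹ * h)
      (by rw [map_mul, map_inv, r7_sign.1, ((mem_comm_iff h).1 hh).1, inv_one, one_mul]) hne.1 hc'
  · rw [baseM_inj i j ⟨h, rel_of_conj hc⟩]

theorem exists_twist (i : Fin 6) (hi : i ≠ 5) : ∃ z, IsTwist (baseM i) z := by
  fin_cases i
  exacts [twist_mA, twist_mA', twist_mD, twist_mD', twist_mE, absurd rfl hi]

/-- Every element of order three is conjugate in the commutator subgroup to a representative. -/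
theorem repG_cover {g : O Q7} (hg : g ^ 3 = 1) (hg1 : g ≠ 1) :
    ∃ (i : Fin 7) (h : O Q7), h ∈ commutator (O Q7) ∧ h * g * h⁻¹ = repG i := by
  have hne : ∃ x, logO g x ≠ 0 := by
    by_contra hc
    push Not at hc
    refine hg1 (O.ext_app fun x => ?_)
    rw [app_eq_exp_log hg, hc, hc]
    exact (sub_zero _).trans (add_zero x)
  have key : ∀ (i : Fin 6) (h0 : O Q7),
      (∀ x, (h0 : V7 ≃ₗ[F3] V7) (logO g x) = baseM i ((h0 : V7 ≃ₗ[F3] V7) x)) →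
      ∃ (i : Fin 7) (h : O Q7), h ∈ commutator (O Q7) ∧ h * g * h⁻¹ = repG i := by
    intro i h0 hx
    have hc0 : h0 * g * h0⁻¹ = baseG i := conj_eq_of_log hg (baseG_cube i) fun x => by
      rw [hx, show logO (baseG i) = baseM i from logO_expO _ _]
    obtain ⟨h1, hd1, hc1⟩ : ∃ h1, dS h1 = 1 ∧ h1 * g * h1⁻¹ = baseG i := by
      rcases Int.units_eq_one_or (dS h0) with hd | hd
      · exact ⟨h0, hd, hc0⟩
      · refine ⟨neg7 * h0, by rw [map_mul, dS_neg7, hd]; decide, ?_⟩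
        rw [show neg7 * h0 * g * (neg7 * h0)⁻¹ = neg7 * (h0 * g * h0⁻¹) * neg7⁻¹ by group, hc0,
          neg7_comm, mul_inv_cancel_right]
    rcases Int.units_eq_one_or (sp h1) with hs | hs
    · exact ⟨i.castSucc, h1, (mem_comm_iff h1).2 ⟨hd1, hs⟩, by rw [repG, Fin.snoc_castSucc, hc1]⟩
    · by_cases hi : i = 5
      · subst hi
        refine ⟨Fin.last 6, r7 * h1, (mem_comm_iff _).2
          ⟨by rw [map_mul, r7_sign.1, hd1, one_mul], by rw [map_mul, r7_sign.2, hs]; decide⟩, ?_⟩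
        rw [repG, Fin.snoc_last,
          show r7 * h1 * g * (r7 * h1)⁻¹ = r7 * (h1 * g * h1⁻¹) * r7⁻¹ by group, hc1]
      · obtain ⟨z, hz1, hz2, hz3⟩ := exists_twist i hi
        refine ⟨i.castSucc, z * h1, (mem_comm_iff _).2
          ⟨by rw [map_mul, hz1, hd1, one_mul], by rw [map_mul, hz2, hs]; decide⟩, ?_⟩
        have hzc : z * baseG i * z⁻¹ = baseG i := by
          refine conj_eq_of_log (baseG_cube i) (baseG_cube i) fun x => ?_
          rw [show logO (baseG i) = baseM i from logO_expO _ _, hz3]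
        rw [repG, Fin.snoc_castSucc,
          show z * h1 * g * (z * h1)⁻¹ = z * (h1 * g * h1⁻¹) * z⁻¹ by group, hc1, hzc]
  rcases shapes Q7_nondeg (logO_skewNil hg) finrank_V7 hne with hs | hs | hs | hs | hs | hs | hs
  · obtain ⟨v, hv, hk⟩ := hs
    obtain ⟨w, hw, hk'⟩ := hasA_mA
    obtain ⟨h0, hx⟩ := hv.exists_conj Q7_nondeg hk hw hk'
    exact key 0 h0 hx
  · obtain ⟨v, hv, hk⟩ := hs
    obtain ⟨w, hw, hk'⟩ := hasA_mA'
    obtain ⟨h0, hx⟩ := hv.exists_conj Q7_nondeg hk hw hk'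
    exact key 1 h0 hx
  · obtain ⟨v, hv, hk⟩ := hs
    obtain ⟨w, hw, hk'⟩ := hasC_mC
    obtain ⟨h0, hx⟩ := hv.exists_conj Q7_nondeg hk hw hk'
    exact key 5 h0 hx
  · exact (hasC_neg_false Q7_nondeg finrank_V7 hasC_mC hs).elim
  · obtain ⟨v, hv, hk⟩ := hs
    obtain ⟨w, hw, hk'⟩ := hasD_mD
    obtain ⟨h0, hx⟩ := hv.exists_conj Q7_nondeg hk hw hk'
    exact key 2 h0 hx
  · obtain ⟨v, hv, hk⟩ := hs
    obtain ⟨w, hw, hk'⟩ := hasD_mD'
    obtain ⟨h0, hx⟩ := hv.exists_conj Q7_nondeg hk hw hk'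
    exact key 3 h0 hx
  · obtain ⟨v, hv, hk⟩ := hs
    obtain ⟨w, hw, hk'⟩ := hasE_mE
    obtain ⟨h0, hx⟩ := hv.exists_conj Q7_nondeg hk hw hk'
    exact key 4 h0 hx

end Cfsg.Agent.Coprime.O7
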