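import Cfsg.Agent.Coprime.HalfTransField
import Cfsg.Agent.Arith.LargePrimDiv
import Cfsg.Agent.Coprime.FpfTools
import Cfsg.Agent.PGroups.Basic

/-!
Solvable groups with a single class of involutions and trivial odd core: the involutions generate an
elementary abelian normal subgroup `V`, the group induced on it has odd order and contains a large prime.
-/

set_option autoImplicit false

namespace Cfsg.Agent.Coprime.OneClass

open Subgroup MulAction

variable {G : Type*} [Group G] [Finite G]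

/-- The standing hypotheses. -/
structure Hyp (G : Type*) [Group G] : Prop where
  solv : Group.IsSolvable G
  core : Cfsg.pPrimeCore 2 G = ⊥
  conj : ∀ x y : G, x ≠ 1 → x ^ 2 = 1 → y ≠ 1 → y ^ 2 = 1 → IsConj x y
  two : ∃ x y : G, x ≠ y ∧ x ≠ 1 ∧ x ^ 2 = 1 ∧ y ≠ 1 ∧ y ^ 2 = 1

variable (h : Hyp G)
include h

theorem centralizer_le : centralizer (Cfsg.pCore 2 G : Set G) ≤ Cfsg.pCore 2 G := by
  have := h.solv
  have hF : Cfsg.fittingSubgroup G ≤ Cfsg.pCore 2 G := by
    rw [Cores.iSup_pCore_eq_fittingSubgroup]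
    have : Fact (Nat.Prime 2) := ⟨Nat.prime_two⟩
    refine (Cores.iSup_pCore_le_sup 2).trans ?_
    rw [h.core, bot_sup_eq]
  exact (Subgroup.centralizer_le hF).trans (Cores.centralizer_fittingSubgroup_le.trans hF)

theorem invol_mem {x : G} (hx : x ^ 2 = 1) :
    x ∈ Cfsg.pCore 2 G ∧ ∀ u ∈ Cfsg.pCore 2 G, u * x = x * u := by
  have : Fact (Nat.Prime 2) := ⟨Nat.prime_two⟩
  set T := Cfsg.pCore 2 G with hT
  rcases eq_or_ne x 1 with rfl | hx1
  · exact ⟨one_mem _, fun u _ => by rw [mul_one, one_mul]⟩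
  have hTne : T ≠ ⊥ := by
    intro h0
    have h1 := centralizer_le h
    rw [← hT, h0] at h1
    exact hx1 (Subgroup.mem_bot.mp (h1 (mem_centralizer_iff.mpr fun y hy => by
      rw [Subgroup.mem_bot.mp hy, one_mul, mul_one])))
  have : Nontrivial T := (Subgroup.nontrivial_iff_ne_bot T).mpr hTne
  obtain ⟨⟨z, hzT⟩, -, hzc, hzo⟩ := PGroups.exists_mem_center_orderOf_eq
    (Cores.pCore_isPGroup (p := 2) (G := G)) (⊤ : Subgroup T) top_ne_bot
  rw [Subgroup.orderOf_mk] at hzo
  obtain ⟨g, hg⟩ := isConj_iff.mp (h.conj z x (fun h0 => by simp [h0] at hzo)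
    (by rw [← hzo, pow_orderOf_eq_one]) hx1 hx)
  subst hg
  refine ⟨(inferInstance : T.Normal).conj_mem _ hzT g, fun u hu => ?_⟩
  have h1 : g⁻¹ * u * g * z = z * (g⁻¹ * u * g) := congrArg Subtype.val
    (Subgroup.mem_center_iff.mp hzc ⟨g⁻¹ * u * g, by
      simpa using (inferInstance : T.Normal).conj_mem _ hu g⁻¹⟩)
  calc u * (g * z * g⁻¹) = g * (g⁻¹ * u * g * z) * g⁻¹ := by group
    _ = g * (z * (g⁻¹ * u * g)) * g⁻¹ := by rw [h1]
    _ = g * z * g⁻¹ * u := by group

/-- The subgroup of the elements of order at most two. -/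
def V : Subgroup G where
  carrier := {x | x ^ 2 = 1}
  one_mem' := one_pow 2
  mul_mem' {a b} ha hb := by
    show (a * b) ^ 2 = 1
    have hc : Commute a b := (invol_mem h hb).2 a (invol_mem h ha).1
    rw [hc.mul_pow, show a ^ 2 = 1 from ha, show b ^ 2 = 1 from hb, one_mul]
  inv_mem' {a} ha := by show a⁻¹ ^ 2 = 1; rw [inv_pow, ha, inv_one]

theorem mem_V {x : G} : x ∈ V h ↔ x ^ 2 = 1 := Iff.rfl

instance V_normal : (V h).Normal :=
  ⟨fun x hx g => by show (g * x * g⁻¹) ^ 2 = 1; rw [conj_pow, show x ^ 2 = 1 from hx]; group⟩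

theorem V_le : V h ≤ Cfsg.pCore 2 G := fun _ hx => (invol_mem h hx).1

theorem V_trans {a b : G} (ha : a ∈ V h) (ha1 : a ≠ 1) (hb : b ∈ V h) (hb1 : b ≠ 1) :
    ∃ g : G, g * a * g⁻¹ = b := isConj_iff.mp (h.conj a b ha1 ha hb1 hb)

theorem V_commutative : IsMulCommutative (V h) :=
  PGroups.isMulCommutative_of_comm fun a ha b hb => (invol_mem h hb).2 a (invol_mem h ha).1

theorem V_card : ∃ n : ℕ, 2 ≤ n ∧ Nat.card (V h) = 2 ^ n := by
  have : Fact (Nat.Prime 2) := ⟨Nat.prime_two⟩
  obtain ⟨n, hn⟩ := IsPGroup.iff_card.mp ((Cores.pCore_isPGroup (p := 2) (G := G)).to_le (V_le h))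
  refine ⟨n, ?_, hn⟩
  obtain ⟨a, b, hab, ha1, ha, hb1, hb⟩ := h.two
  have hinj : Function.Injective (![⟨1, one_mem _⟩, ⟨a, ha⟩, ⟨b, hb⟩] : Fin 3 → V h) := by
    intro i j hij
    have := congrArg Subtype.val hij
    fin_cases i <;> fin_cases j <;>
      first
      | rfl
      | exact absurd this (by simp [ha1, hb1, hab, hab.symm, ha1.symm, hb1.symm])
  have h3 := Nat.card_le_card_of_injective _ hinj
  rw [Nat.card_fin, hn] at h3
  by_contra hlt
  have : 2 ^ n ≤ 2 := by
    calc 2 ^ n ≤ 2 ^ 1 := Nat.pow_le_pow_right two_pos (by omega)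
      _ = 2 := rfl
  omega

/-- An element fixing no involution fixes no 2-element. -/
theorem fpf_two {x : G} (hx : ∀ v ∈ V h, x * v = v * x → v = 1) :
    ∀ u ∈ ({u | ∃ i : ℕ, u ^ 2 ^ i = 1} : Set G), x * u = u * x → u = 1 := by
  rintro u ⟨i, hu⟩ hc
  induction i generalizing u with
  | zero => rwa [pow_zero, pow_one] at hu
  | succ i ih =>
    have h2 := ih (u ^ 2) (by rwa [← pow_mul, ← pow_succ']) ((show Commute x u from hc).pow_right 2)
    exact hx u h2 hc

omit [Finite G] in
theorem conj_eq_iff {g v : G} : g * v * g⁻¹ = v ↔ g * v = v * g := mul_inv_eq_iff_eq_mul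

/-- If a subgroup of odd order fixes no involution then its normalizer has odd order. -/
theorem normalizer_odd {R : Subgroup G} (hR : Odd (Nat.card R))
    (hfix : ∀ v ∈ V h, (∀ x ∈ R, x * v = v * x) → v = 1) :
    Odd (Nat.card (normalizer (R : Set G))) := by
  rw [← Nat.not_even_iff_odd, even_iff_two_dvd]
  intro hd
  have : Fact (Nat.Prime 2) := ⟨Nat.prime_two⟩
  obtain ⟨⟨s, hs⟩, hso⟩ := exists_prime_orderOf_dvd_card' 2 hd
  rw [Subgroup.orderOf_mk] at hso
  have hsV : s ∈ V h := (orderOf_dvd_iff_pow_eq_one.mp hso.dvd : s ^ 2 = 1)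
  have hs1 := hfix s hsV fun x hx => by
    have h1 : x * s * x⁻¹ * s⁻¹ ∈ R := by
      have := mul_mem hx ((mem_normalizer_iff.mp hs x⁻¹).mp (inv_mem hx))
      simpa [mul_assoc] using this
    have h2 : x * s * x⁻¹ * s⁻¹ ∈ V h :=
      mul_mem ((V_normal h).conj_mem _ hsV x) (inv_mem hsV)
    have h3 : orderOf (⟨_, h1⟩ : R) ∣ 2 :=
      orderOf_dvd_of_pow_eq_one (Subtype.ext (h2 : (x * s * x⁻¹ * s⁻¹) ^ 2 = 1))
    rcases (Nat.dvd_prime Nat.prime_two).mp h3 with h4 | h4
    · rw [orderOf_eq_one_iff] at h4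
      exact mul_inv_eq_iff_eq_mul.mp (mul_inv_eq_one.mp (congrArg Subtype.val h4))
    · exact absurd (h4 ▸ _root_.orderOf_dvd_natCard _) hR.not_two_dvd_nat
  rw [hs1, orderOf_one] at hso
  exact absurd hso (by norm_num)

/-- The action on `V`. -/
def φ : G →* MulAut (V h) :=
  haveI := V_normal h
  MulAut.conjNormal

theorem φ_apply (g : G) (v : V h) : ((φ h g v : V h) : G) = g * v * g⁻¹ := by
  have := V_normal h
  exact MulAut.conjNormal_apply g v

theorem φ_eq_one {g : G} : φ h g = 1 ↔ ∀ v ∈ V h, g * v = v * g := by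
  constructor
  · intro hg v hv
    have := φ_apply h g ⟨v, hv⟩
    rw [hg] at this
    exact mul_inv_eq_iff_eq_mul.mp this.symm
  · intro hg
    refine MulEquiv.ext fun v => Subtype.ext ?_
    rw [φ_apply]
    exact mul_inv_eq_iff_eq_mul.mpr (hg v v.2)

theorem core_le_ker : Cfsg.pCore 2 G ≤ (φ h).ker := fun u hu =>
  (MonoidHom.mem_ker).mpr ((φ_eq_one h).mpr fun _ hv => (invol_mem h hv).2 u hu)

/-- A non-trivial normal subgroup of the induced group fixes no involution. -/
theorem fixed_eq_one (N : Subgroup (φ h).range) [N.Normal] (hN : N ≠ ⊥) {v : V h}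
    (hv : ∀ d ∈ N, ((d : (φ h).range) : MulAut (V h)) v = v) : v = 1 := by
  by_contra hv1
  refine hN ((Subgroup.eq_bot_iff_forall _).mpr fun d hd => Subtype.ext (MulEquiv.ext fun w => ?_))
  rcases eq_or_ne w 1 with rfl | hw1
  · simp
  obtain ⟨g, hg⟩ := V_trans h v.2 (fun e => hv1 (Subtype.ext e)) w.2 (fun e => hw1 (Subtype.ext e))
  let e : (φ h).range := (φ h).rangeRestrict g
  have he : (e : MulAut (V h)) v = w := Subtype.ext ((φ_apply h g v).trans hg)
  have h1 := hv _ ((inferInstance : N.Normal).conj_mem d hd e⁻¹)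
  rw [inv_inv, Subgroup.coe_mul, Subgroup.coe_mul, MulAut.mul_apply, MulAut.mul_apply, he] at h1
  have h2 := congrArg (e : MulAut (V h)) h1
  rw [← MulAut.mul_apply, ← Subgroup.coe_mul, mul_inv_cancel, he] at h2
  exact h2

omit [Finite G] h in
/-- The index of a normal subgroup divides the order of the normalizer of its Sylow subgroups. -/
theorem index_dvd_normalizer [Finite G] {M : Subgroup G} [M.Normal] {r : ℕ} [Fact r.Prime] (P : Sylow r M) :
    M.index ∣ Nat.card (normalizer (((P : Subgroup M).map M.subtype : Subgroup G) : Set G)) := by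
  have h1 := Sylow.normalizer_sup_eq_top P
  rw [← Subgroup.relIndex_top_right, ← h1, Subgroup.relIndex_sup_right]
  exact Subgroup.relIndex_dvd_card _ _

theorem odd_range : Odd (Nat.card (φ h).range) := by
  have := h.solv
  have : Fact (Nat.Prime 2) := ⟨Nat.prime_two⟩
  set D := (φ h).range
  have : Group.IsSolvable D := Group.isSolvable_of_surjective (φ h).rangeRestrict_surjective
  obtain ⟨n, hn, hV⟩ := V_card h
  have hne : Cfsg.fittingSubgroup D ≠ ⊥ := by
    intro h0
    have hD : ∀ d : D, d = 1 := fun d => Subgroup.mem_bot.mp (h0 ▸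
      Cores.centralizer_fittingSubgroup_le (mem_centralizer_iff.mpr fun y hy => by
        rw [Subgroup.mem_bot.mp (h0 ▸ hy : y ∈ (⊥ : Subgroup D)), one_mul, mul_one]))
    obtain ⟨a, b, hab, ha1, ha, hb1, hb⟩ := h.two
    obtain ⟨g, hg⟩ := V_trans h (a := a) ha ha1 hb hb1
    have h1 : φ h g = 1 := congrArg Subtype.val (hD ((φ h).rangeRestrict g))
    refine hab ?_
    rw [← hg, (φ_eq_one h).mp h1 a ha]
    group
  obtain ⟨⟨r, hrp⟩, hr⟩ : ∃ r : Nat.Primes, Cfsg.pCore (r : ℕ) D ≠ ⊥ := by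
    by_contra hc
    push Not at hc
    exact hne (by rw [Cores.iSup_pCore_eq_fittingSubgroup]; simp [hc])
  have : Fact r.Prime := ⟨hrp⟩
  change Cfsg.pCore r D ≠ ⊥ at hr
  set R0 := Cfsg.pCore r D
  have hr2 : r ≠ 2 := by
    rintro rfl
    let _ : MulAction R0 (V h) :=
      { smul := fun d v => ((d : D) : MulAut (V h)) v
        one_smul := fun v => rfl
        mul_smul := fun a b v => rfl }
    have hdvd : 2 ∣ Nat.card (V h) := hV ▸ dvd_pow_self 2 (by omega)
    obtain ⟨b, hb, hb1⟩ :=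
      (Cores.pCore_isPGroup (p := 2) (G := D)).exists_fixed_point_of_prime_dvd_card_of_fixed_point
        (V h) hdvd (a := 1) (fun d => map_one ((d : D) : MulAut (V h)))
    exact hb1 (fixed_eq_one h R0 hr (fun d hd => hb ⟨d, hd⟩)).symm
  set M := R0.comap (φ h).rangeRestrict
  obtain ⟨P⟩ := (inferInstance : Nonempty (Sylow r M))
  have hmap : M.map (φ h).rangeRestrict = R0 :=
    Subgroup.map_comap_eq_self_of_surjective (φ h).rangeRestrict_surjective R0
  have himg := FpfTools.map_sylow_eq (φ h).rangeRestrict M (hmap ▸ Cores.pCore_isPGroup) P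
  rw [hmap] at himg
  set R := (P : Subgroup M).map M.subtype with hR
  have hRodd : Odd (Nat.card R) := by
    obtain ⟨k, hk⟩ := IsPGroup.iff_card.mp (P.isPGroup'.map M.subtype)
    rw [hk]; exact (hrp.odd_of_ne_two hr2).pow
  have hN := normalizer_odd h hRodd fun v hv hc => by
    have := fixed_eq_one h R0 hr (v := ⟨v, hv⟩) fun d hd => by
      rw [← himg] at hd
      obtain ⟨g, hg, rfl⟩ := hd
      exact Subtype.ext ((φ_apply h g ⟨v, hv⟩).trans (mul_inv_eq_iff_eq_mul.mpr (hc g hg)))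
    exact congrArg Subtype.val this
  have hidx : Odd M.index := hN.of_dvd_nat (index_dvd_normalizer P)
  rw [Subgroup.index_comap_of_surjective _ (φ h).rangeRestrict_surjective] at hidx
  rw [← R0.card_mul_index]
  obtain ⟨k, hk⟩ := IsPGroup.iff_card.mp (Cores.pCore_isPGroup (p := r) (G := D))
  exact Odd.mul (hk ▸ (hrp.odd_of_ne_two hr2).pow) hidx

/-- A large prime with an element of that order acting without fixed points, centred in the Fitting
subgroup. -/
theorem exists_prime_elt : ∃ (n l : ℕ) (y : (φ h).range), l.Prime ∧ l ≠ 2 ∧ Nat.card (V h) = 2 ^ n ∧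
    (∀ k : ℕ, 0 < k → l ∣ 2 ^ k - 1 → 2 * n < l * k) ∧ orderOf y = l ∧
    ∀ v : V h, (y : MulAut (V h)) v = v → v = 1 := by
  classical
  have := h.solv
  set D := (φ h).range
  have : Group.IsSolvable D := Group.isSolvable_of_surjective (φ h).rangeRestrict_surjective
  have := V_commutative h
  open scoped IsMulCommutative in
  let E := Additive (V h)
  open scoped IsMulCommutative in
  let act : DistribMulAction D E :=
    { smul := fun d v => Additive.ofMul ((d : MulAut (V h)) (Additive.toMul v))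
      one_smul := fun v => rfl
      mul_smul := fun a b v => rfl
      smul_zero := fun d => congrArg Additive.ofMul (map_one (d : MulAut (V h)))
      smul_add := fun d a b => congrArg Additive.ofMul (map_mul (d : MulAut (V h)) _ _) }
  have : FaithfulSMul D E := ⟨fun {a b} hab => Subtype.ext (MulEquiv.ext fun v =>
    congrArg Additive.toMul (hab (Additive.ofMul v)))⟩
  open scoped IsMulCommutative in
  have hE : ∀ e : E, 2 • e = 0 := fun e => congrArg Additive.ofMul
    (Subtype.ext e.toMul.2 : (Additive.toMul e) ^ 2 = 1)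
  have htrans : ∀ a b : E, a ≠ 0 → b ≠ 0 → ∃ d : D, d • a = b ∨ d • a = -b := fun a b ha hb => by
    obtain ⟨g, hg⟩ := V_trans h a.toMul.2 (fun e => ha (congrArg Additive.ofMul (Subtype.ext e : a.toMul = 1)))
      b.toMul.2 (fun e => hb (congrArg Additive.ofMul (Subtype.ext e : b.toMul = 1)))
    exact ⟨(φ h).rangeRestrict g, Or.inl (congrArg Additive.ofMul (Subtype.ext ((φ_apply h g _).trans hg)))⟩
  obtain ⟨n, hn, hV⟩ := V_card h
  have hEc : Nat.card E = 2 ^ n := hV
  have : Nontrivial E := Finite.one_lt_card_iff_nontrivial.mp (by rw [hEc]; exact Nat.one_lt_two_pow (by omega))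
  obtain ⟨K, _, _, ψK, -, ψ, hψ⟩ := HalfTrans.exists_semilinear (odd_range h) Nat.prime_two hE htrans
  have : CharP K 2 := by
    have : Fact (Nat.Prime 2) := ⟨Nat.prime_two⟩
    refine ringChar.of_eq (CharP.ringChar_of_prime_eq_zero Nat.prime_two ?_)
    have := congrArg ψK (hE (ψK.symm 1))
    rwa [map_nsmul, AddEquiv.apply_symm_apply, map_zero, nsmul_one] at this
  have : Fact (Nat.Prime 2) := ⟨Nat.prime_two⟩
  obtain ⟨k, hk, hk'⟩ := HalfTrans.card_ringAut_le K 2
  have hkn : k = n := by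
    rw [← Nat.card_congr ψK.toEquiv, hEc] at hk
    exact (Nat.pow_right_injective le_rfl hk).symm
  subst hkn
  obtain ⟨l, hl, hl2, hld, hbig, hlk⟩ : ∃ l : ℕ, l.Prime ∧ l ≠ 2 ∧ l ∣ 2 ^ k - 1 ∧
      (∀ j : ℕ, 0 < j → l ∣ 2 ^ j - 1 → 2 * k < l * j) ∧ k < l := by
    by_cases h6 : k = 6
    · subst h6
      refine ⟨7, by norm_num, by norm_num, by norm_num, fun j hj hd => ?_, by norm_num⟩
      by_contra hlt
      obtain rfl : j = 1 := by omega
      norm_num at hd
    obtain ⟨l, hl, hd, hp⟩ := Arith.exists_isPPD (a := 2) (n := k) (by norm_num) (by omega)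
      (fun e => h6 e.2) (by
        rintro ⟨-, m, hm⟩
        rcases m with _ | _ | m <;> simp [pow_succ] at hm
        omega)
    have hl2 : l ≠ 2 := by
      rintro rfl
      obtain ⟨c, hc⟩ := hd
      have : 2 ∣ 2 ^ k := dvd_pow_self 2 (by omega)
      have := Nat.one_le_two_pow (n := k)
      omega
    have hord := (Arith.isPPD_iff (by norm_num) (by omega)).mp ⟨hl, hd, hp⟩
    have h1 := Arith.ord_dvd_sub_one (q := 2) hl (by norm_num) (by omega) hd
    rw [hord.2] at h1
    have hkl := Nat.le_of_dvd (by have := hl.two_le; omega) h1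
    refine ⟨l, hl, hl2, hd, fun j hj hj' => ?_, by have := hl.two_le; omega⟩
    have hkj : k ≤ j := by_contra fun hlt => hp j hj (by omega) hj'
    have h3 : 3 ≤ l := by have := hl.two_le; omega
    nlinarith
  have : Fact l.Prime := ⟨hl⟩
  obtain ⟨v0, hv0⟩ := exists_ne (0 : E)
  have horb : orbit D v0 = {0}ᶜ := by
    ext w
    constructor
    · rintro ⟨d, rfl⟩
      simpa using fun e => hv0 ((smul_eq_zero_iff_eq d).mp e)
    · intro hw
      obtain ⟨d, hd | hd⟩ := htrans v0 w hv0 hw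
      · exact ⟨d, hd⟩
      · refine ⟨d, hd.trans ?_⟩
        exact neg_eq_of_add_eq_zero_left (by rw [← two_nsmul]; exact hE w)
  have hD : l ∣ Nat.card D := by
    refine hld.trans ?_
    have h1 := index_stabilizer (G := D) v0
    rw [horb, Set.ncard_compl, Set.ncard_singleton, hEc] at h1
    exact h1 ▸ Subgroup.index_dvd_card _
  have : Finite (K ≃+* K) := Finite.of_injective (fun f => (f : K → K)) DFunLike.coe_injective
  have hlker : l ∣ Nat.card ψ.ker := by
    rw [← ψ.ker.index_mul_card, Subgroup.index_ker] at hD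
    refine (hl.dvd_mul.mp hD).resolve_left fun hc => ?_
    have := (Nat.le_of_dvd Nat.card_pos hc).trans ((Subgroup.card_le_card_group _).trans hk')
    omega
  obtain ⟨⟨y, hy⟩, hyo⟩ := exists_prime_orderOf_dvd_card' l hlker
  rw [Subgroup.orderOf_mk] at hyo
  refine ⟨k, l, y, hl, hl2, hV, hbig, hyo, fun v hv => ?_⟩
  have hy1 : y ≠ 1 := fun e => hl.ne_one (by rw [← hyo, e, orderOf_one])
  exact congrArg Additive.toMul (HalfTrans.fitting_fpf (odd_range h) Nat.prime_two hE htrans y (hψ hy) hy1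
    (Additive.ofMul v) (congrArg Additive.ofMul hv))

end Cfsg.Agent.Coprime.OneClass
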