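import Mathlib.GroupTheory.FiniteAbelian.Basic
import Mathlib.GroupTheory.PGroup

/-!
A finite abelian 2-group whose automorphisms are transitive on the involutions is homocyclic.
-/

set_option autoImplicit false

namespace Cfsg.Agent.Coprime

theorem homocyclic_of_transitive {A : Type*} [Group A] [Finite A] [IsMulCommutative A]
    (hA : IsPGroup 2 A)
    (htr : ∀ x y : A, x ≠ 1 → x ^ 2 = 1 → y ≠ 1 → y ^ 2 = 1 → ∃ a : MulAut A, a x = y) :
    ∃ m r : ℕ, Nonempty (A ≃* (Fin r → Multiplicative (ZMod (2 ^ m)))) := by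
  classical
  open scoped IsMulCommutative in
  obtain ⟨ι, _, k, hk, ⟨e⟩⟩ := CommGroup.equiv_prod_multiplicative_zmod_of_finite A
  obtain ⟨N, hN⟩ := IsPGroup.iff_card.mp hA
  have hpow : ∀ i, ∃ a : ℕ, 1 ≤ a ∧ k i = 2 ^ a := by
    intro i
    have hd : k i ∣ Nat.card A := by
      rw [Nat.card_congr e.toEquiv, Nat.card_pi]
      refine dvd_trans ?_ (Finset.dvd_prod_of_mem _ (Finset.mem_univ i))
      rw [Nat.card_congr Multiplicative.toAdd, Nat.card_zmod]
    obtain ⟨a, -, ha⟩ := (Nat.dvd_prime_pow Nat.prime_two).mp (hN ▸ hd)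
    refine ⟨a, Nat.one_le_iff_ne_zero.mpr fun h0 => ?_, ha⟩
    have := hk i
    rw [ha, h0, pow_zero] at this
    omega
  choose a ha hka using hpow
  -- generators of the factors
  let gen : ι → A := fun i => e.symm (Pi.mulSingle i (Multiplicative.ofAdd (1 : ZMod (k i))))
  have hgen : ∀ i (t : ℕ), gen i ^ t = 1 ↔ k i ∣ t := by
    intro i t
    rw [← e.injective.eq_iff, map_pow, map_one, e.apply_symm_apply, ← Pi.mulSingle_pow,
      Pi.mulSingle_eq_one_iff, ← ofAdd_nsmul, ofAdd_eq_one, nsmul_one, ZMod.natCast_eq_zero_iff]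
  have hle : ∀ i j, a i ≤ a j := by
    intro i j
    obtain ⟨b, hb⟩ : ∃ b, a i = b + 1 := ⟨a i - 1, by have := ha i; omega⟩
    obtain ⟨c, hc⟩ : ∃ c, a j = c + 1 := ⟨a j - 1, by have := ha j; omega⟩
    obtain ⟨σ, hσ⟩ := htr (gen i ^ 2 ^ b) (gen j ^ 2 ^ c)
      (fun h => by
        rw [hgen, hka, hb] at h
        exact absurd ((Nat.pow_dvd_pow_iff_le_right Nat.one_lt_two).mp h) (by omega))
      (by rw [← pow_mul, ← pow_succ, hgen, hka, hb])
      (fun h => by
        rw [hgen, hka, hc] at h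
        exact absurd ((Nat.pow_dvd_pow_iff_le_right Nat.one_lt_two).mp h) (by omega))
      (by rw [← pow_mul, ← pow_succ, hgen, hka, hc])
    rw [map_pow] at hσ
    by_contra hlt
    -- the `j`-th coordinate is killed by `2 ^ b`
    have h1 : (e (σ (gen i)) j) ^ 2 ^ b = 1 := by
      refine orderOf_dvd_iff_pow_eq_one.mp ((_root_.orderOf_dvd_natCard _).trans ?_)
      rw [Nat.card_congr Multiplicative.toAdd, Nat.card_zmod, hka]
      exact Nat.pow_dvd_pow 2 (by omega)
    have h2 : (e (gen j ^ 2 ^ c)) j = 1 := by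
      rw [← hσ, map_pow, Pi.pow_apply, h1]
    rw [map_pow, Pi.pow_apply, e.apply_symm_apply, Pi.mulSingle_eq_same, ← ofAdd_nsmul, ofAdd_eq_one,
      nsmul_one, ZMod.natCast_eq_zero_iff, hka, hc] at h2
    exact absurd ((Nat.pow_dvd_pow_iff_le_right Nat.one_lt_two).mp h2) (by omega)
  obtain ⟨m, hm⟩ : ∃ m, ∀ i, k i = 2 ^ m := by
    rcases isEmpty_or_nonempty ι with hι | ⟨⟨i0⟩⟩
    · exact ⟨0, fun i => isEmptyElim i⟩
    · exact ⟨a i0, fun i => by rw [hka, le_antisymm (hle i i0) (hle i0 i)]⟩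
  obtain rfl : k = fun _ => 2 ^ m := funext hm
  refine ⟨m, Fintype.card ι, ⟨e.trans ?_⟩⟩
  exact
    { Equiv.arrowCongr (Fintype.equivFin ι) (Equiv.refl (Multiplicative (ZMod (2 ^ m)))) with
      map_mul' := fun _ _ => rfl }

end Cfsg.Agent.Coprime
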