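import Cfsg.Agent.H38.QuadBound
import Mathlib.RingTheory.LittleWedderburn
import Mathlib.FieldTheory.Finite.Basic

/-!
An automorphism of prime power order of an anisotropic quadratic map over `F₂`: if it induces an element of
prime order without fixed points on the target, and the prime is large against the dimension of the target,
then it has itself prime order.
-/

namespace Cfsg.Agent.Coprime.QuadPower

variable {U W : Type*} [AddCommGroup U] [Finite U] [AddCommGroup W] [Finite W]

theorem pow_eq_one (hU2 : ∀ u : U, u + u = 0) (hW2 : ∀ w : W, w + w = 0) (q : U → W)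
    (B : U → U → W) (hBl : ∀ a a' b, B (a + a') b = B a b + B a' b)
    (hBr : ∀ a b b', B a (b + b') = B a b + B a b')
    (hq : ∀ a b, q (a + b) = q a + q b + B a b) (haniso : ∀ a, q a = 0 → a = 0)
    (e : AddMonoid.End U) (f : AddMonoid.End W) (hqe : ∀ u, q (e u) = f (q u))
    {l : ℕ} [hl : Fact l.Prime] (hl2 : l ≠ 2) {n : ℕ} (hW : Nat.card W = 2 ^ n)
    (hbig : ∀ k : ℕ, 0 < k → l ∣ 2 ^ k - 1 → 2 * n < l * k) {c : ℕ} (he : e ^ l ^ c = 1)
    (hf : f ^ l = 1) (hffix : ∀ w, f w = w → w = 0) : e ^ l = 1 := by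
  classical
  have hBe : ∀ a b, B (e a) (e b) = f (B a b) := by
    intro a b
    have h := hqe (a + b)
    rw [map_add, hq, hq, map_add, map_add, hqe, hqe] at h
    exact add_left_cancel h
  have hBcomm : ∀ a b, B a b = B b a := by
    intro a b
    have h := hq a b
    rw [add_comm a b, hq, add_comm (q b) (q a)] at h
    exact (add_left_cancel h).symm
  set g := e ^ l with hg
  have hqi : ∀ (i : ℕ) u, q ((e ^ i) u) = (f ^ i) (q u) := by
    intro i
    induction i with
    | zero => intro u; rfl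
    | succ i ih =>
      intro u
      rw [pow_succ', pow_succ', AddMonoid.End.coe_mul, AddMonoid.End.coe_mul, Function.comp_apply,
        Function.comp_apply, hqe, ih]
  have hBi : ∀ (i : ℕ) a b, B ((e ^ i) a) ((e ^ i) b) = (f ^ i) (B a b) := by
    intro i
    induction i with
    | zero => intro a b; rfl
    | succ i ih =>
      intro a b
      rw [pow_succ', pow_succ', AddMonoid.End.coe_mul, AddMonoid.End.coe_mul, Function.comp_apply,
        Function.comp_apply, Function.comp_apply, hBe, ih]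
  have hgq : ∀ u, q (g u) = q u := fun u => by rw [hg, hqi, hf]; rfl
  have hgB : ∀ a b, B (g a) (g b) = B a b := fun a b => by rw [hg, hBi, hf]; rfl
  have hge : ∀ u, g (e u) = e (g u) := fun u => DFunLike.congr_fun ((Commute.refl e).pow_left l).eq u
  by_contra hne
  -- the image of `g - 1` contains no fixed points of `g`
  set W0 : AddSubgroup U := (g - 1 : AddMonoid.End U).range with hW0
  have hW0fix : ∀ v ∈ W0, g v = v → v = 0 := by
    rintro v ⟨u, hu⟩ hv
    have h1 : g u = u + v := by rw [← hu]; exact (add_sub_cancel u (g u)).symm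
    have h2 : ∀ i : ℕ, (g ^ i) u = u + i • v := by
      intro i
      induction i with
      | zero => simp
      | succ i ih =>
        rw [pow_succ', AddMonoid.End.coe_mul, Function.comp_apply, ih, map_add, map_nsmul, hv, h1,
          succ_nsmul', add_assoc]
    have h3 := h2 (l ^ c)
    rw [hg, ← pow_mul, mul_comm, pow_mul, he, one_pow, AddMonoid.End.coe_one, id_eq, left_eq_add] at h3
    obtain ⟨m, hm⟩ : Odd (l ^ c) := ((hl.out.odd_of_ne_two hl2).pow)
    rw [hm, succ_nsmul, mul_comm, mul_nsmul, two_nsmul, hU2, zero_add] at h3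
    exact h3
  have hW0ne : W0 ≠ ⊥ := fun h => hne (DFunLike.ext _ _ fun u => sub_eq_zero.mp
    ((AddSubgroup.mem_bot).mp (h ▸ (⟨u, rfl⟩ : (g - 1 : AddMonoid.End U) u ∈ W0))))
  have hW0e : ∀ v ∈ W0, e v ∈ W0 := by
    rintro v ⟨u, rfl⟩
    refine ⟨e u, ?_⟩
    show g (e u) - e u = e (g u - u)
    rw [map_sub, hge]
  obtain ⟨M, ⟨hMW, hMne, hMe⟩, hMmin⟩ := (Set.toFinite
    {A : AddSubgroup U | A ≤ W0 ∧ A ≠ ⊥ ∧ ∀ v ∈ A, e v ∈ A}).exists_minimal ⟨W0, le_rfl, hW0ne, hW0e⟩
  obtain ⟨v0, hv0, hv0ne⟩ : ∃ v ∈ M, v ≠ 0 := by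
    obtain ⟨⟨v, hv⟩, h⟩ := AddSubgroup.ne_bot_iff_exists_ne_zero.mp hMne
    exact ⟨v, hv, fun h0 => h (Subtype.ext h0)⟩
  let eM : AddMonoid.End M :=
    AddMonoidHom.mk' (fun v => ⟨e (v : U), hMe v v.2⟩) fun a b => Subtype.ext (map_add e (a : U) (b : U))
  have hpowM : ∀ (i : ℕ) (v : M), ((eM ^ i) v : U) = (e ^ i) v := by
    intro i
    induction i with
    | zero => intro v; rfl
    | succ i ih =>
      intro v
      rw [pow_succ', pow_succ', AddMonoid.End.coe_mul, AddMonoid.End.coe_mul, Function.comp_apply,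
        Function.comp_apply, ← ih]
      rfl
  have : Finite (AddMonoid.End M) := Finite.of_injective (fun f => (f : M → M)) DFunLike.coe_injective
  set S := Subring.closure ({eM} : Set (AddMonoid.End M)) with hS
  have : IsMulCommutative S := Subring.isMulCommutative_closure (by rintro x rfl y rfl; rfl)
  let lam : S := ⟨eM, Subring.subset_closure rfl⟩
  -- irreducibility
  have hinj : ∀ (s : S) (v : M), v ≠ 0 → (s : AddMonoid.End M) v = 0 → s = 0 := by
    intro s v hv hs
    let A : AddSubgroup U := (s : AddMonoid.End M).ker.map M.subtype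
    have hAe : ∀ a ∈ A, e a ∈ A := by
      rintro _ ⟨a, ha, rfl⟩
      refine ⟨eM a, ?_, rfl⟩
      change ((s * lam : S) : AddMonoid.End M) a = 0
      rw [mul_comm']
      exact (congrArg eM (ha : (s : AddMonoid.End M) a = 0)).trans (map_zero _)
    have hAM : A ≤ M := by rintro _ ⟨a, -, rfl⟩; exact a.2
    have hMA : M ≤ A := hMmin ⟨hAM.trans hMW, fun h => hv (Subtype.ext
      ((AddSubgroup.mem_bot).mp (h ▸ (⟨v, hs, rfl⟩ : (v : U) ∈ A)))), hAe⟩ hAM
    refine Subtype.ext (DFunLike.ext _ _ fun a => ?_)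
    obtain ⟨a', ha', haa⟩ := hMA a.2
    obtain rfl : a' = a := Subtype.ext haa
    exact ha'
  have : Nontrivial S := ⟨⟨0, 1, fun h => hv0ne (by
    simpa using congrArg (fun r : S => (((r : AddMonoid.End M) ⟨v0, hv0⟩ : M) : U)) h.symm)⟩⟩
  have : NoZeroDivisors S := ⟨fun {s t} hst => by
    refine or_iff_not_imp_right.mpr fun ht => hinj s ((t : AddMonoid.End M) ⟨v0, hv0⟩) (fun h => ?_)
      (show ((s * t : S) : AddMonoid.End M) ⟨v0, hv0⟩ = 0 by rw [hst]; rfl)
    exact ht (hinj t _ (fun h' => hv0ne (congrArg Subtype.val h')) h)⟩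
  have : IsDomain S := NoZeroDivisors.to_isDomain _
  let fld : Field S := (Finite.isDomain_to_isField S).toField
  have h2 : (2 : S) = 0 := hinj _ ⟨v0, hv0⟩ (fun h => hv0ne (congrArg Subtype.val h)) (by
    rw [← one_add_one_eq_two]
    exact Subtype.ext (hU2 v0))
  have : CharP S 2 := ringChar.of_eq (CharP.ringChar_of_prime_eq_zero Nat.prime_two (by exact_mod_cast h2))
  -- the module is small
  have hMcard : Nat.card M ≤ 2 ^ (2 * n) := by
    let _ : Module (ZMod 2) M := AddCommGroup.zmodModule fun v =>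
      Subtype.ext (by rw [two_nsmul]; exact hU2 v)
    let _ : Module (ZMod 2) W := AddCommGroup.zmodModule fun v => by rw [two_nsmul]; exact hW2 v
    have hsmul : ∀ a : ZMod 2, a = 0 ∨ a = 1 := by decide
    have hq0 : q 0 = 0 := by
      have h := hq 0 0
      have hB0 : B 0 0 = 0 := by
        have := hBl 0 0 0
        rwa [add_zero, left_eq_add] at this
      rw [add_zero, hB0, add_zero, left_eq_add] at h
      exact h
    have hB0l : ∀ b, B 0 b = 0 := fun b => by
      have := hBl 0 0 b
      rwa [add_zero, left_eq_add] at this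
    have hpol : ∀ a b : M, QuadraticMap.polar (fun v : M => q v) a b = B a b := fun a b => by
      simp only [QuadraticMap.polar, AddSubgroup.coe_add, hq]
      abel
    let Q : QuadraticMap (ZMod 2) M W := QuadraticMap.ofPolar (fun v : M => q v)
      (fun a x => by
        rcases hsmul a with rfl | rfl
        · simp [hq0]
        · simp)
      (fun x x' y => by simp only [hpol, AddSubgroup.coe_add, hBl])
      (fun a x y => by
        rcases hsmul a with rfl | rfl
        · simp [hpol, hB0l]
        · simp)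
    have h := H38.anisotropic_finrank_le Q fun v hv => Subtype.ext (haniso v hv)
    have hWn : Module.finrank (ZMod 2) W = n := by
      have := Module.natCard_eq_pow_finrank (K := ZMod 2) (V := W)
      rw [hW, Nat.card_zmod] at this
      exact (Nat.pow_right_injective le_rfl this).symm
    rw [Module.natCard_eq_pow_finrank (K := ZMod 2) (V := M), Nat.card_zmod]
    exact Nat.pow_le_pow_right two_pos (hWn ▸ h)
  have hScard : Nat.card S ≤ Nat.card M :=
    Nat.card_le_card_of_injective (fun s : S => (s : AddMonoid.End M) ⟨v0, hv0⟩) fun s t h => by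
      refine sub_eq_zero.mp (hinj _ ⟨v0, hv0⟩ (fun h' => hv0ne (congrArg Subtype.val h')) ?_)
      change (s : AddMonoid.End M) ⟨v0, hv0⟩ - (t : AddMonoid.End M) ⟨v0, hv0⟩ = 0
      exact sub_eq_zero.mpr h
  -- orders
  set mu := lam ^ l with hmu
  have hmuM : ∀ v : M, (((mu : S) : AddMonoid.End M) v : U) = g v := fun v => by
    rw [hmu, SubmonoidClass.coe_pow, hpowM]
  have hlam : lam ^ l ^ c = 1 := Subtype.ext (DFunLike.ext _ _ fun v => Subtype.ext (by
    rw [SubmonoidClass.coe_pow, hpowM, he]; rfl))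
  have hmu1 : mu ≠ 1 := fun h => hv0ne (hW0fix v0 (hMW hv0) (by
    have := hmuM ⟨v0, hv0⟩
    rw [h] at this
    exact this.symm))
  obtain ⟨d, -, hd⟩ := (Nat.dvd_prime_pow hl.out).mp (orderOf_dvd_of_pow_eq_one hlam)
  obtain ⟨d, rfl⟩ : ∃ d', d = d' + 2 := by
    refine ⟨d - 2, ?_⟩
    by_contra hd2
    apply hmu1
    rw [hmu, ← orderOf_dvd_iff_pow_eq_one, hd]
    exact (Nat.pow_dvd_pow l (show d ≤ 1 by omega)).trans (pow_one l).dvd
  have hmuo : orderOf mu = l ^ (d + 1) := by
    rw [hmu, orderOf_pow_of_dvd hl.out.ne_zero (hd ▸ dvd_pow_self l (by omega)), hd, pow_succ,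
      Nat.mul_div_cancel _ hl.out.pos]
  have hroot : ∀ z : S, z ^ l = 1 → ∃ i : ℕ, z = mu ^ i := by
    intro z hz
    have hp : IsPrimitiveRoot (mu ^ l ^ d) l := by
      rw [IsPrimitiveRoot.iff_orderOf, orderOf_pow_of_dvd (pow_ne_zero _ hl.out.ne_zero)
        (hmuo ▸ pow_dvd_pow l (Nat.le_succ d)), hmuo, pow_succ, mul_comm,
        Nat.mul_div_cancel _ (pow_pos hl.out.pos _)]
    have : NeZero l := ⟨hl.out.ne_zero⟩
    obtain ⟨i, -, hi⟩ := hp.eq_pow_of_pow_eq_one hz
    exact ⟨l ^ d * i, by rw [pow_mul, hi]⟩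
  -- `lam` lies in the field generated by `mu`
  set F := Subfield.closure ({mu} : Set S) with hF
  have hmuF : mu ∈ F := Subfield.subset_closure rfl
  have hlamF : lam ∈ F := by
    by_contra hlF
    have : Fintype F := Fintype.ofFinite F
    obtain ⟨k, hk, hFk⟩ := FiniteField.card F 2
    set Q := Nat.card F with hQ
    have hQk : Q = 2 ^ (k : ℕ) := by rw [hQ, Nat.card_eq_fintype_card]; exact hFk
    have hfixF : ∀ x ∈ F, x ^ Q = x := fun x hx => by
      rw [hQ, Nat.card_eq_fintype_card]
      exact congrArg Subtype.val (FiniteField.pow_card (⟨x, hx⟩ : F))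
    have hlQ : lam ^ Q ≠ lam := by
      intro h
      have hnz : (Polynomial.X ^ Q - Polynomial.X : Polynomial S) ≠ 0 :=
        FiniteField.X_pow_card_sub_X_ne_zero S Finite.one_lt_card
      have hs : (insert lam (Finset.univ.image (Subtype.val : F → S))).card ≤ Q := by
        refine le_trans (Finset.card_le_card (t := (Polynomial.X ^ Q - Polynomial.X : Polynomial S).roots.toFinset)
          fun x hx => ?_) (le_trans (Multiset.toFinset_card_le _) (le_trans (Polynomial.card_roots' _)
            (FiniteField.X_pow_card_sub_X_natDegree_eq S Finite.one_lt_card).le))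
        rw [Multiset.mem_toFinset, Polynomial.mem_roots hnz]
        rcases Finset.mem_insert.mp hx with rfl | hx
        · simp [h]
        · obtain ⟨y, -, rfl⟩ := Finset.mem_image.mp hx
          simp [hfixF y y.2]
      rw [Finset.card_insert_of_notMem (by simpa using hlF),
        Finset.card_image_of_injective _ Subtype.val_injective, Finset.card_univ,
        ← Nat.card_eq_fintype_card] at hs
      omega
    have hlam0 : lam ≠ 0 := fun h => hmu1 (by
      rw [h, zero_pow (pow_ne_zero _ hl.out.ne_zero)] at hlam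
      exact absurd hlam zero_ne_one)
    set z := lam ^ Q * lam⁻¹ with hz
    have hzl : z ^ l = 1 := by
      rw [hz, mul_pow, inv_pow, ← pow_mul, mul_comm Q, pow_mul, ← hmu, hfixF mu hmuF,
        mul_inv_cancel₀ (pow_ne_zero l hlam0)]
    have hz1 : z ≠ 1 := fun h => hlQ ((mul_inv_eq_one₀ hlam0).mp h)
    have hzQ : z ^ Q = z := by
      obtain ⟨i, hi⟩ := hroot z hzl
      exact hfixF z (hi ▸ pow_mem hmuF i)
    have hiter : ∀ j : ℕ, lam ^ Q ^ j = lam * z ^ j := by
      intro j
      induction j with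
      | zero => simp
      | succ j ih =>
        rw [pow_succ, pow_mul, ih, mul_pow, pow_right_comm, hzQ, pow_succ, ← mul_assoc, mul_right_comm]
        congr 1
        rw [hz, mul_comm, mul_assoc, inv_mul_cancel₀ hlam0, mul_one]
    have hScard' : Nat.card S = Q ^ Module.finrank F S := Module.natCard_eq_pow_finrank
    have hfix : lam ^ Nat.card S = lam := by
      have : Fintype S := Fintype.ofFinite S
      rw [Nat.card_eq_fintype_card]
      exact FiniteField.pow_card lam
    rw [hScard', hiter, mul_eq_left₀ hlam0] at hfix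
    have hli : l ∣ Module.finrank F S :=
      (orderOf_eq_prime hzl hz1) ▸ orderOf_dvd_of_pow_eq_one hfix
    have hlQ1 : l ∣ 2 ^ (k : ℕ) - 1 := by
      have h1 : mu ^ (Q - 1) = 1 := by
        have hmu0 : mu ≠ 0 := pow_ne_zero l hlam0
        refine mul_left_cancel₀ hmu0 ?_
        rw [← pow_succ', Nat.sub_add_cancel Nat.card_pos, mul_one, hfixF mu hmuF]
      rw [← hQk]
      exact (dvd_pow_self l (Nat.succ_ne_zero d)).trans (hmuo ▸ orderOf_dvd_of_pow_eq_one h1)
    have h1 := hbig k k.pos hlQ1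
    have h2 := (hScard.trans hMcard)
    rw [hScard', hQk, ← pow_mul, Nat.pow_le_pow_iff_right (by norm_num)] at h2
    have h3 : l ≤ Module.finrank F S := Nat.le_of_dvd Module.finrank_pos hli
    have h4 := Nat.mul_le_mul_left (k : ℕ) h3
    rw [mul_comm l] at h1
    omega
  -- the form is non-zero on the module
  have hBne : ∃ a b : M, B a b ≠ 0 := by
    by_contra hB
    push Not at hB
    refine hv0ne (hW0fix v0 (hMW hv0) ?_)
    have hgv : g v0 ∈ M := hmuM ⟨v0, hv0⟩ ▸ (((mu : S) : AddMonoid.End M) ⟨v0, hv0⟩).2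
    have h := hq (g v0) v0
    rw [hB ⟨_, hgv⟩ ⟨v0, hv0⟩, add_zero, hgq, hW2] at h
    have h' := eq_neg_of_add_eq_zero_left (haniso _ h)
    rwa [← eq_neg_of_add_eq_zero_left (hU2 v0)] at h'
  -- adjoints
  let R : S → S → Prop := fun a b => ∀ u w : M,
    B ((a : AddMonoid.End M) u : U) w = B u ((b : AddMonoid.End M) w : U)
  have hRmul : ∀ {a b a' b'}, R a b → R a' b' → R (a * a') (b' * b) := fun {a b a' b'} h h' u w => by
    show B ((a : AddMonoid.End M) ((a' : AddMonoid.End M) u) : U) w =
      B u ((b' : AddMonoid.End M) ((b : AddMonoid.End M) w) : U)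
    rw [h, h']
  have hRsymm : ∀ {a b}, R a b → R b a := fun {a b} h u w => by rw [hBcomm, ← h, hBcomm]
  have hRzero : ∀ b, R 0 b → b = 0 := by
    intro b h
    by_contra hb
    obtain ⟨u, w, huw⟩ := hBne
    have hbij : Function.Surjective (b : AddMonoid.End M) :=
      Finite.surjective_of_injective ((injective_iff_map_eq_zero _).mpr fun v hv => by
        by_contra hv0'
        exact hb (hinj b v hv0' hv))
    obtain ⟨w', rfl⟩ := hbij w
    apply huw
    rw [← h u w']
    show B (0 : U) w' = 0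
    have := hBl 0 0 w'
    rwa [add_zero, left_eq_add] at this
  have hRadd : ∀ {a b a' b'}, R a b → R a' b' → R (a + a') (b + b') := fun {a b a' b'} h h' u w => by
    show B (((a : AddMonoid.End M) u : U) + ((a' : AddMonoid.End M) u : U)) w =
      B u (((b : AddMonoid.End M) w : U) + ((b' : AddMonoid.End M) w : U))
    rw [hBl, hBr, h, h']
  have hR1 : R 1 1 := fun u w => rfl
  have hneg : ∀ a : S, -a = a := fun a => CharTwo.neg_eq a
  have huniq : ∀ {a b b'}, R a b → R a b' → b = b' := fun {a b b'} h h' => by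
    have h0 := hRadd h h'
    rw [CharTwo.add_self_eq_zero] at h0
    have := hRzero _ h0
    rwa [CharTwo.add_eq_zero] at this
  have hRpow : ∀ {a b} (i : ℕ), R a b → R (a ^ i) (b ^ i) := by
    intro a b i h
    induction i with
    | zero => rw [pow_zero, pow_zero]; exact hR1
    | succ i ih => rw [pow_succ, pow_succ']; exact hRmul ih h
  let A : Subfield S :=
    { carrier := {a | ∃ b, R a b}
      one_mem' := ⟨1, hR1⟩
      zero_mem' := ⟨0, fun u w => by
        show B (0 : U) w = B u (0 : U)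
        rw [hBcomm u]
        have h1 := hBl 0 0 (w : U)
        have h2 := hBl 0 0 (u : U)
        rw [add_zero, left_eq_add] at h1 h2
        rw [h1, h2]⟩
      add_mem' := fun ⟨b, h⟩ ⟨b', h'⟩ => ⟨_, hRadd h h'⟩
      neg_mem' := fun {a} ⟨b, h⟩ => ⟨b, by rwa [hneg]⟩
      mul_mem' := fun ⟨b, h⟩ ⟨b', h'⟩ => ⟨_, hRmul h h'⟩
      inv_mem' := fun a ha => by
        obtain ⟨b, h⟩ := ha
        by_cases ha0 : a = 0
        · exact ⟨b, by rw [ha0, inv_zero, ← ha0]; exact h⟩
        · have : Fintype S := Fintype.ofFinite S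
          have h1 := FiniteField.pow_card_sub_one_eq_one a ha0
          obtain ⟨m, hm⟩ : ∃ m, Fintype.card S - 1 = m + 1 :=
            ⟨Fintype.card S - 2, by have := Fintype.one_lt_card (α := S); omega⟩
          rw [hm, pow_succ'] at h1
          exact ⟨b ^ m, by rw [← eq_inv_of_mul_eq_one_right h1]; exact hRpow m h⟩ }
  set mi := mu ^ (l ^ (d + 1) - 1) with hmi
  have hmumi : mu * mi = 1 := by
    rw [hmi, ← pow_succ', Nat.sub_add_cancel (Nat.one_le_pow _ _ hl.out.pos), ← hmuo, pow_orderOf_eq_one]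
  have hRmu : R mu mi := fun u w => by
    have h1 : w = (((mu * mi : S)) : AddMonoid.End M) w := by rw [hmumi]; rfl
    conv_lhs => rw [h1]
    show B (((mu : S) : AddMonoid.End M) u : U) (((mu : S) : AddMonoid.End M) ((mi : AddMonoid.End M) w) : U) = _
    rw [hmuM, hmuM, hgB]
  obtain ⟨b, hb⟩ : lam ∈ A := Subfield.closure_le.mpr (Set.singleton_subset_iff.mpr
    (show mu ∈ A from ⟨mi, hRmu⟩)) hlamF
  have hbl : b ^ l = mi := huniq (hRpow l hb) hRmu
  set z := b * lam with hz
  have hRz : R z z := hRmul (hRsymm hb) hb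
  have hzl : z ^ l = 1 := by rw [hz, mul_pow, hbl, ← hmu, mul_comm, hmumi]
  obtain ⟨i, hi⟩ := hroot z hzl
  have hzi : z = mi ^ i := huniq hRz (hi ▸ hRpow i hRmu)
  have hz2 : z * z = 1 := by
    nth_rewrite 2 [hzi]
    rw [hi, ← mul_pow, hmumi, one_pow]
  have hz1 : z = 1 := by
    obtain ⟨m, hm⟩ := hl.out.odd_of_ne_two hl2
    rwa [hm, pow_succ, pow_mul, sq, hz2, one_pow, one_mul] at hzl
  obtain ⟨u, w, huw⟩ := hBne
  refine huw (hffix _ ?_)
  rw [← hBe]
  have h1 := hb u (((lam : S) : AddMonoid.End M) w)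
  refine h1.trans ?_
  rw [show ((b : AddMonoid.End M) ((lam : AddMonoid.End M) w)) = ((b * lam : S) : AddMonoid.End M) w from rfl,
    ← hz, hz1]
  rfl

end Cfsg.Agent.Coprime.QuadPower
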