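import Cfsg.Agent.Coprime.OneClassBasic
import Cfsg.Agent.Coprime.QuadPower
import Cfsg.Agent.Coprime.FpfElem
import Cfsg.Agent.Coprime.Action
import Cfsg.Agent.PGroups.Critical

/-!
Thompson: a solvable group with trivial odd core and one class of at least two involutions has a normal
Sylow 2-subgroup.
-/

set_option autoImplicit false

namespace Cfsg.Agent.Coprime.OneClass

open Subgroup
open scoped commutatorElement

variable {G : Type*} [Group G] [Finite G]

omit [Finite G] in
/-- An element of finite odd order that moves `u` by a fixed 2-element fixes `u`. -/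
theorem eq_of_shift {y u w : G} {m : ℕ} (hy : y ^ m = 1) (hm : Odd m) (hw : ∃ i : ℕ, w ^ 2 ^ i = 1)
    (hu : y * u * y⁻¹ = u * w) (hyw : y * w * y⁻¹ = w) : y * u = u * y := by
  have h1 : ∀ j : ℕ, y ^ j * u * (y ^ j)⁻¹ = u * w ^ j := by
    intro j
    induction j with
    | zero => simp
    | succ j ih =>
      calc y ^ (j + 1) * u * (y ^ (j + 1))⁻¹ = y * (y ^ j * u * (y ^ j)⁻¹) * y⁻¹ := by
            rw [pow_succ']; group
        _ = (y * u * y⁻¹) * (y * w ^ j * y⁻¹) := by rw [ih]; group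
        _ = u * w * w ^ j := by rw [hu, ← conj_pow, hyw]
        _ = u * w ^ (j + 1) := by rw [mul_assoc, ← pow_succ']
  have h2 := h1 m
  rw [hy, one_mul, inv_one, mul_one, left_eq_mul] at h2
  obtain ⟨i, hi⟩ := hw
  have h3 : w = 1 := by
    have hc : Nat.Coprime m (2 ^ i) := Nat.Coprime.pow_right i (Nat.coprime_two_right.mpr hm)
    have := pow_gcd_eq_one.mpr (⟨h2, hi⟩ : w ^ m = 1 ∧ w ^ 2 ^ i = 1)
    rwa [hc, pow_one] at this
  rw [h3, mul_one] at hu
  exact mul_inv_eq_iff_eq_mul.mp hu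

variable (h : Hyp G)
include h

omit [Finite G] h in
theorem two_elt {u : G} (hu : u ∈ Cfsg.pCore 2 G) : ∃ i : ℕ, u ^ 2 ^ i = 1 := by
  obtain ⟨i, hi⟩ := (Cores.pCore_isPGroup (p := 2) (G := G)) ⟨u, hu⟩
  exact ⟨i, congrArg Subtype.val hi⟩

/-- The element chosen below has prime order: its `l`-th power acts trivially on `O₂(G)`. -/
theorem pow_eq_one {x : G} {n l a : ℕ} (hl : l.Prime) (hl2 : l ≠ 2) (hV : Nat.card (V h) = 2 ^ n)
    (hbig : ∀ k : ℕ, 0 < k → l ∣ 2 ^ k - 1 → 2 * n < l * k) (hx : x ^ l ^ a = 1)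
    (hxV : ∀ v ∈ V h, x ^ l * v = v * x ^ l) (hfix : ∀ v ∈ V h, x * v = v * x → v = 1) :
    x ^ l = 1 := by
  classical
  have : Fact (Nat.Prime 2) := ⟨Nat.prime_two⟩
  have : Fact l.Prime := ⟨hl⟩
  have hlodd : Odd (l ^ a) := (hl.odd_of_ne_two hl2).pow
  set T := Cfsg.pCore 2 G with hT
  have hT2 : IsPGroup 2 T := Cores.pCore_isPGroup
  obtain ⟨Cr, hCc, hΦ, hcomm, hCC⟩ := PGroups.exists_critical hT2
  have := hCc
  set C := Cr.map T.subtype with hC
  have hCn : C.Normal := ConjAct.normal_of_characteristic_of_normal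
  have hCT : C ≤ T := Subgroup.map_subtype_le _
  set Z := C ⊓ centralizer (C : Set G) with hZ
  have hsq : ∀ u ∈ C, u ^ 2 ∈ Z := by
    rintro _ ⟨u, hu, rfl⟩
    refine ⟨pow_mem (Subgroup.mem_map_of_mem T.subtype hu) 2, mem_centralizer_iff.mpr ?_⟩
    rintro _ ⟨c, hc, rfl⟩
    have h1 := hΦ (Subgroup.mem_map_of_mem Cr.subtype
      (PGroups.pow_mem_frattini (hT2.to_subgroup Cr) ⟨u, hu⟩))
    exact congrArg T.subtype (mem_centralizer_iff.mp h1 c hc)
  have hcom : ∀ u ∈ C, ∀ w ∈ C, ⁅u, w⁆ ∈ Z := by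
    rintro _ ⟨u, hu, rfl⟩ _ ⟨w, hw, rfl⟩
    have h1 := hcomm (commutator_mem_commutator hu (mem_top w))
    rw [← map_commutatorElement]
    refine ⟨⟨_, h1.1, rfl⟩, mem_centralizer_iff.mpr ?_⟩
    rintro _ ⟨c, hc, rfl⟩
    exact congrArg T.subtype (mem_centralizer_iff.mp h1.2 c hc)
  have hVZ : V h ≤ Z := by
    intro v hv
    have hvT := V_le h hv
    have hc : (⟨v, hvT⟩ : T) ∈ centralizer (Cr : Set T) := mem_centralizer_iff.mpr fun c _ =>
      Subtype.ext ((invol_mem h hv).2 c c.2)
    refine ⟨⟨_, hCC hc, rfl⟩, mem_centralizer_iff.mpr ?_⟩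
    rintro _ ⟨c, hc', rfl⟩
    exact congrArg T.subtype (mem_centralizer_iff.mp hc c hc')
  have hCn' : ∀ g : G, ∀ u ∈ C, g * u * g⁻¹ ∈ C := fun g u hu => hCn.conj_mem u hu g
  set y := x ^ l with hy
  have hyo : y ^ l ^ a = 1 := by rw [hy, ← pow_mul, mul_comm, pow_mul, hx, one_pow]
  -- the conclusion follows when `y` centralizes `C`
  suffices hyC : ∀ u ∈ C, y * u = u * y by
    have hnorm : Cr.Normal := inferInstance
    have ha : Nat.Coprime (orderOf (MulAut.conjNormal (H := T) y)) 2 := Nat.coprime_two_right.mpr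
      (hlodd.of_dvd_nat (orderOf_dvd_of_pow_eq_one (by rw [← map_pow, hyo, map_one])))
    have h1 := PGroups.mulAut_eq_one_of_fixed hT2 Cr hCC _ ha fun c hc => Subtype.ext (by
      rw [MulAut.conjNormal_apply]
      exact mul_inv_eq_iff_eq_mul.mpr (hyC c ⟨c, hc, rfl⟩))
    have hyT : y ∈ T := centralizer_le h (mem_centralizer_iff.mpr fun u hu => by
      have := congrArg (fun f : MulAut T => ((f ⟨u, hu⟩ : T) : G)) h1
      simp only [MulAut.conjNormal_apply, MulAut.one_apply] at this
      exact (mul_inv_eq_iff_eq_mul.mp this).symm)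
    obtain ⟨i, hi⟩ := two_elt hyT
    have hc : Nat.Coprime (l ^ a) (2 ^ i) := Nat.Coprime.pow_right i (Nat.coprime_two_right.mpr hlodd)
    have := pow_gcd_eq_one.mpr (⟨hyo, hi⟩ : y ^ l ^ a = 1 ∧ y ^ 2 ^ i = 1)
    rwa [hc, pow_one] at this
  by_cases hexp : ∀ z ∈ Z, z ^ 2 = 1
  · -- the centre is elementary: an anisotropic quadratic map
    have hZV : Z ≤ V h := hexp
    have := V_normal h
    have := V_commutative h
    have hsqV : ∀ u : C, (u : G) ^ 2 ∈ V h := fun u => hZV (hsq _ u.2)
    let N := (V h).subgroupOf C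
    have hNn : N.Normal := (V_normal h).comap C.subtype
    have hcomm' : ∀ a b : C ⧸ N, a * b = b * a := by
      intro a b
      obtain ⟨a, rfl⟩ := QuotientGroup.mk'_surjective N a
      obtain ⟨b, rfl⟩ := QuotientGroup.mk'_surjective N b
      rw [← commutatorElement_eq_one_iff_mul_comm, ← map_commutatorElement, QuotientGroup.mk'_apply,
        QuotientGroup.eq_one_iff]
      exact hZV (hcom _ a.2 _ b.2)
    let _ : CommGroup (C ⧸ N) := { (inferInstance : Group (C ⧸ N)) with mul_comm := hcomm' }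
    open scoped IsMulCommutative in
    let W := Additive (V h)
    open scoped IsMulCommutative in
    let q0 : C → W := fun u => Additive.ofMul ⟨(u : G) ^ 2, hsqV u⟩
    let q : Additive (C ⧸ N) → W := fun a => Quotient.liftOn' (Additive.toMul a) q0 fun u w huw => by
      rw [QuotientGroup.leftRel_apply] at huw
      have hz : (u : G)⁻¹ * w ∈ V h := huw
      refine congrArg Additive.ofMul (Subtype.ext ?_)
      show (u : G) ^ 2 = (w : G) ^ 2
      have hc : Commute (u : G) ((u : G)⁻¹ * w) :=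
        mem_centralizer_iff.mp (hVZ hz).2 _ u.2
      conv_rhs => rw [← mul_inv_cancel_left (u : G) (w : G)]
      rw [hc.mul_pow, show ((u : G)⁻¹ * w) ^ 2 = 1 from hz, mul_one]
    have hW2 : ∀ w : W, w + w = 0 := fun w => congrArg Additive.ofMul
      (show w.toMul * w.toMul = 1 from Subtype.ext (by
        have := w.toMul.2
        rwa [mem_V, sq] at this))
    let B : Additive (C ⧸ N) → Additive (C ⧸ N) → W := fun a b => q (a + b) - q a - q b
    have hB : ∀ u w : C, ((Additive.toMul (B (Additive.ofMul (u : C ⧸ N)) (Additive.ofMul (w : C ⧸ N))) : V h) : G)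
        = (u : G)⁻¹ * w * u * (w : G)⁻¹ := by
      intro u w
      show ((u * w : C) : G) ^ 2 / (u : G) ^ 2 / (w : G) ^ 2 = _
      have hu := mem_centralizer_iff.mp (hsq _ u.2).2
      have hz : (u : G)⁻¹ * w * u * (w : G)⁻¹ ∈ Z := by
        have := hcom _ (inv_mem u.2) _ w.2
        rwa [commutatorElement_def, inv_inv] at this
      set c := (u : G)⁻¹ * w * u * (w : G)⁻¹ with hc
      have hcw := mem_centralizer_iff.mp hz.2
      rw [Subgroup.coe_mul, div_eq_mul_inv, div_eq_mul_inv]
      calc ((u : G) * w) ^ 2 * ((u : G) ^ 2)⁻¹ * ((w : G) ^ 2)⁻¹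
          = (u : G) ^ 2 * (c * (w : G) ^ 2) * ((u : G) ^ 2)⁻¹ * ((w : G) ^ 2)⁻¹ := by
            rw [hc]; simp only [sq]; group
        _ = (c * (w : G) ^ 2) * ((u : G) ^ 2) * ((u : G) ^ 2)⁻¹ * ((w : G) ^ 2)⁻¹ := by
            rw [← hu (c * (w : G) ^ 2) (mul_mem hz.1 (pow_mem w.2 2))]
        _ = c := by group
    have hBcomm : ∀ a b, B a b = B b a := fun a b => by
      show q (a + b) - q a - q b = q (b + a) - q b - q a
      rw [add_comm a b]; abel
    have hBl : ∀ a a' b, B (a + a') b = B a b + B a' b := by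
      intro a a' b
      obtain ⟨u, hu⟩ := QuotientGroup.mk_surjective (Additive.toMul a)
      obtain ⟨u', hu'⟩ := QuotientGroup.mk_surjective (Additive.toMul a')
      obtain ⟨w, hw⟩ := QuotientGroup.mk_surjective (Additive.toMul b)
      obtain rfl : a = Additive.ofMul (u : C ⧸ N) := congrArg Additive.ofMul hu.symm
      obtain rfl : a' = Additive.ofMul (u' : C ⧸ N) := congrArg Additive.ofMul hu'.symm
      obtain rfl : b = Additive.ofMul (w : C ⧸ N) := congrArg Additive.ofMul hw.symm
      refine Additive.toMul.injective (Subtype.ext ?_)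
      rw [show Additive.ofMul (u : C ⧸ N) + Additive.ofMul (u' : C ⧸ N) =
        Additive.ofMul ((u * u' : C) : C ⧸ N) from rfl, toMul_add, Subgroup.coe_mul, hB, hB, hB]
      have hz : (u : G)⁻¹ * w * u * (w : G)⁻¹ ∈ Z := by
        have := hcom _ (inv_mem u.2) _ w.2
        rwa [commutatorElement_def, inv_inv] at this
      have hcw := mem_centralizer_iff.mp hz.2 _ u'.2
      calc ((u * u' : C) : G)⁻¹ * w * ((u * u' : C) : G) * (w : G)⁻¹
          = (u' : G)⁻¹ * (((u : G)⁻¹ * w * u * (w : G)⁻¹) * (w : G) * u') * (w : G)⁻¹ := by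
            rw [Subgroup.coe_mul]; group
        _ = (u' : G)⁻¹ * (((u : G)⁻¹ * w * u * (w : G)⁻¹) * u') * ((u' : G)⁻¹ * w * u' * (w : G)⁻¹) := by
            group
        _ = _ := by rw [← hcw]; group
    let e : AddMonoid.End (Additive (C ⧸ N)) := MonoidHom.toAdditive
      (QuotientGroup.map N N ((MulAut.conjNormal (H := C) x).toMonoidHom) fun u hu => by
        show ((MulAut.conjNormal (H := C) x u : C) : G) ∈ V h
        rw [MulAut.conjNormal_apply]
        exact (V_normal h).conj_mem _ hu x)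
    open scoped IsMulCommutative in
    let f : AddMonoid.End W := MonoidHom.toAdditive (φ h x).toMonoidHom
    have hei : ∀ (i : ℕ) (u : C), (e ^ i) (Additive.ofMul (u : C ⧸ N)) =
        Additive.ofMul ((MulAut.conjNormal (H := C) (x ^ i) u : C) : C ⧸ N) := by
      intro i
      induction i with
      | zero => intro u; simp
      | succ i ih =>
        intro u
        rw [pow_succ', AddMonoid.End.coe_mul, Function.comp_apply, ih, pow_succ', map_mul, MulAut.mul_apply]
        rfl
    have hfi : ∀ (i : ℕ) (v : V h), (f ^ i) (Additive.ofMul v) = Additive.ofMul (φ h (x ^ i) v) := by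
      intro i
      induction i with
      | zero => intro v; rw [pow_zero, pow_zero, map_one]; rfl
      | succ i ih =>
        intro v
        rw [pow_succ', AddMonoid.End.coe_mul, Function.comp_apply, ih, pow_succ', map_mul, MulAut.mul_apply]
        rfl
    have hU2 : ∀ a : Additive (C ⧸ N), a + a = 0 := by
      intro a
      obtain ⟨u, hu⟩ := QuotientGroup.mk_surjective (Additive.toMul a)
      obtain rfl : a = Additive.ofMul (u : C ⧸ N) := congrArg Additive.ofMul hu.symm
      refine congrArg Additive.ofMul ((QuotientGroup.eq_one_iff (u * u)).mpr ?_)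
      show ((u * u : C) : G) ∈ V h
      rw [Subgroup.coe_mul, ← sq]
      exact hsqV u
    have key := QuadPower.pow_eq_one hU2 hW2 q B hBl (fun a b b' => by rw [hBcomm, hBl, hBcomm b, hBcomm b'])
      (fun a b => by show _ = q a + q b + (q (a + b) - q a - q b); abel)
      (fun a ha => by
        obtain ⟨u, hu⟩ := QuotientGroup.mk_surjective (Additive.toMul a)
        obtain rfl : a = Additive.ofMul (u : C ⧸ N) := congrArg Additive.ofMul hu.symm
        refine congrArg Additive.ofMul ((QuotientGroup.eq_one_iff u).mpr ?_)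
        exact congrArg Subtype.val (congrArg Additive.toMul ha))
      e f (fun a => by
        obtain ⟨u, hu⟩ := QuotientGroup.mk_surjective (Additive.toMul a)
        obtain rfl : a = Additive.ofMul (u : C ⧸ N) := congrArg Additive.ofMul hu.symm
        refine congrArg Additive.ofMul (Subtype.ext ?_)
        show ((MulAut.conjNormal (H := C) x u : C) : G) ^ 2 = ((φ h x ⟨(u : G) ^ 2, hsqV u⟩ : V h) : G)
        rw [MulAut.conjNormal_apply, φ_apply, conj_pow])
      hl2 (n := n) hV hbig (c := a) (by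
        refine DFunLike.ext _ _ fun a => ?_
        obtain ⟨u, hu⟩ := QuotientGroup.mk_surjective (Additive.toMul a)
        obtain rfl : a = Additive.ofMul (u : C ⧸ N) := congrArg Additive.ofMul hu.symm
        rw [hei, hx, map_one]; rfl)
      (by
        refine DFunLike.ext _ _ fun v => ?_
        have h1 := hfi l v.toMul
        rw [(φ_eq_one h).mpr hxV] at h1
        exact h1)
      (fun v hv => by
        refine congrArg Additive.ofMul (Subtype.ext (hfix _ v.toMul.2 ?_) : v.toMul = 1)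
        have h1 : φ h x v.toMul = v.toMul := congrArg Additive.toMul hv
        exact mul_inv_eq_iff_eq_mul.mp ((φ_apply h x v.toMul).symm.trans (congrArg Subtype.val h1)))
    intro u hu
    have h1 := DFunLike.congr_fun key (Additive.ofMul ((⟨u, hu⟩ : C) : C ⧸ N))
    rw [hei] at h1
    have h2 := QuotientGroup.eq.mp (Additive.ofMul.injective h1).symm
    have h3 : u⁻¹ * (y * u * y⁻¹) ∈ V h := by
      have : (((⟨u, hu⟩ : C)⁻¹ * MulAut.conjNormal (H := C) y ⟨u, hu⟩ : C) : G) ∈ V h := h2
      rwa [Subgroup.coe_mul, MulAut.conjNormal_apply] at this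
    exact eq_of_shift hyo hlodd ⟨1, by rw [pow_one]; exact h3⟩ (mul_inv_cancel_left u _).symm
      (mul_inv_eq_iff_eq_mul.mpr (hxV _ h3))
  · -- the centre has larger exponent: every involution is a square in it
    push Not at hexp
    obtain ⟨z, hz, hz2⟩ := hexp
    obtain ⟨w0, hw0, hw02, hw04⟩ : ∃ w ∈ Z, w ^ 2 ≠ 1 ∧ w ^ 2 ^ 2 = 1 := by
      obtain ⟨i, hi⟩ := two_elt (hCT hz.1)
      clear_value y
      induction i generalizing z with
      | zero => rw [pow_zero, pow_one] at hi; simp [hi] at hz2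
      | succ i ih =>
        by_cases h4 : z ^ 2 ^ 2 = 1
        · exact ⟨z, hz, hz2, h4⟩
        · exact ih (z ^ 2) (pow_mem hz 2) (by rwa [← pow_mul, show (2 : ℕ) * 2 = 2 ^ 2 by norm_num])
            (by rwa [← pow_mul, ← pow_succ'])
    have hVsq : ∀ v ∈ V h, ∃ z ∈ Z, z ^ 2 = v := by
      intro v hv
      rcases eq_or_ne v 1 with rfl | hv1
      · exact ⟨1, one_mem _, one_pow _⟩
      obtain ⟨g, hg⟩ := V_trans h (a := w0 ^ 2) (show (w0 ^ 2) ^ 2 = 1 by rw [← pow_mul]; exact hw04) hw02 hv hv1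
      refine ⟨g * w0 * g⁻¹, ⟨hCn' g w0 hw0.1, mem_centralizer_iff.mpr fun c hc => ?_⟩, by rw [conj_pow, hg]⟩
      have h1 := mem_centralizer_iff.mp hw0.2 (g⁻¹ * c * g) (by simpa using hCn' g⁻¹ c hc)
      calc c * (g * w0 * g⁻¹) = g * (g⁻¹ * c * g * w0) * g⁻¹ := by group
        _ = g * (w0 * (g⁻¹ * c * g)) * g⁻¹ := by rw [h1]
        _ = g * w0 * g⁻¹ * c := by group
    have hsq_inj : ∀ u ∈ C, ∀ z ∈ Z, u ^ 2 = z ^ 2 → u ∈ Z := by
      intro u hu z hz he
      have hc : Commute u z⁻¹ := (show Commute u z from mem_centralizer_iff.mp hz.2 u hu).inv_right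
      have h1 : u * z⁻¹ ∈ Z := hVZ (show (u * z⁻¹) ^ 2 = 1 by rw [hc.mul_pow, he, inv_pow, mul_inv_cancel])
      simpa using mul_mem h1 hz
    have hZfix : ∀ (i : ℕ) (z : G), z ∈ Z → z ^ 2 ^ i = 1 → y * z = z * y := by
      intro i
      induction i with
      | zero => intro z _ hi; rw [pow_zero, pow_one] at hi; rw [hi, mul_one, one_mul]
      | succ i ih =>
        intro z hz hi
        have h2 := ih (z ^ 2) (pow_mem hz 2) (by rwa [← pow_mul, ← pow_succ'])
        have hyz : y * z * y⁻¹ ∈ C := hCn' y z hz.1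
        have hc : Commute z⁻¹ (y * z * y⁻¹) :=
          ((show Commute (y * z * y⁻¹) z from mem_centralizer_iff.mp hz.2 _ hyz).inv_right).symm
        have h3 : z⁻¹ * (y * z * y⁻¹) ∈ V h := by
          show (z⁻¹ * (y * z * y⁻¹)) ^ 2 = 1
          rw [hc.mul_pow, conj_pow, mul_inv_eq_iff_eq_mul.mpr h2, inv_pow, inv_mul_cancel]
        exact eq_of_shift hyo hlodd ⟨1, by rw [pow_one]; exact h3⟩ (mul_inv_cancel_left z _).symm
          (mul_inv_eq_iff_eq_mul.mpr (hxV _ h3))
    intro u hu
    set w := u⁻¹ * (y * u * y⁻¹) with hw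
    have hwC : w ∈ C := mul_mem (inv_mem hu) (hCn' y u hu)
    set c := u⁻¹ * w * u * w⁻¹ with hc
    have hcZ : c ∈ Z := by
      have := hcom _ (inv_mem hu) _ hwC
      rwa [commutatorElement_def, inv_inv] at this
    have hc2 : c ^ 2 = 1 := by
      have hcu : c * u = u * c := (mem_centralizer_iff.mp hcZ.2 u hu).symm
      have hu2 : w * u ^ 2 = u ^ 2 * w := mem_centralizer_iff.mp (hsq u hu).2 w hwC
      calc c ^ 2 = c * c := sq c
        _ = u⁻¹ * (u * c) * c := by group
        _ = u⁻¹ * (c * u) * c := by rw [hcu]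
        _ = u⁻¹ * c * (u * c) := by group
        _ = u⁻¹ * (u⁻¹ * w * u * w⁻¹) * (w * u * w⁻¹) := by rw [hc]; group
        _ = u⁻¹ * u⁻¹ * (w * u ^ 2) * w⁻¹ := by simp only [sq]; group
        _ = 1 := by rw [hu2]; simp only [sq]; group
    have hcw2 : c * w ^ 2 = 1 := by
      obtain ⟨i, hi⟩ := two_elt (hCT (hsq u hu).1)
      have h1 : (u * w) ^ 2 = u ^ 2 := by
        rw [hw, mul_inv_cancel_left, conj_pow, mul_inv_eq_iff_eq_mul.mpr (hZfix i _ (hsq u hu) hi)]
      calc c * w ^ 2 = (u ^ 2)⁻¹ * (u * w) ^ 2 := by rw [hc]; simp only [sq]; group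
        _ = 1 := by rw [h1, inv_mul_cancel]
    have hwV : w ^ 2 ∈ V h := by
      rw [eq_inv_of_mul_eq_one_right hcw2]
      exact inv_mem (hc2 : c ∈ V h)
    obtain ⟨z', hz', hz'2⟩ := hVsq _ hwV
    have hwZ := hsq_inj w hwC z' hz' hz'2.symm
    obtain ⟨i, hi⟩ := two_elt (hCT hwC)
    exact eq_of_shift hyo hlodd ⟨i, hi⟩ (mul_inv_cancel_left u _).symm
      (mul_inv_eq_iff_eq_mul.mpr (hZfix i w hwZ hi))

/-- Thompson's theorem for a trivial odd core: the Sylow 2-subgroup is normal. -/
theorem odd_index : Odd (Cfsg.pCore 2 G).index := by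
  classical
  have := h.solv
  have : Fact (Nat.Prime 2) := ⟨Nat.prime_two⟩
  obtain ⟨n, l, y0, hl, hl2, hV, hbig, hy0, hy0fix⟩ := exists_prime_elt h
  have : Fact l.Prime := ⟨hl⟩
  set T := Cfsg.pCore 2 G with hT
  have hT2 : IsPGroup 2 T := Cores.pCore_isPGroup
  set L := (φ h).ker with hL
  have hTL : T ≤ L := core_le_ker h
  have hLidx : Odd L.index := by rw [hL, Subgroup.index_ker]; exact odd_range h
  obtain ⟨P⟩ := (inferInstance : Nonempty (Sylow 2 L))
  set P0 := (P : Subgroup L).map L.subtype with hP0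
  -- choose the element
  obtain ⟨g0, hg0⟩ := (φ h).rangeRestrict_surjective y0
  have hfr := Sylow.normalizer_sup_eq_top P
  obtain ⟨g, hg, w, hw, hgw⟩ := Subgroup.mem_sup_of_normal_right.mp (hfr ▸ mem_top g0)
  have hgy : φ h g = y0 := by
    rw [← hg0]
    show φ h g = φ h g0
    rw [← hgw, map_mul, MonoidHom.mem_ker.mp hw, mul_one]
  obtain ⟨a, m, hlm, hga⟩ := Nat.exists_eq_pow_mul_and_not_dvd (orderOf_pos g).ne' l hl.ne_one
  set x := g ^ m with hx
  have hxla : x ^ l ^ a = 1 := by rw [hx, ← pow_mul, mul_comm, ← hga, pow_orderOf_eq_one]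
  have hy0' : orderOf (y0 : MulAut (V h)) = l := by rw [Subgroup.orderOf_coe, hy0]
  have hφx : φ h x = (y0 : MulAut (V h)) ^ m := by rw [hx, map_pow, hgy]
  have hxV : ∀ v ∈ V h, x ^ l * v = v * x ^ l := (φ_eq_one h).mp (by
    rw [map_pow, hφx, ← pow_mul, mul_comm, pow_mul, ← hy0', pow_orderOf_eq_one, one_pow])
  have hfix : ∀ v ∈ V h, x * v = v * x → v = 1 := by
    intro v hv hc
    obtain ⟨k, -, hk⟩ := Nat.exists_mul_mod_eq_one_of_coprime
      ((hl.coprime_iff_not_dvd.mpr hlm).symm) hl.one_lt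
    have h1 : ((φ h x) ^ k) ⟨v, hv⟩ = ⟨v, hv⟩ := by
      rw [← map_pow]
      exact Subtype.ext ((φ_apply h _ _).trans
        (mul_inv_eq_iff_eq_mul.mpr ((show Commute x v from hc).pow_left k)))
    rw [hφx, ← pow_mul, ← pow_mod_orderOf, hy0', hk, pow_one] at h1
    exact congrArg Subtype.val (hy0fix ⟨v, hv⟩ h1)
  have hxl : x ^ l = 1 := pow_eq_one h hl hl2 hV hbig hxla hxV hfix
  have hxP : x ∈ normalizer (P0 : Set G) := pow_mem hg m
  have hTn : T.Normal := inferInstance
  have hfixT : ∀ z : G, (∀ v ∈ V h, z * v = v * z → v = 1) → ∀ u ∈ T, z * u = u * z → u = 1 :=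
    fun z hz u hu => fpf_two h hz u (two_elt hu)
  -- the Frattini quotient of `T`
  set Φ0 := (frattini T).map T.subtype with hΦ0
  have hΦn : Φ0.Normal := ConjAct.normal_of_characteristic_of_normal
  set π0 := QuotientGroup.mk' Φ0 with hπ0
  set Tb := T.map π0 with hTb
  have hTbn : Tb.Normal := hTn.map π0 (QuotientGroup.mk'_surjective Φ0)
  have hTbc : IsMulCommutative Tb := PGroups.isMulCommutative_of_comm (by
    rintro _ ⟨a, ha, rfl⟩ _ ⟨b, hb, rfl⟩
    rw [← commutatorElement_eq_one_iff_mul_comm, ← map_commutatorElement, hπ0, QuotientGroup.mk'_apply,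
      QuotientGroup.eq_one_iff]
    exact ⟨⁅(⟨a, ha⟩ : T), ⟨b, hb⟩⁆, PGroups.commutator_le_frattini hT2
      (commutator_mem_commutator (mem_top _) (mem_top _)), rfl⟩)
  have hTbe : ∀ t ∈ Tb, t ^ 2 = 1 := by
    rintro _ ⟨a, ha, rfl⟩
    rw [← map_pow, hπ0, QuotientGroup.mk'_apply, QuotientGroup.eq_one_iff]
    exact ⟨(⟨a, ha⟩ : T) ^ 2, PGroups.pow_mem_frattini hT2 _, rfl⟩
  have hcentT : ∀ c : G, Odd (orderOf c) → π0 c ∈ centralizer (Tb : Set (G ⧸ Φ0)) →
      c ∈ centralizer (T : Set G) := by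
    intro c hodd hc
    have h1 := FpfTools.mulAut_eq_one hT2 (MulAut.conjNormal (H := T) c)
      (hodd.of_dvd_nat (orderOf_map_dvd _ c)) fun u => by
        have h2 := mem_centralizer_iff.mp hc (π0 u) ⟨u, u.2, rfl⟩
        have h3 : π0 (c * u * c⁻¹ * (u : G)⁻¹) = 1 := by
          simp only [map_mul, map_inv]; rw [← h2]; group
        rw [hπ0, QuotientGroup.mk'_apply, QuotientGroup.eq_one_iff] at h3
        obtain ⟨t, ht, ht'⟩ := h3
        have : MulAut.conjNormal (H := T) c u * u⁻¹ = t := Subtype.ext (by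
          rw [Subgroup.coe_mul, MulAut.conjNormal_apply]; exact ht'.symm)
        rw [this]; exact ht
    refine mem_centralizer_iff.mpr fun u hu => ?_
    have := congrArg (fun f : MulAut T => ((f ⟨u, hu⟩ : T) : G)) h1
    simp only [MulAut.conjNormal_apply, MulAut.one_apply] at this
    exact (mul_inv_eq_iff_eq_mul.mp this).symm
  have heq_one : ∀ c : G, Odd (orderOf c) → c ∈ T → c = 1 := fun c hodd hc => by
    obtain ⟨i, hi⟩ := two_elt hc
    have h1 := orderOf_dvd_of_pow_eq_one hi
    exact orderOf_eq_one_iff.mp (Nat.eq_one_of_dvd_coprimes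
      (Nat.Coprime.pow_right i (Nat.coprime_two_right.mpr hodd)) dvd_rfl h1)
  -- the image modulo `T`
  set π := QuotientGroup.mk' T with hπ
  have hπs := QuotientGroup.mk'_surjective T
  set Lb := L.map π with hLb
  have hLbn : Lb.Normal := (inferInstance : L.Normal).map π hπs
  set F := (Cfsg.fittingSubgroup Lb).map Lb.subtype with hF
  have hFn : F.Normal := ConjAct.normal_of_characteristic_of_normal
  have hcore : Cfsg.pCore 2 Lb = ⊥ := by
    have h1 := Cores.map_pCore_le_of_normal (p := 2) Lb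
    rw [Cores.pCore_quotient_pCore, le_bot_iff, Subgroup.map_eq_bot_iff_of_injective _ Lb.subtype_injective]
      at h1
    exact h1
  have hcentF : F ≤ centralizer ({π x} : Set (G ⧸ T)) := by
    rw [hF, Cores.iSup_pCore_eq_fittingSubgroup, Subgroup.map_iSup, iSup_le_iff]
    rintro ⟨r, hr⟩
    change (Cfsg.pCore r Lb).map Lb.subtype ≤ _
    have : Fact r.Prime := ⟨hr⟩
    rcases eq_or_ne r 2 with rfl | hr2
    · rw [hcore, Subgroup.map_bot]; exact bot_le
    set R0 := (Cfsg.pCore r Lb).map Lb.subtype with hR0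
    have hR0n : R0.Normal := ConjAct.normal_of_characteristic_of_normal
    set M := R0.comap π with hM
    have hMn : M.Normal := hR0n.comap π
    have hML : M ≤ L := by
      refine (Subgroup.comap_mono (Subgroup.map_subtype_le _ : R0 ≤ Lb)).trans ?_
      rw [hLb, Subgroup.comap_map_eq, hπ, QuotientGroup.ker_mk', sup_eq_left.mpr hTL]
    have hMmap : M.map π = R0 := Subgroup.map_comap_eq_self_of_surjective hπs _
    have hR0p : IsPGroup r R0 := Cores.pCore_isPGroup.map _
    have hMcard : Nat.card M = Nat.card T * Nat.card R0 := PGroups.card_comap_mk' T R0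
    by_cases hrl : r = l
    · subst hrl
      -- no part of order `l`
      suffices hR0b : R0 = ⊥ by rw [hR0b]; exact bot_le
      by_contra hne
      have hdvd : r ∣ Nat.card M := by
        obtain ⟨j, hj⟩ := IsPGroup.iff_card.mp hR0p
        rcases j.eq_zero_or_pos with rfl | hj0
        · exact absurd (Subgroup.card_eq_one.mp (by rw [hj, pow_zero])) hne
        · exact hMcard ▸ dvd_mul_of_dvd_right (hj ▸ dvd_pow_self r hj0.ne') _
      have hx1 : x ≠ 1 := by
        intro e
        obtain ⟨v, hv⟩ : ∃ v : V h, v ≠ 1 := by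
          have : Nontrivial (V h) := Finite.one_lt_card_iff_nontrivial.mp (by
            rw [hV]; exact Nat.one_lt_two_pow (fun e0 => by
              obtain ⟨n', hn', hV'⟩ := V_card h
              rw [hV, e0] at hV'
              have := Nat.pow_right_injective le_rfl hV'
              omega))
          exact exists_ne 1
        exact hv (Subtype.ext (hfix v v.2 (by rw [e, one_mul, mul_one])))
      obtain ⟨Q, hQ⟩ := (IsPGroup.of_card (G := zpowers x) (p := r) (n := 1) (by
        rw [Nat.card_zpowers, orderOf_eq_prime hxl hx1, pow_one])).exists_le_sylow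
      obtain ⟨⟨w0, hw0⟩, hw0o⟩ := exists_prime_orderOf_dvd_card' r hdvd
      rw [Subgroup.orderOf_mk] at hw0o
      obtain ⟨Q', hQ'⟩ := (IsPGroup.of_card (G := zpowers w0) (p := r) (n := 1) (by
        rw [Nat.card_zpowers, hw0o, pow_one])).exists_le_sylow
      obtain ⟨c, hc⟩ := MulAction.exists_smul_eq G Q' Q
      have hw0Q : c * w0 * c⁻¹ ∈ (Q : Subgroup G) := by
        rw [← hc, Sylow.coe_subgroup_smul]
        exact ⟨w0, hQ' (mem_zpowers _), rfl⟩
      have hNne : M.subgroupOf (Q : Subgroup G) ≠ ⊥ := by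
        intro e
        have h1 : (⟨_, hw0Q⟩ : (Q : Subgroup G)) ∈ M.subgroupOf (Q : Subgroup G) := hMn.conj_mem _ hw0 c
        rw [e, Subgroup.mem_bot] at h1
        have h2 : c * w0 * c⁻¹ = 1 := congrArg Subtype.val h1
        rw [conj_eq_one_iff] at h2
        rw [h2, orderOf_one] at hw0o
        exact hr.ne_one hw0o.symm
      obtain ⟨⟨w, hwQ⟩, hwM, hwc, hwo⟩ :=
        PGroups.exists_mem_center_orderOf_eq Q.isPGroup' (M.subgroupOf (Q : Subgroup G)) hNne
      rw [Subgroup.orderOf_mk] at hwo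
      have hwx : Commute x w := congrArg Subtype.val (Subgroup.mem_center_iff.mp hwc ⟨x, hQ (mem_zpowers x)⟩)
      have hwodd : Odd (orderOf w) := hwo ▸ hr.odd_of_ne_two hl2
      have := hTbc
      open scoped IsMulCommutative in
      let ρ : G →* AddMonoid.End (Additive Tb) :=
        { toFun := fun g => MonoidHom.toAdditive (MulAut.conjNormal (H := Tb) (π0 g)).toMonoidHom
          map_one' := by rw [map_one, map_one]; rfl
          map_mul' := fun a b => by rw [map_mul, map_mul]; rfl }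
      have hρ : ρ w = 1 := by
        refine FpfTools.pair_eq_one (E := Additive Tb) (l := r) (fun v => congrArg Additive.ofMul
          (show v.toMul * v.toMul = 1 from Subtype.ext (by
            have := hTbe _ v.toMul.2
            rwa [sq] at this))) (ρ x) (ρ w) hr hl2 (hwx.map ρ)
          (by rw [← map_pow, hxl, map_one]) (by rw [← map_pow, ← hwo, pow_orderOf_eq_one, map_one]) ?_
        intro i v hv
        rw [← map_pow, ← map_mul] at hv
        have hfixi : ∀ u ∈ V h, x * w ^ i * u = u * (x * w ^ i) → u = 1 := fun u hu hc => by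
          refine hfix u hu ?_
          have h1 : w ^ i * u = u * w ^ i :=
            (φ_eq_one h).mp (MonoidHom.mem_ker.mp (pow_mem (hML hwM) i)) u hu
          rw [mul_assoc, h1, ← mul_assoc, ← mul_assoc] at hc
          exact mul_right_cancel hc
        have h1 : π0 (x * w ^ i) * (v.toMul : G ⧸ Φ0) * (π0 (x * w ^ i))⁻¹ = v.toMul := by
          have := congrArg (fun z : Additive Tb => ((z.toMul : Tb) : G ⧸ Φ0)) hv
          exact (MulAut.conjNormal_apply (H := Tb) _ v.toMul).symm.trans this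
        exact congrArg Additive.ofMul (Subtype.ext (FpfTools.fix_map π0 (fun u hu => hTn.conj_mem u hu _)
          (hfixT _ hfixi) v.toMul.2 (mul_inv_eq_iff_eq_mul.mp h1)) : v.toMul = 1)
      have hwT : w ∈ T := centralizer_le h (hcentT w hwodd (mem_centralizer_iff.mpr fun t ht => by
        have h1 := congrArg (fun z : AddMonoid.End (Additive Tb) => ((z (Additive.ofMul ⟨t, ht⟩)).toMul : G ⧸ Φ0)) hρ
        have h2 : π0 w * t * (π0 w)⁻¹ = t :=
          (MulAut.conjNormal_apply (H := Tb) _ ⟨t, ht⟩).symm.trans h1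
        exact (mul_inv_eq_iff_eq_mul.mp h2).symm))
      rw [heq_one w hwodd hwT, orderOf_one] at hwo
      exact hr.ne_one hwo.symm
    · -- other primes
      have hcop : (Nat.card (zpowers x)).Coprime (Nat.card M) := by
        rw [Nat.card_zpowers, hMcard]
        refine Nat.Coprime.coprime_dvd_left (orderOf_dvd_of_pow_eq_one hxl) ?_
        obtain ⟨i, hi⟩ := IsPGroup.iff_card.mp hT2
        obtain ⟨j, hj⟩ := IsPGroup.iff_card.mp hR0p
        rw [hi, hj]
        exact Nat.Coprime.mul_right (((Nat.coprime_primes hl Nat.prime_two).mpr hl2).pow_right i)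
          (((Nat.coprime_primes hl hr).mpr (Ne.symm hrl)).pow_right j)
      obtain ⟨Pr, hPr⟩ := exists_invariant_sylow (A := zpowers x) (K := M)
        (zpowers_le.mpr (Subgroup.normalizer_eq_top M ▸ mem_top x)) hcop (Or.inl (isSolvable_zpowers x)) r
      set R := (Pr : Subgroup M).map M.subtype with hR
      have hRp : IsPGroup r R := Pr.isPGroup'.map _
      have hRπ : R.map π = R0 := (FpfTools.map_sylow_eq π M (hMmap ▸ hR0p) Pr).trans hMmap
      have hxR : x ∈ normalizer (R : Set G) := hPr (mem_zpowers x)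
      have := hTbc
      have hcomm := FpfElem.commutator_le_centralizer (l := 2) (r := l) Tb hTbe (π0 x)
        (by rw [← map_pow, hxl, map_one]) hl2.symm
        (Subgroup.normalizer_eq_top Tb ▸ mem_top _)
        (fun v hv hc => FpfTools.fix_map π0 (fun u hu => hTn.conj_mem u hu x) (hfixT x hfix) hv hc)
        (R.map π0) (Subgroup.normalizer_eq_top Tb ▸ le_top)
        (by
          rw [mem_normalizer_iff]
          intro z
          constructor
          · rintro ⟨u, hu, rfl⟩
            exact ⟨x * u * x⁻¹, (mem_normalizer_iff.mp hxR u).mp hu, by simp⟩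
          · rintro ⟨u, hu, hu'⟩
            refine ⟨x⁻¹ * u * x, (mem_normalizer_iff.mp hxR _).mpr (by simpa [mul_assoc] using hu), ?_⟩
            rw [map_mul, map_mul, map_inv, hu']; group)
        (fun s hs hd => by
          obtain ⟨j, hj⟩ := IsPGroup.iff_card.mp (hRp.map π0)
          rw [hj] at hd
          obtain rfl := (Nat.prime_dvd_prime_iff_eq hs hr).mp (hs.dvd_of_dvd_pow hd)
          exact ⟨hr2, hrl, fun e => hr2 e.1⟩)
      rw [← hRπ]
      rintro _ ⟨k, hk, rfl⟩
      rw [Subgroup.mem_centralizer_singleton_iff]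
      have hckR : ⁅x, k⁆ ∈ R := by
        rw [commutatorElement_def]
        exact mul_mem ((mem_normalizer_iff.mp hxR k).mp hk) (inv_mem hk)
      have hodd : Odd (orderOf ⁅x, k⁆) := by
        obtain ⟨j, hj⟩ := IsPGroup.iff_orderOf.mp hRp ⟨_, hckR⟩
        rw [Subgroup.orderOf_mk] at hj
        rw [hj]; exact (hr.odd_of_ne_two hr2).pow
      have hcT : ⁅x, k⁆ ∈ T := centralizer_le h (hcentT _ hodd (by
        rw [map_commutatorElement]
        exact hcomm (commutator_mem_commutator (mem_zpowers _) ⟨k, hk, rfl⟩)))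
      have h1 : x * k = k * x := commutatorElement_eq_one_iff_mul_comm.mp (heq_one _ hodd hcT)
      rw [← map_mul, ← map_mul, h1]
  -- the Sylow subgroup of `L`
  have hP0p : IsPGroup 2 P0 := P.isPGroup'.map _
  have hLbs : Group.IsSolvable Lb := inferInstance
  have hP0T : P0 ≤ T := by
    intro p hp
    obtain ⟨v, hv, rfl⟩ := FpfTools.exists_eq (fun u hu => (mem_normalizer_iff.mp hxP u).mp hu)
      (fun u hu hc => fpf_two h hfix u ⟨_, (congrArg Subtype.val (hP0p ⟨u, hu⟩).choose_spec)⟩ hc) hp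
    rw [← QuotientGroup.eq_one_iff]
    change π (v⁻¹ * (x * v * x⁻¹)) = 1
    set p' := v⁻¹ * (x * v * x⁻¹) with hp'
    have hcent : ∀ z ∈ F, π p' * z = z * π p' := by
      intro z hz
      have hz' : π v * z * (π v)⁻¹ ∈ F := hFn.conj_mem z hz _
      have h1 : z * π x = π x * z := Subgroup.mem_centralizer_singleton_iff.mp (hcentF hz)
      have h2 := Subgroup.mem_centralizer_singleton_iff.mp (hcentF hz')
      simp only [hp', map_mul, map_inv]
      calc (π v)⁻¹ * (π x * π v * (π x)⁻¹) * z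
          = (π v)⁻¹ * π x * π v * ((π x)⁻¹ * (z * π x)) * (π x)⁻¹ := by group
        _ = (π v)⁻¹ * π x * π v * ((π x)⁻¹ * (π x * z)) * (π x)⁻¹ := by rw [h1]
        _ = (π v)⁻¹ * (π x * (π v * z * (π v)⁻¹)) * π v * (π x)⁻¹ := by group
        _ = (π v)⁻¹ * ((π v * z * (π v)⁻¹) * π x) * π v * (π x)⁻¹ := by rw [← h2]
        _ = z * ((π v)⁻¹ * (π x * π v * (π x)⁻¹)) := by group
    have hp'L : p' ∈ L := Subgroup.map_subtype_le _ hp
    set pb : Lb := ⟨π p', p', hp'L, rfl⟩ with hpb
    have hmem : pb ∈ Cfsg.fittingSubgroup Lb := Cores.centralizer_fittingSubgroup_le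
      (mem_centralizer_iff.mpr fun z hz => Subtype.ext (hcent z ⟨z, hz, rfl⟩).symm)
    obtain ⟨i, hi⟩ := hP0p ⟨p', hp⟩
    have hpb2 : IsPGroup 2 (zpowers pb) := by
      refine IsPGroup.of_card_dvd_pow (n := i) ?_
      rw [Nat.card_zpowers]
      refine orderOf_dvd_of_pow_eq_one (Subtype.ext ?_)
      show π p' ^ 2 ^ i = 1
      rw [← map_pow, show p' ^ 2 ^ i = 1 from congrArg Subtype.val hi, map_one]
    have h3 : zpowers pb ≤ Cfsg.pCore 2 Lb := Cores.le_pCore_of_le_sup hpb2 (by
      rw [zpowers_le]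
      exact Cores.iSup_pCore_le_sup 2 (Cores.iSup_pCore_eq_fittingSubgroup (G := Lb) ▸ hmem))
    rw [hcore, le_bot_iff, zpowers_eq_bot] at h3
    exact congrArg Subtype.val h3
  rw [← Subgroup.relIndex_mul_index hTL]
  refine Odd.mul (Nat.odd_iff.mpr ?_) hLidx
  have h1 : ¬ 2 ∣ (P : Subgroup L).index := P.not_dvd_index
  have h2 : T.relIndex L ∣ (P : Subgroup L).index :=
    Subgroup.index_dvd_of_le (H := (P : Subgroup L)) (K := T.subgroupOf L) fun u hu => hP0T ⟨u, hu, rfl⟩
  have h3 : ¬ 2 ∣ T.relIndex L := fun e => h1 (e.trans h2)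
  omega

end Cfsg.Agent.Coprime.OneClass
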