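import Cfsg.Agent.Coprime.Weights
import Mathlib.Algebra.Field.ZMod
import Mathlib.Algebra.Module.ZMod
import Mathlib.LinearAlgebra.FreeModule.Finite.Matrix
import Mathlib.FieldTheory.IsAlgClosed.AlgebraicClosure
import Mathlib.GroupTheory.GroupAction.Quotient
import Mathlib.GroupTheory.PGroup

/-!
An element `g` of prime order `p` permuting the nontrivial characters of an abelian group freely:
its fixed space has dimension at most `dim / p`, and is nonzero. Applied to duals of elementary
abelian groups this bounds the fixed points of `g` on the group.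
-/

namespace Cfsg.Agent.Coprime.OrbitBound

open Weights

/-- Cyclic shift of a finite product. -/
@[to_additive /-- Cyclic shift of a finite sum. -/]
theorem prod_range_shift {M : Type*} [CancelCommMonoid M] (a : ℕ → M) (p : ℕ) (h : a p = a 0) :
    ∏ i ∈ Finset.range p, a (i + 1) = ∏ i ∈ Finset.range p, a i := by
  have h1 := Finset.prod_range_succ' a p
  rw [Finset.prod_range_succ, h] at h1
  exact (mul_right_cancel h1).symm

variable {k W U : Type*} [Field k] [IsAlgClosed k] [AddCommGroup W] [Module k W]
  [FiniteDimensional k W] [CommGroup U] [Finite U]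

theorem fixed_bound {p : ℕ} [Fact p.Prime] (hU : (Nat.card U : k) ≠ 0) (τ : U →* Module.End k W)
    (g : Module.End k W) (hgp : g ^ p = 1) (σ : MulAut U) (hσ : σ ^ p = 1)
    (hg : ∀ u, g * τ u = τ (σ u) * g) (hfix : ∀ φ : U →* kˣ, (∀ u, φ (σ u) = φ u) → φ = 1)
    (hone : proj τ 1 = 0) :
    p * Module.finrank k (LinearMap.ker (g - 1)) ≤ Module.finrank k W ∧
      (Nontrivial W → 0 < Module.finrank k (LinearMap.ker (g - 1))) := by
  classical
  have hp : p.Prime := Fact.out
  have := finite_chars (U := U) hU
  let s : Equiv.Perm (U →* kˣ) :=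
    { toFun := fun φ => φ.comp σ.symm.toMonoidHom
      invFun := fun φ => φ.comp σ.toMonoidHom
      left_inv := fun φ => MonoidHom.ext fun u => by simp
      right_inv := fun φ => MonoidHom.ext fun u => by simp }
  have hgs : ∀ φ, g * proj τ φ = proj τ (s φ) * g := fun φ => mul_proj_of_conj hg φ
  have hspow : ∀ n φ u, ((s ^ n) φ : U →* kˣ) ((σ ^ n) u) = φ u := by
    intro n
    induction n with
    | zero => intro φ u; rfl
    | succ n ih =>
      intro φ u
      rw [pow_succ', pow_succ', Equiv.Perm.mul_apply, MulAut.mul_apply]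
      show ((s ^ n) φ : U →* kˣ) (σ.symm (σ ((σ ^ n) u))) = φ u
      rw [MulEquiv.symm_apply_apply, ih]
  have hsp : s ^ p = 1 := Equiv.ext fun φ => MonoidHom.ext fun u => by
    have := hspow p φ u
    rwa [hσ, MulAut.one_apply] at this
  let _ := Fintype.ofFinite (U →* kˣ)
  let d : (U →* kˣ) → ℕ := fun φ => Module.finrank k (LinearMap.range (proj τ φ))
  let H := Subgroup.zpowers s
  have horbit : ∀ φ, φ ≠ 1 → s φ ≠ φ := by
    intro φ hφ h
    refine hφ (hfix φ fun u => ?_)
    have := hspow 1 φ u
    rw [pow_one, pow_one, h] at this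
    exact this
  have hgiter : ∀ n φ, g ^ n * proj τ φ = proj τ ((s ^ n) φ) * g ^ n := by
    intro n
    induction n with
    | zero => intro φ; simp
    | succ n ih =>
      intro φ
      rw [pow_succ', mul_assoc, ih, ← mul_assoc, hgs, mul_assoc, pow_succ' s, Equiv.Perm.mul_apply]
  set F := LinearMap.ker (g - 1) with hF
  have hFfix : ∀ f ∈ F, g f = f := fun f hf => by
    rwa [hF, LinearMap.mem_ker, LinearMap.sub_apply, Module.End.one_apply, sub_eq_zero] at hf
  have hFpow : ∀ (n : ℕ) (f), f ∈ F → (g ^ n) f = f := fun n f hf => by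
    induction n with
    | zero => rfl
    | succ n ih => rw [pow_succ', Module.End.mul_apply, ih, hFfix f hf]
  refine ⟨?_, fun hW => ?_⟩
  · let Ω := MulAction.orbitRel.Quotient H (U →* kˣ)
    let _ := Fintype.ofFinite Ω
    let ω₀ : Ω := Quotient.mk'' 1
    have hsfin : IsOfFinOrder s := isOfFinOrder_iff_pow_eq_one.mpr ⟨p, hp.pos, hsp⟩
    have hmem : ∀ φ : U →* kˣ, ∃ n : ℕ, (s ^ n) (Quotient.mk'' φ : Ω).out = φ := by
      intro φ
      have := MulAction.orbitRel_apply.mp ((MulAction.orbitRel H (U →* kˣ)).symm'
        (Quotient.mk_out (s := MulAction.orbitRel H _) φ))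
      obtain ⟨⟨h, hh⟩, hhφ⟩ := this
      obtain ⟨n, rfl⟩ := (IsOfFinOrder.mem_powers_iff_mem_zpowers hsfin).mpr hh
      exact ⟨n, hhφ⟩
    have hone' : (ω₀ : Ω).out = 1 := by
      obtain ⟨n, hn⟩ := hmem 1
      have h1 : (s ^ n) 1 = 1 := MonoidHom.ext fun u => by
        have := hspow n 1 ((σ ^ n).symm u)
        rwa [MulEquiv.apply_symm_apply] at this
      exact (s ^ n).injective (hn.trans h1.symm)
    -- every translate of a system of representatives detects `F`
    have hinj : ∀ i : Fin p, Module.finrank k F ≤
        ∑ ω ∈ Finset.univ.erase ω₀, d ((s ^ (i : ℕ)) (ω : Ω).out) := by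
      intro i
      rw [Finset.sum_erase _ (by simp [d, hone', show (s ^ (i : ℕ)) (1 : U →* kˣ) = 1 from
        MonoidHom.ext fun u => by
          have := hspow i 1 ((σ ^ (i : ℕ)).symm u)
          rwa [MulEquiv.apply_symm_apply] at this, hone]), ← Module.finrank_pi_fintype k]
      refine LinearMap.finrank_le_finrank_of_injective
        (f := LinearMap.pi fun ω : Ω => (proj τ ((s ^ (i : ℕ)) ω.out)).rangeRestrict ∘ₗ F.subtype) ?_
      rw [← LinearMap.ker_eq_bot, Submodule.eq_bot_iff]
      intro f hf
      refine Subtype.ext (eq_zero_of_forall_proj hU τ fun φ => ?_)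
      obtain ⟨n, hn⟩ := hmem φ
      have h1 : proj τ ((s ^ (i : ℕ)) (Quotient.mk'' φ : Ω).out) (f : W) = 0 :=
        congrArg Subtype.val (congrFun (LinearMap.mem_ker.mp hf) (Quotient.mk'' φ : Ω))
      have h2 := congrArg (fun G : Module.End k W => G (f : W))
        (hgiter (i : ℕ) (Quotient.mk'' φ : Ω).out)
      simp only [Module.End.mul_apply, hFpow _ _ f.2, h1] at h2
      have hginj : Function.Injective (g ^ (i : ℕ)) := by
        intro a b hab
        have := congrArg (g ^ ((p - 1) * (i : ℕ))) hab
        rwa [← Module.End.mul_apply, ← Module.End.mul_apply, ← pow_add,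
          show (p - 1) * (i : ℕ) + i = p * i by
            rw [← Nat.succ_mul]; exact congrArg (· * (i : ℕ)) (Nat.succ_pred_eq_of_pos hp.pos),
          pow_mul, hgp, one_pow, Module.End.one_apply, Module.End.one_apply] at this
      have h3 : proj τ (Quotient.mk'' φ : Ω).out (f : W) = 0 := hginj (h2.trans (map_zero _).symm)
      have h4 := congrArg (fun G : Module.End k W => G (f : W)) (hgiter n (Quotient.mk'' φ : Ω).out)
      simp only [Module.End.mul_apply, hFpow _ _ f.2, h3, map_zero, hn] at h4
      exact h4.symm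
    have h1 : p * Module.finrank k F ≤ ∑ i : Fin p, ∑ ω ∈ Finset.univ.erase ω₀, d ((s ^ (i : ℕ)) (ω : Ω).out) := by
      have := Finset.sum_le_sum (s := (Finset.univ : Finset (Fin p))) fun i _ => hinj i
      simpa using this
    refine h1.trans ?_
    rw [finrank_eq_sum hU τ, ← Finset.sum_product']
    set P := (Finset.univ : Finset (Fin p)) ×ˢ Finset.univ.erase ω₀
    let e : Fin p × Ω → (U →* kˣ) := fun iw => (s ^ (iw.1 : ℕ)) iw.2.out
    have heinj : Set.InjOn e (P : Set (Fin p × Ω)) := by
      rintro ⟨i, ω⟩ hiω ⟨j, ω'⟩ - he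
      have hω : ω = ω' := by
        rw [← Quotient.out_eq' ω, ← Quotient.out_eq' ω']
        refine Quotient.sound' (MulAction.orbitRel_apply.mpr ⟨⟨(s ^ (i : ℕ))⁻¹ * s ^ (j : ℕ),
          mul_mem (inv_mem (pow_mem (Subgroup.mem_zpowers s) _)) (pow_mem (Subgroup.mem_zpowers s) _)⟩, ?_⟩)
        show ((s ^ (i : ℕ))⁻¹ * s ^ (j : ℕ)) ω'.out = ω.out
        rw [Equiv.Perm.mul_apply, show (s ^ (j : ℕ)) ω'.out = (s ^ (i : ℕ)) ω.out from he.symm,
          ← Equiv.Perm.mul_apply, inv_mul_cancel, Equiv.Perm.one_apply]
      subst hω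
      have hne : ω.out ≠ 1 := fun h => by
        refine Finset.ne_of_mem_erase (Finset.mem_product.mp (Finset.mem_coe.mp hiω)).2 ?_
        show ω = ω₀
        rw [← Quotient.out_eq' ω, h]
      refine Prod.ext (Fin.ext ?_) rfl
      show (i : ℕ) = j
      by_contra hij
      have hper : ∀ a b : ℕ, a < b → b < p → (s ^ a) ω.out = (s ^ b) ω.out → False := by
        intro a b hab hb hab'
        have h1 : (s ^ (b - a)) ω.out = ω.out := (s ^ a).injective (by
          rw [← Equiv.Perm.mul_apply, ← pow_add, Nat.add_sub_cancel' hab.le, hab'])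
        have hcop : (b - a).Coprime (orderOf s) := Nat.Coprime.coprime_dvd_right
          (orderOf_dvd_of_pow_eq_one hsp)
          ((hp.coprime_iff_not_dvd.mpr (Nat.not_dvd_of_pos_of_lt (by omega) (by omega))).symm)
        obtain ⟨m, hm⟩ := exists_pow_eq_self_of_coprime hcop
        refine horbit _ hne ?_
        have h2 := Equiv.Perm.pow_apply_eq_self_of_apply_eq_self h1 m
        rwa [hm] at h2
      rcases lt_or_gt_of_ne hij with h | h
      · exact hper _ _ h j.2 he
      · exact hper _ _ h i.2 he.symm
    calc ∑ x ∈ P, d ((s ^ (x.1 : ℕ)) x.2.out) = ∑ φ ∈ P.image e, d φ :=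
          (Finset.sum_image fun a ha b hb h => heinj ha hb h).symm
      _ ≤ ∑ φ, d φ := Finset.sum_le_univ_sum_of_nonneg fun _ => Nat.zero_le _
  · obtain ⟨φ, hφ⟩ : ∃ φ : U →* kˣ, proj τ φ ≠ 0 := by
      by_contra h
      push Not at h
      have h1 := sum_proj hU τ
      simp only [h, Finset.sum_const_zero] at h1
      exact zero_ne_one h1
    have hφ1 : φ ≠ 1 := fun h => hφ (h ▸ hone)
    obtain ⟨w, hw⟩ : ∃ w, proj τ φ w ≠ 0 := by
      by_contra h
      push Not at h
      exact hφ (LinearMap.ext h)
    set v := ∑ i ∈ Finset.range p, (g ^ i) (proj τ φ w) with hv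
    have hvF : v ∈ F := by
      rw [hF, LinearMap.mem_ker, LinearMap.sub_apply, Module.End.one_apply, sub_eq_zero, hv, map_sum]
      simp only [← Module.End.mul_apply, ← mul_assoc, ← pow_succ']
      exact sum_range_shift (fun n => (g ^ n * proj τ φ) w) p (by simp [hgp])
    refine Module.finrank_pos_iff_exists_ne_zero.mpr ⟨⟨v, hvF⟩, fun h => hw ?_⟩
    have hv0 : proj τ φ v = 0 := by
      rw [show v = 0 from congrArg Subtype.val h, map_zero]
    rw [hv, map_sum, Finset.sum_eq_single 0] at hv0
    · rw [pow_zero, Module.End.one_apply, ← Module.End.mul_apply, proj_mul_self hU] at hv0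
      exact hv0
    · intro i hi hi0
      rw [← Module.End.mul_apply (g ^ i), hgiter, Module.End.mul_apply, ← Module.End.mul_apply,
        proj_mul_proj, LinearMap.zero_apply]
      intro he
      have hcop : i.Coprime (orderOf s) := Nat.Coprime.coprime_dvd_right
        (orderOf_dvd_of_pow_eq_one hsp)
        ((hp.coprime_iff_not_dvd.mpr (Nat.not_dvd_of_pos_of_lt (Nat.pos_of_ne_zero hi0)
          (Finset.mem_range.mp hi))).symm)
      obtain ⟨m, hm⟩ := exists_pow_eq_self_of_coprime hcop
      refine horbit φ hφ1 ?_
      have h2 := Equiv.Perm.pow_apply_eq_self_of_apply_eq_self he.symm m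
      rwa [hm] at h2
    · exact fun h => absurd (Finset.mem_range.mpr hp.pos) h

omit [IsAlgClosed k] [FiniteDimensional k W] in
theorem finrank_hom_module (E : Type*) [AddCommGroup E] [Finite E] {l : ℕ} [Fact l.Prime] [CharP k l]
    [Module (ZMod l) E] {n : ℕ} (hn : Nat.card E = l ^ n) :
    Module.finrank k (E →+ k) = n := by
  let _ : Algebra (ZMod l) k := (ZMod.castHom (dvd_refl l) k).toAlgebra
  have hE : Module.finrank (ZMod l) E = n := by
    have h1 : Nat.card E = l ^ Module.finrank (ZMod l) E := by
      rw [Module.natCard_eq_pow_finrank (K := ZMod l), Nat.card_zmod]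
    rw [hn] at h1
    exact (Nat.pow_right_injective (Fact.out : l.Prime).two_le h1).symm
  let e : (E →+ k) ≃ₗ[k] (E →ₗ[ZMod l] k) :=
    { toFun := fun f => f.toZModLinearMap l
      invFun := fun f => f.toAddMonoidHom
      left_inv := fun f => rfl
      right_inv := fun f => rfl
      map_add' := fun f g => rfl
      map_smul' := fun c f => rfl }
  rw [e.finrank_eq, Module.finrank_linearMap, hE, Module.finrank_self, mul_one]

omit [IsAlgClosed k] [FiniteDimensional k W] in
/-- Homomorphisms of an elementary abelian `l`-group of order `l ^ n` into a field of characteristic `l`. -/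
theorem finrank_hom (E : Type*) [AddCommGroup E] [Finite E] {l : ℕ} [Fact l.Prime] [CharP k l]
    (hexp : ∀ v : E, l • v = 0) {n : ℕ} (hn : Nat.card E = l ^ n) :
    Module.finrank k (E →+ k) = n :=
  @finrank_hom_module k _ E _ _ l _ _ (AddCommGroup.zmodModule hexp) n hn

/-- Group version: `E` elementary abelian, `X` abelian with `C_E(X) = 1` normalised by `b` of prime
order `p` acting fixed-point-freely on `X`. Then `|C_E(b)| ^ p ≤ |E|`, and `C_E(b) ≠ 1`. -/
theorem card_fixed_pow_le {E : Type*} [CommGroup E] [Finite E] {l : ℕ} [Fact l.Prime] {p : ℕ}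
    [Fact p.Prime] (hpl : p ≠ l) (hexp : ∀ e : E, e ^ l = 1) (b : MulAut E) (hb : b ^ p = 1)
    (X : Subgroup (MulAut E)) (hcomm : ∀ x ∈ X, ∀ y ∈ X, x * y = y * x)
    (hnorm : ∀ x ∈ X, b * x * b⁻¹ ∈ X) (hXb : ∀ x ∈ X, b * x = x * b → x = 1)
    (hXl : ¬ l ∣ Nat.card X) (hXp : ¬ p ∣ Nat.card X) (hX : ∀ e : E, (∀ x ∈ X, x e = e) → e = 1) :
    Nat.card (MonoidHom.eqLocus b.toMonoidHom (MonoidHom.id E)) ^ p ≤ Nat.card E ∧
      (Nontrivial E → 1 < Nat.card (MonoidHom.eqLocus b.toMonoidHom (MonoidHom.id E))) := by
  classical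
  have hl : l.Prime := Fact.out
  have hp : p.Prime := Fact.out
  let K := AlgebraicClosure (ZMod l)
  let Sp := Additive E →+ K
  have : FiniteDimensional K Sp :=
    FiniteDimensional.of_injective
      ({ toFun := fun f v => f v, map_add' := fun _ _ => rfl, map_smul' := fun _ _ => rfl } :
        Sp →ₗ[K] (Additive E → K))
      (fun _ _ h => AddMonoidHom.ext fun v => congrFun h v)
  let R : MulAut E →* Module.End K Sp :=
    { toFun := fun a =>
        { toFun := fun f => f.comp (MonoidHom.toAdditive a⁻¹.toMonoidHom)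
          map_add' := fun f g => rfl
          map_smul' := fun c f => rfl }
      map_one' := LinearMap.ext fun f => AddMonoidHom.ext fun v => rfl
      map_mul' := fun a a' => LinearMap.ext fun f => AddMonoidHom.ext fun v => by
        show f (MonoidHom.toAdditive (a * a')⁻¹.toMonoidHom v) = _
        rw [mul_inv_rev]
        rfl }
  let _ : CommGroup X := { (inferInstance : Group X) with mul_comm := fun a b => Subtype.ext (hcomm a a.2 b b.2) }
  let σ : MulAut X := MulEquiv.ofBijective
    ({ toFun := fun x => ⟨b * x * b⁻¹, hnorm x x.2⟩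
       map_one' := Subtype.ext (by simp)
       map_mul' := fun x y => Subtype.ext (by simp [mul_assoc]) } : X →* X)
    (Finite.injective_iff_bijective.mp fun x y h => Subtype.ext (by simpa using congrArg Subtype.val h))
  have hσapp : ∀ n (x : X), (((σ ^ n) x : X) : MulAut E) = b ^ n * x * (b ^ n)⁻¹ := by
    intro n
    induction n with
    | zero => intro x; simp
    | succ n ih =>
      intro x
      rw [pow_succ' σ, MulAut.mul_apply]
      show b * ((σ ^ n) x : X) * b⁻¹ = _
      rw [ih, pow_succ' b]
      simp [mul_assoc]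
  have hσ : σ ^ p = 1 := MulEquiv.ext fun x => Subtype.ext (by rw [hσapp, hb]; simp)
  let τ : X →* Module.End K Sp := R.comp X.subtype
  have hXK : (Nat.card X : K) ≠ 0 := fun h => hXl ((CharP.cast_eq_zero_iff K l _).mp h)
  have hone : proj τ 1 = 0 := by
    let _ := Fintype.ofFinite X
    have : ∑ x : X, τ x = 0 := by
      refine LinearMap.ext fun f => AddMonoidHom.ext fun v => ?_
      induction v using Additive.rec with
      | _ e =>
        simp only [LinearMap.sum_apply, AddMonoidHom.finsetSum_apply, LinearMap.zero_apply,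
          AddMonoidHom.zero_apply]
        erw [AddMonoidHom.finsetSum_apply]
        show ∑ x : X, f (Additive.ofMul ((x : MulAut E)⁻¹ e)) = 0
        rw [← map_sum, ← ofMul_prod, hX (∏ x : X, (x : MulAut E)⁻¹ e) fun y hy => ?_, ofMul_one, map_zero]
        rw [map_prod]
        refine Fintype.prod_equiv (Equiv.mulRight (⟨y, hy⟩⁻¹ : X)) _ _ fun x => ?_
        simp
    simp only [proj, MonoidHom.one_apply, inv_one, Units.val_one, one_smul, this, smul_zero]
  obtain ⟨h1, h2⟩ := fixed_bound (p := p) hXK τ (R b) (by rw [← map_pow, hb, map_one]) σ hσ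
    (fun x => by
      show R b * R (x : MulAut E) = R ((σ x : X) : MulAut E) * R b
      rw [← map_mul, ← map_mul]
      congr 1
      show b * _ = b * _ * b⁻¹ * b
      simp [mul_assoc])
    (fun φ hφ => by
      refine MonoidHom.ext fun x => ?_
      let N : X := ∏ i ∈ Finset.range p, (σ ^ i) x
      have hN : N = 1 := by
        have hfixN : σ N = N := by
          show σ (∏ i ∈ Finset.range p, (σ ^ i) x) = _
          rw [map_prod]
          simp only [← MulAut.mul_apply, ← pow_succ']
          exact prod_range_shift (fun n => (σ ^ n) x) p (by simp [hσ])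
        refine Subtype.ext (hXb _ N.2 ?_)
        have := congrArg Subtype.val hfixN
        exact mul_inv_eq_iff_eq_mul.mp this
      have h3 : φ x ^ p = 1 := by
        have hi : ∀ i, φ ((σ ^ i) x) = φ x := by
          intro i
          induction i with
          | zero => rfl
          | succ i ih => rw [pow_succ', MulAut.mul_apply, hφ, ih]
        have := congrArg φ hN
        simp only [N, map_prod, hi, Finset.prod_const, Finset.card_range, map_one] at this
        exact this
      have h4 : φ x ^ Nat.card X = 1 := by rw [← map_pow, pow_card_eq_one', map_one]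
      rw [MonoidHom.one_apply, ← orderOf_eq_one_iff]
      exact Nat.eq_one_of_dvd_coprimes (hp.coprime_iff_not_dvd.mpr hXp)
        (orderOf_dvd_of_pow_eq_one h3) (orderOf_dvd_of_pow_eq_one h4))
    hone
  -- the fixed space is dual to the fixed subgroup
  set C := MonoidHom.eqLocus b.toMonoidHom (MonoidHom.id E) with hC
  have hpg : IsPGroup l E := fun e => ⟨1, by rw [pow_one]; exact hexp e⟩
  obtain ⟨n, hn⟩ := IsPGroup.iff_card.mp hpg
  obtain ⟨c, hc⟩ := IsPGroup.iff_card.mp (hpg.to_subgroup C)
  have hexpA : ∀ v : Additive E, l • v = 0 := fun v => by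
    induction v using Additive.rec with
    | _ a => exact congrArg Additive.ofMul (hexp a)
  have hexpC : ∀ v : Additive C, l • v = 0 := fun v => by
    induction v using Additive.rec with
    | _ a => exact congrArg Additive.ofMul (Subtype.ext (hexp a) : a ^ l = 1)
  have : FiniteDimensional K (Additive C →+ K) :=
    FiniteDimensional.of_injective
      ({ toFun := fun f v => f v, map_add' := fun _ _ => rfl, map_smul' := fun _ _ => rfl } :
        (Additive C →+ K) →ₗ[K] (Additive C → K))
      (fun _ _ h => AddMonoidHom.ext fun v => congrFun h v)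
  have hSp : Module.finrank K Sp = n := finrank_hom (Additive E) hexpA hn
  have hCp : Module.finrank K (Additive C →+ K) = c := finrank_hom (Additive C) hexpC hc
  have hpk : (p : K) ≠ 0 := fun h => hpl
    ((Nat.prime_dvd_prime_iff_eq hl hp).mp ((CharP.cast_eq_zero_iff K l _).mp h)).symm
  have hdet : ∀ f : Sp, f ∈ LinearMap.ker (R b - 1) → ∀ e : E, f (Additive.ofMul (b e)) = f (Additive.ofMul e) := by
    intro f hf e
    rw [LinearMap.mem_ker, LinearMap.sub_apply, Module.End.one_apply, sub_eq_zero] at hf
    have := congrArg (fun g : Sp => g (Additive.ofMul (b e))) hf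
    show f (Additive.ofMul (b e)) = _
    rw [← this]
    show f (Additive.ofMul (b⁻¹ (b e))) = _
    rw [MulAut.inv_apply_self]
  let P : E →* C :=
    { toFun := fun e => ⟨∏ i ∈ Finset.range p, (b ^ i) e, by
        show b _ = _
        rw [map_prod, MonoidHom.id_apply]
        show ∏ i ∈ Finset.range p, (b * b ^ i) e = _
        simp_rw [← pow_succ']
        exact prod_range_shift (fun n => (b ^ n) e) p (by simp [hb])⟩
      map_one' := Subtype.ext (by simp)
      map_mul' := fun x y => Subtype.ext (by simp [Finset.prod_mul_distrib]) }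
  have hdimle : Module.finrank K (LinearMap.ker (R b - 1)) ≤ c := by
    rw [← hCp]
    refine LinearMap.finrank_le_finrank_of_injective
      (f := ({ toFun := fun f => f.comp (MonoidHom.toAdditive C.subtype)
               map_add' := fun f g => rfl
               map_smul' := fun a f => rfl } : Sp →ₗ[K] (Additive C →+ K)) ∘ₗ (LinearMap.ker (R b - 1)).subtype) ?_
    refine (injective_iff_map_eq_zero _).mpr fun f hf => ?_
    refine Subtype.ext (AddMonoidHom.ext fun v => ?_)
    induction v using Additive.rec with
    | _ e =>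
      have hpe : ∀ i, (f : Sp) (Additive.ofMul ((b ^ i) e)) = (f : Sp) (Additive.ofMul e) := by
        intro i
        induction i with
        | zero => rfl
        | succ i ih => rw [pow_succ', MulAut.mul_apply, hdet _ f.2, ih]
      have h3 : (p : K) * (f : Sp) (Additive.ofMul e) = 0 := by
        have : (f : Sp) (Additive.ofMul ((P e : C) : E)) = 0 :=
          congrArg (fun g : Additive C →+ K => g (Additive.ofMul (P e))) hf
        have e2 : (f : Sp) (Additive.ofMul (∏ i ∈ Finset.range p, (b ^ i) e)) = 0 := this
        rw [ofMul_prod, map_sum] at e2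
        simpa [hpe] using e2
      exact (mul_eq_zero.mp h3).resolve_left hpk
  have hdimge : c ≤ Module.finrank K (LinearMap.ker (R b - 1)) := by
    rw [← hCp]
    let G : (Additive C →+ K) →ₗ[K] Sp :=
      { toFun := fun f => f.comp (MonoidHom.toAdditive P)
        map_add' := fun f g => rfl
        map_smul' := fun a f => rfl }
    have hG : ∀ f, G f ∈ LinearMap.ker (R b - 1) := by
      intro f
      rw [LinearMap.mem_ker, LinearMap.sub_apply, Module.End.one_apply, sub_eq_zero]
      refine AddMonoidHom.ext fun v => ?_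
      induction v using Additive.rec with
      | _ e =>
        show f (Additive.ofMul (P (b⁻¹ e))) = f (Additive.ofMul (P e))
        congr 2
        have hh : ∀ x : E, P (b x) = P x := by
          intro x
          refine Subtype.ext ?_
          show ∏ i ∈ Finset.range p, (b ^ i) (b x) = ∏ i ∈ Finset.range p, (b ^ i) x
          simp only [← MulAut.mul_apply, ← pow_succ]
          exact prod_range_shift (fun n => (b ^ n) x) p (by simp [hb])
        conv_rhs => rw [← MulAut.apply_inv_self E b e, hh]
    refine LinearMap.finrank_le_finrank_of_injective (f := G.codRestrict _ hG) ?_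
    intro f g hfg
    refine AddMonoidHom.ext fun v => ?_
    induction v using Additive.rec with
    | _ x =>
      have h3 := congrArg (fun h : Sp => h (Additive.ofMul (x : E))) (congrArg Subtype.val hfg)
      have hPx : P (x : E) = x ^ p := by
        refine Subtype.ext ?_
        show ∏ i ∈ Finset.range p, (b ^ i) (x : E) = _
        have hi : ∀ i, (b ^ i) (x : E) = x := by
          intro i
          induction i with
          | zero => rfl
          | succ i ih => rw [pow_succ', MulAut.mul_apply, ih]; exact x.2
        simp [hi]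
      change f (Additive.ofMul (P x)) = g (Additive.ofMul (P x)) at h3
      rw [hPx, ofMul_pow, map_nsmul, map_nsmul, nsmul_eq_mul, nsmul_eq_mul] at h3
      exact mul_left_cancel₀ hpk h3
  have hceq : Module.finrank K (LinearMap.ker (R b - 1)) = c := le_antisymm hdimle hdimge
  rw [hceq, hSp] at h1
  rw [hceq] at h2
  refine ⟨?_, fun hE => ?_⟩
  · rw [hc, hn, ← pow_mul]
    exact Nat.pow_le_pow_right hl.pos (by linarith)
  · have hnpos : 0 < Module.finrank K Sp := by
      rw [hSp]
      rcases Nat.eq_zero_or_pos n with h | h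
      · rw [h, pow_zero, Nat.card_eq_one_iff_unique] at hn
        exact absurd hn.1 (not_subsingleton E)
      · exact h
    rw [hc]
    exact Nat.one_lt_pow (h2 (Module.nontrivial_of_finrank_pos hnpos)).ne' hl.one_lt

end Cfsg.Agent.Coprime.OrbitBound
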