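import Cfsg.Agent.Coprime.Centralize
import Cfsg.Agent.Coprime.Commutator

/-!
`p'`-groups acting on `p`-groups: `[P, B] ≤ [P, A]` criterion.
-/

namespace Cfsg.Agent.Coprime

open Subgroup

variable {G : Type*} [Group G] [Finite G]

/-- If a `p`-group `A` and a `p'`-group `B` commute, act on the `p`-group `P` and
`[P, B] ≤ [P, A]`, then `[P, B] = 1`. -/
theorem commutator_eq_bot_of_le {p : ℕ} [Fact p.Prime] {P A B : Subgroup G} (hP : IsPGroup p P)
    (hA : IsPGroup p A) (hB : ¬ p ∣ Nat.card B) (hnA : A ≤ normalizer (P : Set G))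
    (hnB : B ≤ normalizer (P : Set G)) (hAB : ⁅A, B⁆ = ⊥) (hle : ⁅P, B⁆ ≤ ⁅P, A⁆) :
    ⁅P, B⁆ = ⊥ := by
  set W := A ⊔ P with hW
  have hWp : IsPGroup p W := hA.to_sup_of_normal_right' hP hnA
  have hBA : B ≤ normalizer (A : Set G) := le_normalizer_of_commutator_eq_bot (by rw [commutator_comm, hAB])
  have hBW : B ≤ normalizer (W : Set G) :=
    (le_inf hBA hnB).trans (normalizer_inf_normalizer_le_normalizer_sup A P)
  have hWP : W ≤ normalizer (P : Set G) := sup_le hnA le_normalizer
  obtain ⟨R, hR0, hRs⟩ : ∃ R : ℕ → Subgroup G, R 0 = P ∧ ∀ k, R (k + 1) = ⁅R k, W⁆ :=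
    ⟨fun k => Nat.rec P (fun _ S => ⁅S, W⁆) k, rfl, fun _ => rfl⟩
  have hR : ∀ k, R k ≤ P ∧ W ≤ normalizer ((R k : Subgroup G) : Set G) ∧ B ≤ normalizer ((R k : Subgroup G) : Set G) := by
    intro k
    induction k with
    | zero => rw [hR0]; exact ⟨le_rfl, hWP, hnB⟩
    | succ k ih =>
      obtain ⟨h1, h2, h3⟩ := ih
      rw [hRs]
      exact ⟨(commutator_le_left_of_normalizer h2).trans h1, normalizer_commutator_ge_right _ W,
        fun b hb => mem_normalizer_commutator (h3 hb) (hBW hb)⟩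
  have hcop : (Nat.card B).Coprime (Nat.card P) := by
    obtain ⟨n, hn⟩ := IsPGroup.iff_card.mp hP
    rw [hn]
    exact (((Nat.Prime.coprime_iff_not_dvd (Fact.out)).mpr hB).symm).pow_right n
  have step : ∀ k, ⁅P, B⁆ ≤ R k := by
    intro k
    induction k with
    | zero => rw [hR0]; exact commutator_le_left_of_normalizer hnB
    | succ k ih =>
      obtain ⟨h1, h2, h3⟩ := hR (k + 1)
      have hAPB : ⁅⁅A, P⁆, B⁆ ≤ R (k + 1) := by
        refine commutator_rotate_le (le_sup_left.trans h2) (le_sup_right.trans h2) h3 ?_ ?_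
        · rw [hRs]; exact (commutator_mono ih (le_sup_left : A ≤ W))
        · rw [commutator_comm B A, hAB, commutator_bot_left]; exact bot_le
      have hsolv : Group.IsSolvable P := by
        have := hP.isNilpotent
        infer_instance
      rw [← commutator_commutator_eq hnB hcop (Or.inr hsolv)]
      exact (commutator_mono (hle.trans_eq (commutator_comm P A)) le_rfl).trans hAPB
  -- the series reaches the trivial group
  have hdec : ∀ k, R k ≠ ⊥ → R (k + 1) < R k := fun k hk =>
    hRs k ▸ commutator_lt_of_isPGroup (hP.to_le (hR k).1) hWp (hR k).2.1 hk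
  by_contra hne
  have hnb : ∀ k, R k ≠ ⊥ := fun k h => hne (le_bot_iff.mp (h ▸ step k))
  exact not_strictAnti_of_wellFoundedLT R (strictAnti_nat_of_succ_lt fun k => hdec k (hnb k))

end Cfsg.Agent.Coprime
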