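import Cfsg.Agent.Coprime.Action
import Mathlib.GroupTheory.GroupAction.Quotient

/-!
A nonabelian group `A` of order `p q` acts compatibly, coprimely and fixed-point-freely on an abelian
group `D` and an abelian group `X` of automorphisms of `D`. If `Ω ⊆ D` is invariant under both and each
point of `Ω` is fixed by `X` or by a nontrivial element of `A`, then `X` fixes `Ω` pointwise.
-/

namespace Cfsg.Agent.Coprime.PQCore

open Subgroup

variable {D A : Type*} [CommGroup D] [Group A]

/-- The data of the situation. -/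
structure Data (X : Subgroup (MulAut D)) (α : A →* MulAut D) : Prop where
  comm : ∀ x ∈ X, ∀ y ∈ X, x * y = y * x
  norm : ∀ a, ∀ x ∈ X, α a * x * (α a)⁻¹ ∈ X
  fixX : ∀ x ∈ X, (∀ a, α a * x = x * α a) → x = 1
  fixD : ∀ d : D, (∀ a, α a d = d) → d = 1
  copAX : (Nat.card A).Coprime (Nat.card X)
  copAD : (Nat.card A).Coprime (Nat.card D)
  copXD : (Nat.card X).Coprime (Nat.card D)

variable {X : Subgroup (MulAut D)} {α : A →* MulAut D}

/-- Points all whose `X`-translates are fixed by `B`. -/
def Fix (X : Subgroup (MulAut D)) (α : A →* MulAut D) (B : Subgroup A) : Set D :=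
  {d | ∀ x ∈ X, ∀ b ∈ B, α b (x d) = x d}

theorem Fix.self {α : A →* MulAut D} {X : Subgroup (MulAut D)} {B : Subgroup A} {d : D} (hd : d ∈ Fix X α B) {b : A} (hb : b ∈ B) : α b d = d :=
  hd 1 (one_mem X) b hb

theorem Fix.mul {B : Subgroup A} {d e : D} (hd : d ∈ Fix X α B) (he : e ∈ Fix X α B) :
    d * e ∈ Fix X α B := fun x hx b hb => by rw [map_mul, map_mul, hd x hx b hb, he x hx b hb]

theorem Fix.inv {B : Subgroup A} {d : D} (hd : d ∈ Fix X α B) : d⁻¹ ∈ Fix X α B :=
  fun x hx b hb => by rw [map_inv, map_inv, hd x hx b hb]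

theorem Fix.apply {B : Subgroup A} {d : D} (hd : d ∈ Fix X α B) {x : MulAut D} (hx : x ∈ X) :
    x d ∈ Fix X α B := fun y hy b hb => by
  rw [← MulAut.mul_apply]
  exact hd _ (mul_mem hy hx) b hb

theorem Fix.act (h : Data X α) {B B' : Subgroup A} {a : A} (hB : ∀ b ∈ B', a⁻¹ * b * a ∈ B) {d : D}
    (hd : d ∈ Fix X α B) : α a d ∈ Fix X α B' := by
  intro x hx b hb
  have hx' : α a⁻¹ * x * (α a⁻¹)⁻¹ ∈ X := h.norm a⁻¹ x hx
  have e1 : x (α a d) = α a ((α a⁻¹ * x * (α a⁻¹)⁻¹) d) := by
    simp
  have := hd _ hx' _ (hB b hb)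
  rw [e1]
  conv_rhs => rw [← this]
  simp

/-- The displacement of `z` by `b` fixes `Fix B`. -/
theorem displace_fix (h : Data X α) {B : Subgroup A} {b : A} (hb : b ∈ B) {z : MulAut D} (hz : z ∈ X)
    {d : D} (hd : d ∈ Fix X α B) : (α b * z * (α b)⁻¹) d = z d := by
  have h1 : (α b)⁻¹ d = d := by
    rw [← map_inv]
    exact Fix.self hd (inv_mem hb)
  rw [MulAut.mul_apply, MulAut.mul_apply, h1]
  exact hd z hz b hb

variable [Finite A]

theorem pow_card_fixed {D' : Type*} [CommGroup D'] (β : A →* MulAut D') (d : D') :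
    letI := Fintype.ofFinite A
    ∀ a, β a (∏ b : A, β b d) = ∏ b : A, β b d := by
  let _ := Fintype.ofFinite A
  intro a
  rw [map_prod]
  exact Fintype.prod_equiv (Equiv.mulLeft a) _ _ fun b => by simp [map_mul]

theorem eq_one_of_pow {G : Type*} [Group G] {g : G} {n : ℕ} (h : g ^ n = 1) {m : ℕ}
    (hm : g ^ m = 1) (hc : n.Coprime m) : g = 1 := by
  rw [← orderOf_eq_one_iff]
  exact Nat.eq_one_of_dvd_coprimes hc (orderOf_dvd_of_pow_eq_one h) (orderOf_dvd_of_pow_eq_one hm)

variable [Finite D]

/-- An element fixed by all displacements under `a` for every `a` is fixed by `X`. -/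
theorem fixed_of_displace (h : Data X α) {d : D}
    (hd : ∀ a, ∀ z ∈ X, (α a * z * (α a)⁻¹) d = z d) {z : MulAut D} (hz : z ∈ X) : z d = d := by
  classical
  let _ := Fintype.ofFinite A
  let _ : CommGroup X := { (inferInstance : Group X) with mul_comm := fun a b => Subtype.ext (h.comm a a.2 b b.2) }
  let g : A → X := fun a => ⟨α a * z * (α a)⁻¹, h.norm a z hz⟩
  have hprod : ∀ s : Finset A, ((∏ a ∈ s, g a : X) : MulAut D) d = (z ^ s.card) d := by
    intro s
    induction s using Finset.induction_on with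
    | empty => rfl
    | insert a s ha ih =>
      rw [Finset.prod_insert ha, Subgroup.coe_mul, MulAut.mul_apply, ih, Finset.card_insert_of_notMem ha,
        pow_succ', MulAut.mul_apply]
      have hzs : z ^ s.card ∈ X := pow_mem hz _
      show (α a * z * (α a)⁻¹) ((z ^ s.card) d) = _
      rw [← MulAut.mul_apply, h.comm _ (h.norm a z hz) _ hzs, MulAut.mul_apply, hd a z hz,
        ← MulAut.mul_apply, h.comm _ hzs z hz, MulAut.mul_apply]
  set N := ∏ a : A, g a with hN
  have hN1 : (N : MulAut D) = 1 := by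
    refine h.fixX _ N.2 fun a => ?_
    let c : X →* X :=
      { toFun := fun y => ⟨α a * y * (α a)⁻¹, h.norm a y y.2⟩
        map_one' := Subtype.ext (by simp)
        map_mul' := fun y y' => Subtype.ext (by simp [mul_assoc]) }
    have : c N = N := by
      rw [hN, map_prod]
      exact Fintype.prod_equiv (Equiv.mulLeft a) _ _ fun b => Subtype.ext (by simp [c, g, mul_assoc])
    have h2 : α a * (N : MulAut D) * (α a)⁻¹ = N := congrArg Subtype.val this
    rw [mul_inv_eq_iff_eq_mul] at h2
    exact h2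
  have hzA : (z ^ Nat.card A) d = d := by
    have := hprod Finset.univ
    rw [Finset.card_univ, ← hN, hN1, ← Nat.card_eq_fintype_card] at this
    exact this.symm
  obtain ⟨m, hm⟩ := exists_pow_eq_self_of_coprime (x := z) (n := Nat.card A)
    (h.copAX.coprime_dvd_right (X.orderOf_dvd_natCard hz))
  rw [← hm]
  clear hm
  induction m with
  | zero => rfl
  | succ n ih => rw [pow_succ', MulAut.mul_apply, ih, hzA]

/-- The norm over `X`. -/
noncomputable def norm (X : Subgroup (MulAut D)) [Finite X] : D →* D :=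
  letI := Fintype.ofFinite X
  { toFun := fun d => ∏ x : X, (x : MulAut D) d
    map_one' := by simp
    map_mul' := fun a b => by simp [Finset.prod_mul_distrib] }

omit [Finite A] in
theorem norm_fixed (d : D) {x : MulAut D} (hx : x ∈ X) : x (norm X d) = norm X d := by
  let _ := Fintype.ofFinite X
  show x (∏ y : X, (y : MulAut D) d) = _
  rw [map_prod]
  exact Fintype.prod_equiv (Equiv.mulLeft (⟨x, hx⟩ : X)) _ _ fun y => rfl

omit [Finite A] in
theorem norm_apply (h : Data X α) (d : D) {x : MulAut D} (hx : x ∈ X) : norm X (x d) = norm X d := by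
  let _ := Fintype.ofFinite X
  show ∏ y : X, (y : MulAut D) (x d) = ∏ y : X, (y : MulAut D) d
  exact Fintype.prod_equiv (Equiv.mulRight (⟨x, hx⟩ : X)) _ _ fun y => rfl

omit [Finite A] in
theorem norm_of_fixed {d : D} (hd : ∀ x ∈ X, x d = d) : norm X d = d ^ Nat.card X := by
  let _ := Fintype.ofFinite X
  show ∏ y : X, (y : MulAut D) d = _
  rw [Finset.prod_congr rfl fun (y : X) _ => hd y y.2, Finset.prod_const, Finset.card_univ,
    Nat.card_eq_fintype_card]

omit [Finite A] in
theorem eq_one_of_norm (h : Data X α) {d : D} (hd : ∀ x ∈ X, x d = d) (hn : norm X d = 1) : d = 1 :=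
  eq_one_of_pow (g := d) ((norm_of_fixed hd).symm.trans hn) pow_card_eq_one' h.copXD

variable {p q : ℕ}

theorem prime_card_of_ne (hp : p.Prime) (hq : q.Prime) (hA : Nat.card A = p * q) {B : Subgroup A}
    (hB : B ≠ ⊥) (hB' : B ≠ ⊤) : (Nat.card B).Prime := by
  obtain ⟨a, b, ha, hb, he⟩ := Nat.dvd_mul.mp (hA ▸ B.card_subgroup_dvd_card)
  rcases (Nat.dvd_prime hp).mp ha with rfl | rfl <;> rcases (Nat.dvd_prime hq).mp hb with rfl | rfl
  · exact absurd (card_eq_one.mp (by rw [← he])) hB
  · rwa [← he, one_mul]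
  · rwa [← he, mul_one]
  · exact absurd (Subgroup.eq_top_of_card_eq B (by rw [hA, he])) hB'

theorem sup_eq_top (hp : p.Prime) (hq : q.Prime) (hA : Nat.card A = p * q) {B B' : Subgroup A}
    (hB : B ≠ ⊥) (hB' : B' ≠ ⊥) (hne : B ≠ B') : B ⊔ B' = ⊤ := by
  by_contra h
  have hB2 : B ≠ ⊤ := fun e => h (by rw [e, top_sup_eq])
  have hB2' : B' ≠ ⊤ := fun e => h (by rw [e, sup_top_eq])
  have hs := prime_card_of_ne hp hq hA (ne_bot_of_le_ne_bot hB le_sup_left) h
  have e1 : Nat.card B = Nat.card ↥(B ⊔ B') :=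
    ((Nat.dvd_prime hs).mp (card_dvd_of_le le_sup_left)).resolve_left
      fun e => hB (card_eq_one.mp e)
  have e2 : Nat.card B' = Nat.card ↥(B ⊔ B') :=
    ((Nat.dvd_prime hs).mp (card_dvd_of_le le_sup_right)).resolve_left
      fun e => hB' (card_eq_one.mp e)
  exact hne ((eq_of_le_of_card_ge le_sup_left e1.ge).trans (eq_of_le_of_card_ge le_sup_right e2.ge).symm)

/-- Distinct stabilizers give independent norm-kernels. -/
theorem independent (h : Data X α) (hp : p.Prime) (hq : q.Prime) (hA : Nat.card A = p * q)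
    {ι : Type*} [DecidableEq ι] (Bf : ι → Subgroup A) (hinj : Function.Injective Bf)
    (hne : ∀ i, Bf i ≠ ⊥) (S : Finset ι) (hS : 2 ≤ S.card ∨ S.card = 0) :
    ∀ w : ι → D, (∀ i ∈ S, w i ∈ Fix X α (Bf i) ∧ norm X (w i) = 1) → ∏ i ∈ S, w i = 1 →
      ∀ i ∈ S, w i = 1 := by
  classical
  clear hS
  induction S using Finset.induction_on with
  | empty => intro w _ _ i hi; exact absurd hi (Finset.notMem_empty i)
  | insert i₀ S hi₀ ih =>
    intro w hw hprod
    have hrest : ∀ i ∈ S, w i = 1 := by
      intro i hi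
      -- displacement by elements of `Bf i₀`
      have hdis : ∀ b ∈ Bf i₀, ∀ z ∈ X, (α b * z * (α b)⁻¹) (w i) = z (w i) := by
        intro b hb z hz
        set y := z⁻¹ * (α b * z * (α b)⁻¹) with hy
        have hyX : y ∈ X := mul_mem (inv_mem hz) (h.norm b z hz)
        have hy0 : y (w i₀) = w i₀ := by
          rw [hy, MulAut.mul_apply,
            displace_fix h hb hz (hw i₀ (Finset.mem_insert_self _ _)).1, MulAut.inv_apply_self]
        have h1 : ∏ j ∈ S, (y (w j) * (w j)⁻¹) = 1 := by
          have := congrArg (fun d => y d * d⁻¹) hprod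
          simp only [Finset.prod_insert hi₀, map_mul, hy0, map_prod, map_one, mul_inv_rev, inv_one,
            mul_one] at this
          rw [Finset.prod_mul_distrib, Finset.prod_inv_distrib]
          calc (∏ j ∈ S, y (w j)) * (∏ j ∈ S, w j)⁻¹
              = w i₀ * (∏ j ∈ S, y (w j)) * ((∏ j ∈ S, w j)⁻¹ * (w i₀)⁻¹) := by
                rw [mul_comm (w i₀), mul_assoc, mul_comm (∏ j ∈ S, w j)⁻¹, ← mul_assoc (w i₀),
                  mul_inv_cancel, one_mul]
            _ = 1 := this
        have h2 := ih (fun j => y (w j) * (w j)⁻¹) (fun j hj => by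
          obtain ⟨hf, hn⟩ := hw j (Finset.mem_insert_of_mem hj)
          exact ⟨Fix.mul (Fix.apply hf hyX) (Fix.inv hf), by rw [map_mul, map_inv, norm_apply h _ hyX, mul_inv_cancel]⟩)
          h1 i hi
        rw [mul_inv_eq_one] at h2
        have := congrArg z h2
        rwa [hy, MulAut.mul_apply, MulAut.apply_inv_self] at this
      let St : Subgroup A :=
        { carrier := {a | ∀ z ∈ X, (α a * z * (α a)⁻¹) (w i) = z (w i)}
          one_mem' := fun z _ => by simp
          mul_mem' := fun {a b} ha hb z hz => by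
            have h1 := ha _ (h.norm b z hz)
            rw [hb z hz] at h1
            simpa [map_mul, mul_assoc] using h1
          inv_mem' := fun {a} ha z hz => by
            have h1 := ha _ (h.norm a⁻¹ z hz)
            simp only [map_inv, inv_inv, ← mul_assoc, mul_inv_cancel, one_mul] at h1
            simp only [mul_assoc, mul_inv_cancel, mul_one] at h1
            simpa [map_inv, mul_assoc] using h1.symm }
      have hSt : St = ⊤ := by
        rw [eq_top_iff, ← sup_eq_top hp hq hA (hne i₀) (hne i) (fun e => hi₀ (hinj e ▸ hi)), sup_le_iff]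
        exact ⟨fun b hb => hdis b hb,
          fun b hb z hz => displace_fix h hb hz (hw i (Finset.mem_insert_of_mem hi)).1⟩
      refine eq_one_of_norm h (fun z hz => fixed_of_displace h (fun a z hz => ?_) hz)
        (hw i (Finset.mem_insert_of_mem hi)).2
      exact (hSt ▸ Subgroup.mem_top a : a ∈ St) z hz
    intro i hi
    rcases Finset.mem_insert.mp hi with rfl | hi
    · rwa [Finset.prod_insert hi₀, Finset.prod_eq_one hrest, mul_one] at hprod
    · exact hrest i hi

theorem fixed_pow_card {d : D} (h : Data X α) {z : MulAut D} (hz : z ∈ X)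
    (hd : z (d ^ Nat.card X) = d ^ Nat.card X) : z d = d := by
  rw [map_pow] at hd
  refine mul_inv_eq_one.mp (eq_one_of_pow (g := z d * d⁻¹) ?_ pow_card_eq_one' h.copXD)
  rw [mul_pow, inv_pow, hd, mul_inv_cancel]

/-- A non-normal stabilizer: `X` fixes the points. -/
theorem fix_of_not_normal (h : Data X α) (hp : p.Prime) (hq : q.Prime) (hA : Nat.card A = p * q)
    {B : Subgroup A} (hB : B ≠ ⊥) (hBn : ¬ B.Normal) {d : D} (hd : d ∈ Fix X α B) {z : MulAut D}
    (hz : z ∈ X) : z d = d := by
  classical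
  let _ := Fintype.ofFinite (A ⧸ B)
  have hN : normalizer (B : Set A) = B := by
    refine le_antisymm (fun a ha => ?_) le_normalizer
    by_contra hna
    refine hBn (normalizer_eq_top_iff.mp ?_)
    rw [eq_top_iff, ← sup_eq_top hp hq hA (B' := zpowers a) hB
      (fun e => hna (zpowers_eq_bot.mp e ▸ one_mem B)) (fun e => hna (e ▸ mem_zpowers a)), sup_le_iff]
    exact ⟨le_normalizer, zpowers_le.mpr ha⟩
  suffices key : ∀ w ∈ Fix X α B, norm X w = 1 → w = 1 by
    set w := d ^ Nat.card X * (norm X d)⁻¹ with hw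
    have hdX : ∀ (n : ℕ), d ^ n ∈ Fix X α B := fun n x hx b hb => by
      rw [map_pow, map_pow, hd x hx b hb]
    have hNd : norm X d ∈ Fix X α B := by
      let _ := Fintype.ofFinite X
      intro x hx b hb
      show α b (x (∏ y : X, (y : MulAut D) d)) = x (∏ y : X, (y : MulAut D) d)
      rw [map_prod, map_prod]
      exact Finset.prod_congr rfl fun y _ => hd (x * y) (mul_mem hx y.2) b hb
    have h1 := key w (Fix.mul (hdX _) (Fix.inv hNd)) (by
      rw [map_mul, map_inv, map_pow, norm_of_fixed (d := norm X d) (fun x hx => norm_fixed d hx),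
        mul_inv_cancel])
    rw [hw, mul_inv_eq_one] at h1
    refine fixed_pow_card h hz ?_
    rw [h1]
    exact norm_fixed d hz
  intro w hw hn
  let wc : A ⧸ B → D := fun c => α c.out w
  let Bf : A ⧸ B → Subgroup A := fun c => B.map (MulAut.conj c.out).toMonoidHom
  have hmem : ∀ c, wc c ∈ Fix X α (Bf c) := fun c => by
    refine Fix.act h ?_ hw
    rintro _ ⟨b, hb, rfl⟩
    simpa [mul_assoc] using hb
  have hnorm : ∀ c, norm X (wc c) = 1 := by
    intro c
    let _ := Fintype.ofFinite X
    show ∏ x : X, (x : MulAut D) (α c.out w) = 1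
    have e : ∏ x : X, (x : MulAut D) (α c.out w) = α c.out (norm X w) := by
      show _ = α c.out (∏ x : X, (x : MulAut D) w)
      rw [map_prod]
      let cj : X ≃ X :=
        { toFun := fun x => ⟨α c.out⁻¹ * x * (α c.out⁻¹)⁻¹, h.norm _ _ x.2⟩
          invFun := fun x => ⟨α c.out * x * (α c.out)⁻¹, h.norm _ _ x.2⟩
          left_inv := fun x => Subtype.ext (by simp [mul_assoc])
          right_inv := fun x => Subtype.ext (by simp [mul_assoc]) }
      refine Fintype.prod_equiv cj _ _ fun x => ?_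
      simp [cj]
    rw [e, hn, map_one]
  have hinj : Function.Injective Bf := by
    intro c c' he
    rw [← c.out_eq', ← c'.out_eq', QuotientGroup.eq]
    refine hN.le ?_
    have e2 := congrArg (Subgroup.map (MulAut.conj c.out⁻¹).toMonoidHom) he
    simp only [Bf, Subgroup.map_map] at e2
    refine (mem_normalizer_iff.mpr fun x => ?_)
    have h1 : B = B.map (MulAut.conj (c.out⁻¹ * c'.out)).toMonoidHom := by
      have a1 : (MulAut.conj c.out⁻¹).toMonoidHom.comp (MulAut.conj c.out).toMonoidHom = MonoidHom.id A :=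
        MonoidHom.ext fun x => by simp [mul_assoc]
      have a2 : (MulAut.conj c.out⁻¹).toMonoidHom.comp (MulAut.conj c'.out).toMonoidHom =
          (MulAut.conj (c.out⁻¹ * c'.out)).toMonoidHom := MonoidHom.ext fun x => by simp [mul_assoc]
      rw [a1, a2, Subgroup.map_id] at e2
      exact e2
    generalize c.out⁻¹ * c'.out = g at h1 ⊢
    constructor
    · intro hx
      rw [h1]
      exact mem_map_of_mem _ hx
    · intro hx
      rw [h1] at hx
      obtain ⟨y, hy, hxy⟩ := hx
      have : y = x := (MulAut.conj g).injective hxy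
      exact this ▸ hy
  have hprod : ∏ c : A ⧸ B, wc c = 1 := by
    refine h.fixD _ fun a => ?_
    rw [map_prod]
    refine Fintype.prod_equiv (MulAction.toPerm a) _ _ fun c => ?_
    show α a (α c.out w) = α (a • c).out w
    obtain ⟨b, hb⟩ : ∃ b : B, (a • c).out = a * c.out * b := by
      have : ((a * c.out : A) : A ⧸ B) = ((a • c).out : A ⧸ B) := by
        rw [QuotientGroup.out_eq']
        conv_rhs => rw [← c.out_eq']
        rfl
      exact ⟨⟨_, QuotientGroup.eq.mp this⟩, (mul_inv_cancel_left _ _).symm⟩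
    rw [hb, map_mul, map_mul, MulAut.mul_apply, MulAut.mul_apply, Fix.self hw b.2]
  have := independent h hp hq hA Bf hinj (fun c e => hB ((map_eq_bot_iff_of_injective B
    (MulAut.conj c.out).injective).mp e)) Finset.univ (by
      by_cases h2 : 2 ≤ (Finset.univ : Finset (A ⧸ B)).card
      · exact Or.inl h2
      · exfalso
        refine hBn ?_
        have : B.index ≤ 1 := by
          rw [Subgroup.index_eq_card, Nat.card_eq_fintype_card, ← Finset.card_univ]; omega
        have hB1 : B = ⊤ := Subgroup.index_eq_one.mp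
          (le_antisymm this (Nat.one_le_iff_ne_zero.mpr Subgroup.index_ne_zero_of_finite))
        rw [hB1]; infer_instance) wc (fun c _ => ⟨hmem c, hnorm c⟩) hprod
  have h1 := this ((1 : A) : A ⧸ B) (Finset.mem_univ _)
  exact (map_eq_one_iff (α ((1 : A) : A ⧸ B).out) (MulEquiv.injective _)).mp h1

/-- A normal stabilizer: `X` fixes the points. -/
theorem fix_of_normal (h : Data X α) (hp : p.Prime) (hq : q.Prime) (hA : Nat.card A = p * q)
    {B : Subgroup A} [hBn : B.Normal] (hB : B ≠ ⊥) (hBt : B ≠ ⊤) {d : D} (hd : d ∈ Fix X α B)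
    {z : MulAut D} (hz : z ∈ X) : z d = d := by
  classical
  refine fixed_of_displace h (fun a => ?_) hz
  let _ : CommGroup X := { (inferInstance : Group X) with mul_comm := fun a b => Subtype.ext (h.comm a a.2 b b.2) }
  -- the centralizer of `B` in `X` fixes `d`
  suffices hC : ∀ y ∈ X, (∀ b ∈ B, α b * y = y * α b) → y d = d by
    intro z hz
    have hall : ∀ y ∈ X, y d = d := by
      intro y hy
      let _ := Fintype.ofFinite B
      let g : B → X := fun b => ⟨α b * y * (α b)⁻¹, h.norm b y hy⟩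
      have hprod : ∀ s : Finset B, ((∏ b ∈ s, g b : X) : MulAut D) d = (y ^ s.card) d := by
        intro s
        induction s using Finset.induction_on with
        | empty => rfl
        | insert b s hb ih =>
          rw [Finset.prod_insert hb, Subgroup.coe_mul, MulAut.mul_apply, ih,
            Finset.card_insert_of_notMem hb, pow_succ', MulAut.mul_apply]
          exact displace_fix h b.2 hy (Fix.apply hd (pow_mem hy _))
      set N := ∏ b : B, g b with hN
      have hN1 : (N : MulAut D) d = d := by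
        refine hC _ N.2 fun b hb => ?_
        let c : X →* X :=
          { toFun := fun y => ⟨α b * y * (α b)⁻¹, h.norm b y y.2⟩
            map_one' := Subtype.ext (by simp)
            map_mul' := fun y y' => Subtype.ext (by simp [mul_assoc]) }
        have : c N = N := by
          rw [hN, map_prod]
          exact Fintype.prod_equiv (Equiv.mulLeft (⟨b, hb⟩ : B)) _ _ fun b' =>
            Subtype.ext (by simp [c, g, mul_assoc])
        have h2 : α b * (N : MulAut D) * (α b)⁻¹ = N := congrArg Subtype.val this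
        rw [mul_inv_eq_iff_eq_mul] at h2
        exact h2
      have hzB : (y ^ Nat.card B) d = d := by
        have := hprod Finset.univ
        rw [Finset.card_univ, ← hN, hN1, ← Nat.card_eq_fintype_card] at this
        exact this.symm
      obtain ⟨m, hm⟩ := exists_pow_eq_self_of_coprime (x := y) (n := Nat.card B)
        ((h.copAX.coprime_dvd_left B.card_subgroup_dvd_card).coprime_dvd_right (X.orderOf_dvd_natCard hy))
      rw [← hm]
      clear hm
      induction m with
      | zero => rfl
      | succ n ih => rw [pow_succ', MulAut.mul_apply, ih, hzB]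
    rw [hall _ hz, hall _ (h.norm a z hz)]
  intro y₀ hy₀ hy₀B
  let XB : Subgroup X :=
    { carrier := {y | ∀ b ∈ B, α b * (y : MulAut D) = y * α b}
      one_mem' := fun b _ => by simp
      mul_mem' := fun {y y'} hy hy' b hb => by
        rw [Subgroup.coe_mul, ← mul_assoc, hy b hb, mul_assoc, hy' b hb, ← mul_assoc]
      inv_mem' := fun {y} hy b hb => by
        rw [Subgroup.coe_inv, eq_inv_mul_iff_mul_eq, ← mul_assoc, ← hy b hb, mul_assoc, mul_inv_cancel,
          mul_one] }
  obtain ⟨t, -, ht⟩ := SetLike.exists_of_lt hBt.lt_top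
  set m := orderOf (t : A ⧸ B) with hm
  have htm : t ^ m ∈ B := by
    rw [← QuotientGroup.eq_one_iff, QuotientGroup.mk_pow]
    exact pow_orderOf_eq_one _
  have hsup : ∀ u, u ∉ B → B ⊔ zpowers u = ⊤ := fun u hu => sup_eq_top hp hq hA hB
    (fun e => hu (zpowers_eq_bot.mp e ▸ one_mem B)) (fun e => hu (e ▸ mem_zpowers u))
  let fy : ℕ → XB → XB := fun i y => ⟨⟨α (t ^ i) * (y : X) * (α (t ^ i))⁻¹, h.norm _ _ (y : X).2⟩,
    fun b hb => by
      have hb' : (t ^ i)⁻¹ * b * t ^ i ∈ B := by
        simpa using hBn.conj_mem b hb (t ^ i)⁻¹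
      have := y.2 _ hb'
      simp only [map_mul, map_inv] at this
      calc α b * (α (t ^ i) * (y : X) * (α (t ^ i))⁻¹)
          = α (t ^ i) * (((α (t ^ i))⁻¹ * α b * α (t ^ i)) * ((y : X) : MulAut D)) * (α (t ^ i))⁻¹ := by
            simp [mul_assoc]
        _ = _ := by rw [this]; simp [mul_assoc]⟩
  have hfix : ∀ i, 0 < i → i < m → Function.Bijective fun y : XB => y⁻¹ * fy i y := by
    intro i hi him
    refine Finite.injective_iff_bijective.mp fun y y' he => ?_
    have hti : t ^ i ∉ B := fun e => by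
      rw [← QuotientGroup.eq_one_iff, QuotientGroup.mk_pow, ← orderOf_dvd_iff_pow_eq_one] at e
      exact absurd (Nat.le_of_dvd hi e) (by omega)
    set u := y' * y⁻¹ with hu
    have h1 : fy i u = u := by
      have e1 : fy i u = fy i y' * (fy i y)⁻¹ := Subtype.ext (Subtype.ext (by simp [fy, hu, mul_assoc]))
      have e2 : y⁻¹ * fy i y = y'⁻¹ * fy i y' := he
      have e3 : fy i y' = y' * (y⁻¹ * fy i y) := by rw [e2, mul_inv_cancel_left]
      rw [e1, e3, hu, mul_assoc, mul_assoc, mul_inv_cancel, mul_one]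
    have h2 : ((u : X) : MulAut D) = 1 := by
      refine h.fixX _ (u : X).2 fun a => ?_
      let C : Subgroup A :=
        { carrier := {a | α a * ((u : X) : MulAut D) = ((u : X) : MulAut D) * α a}
          one_mem' := by simp
          mul_mem' := fun {a b} ha hb => by
            show α (a * b) * _ = _ * α (a * b)
            rw [map_mul, mul_assoc, hb, ← mul_assoc, ha, mul_assoc]
          inv_mem' := fun {a} ha => by
            show α a⁻¹ * _ = _ * α a⁻¹
            rw [map_inv, inv_mul_eq_iff_eq_mul, ← mul_assoc, ha, mul_assoc, mul_inv_cancel, mul_one] }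
      suffices C = ⊤ from (this ▸ Subgroup.mem_top a : a ∈ C)
      rw [eq_top_iff, ← hsup _ hti, sup_le_iff]
      refine ⟨fun b hb => u.2 b hb, zpowers_le.mpr ?_⟩
      have := congrArg (fun v : XB => ((v : X) : MulAut D)) h1
      exact mul_inv_eq_iff_eq_mul.mp this
    have hu1 : u = 1 := Subtype.ext (Subtype.ext h2)
    rw [hu, mul_inv_eq_one] at hu1
    exact hu1.symm
  let _ := Fintype.ofFinite XB
  let e : D → D := fun v => ∏ y : XB, ((y : X) : MulAut D) v
  have he_mul : ∀ u v, e (u * v) = e u * e v := fun u v => by simp [e, Finset.prod_mul_distrib]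
  let P : D →* D := MonoidHom.mk' e he_mul
  have hBfix : ∀ (y : XB) (i : ℕ), ∀ b ∈ B, α b (α (t ^ i) (((y : X) : MulAut D) d)) =
      α (t ^ i) (((y : X) : MulAut D) d) := fun y i b hb =>
    (Fix.act h (B' := B) (fun b hb => by simpa using hBn.conj_mem b hb (t ^ i)⁻¹)
      (Fix.apply hd (y : X).2)) |> fun hh => Fix.self hh hb
  have horb : ∀ y : XB, ∏ i ∈ Finset.range m, α (t ^ i) (((y : X) : MulAut D) d) = 1 := by
    intro y
    set v := ((y : X) : MulAut D) d with hv
    refine h.fixD _ fun a => ?_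
    let C : Subgroup A := (MulAction.stabilizer (MulAut D) (∏ i ∈ Finset.range m, α (t ^ i) v)).comap α
    suffices C = ⊤ from (this ▸ Subgroup.mem_top a : a ∈ C)
    rw [eq_top_iff, ← hsup t ht, sup_le_iff]
    refine ⟨fun b hb => ?_, zpowers_le.mpr ?_⟩
    · show α b (∏ i ∈ Finset.range m, α (t ^ i) v) = _
      rw [map_prod]
      exact Finset.prod_congr rfl fun i _ => hBfix y i b hb
    · show α t (∏ i ∈ Finset.range m, α (t ^ i) v) = _
      have hlast : α (t ^ m) v = v := by
        have := hBfix y 0 (t ^ m) htm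
        simpa using this
      have step : ∀ i, α t (α (t ^ i) v) = α (t ^ (i + 1)) v := fun i => by
        rw [← MulAut.mul_apply, ← map_mul, pow_succ']
      rw [map_prod, Finset.prod_congr rfl fun i _ => step i]
      have hmpos : 0 < m := orderOf_pos _
      conv_lhs => rw [show m = m - 1 + 1 by omega, Finset.prod_range_succ]
      conv_rhs => rw [show m = m - 1 + 1 by omega, Finset.prod_range_succ']
      rw [show m - 1 + 1 = m by omega, hlast, pow_zero, map_one, MulAut.one_apply]
  have hm0 : 0 < m := orderOf_pos _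
  have hswap : ∀ i ∈ Finset.range m, i ≠ 0 →
      ∏ y : XB, ((y⁻¹ : XB) : X).1 (α (t ^ i) (((y : X) : MulAut D) d)) = P (α (t ^ i) d) := by
    intro i hi hi0
    show _ = ∏ y : XB, ((y : X) : MulAut D) (α (t ^ i) d)
    refine Fintype.prod_equiv (Equiv.ofBijective _ (hfix i (Nat.pos_of_ne_zero hi0) (Finset.mem_range.mp hi)))
      _ _ fun y => ?_
    simp [fy]
  have h1 : ∏ i ∈ Finset.range m, ∏ y : XB, ((y⁻¹ : XB) : X).1 (α (t ^ i) (((y : X) : MulAut D) d)) = 1 := by
    rw [Finset.prod_comm]
    refine Finset.prod_eq_one fun y _ => ?_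
    rw [← map_prod, horb y, map_one]
  have h2 : P (∏ i ∈ Finset.range m, α (t ^ i) d) = 1 := by
    have := horb 1
    simp only [OneMemClass.coe_one, MulAut.one_apply] at this
    rw [this, map_one]
  rw [map_prod, ← Finset.prod_erase_mul _ _ (Finset.mem_range.mpr hm0)] at h2
  rw [← Finset.prod_erase_mul _ _ (Finset.mem_range.mpr hm0),
    Finset.prod_congr rfl fun i hi => hswap i (Finset.mem_of_mem_erase hi) (Finset.ne_of_mem_erase hi)] at h1
  have h3 := mul_left_cancel (h1.trans h2.symm)
  simp only [pow_zero, map_one, MulAut.one_apply] at h3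
  have h4 : d ^ Nat.card XB = P d := by
    rw [← h3, Nat.card_eq_fintype_card]
    simp
  have hPfix : y₀ (P d) = P d := by
    show y₀ (∏ y : XB, ((y : X) : MulAut D) d) = _
    rw [map_prod]
    exact Fintype.prod_equiv (Equiv.mulLeft (⟨⟨y₀, hy₀⟩, hy₀B⟩ : XB)) _ _ fun y => rfl
  rw [← h4, map_pow] at hPfix
  refine mul_inv_eq_one.mp (eq_one_of_pow (g := y₀ d * d⁻¹) ?_ pow_card_eq_one'
    (h.copXD.coprime_dvd_left XB.card_subgroup_dvd_card))
  rw [mul_pow, inv_pow, hPfix, mul_inv_cancel]

/-- The main lemma. -/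
theorem fixes (h : Data X α) (hp : p.Prime) (hq : q.Prime) (hA : Nat.card A = p * q) (Ω : Set D)
    (hΩX : ∀ x ∈ X, ∀ ω ∈ Ω, x ω ∈ Ω) (hΩA : ∀ a, ∀ ω ∈ Ω, α a ω ∈ Ω)
    (hΩ : ∀ ω ∈ Ω, (∀ x ∈ X, x ω = ω) ∨ ∃ a, a ≠ 1 ∧ α a ω = ω) {z : MulAut D} (hz : z ∈ X) {ω : D}
    (hω : ω ∈ Ω) : z ω = ω := by
  classical
  rcases hΩ ω hω with hX | ⟨a₀, ha₀, haω⟩
  · exact hX z hz
  by_cases hfix : ∀ x ∈ X, x ω = ω
  · exact hfix z hz
  -- the stabilizer of the orbit
  let O : Set D := {v | ∃ x ∈ X, x ω = v}
  let St : Subgroup A :=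
    { carrier := {a | ∀ v ∈ O, α a v ∈ O}
      one_mem' := fun v hv => by simpa using hv
      mul_mem' := fun {a b} ha hb v hv => by
        rw [map_mul, MulAut.mul_apply]
        exact ha _ (hb v hv)
      inv_mem' := fun {a} ha v hv => by
        obtain ⟨u, hu⟩ := (Finite.injective_iff_surjective.mp
          (show Function.Injective (fun u : O => (⟨α a u, ha u u.2⟩ : O)) from fun u u' he =>
            Subtype.ext ((α a).injective (congrArg Subtype.val he)))) ⟨v, hv⟩
        have hu' : α a u = v := congrArg Subtype.val hu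
        rw [map_inv, ← hu', MulAut.inv_apply_self]
        exact u.2 }
  have hO : ∀ a, (∀ v ∈ O, α a v ∈ O) → a ∈ St := fun a h1 => h1
  have hStO : ∀ a ∈ St, ∀ v ∈ O, α a v ∈ O := fun a ha => ha
  have hmem : ∀ v ∈ O, ∀ a, α a v = v → a ∈ St := by
    rintro _ ⟨x, hx, rfl⟩ a hav
    refine hO a ?_
    rintro _ ⟨y, hy, rfl⟩
    refine ⟨α a * (y * x⁻¹) * (α a)⁻¹ * x, mul_mem (h.norm a _ (mul_mem hy (inv_mem hx))) hx, ?_⟩
    have : (α a)⁻¹ (x ω) = x ω := by rw [← hav, MulAut.inv_apply_self, hav]
    simp only [MulAut.mul_apply, this, MulAut.inv_apply_self]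
  have hnotfix : ∀ v ∈ O, ∃ x ∈ X, x v ≠ v := by
    rintro _ ⟨x, hx, rfl⟩
    by_contra hc
    push Not at hc
    refine hfix fun y hy => ?_
    have := hc y hy
    rwa [← MulAut.mul_apply, h.comm y hy x hx, MulAut.mul_apply, EmbeddingLike.apply_eq_iff_eq] at this
  have hStne : St ≠ ⊤ := by
    intro htop
    have hAK : α.range ≤ normalizer (X : Set (MulAut D)) := by
      rintro _ ⟨a, rfl⟩
      refine mem_normalizer_iff.mpr fun x => ⟨h.norm a x, fun hx => ?_⟩
      have := h.norm a⁻¹ _ hx
      simpa [mul_assoc] using this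
    have hcop : (Nat.card α.range).Coprime (Nat.card X) :=
      h.copAX.coprime_dvd_left (card_range_dvd α)
    obtain ⟨v, hv, hvfix⟩ := exists_fixed_point (X := D) (S := O) hAK hcop
      (Or.inr (Group.isSolvable_of_comm fun a b : X => Subtype.ext (h.comm a a.2 b b.2)))
      ⟨ω, 1, one_mem X, rfl⟩
      (by rintro _ ⟨a, rfl⟩ v hv; exact hStO a (htop ▸ Subgroup.mem_top a) v hv)
      (by
        rintro _ ⟨x, hx, rfl⟩ _ ⟨y, hy, rfl⟩
        exact ⟨y * x⁻¹, mul_mem hy (inv_mem hx), by
          show (y * x⁻¹) (x ω) = _; simp [MulAut.mul_apply]⟩)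
      (by
        rintro x hx _ ⟨y, hy, rfl⟩
        exact ⟨x * y, mul_mem hx hy, rfl⟩)
    have hv1 : v = 1 := h.fixD v fun a => hvfix _ ⟨a, rfl⟩
    obtain ⟨x, hx, hxv⟩ := hv
    rw [hv1] at hxv
    refine hfix fun y _ => ?_
    have : ω = 1 := (map_eq_one_iff x (MulEquiv.injective x)).mp hxv
    rw [this, map_one]
  have hω0 : ω ∈ O := ⟨1, one_mem X, rfl⟩
  have hStbot : St ≠ ⊥ := fun e => ha₀ ((Subgroup.mem_bot).mp (e ▸ hmem ω hω0 a₀ haω))
  have hprime := prime_card_of_ne hp hq hA hStbot hStne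
  have hfixSt : ω ∈ Fix X α St := by
    intro x hx b hb
    rcases hΩ (x ω) (hΩX x hx ω hω) with hX | ⟨a, ha, hax⟩
    · obtain ⟨y, hy, hyne⟩ := hnotfix _ ⟨x, hx, rfl⟩
      exact absurd (hX y hy) hyne
    · let C : Subgroup A := (MulAction.stabilizer (MulAut D) (x ω)).comap α
      have hCle : C ≤ St := fun c hc => hmem _ ⟨x, hx, rfl⟩ c hc
      have hC : C = St := eq_of_le_of_card_ge hCle
        (((Nat.dvd_prime hprime).mp (card_dvd_of_le hCle)).resolve_left
          fun e => ha ((Subgroup.mem_bot).mp (card_eq_one.mp e ▸ (show a ∈ C from hax)))).ge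
      exact (hC ▸ hb : b ∈ C)
  by_cases hn : St.Normal
  · exact fix_of_normal h hp hq hA hStbot hStne hfixSt hz
  · exact fix_of_not_normal h hp hq hA hStbot hn hfixSt hz

end Cfsg.Agent.Coprime.PQCore
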