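import Cfsg.Agent.Coprime.OrbitBound
import Mathlib.Algebra.CharP.Lemmas
import Mathlib.Algebra.Group.Subgroup.Pointwise
import Mathlib.Algebra.Ring.Subring.Basic

/-!
The exceptional Fermat situation: `b` of prime order `p = 2 ^ m + 1` on a symplectic elementary
abelian 2-group `E` with `|E : C_E(b)| = 2 ^ (2 m)`, normalizing an abelian group `X` of isometries
of odd order prime to `p`. Then `X` commutes with `b` and centralizes `[E, b]`.
-/

namespace Cfsg.Agent.Coprime.PQExcept

open Subgroup

variable {E k : Type*} [CommGroup E] [Field k]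

section Square

variable (ω : E →* E →* kˣ) (hexp : ∀ e : E, e * e = 1) (halt : ∀ e, ω e e = 1)

include hexp halt

theorem pair_comm (e f : E) : ω e f = ω f e := by
  have h := halt (e * f)
  simp only [map_mul, MonoidHom.mul_apply, halt, one_mul, mul_one] at h
  have h2 : ω e f * ω e f = 1 := by rw [← map_mul, hexp, map_one]
  calc ω e f = (ω e f * ω e f) * (ω e f)⁻¹ := (mul_inv_cancel_right _ _).symm
    _ = (ω f e * ω e f) * (ω e f)⁻¹ := by rw [h2, h]
    _ = ω f e := mul_inv_cancel_right _ _

omit halt in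
theorem pair_val (e f : E) : ω e f = 1 ∨ ω e f = -1 := by
  have h : (ω e f : k) * ω e f = 1 := by
    rw [← Units.val_mul, ← map_mul, hexp, map_one, Units.val_one]
  rcases mul_self_eq_one_iff.mp h with h | h
  · exact Or.inl (Units.ext h)
  · exact Or.inr (Units.ext (h.trans (by rw [Units.val_neg, Units.val_one])))

/-- A nondegenerate subgroup has square order. -/
theorem card_square [Finite E] (S : Subgroup E) (hS : ∀ e ∈ S, (∀ f ∈ S, ω e f = 1) → e = 1) :
    ∃ n, Nat.card S = n * n := by
  classical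
  induction S using WellFoundedLT.induction with
  | _ S ih =>
  by_cases hbot : S = ⊥
  · exact ⟨1, by rw [hbot, Subgroup.card_bot]⟩
  obtain ⟨e, he, he1⟩ := S.bot_or_exists_ne_one.resolve_left hbot
  obtain ⟨f, hf, hef⟩ : ∃ f ∈ S, ω e f ≠ 1 := by
    by_contra hc
    push Not at hc
    exact he1 (hS e he hc)
  have hef' : ω e f = -1 := (pair_val ω hexp e f).resolve_left hef
  have hfe : ω f e = -1 := (pair_comm ω hexp halt f e).trans hef'
  let φ : S →* kˣ × kˣ := ((ω e).comp S.subtype).prod ((ω f).comp S.subtype)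
  set S' := φ.ker.map S.subtype with hS'
  have hmem : ∀ x, x ∈ S' ↔ x ∈ S ∧ ω e x = 1 ∧ ω f x = 1 := by
    intro x
    constructor
    · rintro ⟨⟨y, hy⟩, hyk, rfl⟩
      exact ⟨hy, congrArg Prod.fst hyk, congrArg Prod.snd hyk⟩
    · rintro ⟨hx, h1, h2⟩
      exact ⟨⟨x, hx⟩, Prod.ext h1 h2, rfl⟩
  have hlt : S' < S := by
    refine lt_of_le_of_ne (map_subtype_le _) fun h => hef ?_
    exact ((hmem f).mp (h.symm ▸ hf)).2.1
  -- every element of `S` is a product of an element of `S'` and one of `⟨e, f⟩`
  have hsplit : ∀ y ∈ S, ∃ a b : E, (a = 1 ∨ a = e) ∧ (b = 1 ∨ b = f) ∧ y * a * b ∈ S' := by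
    intro y hy
    obtain ⟨a, ha, haS, hay⟩ : ∃ a, (a = 1 ∨ a = e) ∧ a ∈ S ∧ ω f (y * a) = 1 := by
      rcases pair_val ω hexp f y with h | h
      · exact ⟨1, Or.inl rfl, one_mem S, by rw [mul_one, h]⟩
      · exact ⟨e, Or.inr rfl, he, by rw [map_mul, h, hfe, neg_mul_neg, one_mul]⟩
    obtain ⟨b, hb, hbS, hby⟩ : ∃ b, (b = 1 ∨ b = f) ∧ b ∈ S ∧ ω e (y * a * b) = 1 := by
      rcases pair_val ω hexp e (y * a) with h | h
      · exact ⟨1, Or.inl rfl, one_mem S, by rw [mul_one, h]⟩
      · exact ⟨f, Or.inr rfl, hf, by rw [map_mul, h, hef', neg_mul_neg, one_mul]⟩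
    refine ⟨a, b, ha, hb, (hmem _).mpr ⟨mul_mem (mul_mem hy haS) hbS, hby, ?_⟩⟩
    rw [map_mul, hay, one_mul]
    rcases hb with rfl | rfl
    · exact map_one _
    · exact halt _
  obtain ⟨n, hn⟩ := ih S' hlt fun x hx h => by
    obtain ⟨hxS, hxe, hxf⟩ := (hmem x).mp hx
    refine hS x hxS fun y hy => ?_
    obtain ⟨a, b, ha, hb, hy'⟩ := hsplit y hy
    have h1 := h _ hy'
    rw [map_mul, map_mul] at h1
    have ha1 : ω x a = 1 := by
      rcases ha with rfl | rfl
      · exact map_one _
      · rw [pair_comm ω hexp halt]; exact hxe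
    have hb1 : ω x b = 1 := by
      rcases hb with rfl | rfl
      · exact map_one _
      · rw [pair_comm ω hexp halt]; exact hxf
    rwa [ha1, hb1, mul_one, mul_one] at h1
  have hrange : Nat.card φ.range = 4 := by
    have hne : (1 : kˣ) ≠ -1 := fun h => hef (hef'.trans h.symm)
    have : (φ.range : Set (kˣ × kˣ)) = {(1, 1), (1, -1), (-1, 1), (-1, -1)} := by
      refine Set.eq_of_subset_of_subset ?_ ?_
      · rintro _ ⟨y, rfl⟩
        rcases pair_val ω hexp e (y : E) with h1 | h1 <;>
          rcases pair_val ω hexp f (y : E) with h2 | h2 <;> simp [φ, h1, h2]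
      · rintro x (rfl | rfl | rfl | rfl)
        · exact one_mem φ.range
        · exact ⟨⟨e, he⟩, by simp [φ, halt, hfe]⟩
        · exact ⟨⟨f, hf⟩, by simp [φ, halt, hef']⟩
        · exact ⟨⟨e * f, mul_mem he hf⟩, by simp [φ, halt, hef', hfe]⟩
    rw [show Nat.card φ.range = Nat.card (φ.range : Set (kˣ × kˣ)) from rfl, Nat.card_coe_set_eq, this]
    rw [Set.ncard_insert_of_notMem (by simp [hne]), Set.ncard_insert_of_notMem (by simp [hne, hne.symm]),
      Set.ncard_insert_of_notMem (by simp [hne, hne.symm]), Set.ncard_singleton]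
  refine ⟨2 * n, ?_⟩
  rw [← card_mul_index φ.ker, index_ker, hrange,
    ← card_map_of_injective (f := S.subtype) S.subtype_injective, ← hS', hn]
  ring

end Square

variable [Finite E]

theorem eq_one_of_coprime {G : Type*} [Group G] {g : G} {n m : ℕ} (h : g ^ n = 1) (hm : g ^ m = 1)
    (hc : n.Coprime m) : g = 1 := by
  rw [← orderOf_eq_one_iff]
  exact Nat.eq_one_of_dvd_coprimes hc (orderOf_dvd_of_pow_eq_one h) (orderOf_dvd_of_pow_eq_one hm)

/-- Arithmetic of the exceptional case. -/
theorem arith {p m c N : ℕ} (hm : 0 < m) (hpm : p = 2 ^ m + 1) (hc : 0 < c) (h1 : p * c ≤ N)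
    (h2 : N ≤ c + 2 * m) (heven : 2 ∣ N) : False := by
  have key : c * 2 ^ m ≤ 2 * m := by
    have : c * 2 ^ m + c = p * c := by rw [hpm]; ring
    omega
  have h2m : 2 ^ m ≤ 2 * m := (Nat.le_mul_of_pos_left _ hc).trans key
  have hm2 : m ≤ 2 := by
    by_contra h
    have : 2 * m < 2 ^ m := by
      have key : ∀ j, 2 * (3 + j) < 2 ^ (3 + j) := by
        intro j
        induction j with
        | zero => norm_num
        | succ j ih => rw [← Nat.add_assoc, pow_succ]; omega
      have := key (m - 3)
      rwa [show 3 + (m - 3) = m by omega] at this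
    omega
  interval_cases m <;> (norm_num at key hpm; subst hpm; omega)

/-- The exceptional case. -/
theorem exceptional {p m : ℕ} [Fact p.Prime] (hm : 0 < m) (hpm : p = 2 ^ m + 1)
    (ω : E →* E →* kˣ) (hexp : ∀ e : E, e * e = 1) (halt : ∀ e, ω e e = 1)
    (hnd : ∀ e, (∀ f, ω e f = 1) → e = 1) (b : MulAut E) (hb : b ^ p = 1)
    (hbω : ∀ e f, ω (b e) (b f) = ω e f)
    (hidx : (MonoidHom.eqLocus b.toMonoidHom (MonoidHom.id E)).index = 2 ^ (2 * m))
    (X : Subgroup (MulAut E)) (hcomm : ∀ x ∈ X, ∀ y ∈ X, x * y = y * x)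
    (hnorm : ∀ x ∈ X, b * x * b⁻¹ ∈ X) (hXω : ∀ x ∈ X, ∀ e f, ω (x e) (x f) = ω e f)
    (hX2 : ¬ 2 ∣ Nat.card X) (hXp : ¬ p ∣ Nat.card X) :
    ∀ x ∈ X, b * x = x * b ∧ ∀ e, x (e⁻¹ * b e) = e⁻¹ * b e := by
  classical
  have hp : p.Prime := Fact.out
  have hp2 : p ≠ 2 := by
    intro h
    have : 2 ≤ 2 ^ m := Nat.le_self_pow hm.ne' 2
    omega
  set C := MonoidHom.eqLocus b.toMonoidHom (MonoidHom.id E) with hC
  let _ : CommGroup X := { (inferInstance : Group X) with mul_comm := fun a b => Subtype.ext (hcomm a a.2 b b.2) }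
  let δ : X →* X :=
    { toFun := fun x => ⟨(x : MulAut E)⁻¹ * (b * x * b⁻¹), mul_mem (inv_mem x.2) (hnorm x x.2)⟩
      map_one' := Subtype.ext (by simp)
      map_mul' := fun x y => Subtype.ext (by
        show ((x : MulAut E) * y)⁻¹ * (b * ((x : MulAut E) * y) * b⁻¹) =
          (x : MulAut E)⁻¹ * (b * x * b⁻¹) * ((y : MulAut E)⁻¹ * (b * y * b⁻¹))
        have hc := hcomm _ (inv_mem y.2) _ (mul_mem (inv_mem x.2) (hnorm x x.2))
        rw [mul_inv_rev, ← mul_assoc _ ((y : MulAut E)⁻¹), ← hc]
        simp [mul_assoc]) }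
  set X1 := δ.range.map X.subtype with hX1
  have hX1le : X1 ≤ X := map_subtype_le _
  have hcard1 : Nat.card X1 ∣ Nat.card X := card_dvd_of_le hX1le
  have hnorm1 : ∀ x ∈ X1, b * x * b⁻¹ ∈ X1 := by
    rintro _ ⟨_, ⟨y, rfl⟩, rfl⟩
    refine ⟨δ ⟨b * y * b⁻¹, hnorm y y.2⟩, ⟨_, rfl⟩, ?_⟩
    show (b * (y : MulAut E) * b⁻¹)⁻¹ * (b * (b * y * b⁻¹) * b⁻¹) =
      b * ((y : MulAut E)⁻¹ * (b * y * b⁻¹)) * b⁻¹
    simp [mul_assoc]
  have hfpf1 : ∀ x ∈ X1, b * x = x * b → x = 1 := by
    rintro _ ⟨_, ⟨y, rfl⟩, rfl⟩ hxb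
    set x : MulAut E := (X.subtype (δ y)) with hx
    have hx' : x = (y : MulAut E)⁻¹ * (b * y * b⁻¹) := rfl
    have hxp : x ^ p = 1 := by
      have key : ∀ n : ℕ, (y : MulAut E) * x ^ n = b ^ n * y * (b ^ n)⁻¹ := by
        intro n
        induction n with
        | zero => simp
        | succ n ih =>
          have hb1 : b * x * b⁻¹ = x := by rw [hxb, mul_inv_cancel_right]
          have hbn : b * x ^ n * b⁻¹ = x ^ n := by
            have : (MulAut.conj b) (x ^ n) = x ^ n := by rw [map_pow]; exact congrArg (· ^ n) hb1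
            exact this
          calc (y : MulAut E) * x ^ (n + 1) = (y : MulAut E) * x * x ^ n := by rw [pow_succ', mul_assoc]
            _ = b * y * b⁻¹ * (b * x ^ n * b⁻¹) := by rw [hbn, hx']; simp [mul_assoc]
            _ = b * (y * x ^ n) * b⁻¹ := by simp [mul_assoc]
            _ = _ := by rw [ih, pow_succ' b]; simp [mul_assoc]
      have := key p
      rw [hb, one_mul, inv_one, mul_one] at this
      exact mul_left_cancel (a := (y : MulAut E)) (this.trans (mul_one _).symm)
    refine eq_one_of_coprime hxp (m := Nat.card X) ?_ (hp.coprime_iff_not_dvd.mpr hXp)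
    exact congrArg Subtype.val (pow_card_eq_one' (G := X) (x := δ y))
  -- `X1` acts trivially
  let _ := Fintype.ofFinite X1
  let nrm : E →* E :=
    { toFun := fun e => ∏ x : X1, (x : MulAut E) e
      map_one' := by simp
      map_mul' := fun e f => by simp [Finset.prod_mul_distrib] }
  set D0 := nrm.ker with hD0
  have hnfix : ∀ e, ∀ x ∈ X1, x (nrm e) = nrm e := by
    intro e x hx
    show x (∏ y : X1, (y : MulAut E) e) = _
    rw [map_prod]
    exact Fintype.prod_equiv (Equiv.mulLeft (⟨x, hx⟩ : X1)) _ _ fun y => rfl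
  have hD0X : ∀ x ∈ X1, ∀ e ∈ D0, x e ∈ D0 := by
    intro x hx e he
    refine (?_ : nrm (x e) = 1)
    have : nrm (x e) = nrm e := Fintype.prod_equiv (Equiv.mulRight (⟨x, hx⟩ : X1)) _ _ fun y => rfl
    rw [this]
    exact he
  have hD0b : ∀ e ∈ D0, b e ∈ D0 := by
    intro e he
    refine (?_ : nrm (b e) = 1)
    have : nrm (b e) = b (nrm e) := by
      show ∏ y : X1, (y : MulAut E) (b e) = b (∏ y : X1, (y : MulAut E) e)
      rw [map_prod]
      let cj : X1 → X1 := fun x => ⟨b * x * b⁻¹, hnorm1 x x.2⟩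
      have hbij : Function.Bijective cj := Finite.injective_iff_bijective.mp fun u v h =>
        Subtype.ext (by simpa [cj] using congrArg Subtype.val h)
      refine (Fintype.prod_equiv (Equiv.ofBijective cj hbij) _ _ fun y => ?_).symm
      simp [cj]
    rw [this, show nrm e = 1 from he, map_one]
  have htriv : ∀ x ∈ X1, ∀ e, x e = e := by
    by_cases hbot : D0 = ⊥
    · intro x hx e
      have hodd : Odd (Nat.card X1) :=
        Nat.odd_iff.mpr (Nat.two_dvd_ne_zero.mp fun h => hX2 (h.trans hcard1))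
      have hne : nrm e = e := by
        have h0 : e * nrm e ∈ D0 := by
          show nrm (e * nrm e) = 1
          have : nrm (nrm e) = nrm e ^ Nat.card X1 := by
            show ∏ y : X1, (y : MulAut E) (nrm e) = _
            rw [Finset.prod_congr rfl fun (y : X1) _ => hnfix e y y.2, Finset.prod_const,
              Finset.card_univ, Nat.card_eq_fintype_card]
          obtain ⟨j, hj⟩ := hodd
          rw [map_mul, this, hj, pow_succ, pow_mul, pow_two, hexp, one_pow, one_mul, hexp]
        rw [hbot, mem_bot] at h0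
        calc nrm e = (e * e) * nrm e := by rw [hexp, one_mul]
          _ = e * (e * nrm e) := mul_assoc _ _ _
          _ = e := by rw [h0, mul_one]
      rw [← hne]
      exact hnfix e x hx
    exfalso
    let res : ∀ a : MulAut E, (∀ e ∈ D0, a e ∈ D0) → MulAut D0 := fun a ha =>
      MulEquiv.ofBijective
        ({ toFun := fun e => ⟨a e, ha e e.2⟩
           map_one' := Subtype.ext (map_one a)
           map_mul' := fun u v => Subtype.ext (map_mul a (u : E) (v : E)) } : D0 →* D0)
        (Finite.injective_iff_bijective.mp fun u v h =>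
          Subtype.ext (a.injective (congrArg Subtype.val h)))
    let r1 : X1 →* MulAut D0 :=
      MonoidHom.mk' (fun x => res x (hD0X x x.2)) fun x y => MulEquiv.ext fun e => Subtype.ext rfl
    let b0 : MulAut D0 := res b hD0b
    have hb0 : b0 ^ p = 1 := by
      have key : ∀ n (e : D0), (((b0 ^ n) e : D0) : E) = (b ^ n) e := by
        intro n
        induction n with
        | zero => intro e; rfl
        | succ n ih => intro e; rw [pow_succ' b0, pow_succ' b, MulAut.mul_apply, MulAut.mul_apply, ← ih]; rfl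
      exact MulEquiv.ext fun e => Subtype.ext (by rw [key, hb]; rfl)
    have hcard0 : Nat.card r1.range ∣ Nat.card X := (card_range_dvd r1).trans hcard1
    have hexp2 : ∀ e : D0, e ^ 2 = 1 := fun e => Subtype.ext (by
      show (e : E) ^ 2 = 1
      rw [pow_two]; exact hexp _)
    obtain ⟨h1, h2⟩ := OrbitBound.card_fixed_pow_le (l := 2) (p := p) hp2 hexp2 b0 hb0 r1.range
      (by
        rintro _ ⟨x, rfl⟩ _ ⟨y, rfl⟩
        rw [← map_mul, ← map_mul]
        exact congrArg r1 (Subtype.ext (hcomm _ (hX1le x.2) _ (hX1le y.2))))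
      (by
        rintro _ ⟨x, rfl⟩
        refine ⟨⟨b * x * b⁻¹, hnorm1 x x.2⟩, ?_⟩
        rw [eq_mul_inv_iff_mul_eq]
        refine MulEquiv.ext fun e => Subtype.ext ?_
        show (b * (x : MulAut E) * b⁻¹) (b e) = b ((x : MulAut E) e)
        simp)
      (by
        rintro _ ⟨x, rfl⟩ hxb
        have hz : r1 ⟨b * x * b⁻¹, hnorm1 x x.2⟩ = r1 x := by
          refine MulEquiv.ext fun e => Subtype.ext ?_
          obtain ⟨e', rfl⟩ := b0.surjective e
          have := congrArg (fun a : MulAut D0 => ((a e' : D0) : E)) hxb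
          show (b * (x : MulAut E) * b⁻¹) (b e') = (x : MulAut E) (b e')
          simp only [MulAut.mul_apply, MulAut.inv_apply_self]
          exact this
        -- the norm of `x` over `⟨b⟩` is trivial
        let cj : X1 →* X1 :=
          { toFun := fun x => ⟨b * x * b⁻¹, hnorm1 x x.2⟩
            map_one' := Subtype.ext (by simp)
            map_mul' := fun x y => Subtype.ext (by simp [mul_assoc]) }
        let _ : CommGroup X1 := { (inferInstance : Group X1) with
          mul_comm := fun a b => Subtype.ext (hcomm a (hX1le a.2) b (hX1le b.2)) }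
        let a : ℕ → X1 := fun i => (cj^[i]) x
        have hr : ∀ i, r1 (a i) = r1 x := by
          intro i
          induction i with
          | zero => rfl
          | succ i ih =>
            show r1 (cj^[i + 1] x) = r1 x
            rw [Function.iterate_succ_apply']
            refine MulEquiv.ext fun e => Subtype.ext ?_
            have e1 := congrArg (fun A : MulAut D0 => ((A (b0.symm e) : D0) : E)) ih
            have e2 := congrArg (fun A : MulAut D0 => ((A e : D0) : E)) hz
            refine Eq.trans ?_ e2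
            show (b * (a i : MulAut E) * b⁻¹) e = (b * (x : MulAut E) * b⁻¹) e
            simp only [MulAut.mul_apply]
            have hbe : b⁻¹ (e : E) = ((b0.symm e : D0) : E) := by
              obtain ⟨e', rfl⟩ := b0.surjective e
              rw [MulEquiv.symm_apply_apply]
              show b⁻¹ (b e') = e'
              rw [MulAut.inv_apply_self]
            rw [hbe]
            exact congrArg b e1
        have hap : a p = a 0 := by
          have key : ∀ n, ((a n : X1) : MulAut E) = b ^ n * x * (b ^ n)⁻¹ := by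
            intro n
            induction n with
            | zero => simp [a]
            | succ n ih =>
              show ((cj^[n + 1] x : X1) : MulAut E) = _
              rw [Function.iterate_succ_apply']
              show b * ((a n : X1) : MulAut E) * b⁻¹ = _
              rw [ih, pow_succ' b]
              simp [mul_assoc]
          exact Subtype.ext (by rw [key, key, hb, pow_zero])
        have hN : (∏ i ∈ Finset.range p, a i : X1) = 1 := by
          set N := ∏ i ∈ Finset.range p, a i with hNdef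
          have hfix : cj N = N := by
            rw [hNdef, map_prod, ← OrbitBound.prod_range_shift a p hap]
            exact Finset.prod_congr rfl fun i _ => (Function.iterate_succ_apply' cj i x).symm
          refine Subtype.ext (hfpf1 _ N.2 ?_)
          exact mul_inv_eq_iff_eq_mul.mp (congrArg Subtype.val hfix)
        have hxp : r1 x ^ p = 1 := by
          have hprod : ∀ n, r1 (∏ i ∈ Finset.range n, a i) = r1 x ^ n := by
            intro n
            induction n with
            | zero => simp
            | succ n ih => rw [Finset.prod_range_succ, map_mul, ih, hr, pow_succ]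
          rw [← hprod, hN, map_one]
        refine eq_one_of_coprime hxp (m := Nat.card X) ?_ (hp.coprime_iff_not_dvd.mpr hXp)
        obtain ⟨j, hj⟩ := hcard1
        rw [hj, ← map_pow, pow_mul, pow_card_eq_one', one_pow, map_one])
      (fun h => hX2 (h.trans hcard0)) (fun h => hXp (h.trans hcard0))
      (by
        intro e he
        refine eq_one_of_coprime (n := 2) (m := Nat.card X1) (hexp2 e) (Subtype.ext ?_)
          (Nat.prime_two.coprime_iff_not_dvd.mpr fun h => hX2 (h.trans hcard1))
        have h1 : nrm (e : E) = 1 := e.2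
        have h2 : nrm (e : E) = (e : E) ^ Nat.card X1 := by
          show ∏ x : X1, (x : MulAut E) (e : E) = _
          refine (Finset.prod_congr (g := fun _ => (e : E)) rfl fun (x : X1) _ =>
            congrArg Subtype.val (he (r1 x) ⟨x, rfl⟩)).trans ?_
          rw [Finset.prod_const, Finset.card_univ, Nat.card_eq_fintype_card]
        rw [Subgroup.coe_pow, OneMemClass.coe_one, ← h2, h1])
    -- `D0` is nondegenerate
    have hsq := card_square ω hexp halt D0 fun e he hf => by
      refine hnd e fun f => ?_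
      have hfix : ω e (nrm f) = 1 := by
        have hc : (ω e (nrm f)) ^ Nat.card X1 = 1 := by
          have : ∏ x : X1, ω ((x : MulAut E) e) (nrm f) = 1 := by
            rw [← MonoidHom.finsetProd_apply, ← map_prod]
            show ω (nrm e) (nrm f) = 1
            rw [show nrm e = 1 from he, map_one, MonoidHom.one_apply]
          rw [← this, Nat.card_eq_fintype_card, ← Finset.card_univ, ← Finset.prod_const]
          refine Finset.prod_congr rfl fun x _ => ?_
          rw [← hXω x (hX1le x.2) e (nrm f), hnfix f x x.2]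
        refine eq_one_of_coprime (n := 2) ?_ hc
          (Nat.prime_two.coprime_iff_not_dvd.mpr fun h => hX2 (h.trans hcard1))
        rw [← map_pow, pow_two, hexp, map_one]
      have hmem : f * nrm f ∈ D0 := by
        show nrm (f * nrm f) = 1
        have : nrm (nrm f) = nrm f ^ Nat.card X1 := by
          show ∏ y : X1, (y : MulAut E) (nrm f) = _
          rw [Finset.prod_congr rfl fun (y : X1) _ => hnfix f y y.2, Finset.prod_const, Finset.card_univ,
            Nat.card_eq_fintype_card]
        obtain ⟨j, hj⟩ : Odd (Nat.card X1) :=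
          Nat.odd_iff.mpr (Nat.two_dvd_ne_zero.mp fun h => hX2 (h.trans hcard1))
        rw [map_mul, this, hj, pow_succ, pow_mul, pow_two, hexp, one_pow, one_mul, hexp]
      have := hf _ hmem
      rwa [map_mul, hfix, mul_one] at this
    set C0 := MonoidHom.eqLocus b0.toMonoidHom (MonoidHom.id D0) with hC0
    have : Fact (Nat.Prime 2) := ⟨Nat.prime_two⟩
    have hpg : IsPGroup 2 E := fun e => ⟨1, by rw [pow_one, pow_two]; exact hexp e⟩
    obtain ⟨N, hN⟩ := IsPGroup.iff_card.mp (hpg.to_subgroup D0)
    obtain ⟨c, hc⟩ := IsPGroup.iff_card.mp ((hpg.to_subgroup D0).to_subgroup C0)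
    have heven : 2 ∣ N := by
      obtain ⟨n, hn⟩ := hsq
      rw [hN] at hn
      obtain ⟨i, -, hi⟩ := (Nat.dvd_prime_pow Nat.prime_two).mp (show n ∣ 2 ^ N from ⟨n, hn⟩)
      rw [hi, ← pow_add] at hn
      exact ⟨i, by have := Nat.pow_right_injective (le_refl 2) hn; omega⟩
    have hcne : 0 < c := by
      have := h2 (D0.nontrivial_iff_ne_bot.mpr hbot)
      rw [hc] at this
      rcases Nat.eq_zero_or_pos c with h | h
      · rw [h] at this; simp at this
      · exact h
    have hidx0 : C0.index ≤ 2 ^ (2 * m) := by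
      rw [← hidx]
      have hC0eq : C0 = C.subgroupOf D0 := by
        ext e
        show b0 e = e ↔ b (e : E) = (e : E)
        exact ⟨fun h => congrArg Subtype.val h, fun h => Subtype.ext h⟩
      rw [hC0eq]
      exact Nat.le_of_dvd (Nat.pos_of_ne_zero index_ne_zero_of_finite) (relIndex_dvd_index_of_normal C D0)
    have hmul := C0.card_mul_index
    rw [hc, hN] at hmul
    rw [hc, hN, ← pow_mul] at h1
    refine arith hm hpm hcne (by
      have := (Nat.pow_le_pow_iff_right (le_refl 2)).mp h1
      linarith) ?_ heven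
    refine (Nat.pow_le_pow_iff_right (le_refl 2)).mp ?_
    rw [pow_add, ← hmul]
    exact Nat.mul_le_mul_left _ hidx0
  -- so `X` commutes with `b`
  have hxb : ∀ x ∈ X, b * x = x * b := by
    intro x hx
    have h1 : (δ ⟨x, hx⟩ : MulAut E) = 1 :=
      MulEquiv.ext fun e => htriv _ (mem_map_of_mem _ ⟨⟨x, hx⟩, rfl⟩) e
    have h2 : x⁻¹ * (b * x * b⁻¹) = 1 := h1
    rw [inv_mul_eq_one] at h2
    exact (eq_mul_inv_iff_mul_eq.mp h2).symm
  intro x hx
  refine ⟨hxb x hx, ?_⟩
  -- `x` is the identity on `D1 = [E, b]`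
  let dm : E →* E :=
    { toFun := fun e => e⁻¹ * b e
      map_one' := by simp
      map_mul' := fun u v => by
        simp only [map_mul, mul_inv_rev]
        ac_rfl }
  set D1 := dm.range with hD1
  have hker : dm.ker = C := by
    ext e
    show e⁻¹ * b e = 1 ↔ b e = e
    rw [inv_mul_eq_one, eq_comm]
  have hD1card : Nat.card D1 = 2 ^ (2 * m) := by rw [hD1, ← index_ker, hker, hidx]
  have hD1b : ∀ e ∈ D1, b e ∈ D1 := by
    rintro _ ⟨e, rfl⟩
    exact ⟨b e, by show (b e)⁻¹ * b (b e) = b (e⁻¹ * b e); rw [map_mul, map_inv]⟩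
  have hD1x : ∀ e ∈ D1, x e ∈ D1 := by
    rintro _ ⟨e, rfl⟩
    refine ⟨x e, ?_⟩
    show (x e)⁻¹ * b (x e) = x (e⁻¹ * b e)
    rw [map_mul, map_inv, ← MulAut.mul_apply, hxb x hx, MulAut.mul_apply]
  -- pairing with fixed points is trivial
  have horth : ∀ d ∈ D1, ∀ c, b c = c → ω d c = 1 := by
    rintro _ ⟨e, rfl⟩ c hc
    show ω (e⁻¹ * b e) c = 1
    rw [map_mul, MonoidHom.mul_apply, map_inv, MonoidHom.inv_apply]
    conv_lhs => arg 2; rw [← hc]
    rw [hbω, inv_mul_cancel]
  have hsplit : ∀ e : E, ∃ c, b c = c ∧ e * c ∈ D1 := by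
    intro e
    let P := ∏ i ∈ Finset.range p, (b ^ i) e
    have hPfix : b P = P := by
      show b (∏ i ∈ Finset.range p, (b ^ i) e) = _
      rw [map_prod]
      simp only [← MulAut.mul_apply, ← pow_succ']
      exact OrbitBound.prod_range_shift (fun n => (b ^ n) e) p (by simp [hb])
    refine ⟨P, hPfix, ?_⟩
    have hi : ∀ i, e * (b ^ i) e ∈ D1 := by
      intro i
      induction i with
      | zero => simp [hexp]
      | succ i ih =>
        have e2 : (b ^ i) e * b ((b ^ i) e) ∈ D1 :=
          ⟨(b ^ i) e, by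
            show ((b ^ i) e)⁻¹ * b ((b ^ i) e) = _
            rw [inv_eq_of_mul_eq_one_right (hexp _)]⟩
        rw [pow_succ', MulAut.mul_apply]
        have : e * b ((b ^ i) e) = (e * (b ^ i) e) * ((b ^ i) e * b ((b ^ i) e)) := by
          rw [mul_assoc, ← mul_assoc ((b ^ i) e) ((b ^ i) e), hexp, one_mul]
        rw [this]
        exact mul_mem ih e2
    have hind : ∀ n, e ^ n * ∏ i ∈ Finset.range n, (b ^ i) e ∈ D1 := by
      intro n
      induction n with
      | zero => simp
      | succ n ih =>
        rw [Finset.prod_range_succ, pow_succ, mul_mul_mul_comm]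
        exact mul_mem ih (hi n)
    have hep : e ^ p = e := by
      obtain ⟨j, hj⟩ := hp.odd_of_ne_two hp2
      rw [hj, pow_succ, pow_mul, pow_two, hexp, one_pow, one_mul]
    rw [show e * P = e ^ p * P by rw [hep]]
    exact hind p
  have hnd1 : ∀ d ∈ D1, (∀ f ∈ D1, ω d f = 1) → d = 1 := by
    intro d hd h
    refine hnd d fun f => ?_
    obtain ⟨c, hc, hfc⟩ := hsplit f
    have := h _ hfc
    rwa [map_mul, horth d hd c hc, mul_one] at this
  have hfpfD1 : ∀ d ∈ D1, b d = d → d = 1 := fun d hd h =>
    hnd1 d hd fun f hf => by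
      rw [pair_comm ω hexp halt]
      exact horth f hf d h
  -- the module structure over the subring generated by `b`
  have hD1ne : D1 ≠ ⊥ := by
    intro h
    rw [h, Subgroup.card_bot] at hD1card
    exact absurd hD1card.symm (Nat.one_lt_pow (by omega) one_lt_two).ne'
  obtain ⟨u₀, hu₀, hu₀1⟩ := D1.bot_or_exists_ne_one.resolve_left hD1ne
  let B : AddMonoid.End (Additive E) := MonoidHom.toAdditive b.toMonoidHom
  let R0 := Subring.closure ({B} : Set (AddMonoid.End (Additive E)))
  let M : Subgroup E :=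
    { carrier := {v | ∃ P ∈ R0, P (Additive.ofMul u₀) = Additive.ofMul v}
      one_mem' := ⟨0, zero_mem _, rfl⟩
      mul_mem' := fun {u v} ⟨P, hP, hPu⟩ ⟨P', hP', hP'v⟩ => ⟨P + P', add_mem hP hP', by
        show P (Additive.ofMul u₀) + P' (Additive.ofMul u₀) = _
        rw [hPu, hP'v]; rfl⟩
      inv_mem' := fun {u} ⟨P, hP, hPu⟩ => ⟨-P, neg_mem hP, by
        show -(P (Additive.ofMul u₀)) = _
        rw [hPu]; rfl⟩ }
  have hPD1 : ∀ P ∈ R0, ∀ v ∈ D1, Additive.toMul (P (Additive.ofMul v)) ∈ D1 := by
    intro P hP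
    induction hP using Subring.closure_induction with
    | mem z hz => rw [Set.mem_singleton_iff.mp hz]; exact fun v hv => hD1b v hv
    | zero => exact fun v hv => one_mem D1
    | one => exact fun v hv => hv
    | add P P' _ _ h h' => exact fun v hv => mul_mem (h v hv) (h' v hv)
    | neg P _ h => exact fun v hv => inv_mem (h v hv)
    | mul P P' _ _ h h' => exact fun v hv => h _ (h' v hv)
  have hMle : M ≤ D1 := by
    rintro v ⟨P, hP, hPv⟩
    have := hPD1 P hP u₀ hu₀
    rwa [hPv] at this
  have hMeq : M = D1 := by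
    refine eq_of_le_of_card_ge hMle ?_
    have : Fact (Nat.Prime 2) := ⟨Nat.prime_two⟩
    obtain ⟨j, hj⟩ := IsPGroup.iff_card.mp
      ((show IsPGroup 2 E from fun e => ⟨1, by rw [pow_one, pow_two]; exact hexp e⟩).to_subgroup M)
    have hMb : ∀ v ∈ M, b v ∈ M := by
      rintro v ⟨P, hP, hPv⟩
      exact ⟨B * P, mul_mem (Subring.subset_closure rfl) hP, by
        show B (P (Additive.ofMul u₀)) = _
        rw [hPv]; rfl⟩
    -- `b` permutes `M` with one fixed point, so `p` divides `|M| - 1`
    let _ : MulAction (zpowers b) M :=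
      { smul := fun g v => ⟨(g : MulAut E) v, by
          obtain ⟨n, hn⟩ := (IsOfFinOrder.mem_powers_iff_mem_zpowers (isOfFinOrder_iff_pow_eq_one.mpr
            ⟨p, hp.pos, hb⟩)).mpr g.2
          have : ∀ n v, v ∈ M → (b ^ n) v ∈ M := by
            intro n
            induction n with
            | zero => intro v hv; simpa using hv
            | succ n ih => intro v hv; rw [pow_succ', MulAut.mul_apply]; exact hMb _ (ih v hv)
          rw [← hn]
          exact this n v v.2⟩
        one_smul := fun v => rfl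
        mul_smul := fun g g' v => rfl }
    have hbp : IsPGroup p (zpowers b) := by
      intro g
      refine ⟨1, Subtype.ext ?_⟩
      obtain ⟨n, hn⟩ := g.2
      rw [Subgroup.coe_pow, ← hn, pow_one, ← zpow_natCast, ← zpow_mul, mul_comm, zpow_mul, zpow_natCast,
        hb, one_zpow, Subgroup.coe_one]
    have hmod := hbp.card_modEq_card_fixedPoints M
    have hfx : Nat.card (MulAction.fixedPoints (zpowers b) M) = 1 := by
      rw [Nat.card_eq_one_iff_unique]
      refine ⟨⟨fun u v => ?_⟩, ⟨⟨1, fun g => Subtype.ext (map_one (g : MulAut E))⟩⟩⟩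
      have h1 : ∀ w : MulAction.fixedPoints (zpowers b) M, ((w : M) : E) = 1 := fun w =>
        hfpfD1 _ (hMle (w : M).2) (congrArg Subtype.val (w.2 ⟨b, mem_zpowers b⟩))
      exact Subtype.ext (Subtype.ext ((h1 u).trans (h1 v).symm))
    rw [hfx, hj] at hmod
    rw [hD1card, hj]
    have hj0 : j ≠ 0 := by
      rintro rfl
      rw [pow_zero] at hj
      have : u₀ ∈ M := ⟨1, one_mem _, rfl⟩
      rw [Subgroup.card_eq_one.mp hj] at this
      exact hu₀1 this
    refine Nat.pow_le_pow_right two_pos ?_
    by_contra hlt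
    have hd : p ∣ 2 ^ j - 1 := (Nat.modEq_iff_dvd' Nat.one_le_two_pow).mp hmod.symm
    have h2j : 1 < 2 ^ j := Nat.one_lt_pow hj0 one_lt_two
    rcases le_or_gt j m with hjm | hjm
    · have := Nat.le_of_dvd (by omega) hd
      have := Nat.pow_le_pow_right two_pos hjm
      omega
    · obtain ⟨i, rfl⟩ : ∃ i, j = m + i := ⟨j - m, by omega⟩
      have hd2 : p ∣ 2 ^ i + 1 := by
        have h3 : p ∣ 2 ^ i * p := Dvd.intro_left _ rfl
        have e : 2 ^ i * p = (2 ^ (m + i) - 1) + (2 ^ i + 1) := by
          rw [hpm, mul_add, mul_one, ← pow_add, add_comm i m]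
          omega
        rw [e] at h3
        exact (Nat.dvd_add_right hd).mp h3
      have := Nat.le_of_dvd (Nat.succ_pos _) hd2
      have := Nat.pow_lt_pow_right one_lt_two (show i < m by omega)
      omega
  -- `x` agrees with some `P` on `D1`
  obtain ⟨P, hP, hPx⟩ : ∃ P ∈ R0, P (Additive.ofMul u₀) = Additive.ofMul (x u₀) := by
    have : x u₀ ∈ M := hMeq.symm ▸ hD1x u₀ hu₀
    exact this
  let Xe : AddMonoid.End (Additive E) := MonoidHom.toAdditive x.toMonoidHom
  have hXB : Commute Xe B := AddMonoidHom.ext fun v =>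
    congrArg Additive.ofMul (show x (b v.toMul) = b (x v.toMul) by
      rw [← MulAut.mul_apply, ← hxb x hx, MulAut.mul_apply])
  have hcommR : ∀ Q ∈ R0, Commute Xe Q ∧ Commute B Q := by
    intro Q hQ
    induction hQ using Subring.closure_induction with
    | mem z hz => rw [Set.mem_singleton_iff.mp hz]; exact ⟨hXB, Commute.refl B⟩
    | zero => exact ⟨Commute.zero_right _, Commute.zero_right _⟩
    | one => exact ⟨Commute.one_right _, Commute.one_right _⟩
    | add Q Q' _ _ h h' => exact ⟨h.1.add_right h'.1, h.2.add_right h'.2⟩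
    | neg Q _ h => exact ⟨h.1.neg_right, h.2.neg_right⟩
    | mul Q Q' _ _ h h' => exact ⟨h.1.mul_right h'.1, h.2.mul_right h'.2⟩
  have hRcomm : ∀ Q ∈ R0, ∀ Q' ∈ R0, Commute Q Q' := by
    intro Q hQ Q' hQ'
    induction hQ' using Subring.closure_induction with
    | mem z hz => rw [Set.mem_singleton_iff.mp hz]; exact (hcommR Q hQ).2.symm
    | zero => exact Commute.zero_right _
    | one => exact Commute.one_right _
    | add Q Q' _ _ h h' => exact h.add_right h'
    | neg Q _ h => exact h.neg_right
    | mul Q Q' _ _ h h' => exact h.mul_right h'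
  have hxP : ∀ v ∈ D1, P (Additive.ofMul v) = Additive.ofMul (x v) := by
    intro v hv
    obtain ⟨P', hP', hP'v⟩ : ∃ P' ∈ R0, P' (Additive.ofMul u₀) = Additive.ofMul v := by
      have : v ∈ M := hMeq.symm ▸ hv
      exact this
    rw [← hP'v]
    show (P * P') (Additive.ofMul u₀) = _
    rw [(hRcomm P hP P' hP').eq]
    show P' (P (Additive.ofMul u₀)) = _
    rw [hPx]
    have h4 := congrArg (fun f : AddMonoid.End (Additive E) => f (Additive.ofMul u₀)) (hcommR P' hP').1.eq
    show P' (Xe (Additive.ofMul u₀)) = _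
    rw [show P' (Xe (Additive.ofMul u₀)) = Xe (P' (Additive.ofMul u₀)) from h4.symm, hP'v]
    rfl
  let W : Additive E → Additive E → kˣ := fun a c => ω a.toMul c.toMul
  have h2 : (2 : AddMonoid.End (Additive E)) = 0 := AddMonoidHom.ext fun v => by
    rw [← one_add_one_eq_two]
    show (Additive.ofMul (v.toMul * v.toMul)) = 0
    rw [hexp]; rfl
  have hadj : ∀ Q ∈ R0, ∀ a c, W (Q a) c = W a ((Q ^ 2 ^ m) c) := by
    intro Q hQ
    induction hQ using Subring.closure_induction with
    | mem z hz =>
      rw [Set.mem_singleton_iff.mp hz]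
      intro a c
      show ω (b a.toMul) c.toMul = ω a.toMul ((B ^ 2 ^ m) c).toMul
      have hpow : ∀ n (c : Additive E), ((B ^ n) c).toMul = (b ^ n) c.toMul := by
        intro n
        induction n with
        | zero => intro c; rfl
        | succ n ih => intro c; rw [pow_succ' B, pow_succ' b, MulAut.mul_apply, ← ih]; rfl
      rw [hpow, ← hbω a.toMul ((b ^ 2 ^ m) c.toMul), ← MulAut.mul_apply, ← pow_succ', ← hpm, hb]
      rfl
    | zero =>
      intro a c
      rw [zero_pow (Nat.two_pow_pos m).ne']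
      show ω 1 c.toMul = ω a.toMul 1
      rw [map_one, MonoidHom.one_apply, map_one]
    | one => intro a c; rw [one_pow]; rfl
    | add Q Q' hQm hQ'm h h' =>
      intro a c
      have hpow : ∀ j : ℕ, (Q + Q') ^ 2 ^ j = Q ^ 2 ^ j + Q' ^ 2 ^ j := by
        intro j
        induction j with
        | zero => simp
        | succ j ih =>
          have hc : Commute (Q ^ 2 ^ j) (Q' ^ 2 ^ j) := (hRcomm Q hQm Q' hQ'm).pow_pow _ _
          rw [pow_succ, pow_mul, ih, pow_two, add_mul, mul_add, mul_add, ← hc.eq,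
            pow_mul, pow_mul, pow_two, pow_two]
          have e : ∀ z : AddMonoid.End (Additive E), z + z = 0 := fun z => by
            rw [← two_mul, h2, zero_mul]
          rw [add_assoc (Q ^ 2 ^ j * Q ^ 2 ^ j), ← add_assoc (Q ^ 2 ^ j * Q' ^ 2 ^ j), e, zero_add]

      rw [hpow]
      show ω ((Q a).toMul * (Q' a).toMul) c.toMul =
        ω a.toMul (((Q ^ 2 ^ m) c).toMul * ((Q' ^ 2 ^ m) c).toMul)
      rw [map_mul, MonoidHom.mul_apply, map_mul]
      exact congrArg₂ (· * ·) (h a c) (h' a c)
    | neg Q _ h =>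
      intro a c
      have : -Q = Q := by
        rw [neg_eq_iff_add_eq_zero, ← two_mul, h2, zero_mul]
      rw [this]
      exact h a c
    | mul Q Q' hQm hQ'm h h' =>
      intro a c
      rw [(hRcomm Q hQm Q' hQ'm).mul_pow, (((hRcomm Q hQm Q' hQ'm).pow_pow (2 ^ m) (2 ^ m))).eq]
      show W (Q (Q' a)) c = W a ((Q' ^ 2 ^ m) ((Q ^ 2 ^ m) c))
      rw [h, h']
  intro e
  have hd : e⁻¹ * b e ∈ D1 := ⟨e, rfl⟩
  have hPpow : ∀ n, ∀ v ∈ D1, (P ^ n) (Additive.ofMul v) = Additive.ofMul ((x ^ n) v) := by
    intro n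
    induction n with
    | zero => intro v _; rfl
    | succ n ih =>
      intro v hv
      rw [pow_succ P, pow_succ x, MulAut.mul_apply, ← ih (x v) (hD1x v hv), ← hxP v hv]
      rfl
  have hxp : ∀ v ∈ D1, (x ^ p) v = v := by
    intro v hv
    have hxpD1 : (x ^ p) v ∈ D1 := by
      have : ∀ n, (x ^ n) v ∈ D1 := by
        intro n
        induction n with
        | zero => exact hv
        | succ n ih => rw [pow_succ', MulAut.mul_apply]; exact hD1x _ ih
      exact this p
    have : ((x ^ p) v) * v⁻¹ = 1 := hnd1 _ (mul_mem hxpD1 (inv_mem hv)) fun f hf => by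
      rw [pair_comm ω hexp halt, map_mul, map_inv, mul_inv_eq_one]
      have h3 := hadj P hP (Additive.ofMul f) (Additive.ofMul (x v))
      rw [hxP f hf, hPpow _ (x v) (hD1x v hv)] at h3
      have h4 : ω (x f) (x v) = ω f ((x ^ 2 ^ m) (x v)) := h3
      rw [hXω x hx, ← MulAut.mul_apply, ← pow_succ, ← hpm] at h4
      exact h4.symm
    rwa [mul_inv_eq_one] at this
  obtain ⟨j, hj⟩ := exists_pow_eq_self_of_coprime (x := x) (n := p)
    ((hp.coprime_iff_not_dvd.mpr fun h => hXp (h.trans (X.orderOf_dvd_natCard hx))))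
  have : ∀ j v, v ∈ D1 → ((x ^ p) ^ j) v = v := by
    intro j
    induction j with
    | zero => intro v _; rfl
    | succ j ih => intro v hv; rw [pow_succ, MulAut.mul_apply, hxp v hv, ih v hv]
  have h5 := this j _ hd
  rwa [hj] at h5

end Cfsg.Agent.Coprime.PQExcept
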