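import Cfsg.Agent.Coprime.PQTower
import Cfsg.Agent.Coprime.LinRep
import Cfsg.Agent.Coprime.External
import Cfsg.Agent.Cores.Fitting

/-!
Solvable groups with a fixed-point-free action of a nonabelian group of order `p q`: the quotient by
the Fitting subgroup is nilpotent.
-/

namespace Cfsg.Agent.Coprime.PQFitting

open Subgroup SemidirectProduct
open Cfsg
open scoped commutatorElement

variable {G : Type*} [Group G] [Finite G]

/-- Elements of prime power order in `F(G)` lie in the corresponding core. -/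
theorem mem_pCore_of_mem_fitting {t : ℕ} [Fact t.Prime] {P : Subgroup G} (hP : IsPGroup t P)
    (hle : P ≤ fittingSubgroup G) : P ≤ pCore t G :=
  Cores.le_pCore_of_le_sup hP (hle.trans (Cores.iSup_pCore_eq_fittingSubgroup.le.trans
    (Cores.iSup_pCore_le_sup t)))

/-- A normal subgroup centralizing every `O_t(G)`, `t ≠ r`, which is an `r`-group modulo `F(G)` lies
in `F(G)`. -/
theorem le_fitting_of_centralizes {r : ℕ} (hr : r.Prime) (M : Subgroup G) [M.Normal]
    (hcen : ∀ t : ℕ, t.Prime → t ≠ r → M ≤ centralizer (pCore t G : Set G))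
    (hpow : ∀ g ∈ M, ∃ n, g ^ r ^ n ∈ fittingSubgroup G) : M ≤ fittingSubgroup G := by
  have : Fact r.Prime := ⟨hr⟩
  refine Cores.le_fittingSubgroup (Group.of_quotient_center_nilpotent ?_)
  refine IsPGroup.isNilpotent (p := r) fun x => ?_
  obtain ⟨g, rfl⟩ := QuotientGroup.mk_surjective x
  obtain ⟨n, hn⟩ := hpow g g.2
  set f := (g : G) ^ r ^ n with hf
  -- the `r`-part of the order of `f`
  obtain ⟨j, m, hm, hjm⟩ := Nat.exists_eq_pow_mul_and_not_dvd (orderOf_pos f).ne' r hr.ne_one
  refine ⟨n + j, ?_⟩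
  rw [← QuotientGroup.mk_pow, QuotientGroup.eq_one_iff, Subgroup.mem_center_iff]
  intro z
  refine Subtype.ext ?_
  set f' := f ^ r ^ j with hf'
  have hle : zpowers f' ≤ centralizer (M : Set G) := by
    refine le_of_forall_sylow_le fun t ht P hPle hP => ?_
    by_cases hPbot : P = ⊥
    · rw [hPbot]; exact bot_le
    have : Fact t.Prime := ⟨ht⟩
    have htr : t ≠ r := by
      rintro rfl
      obtain ⟨i, hi⟩ := IsPGroup.iff_card.mp hP
      have h1 : Nat.card P ∣ orderOf f' := by rw [← Nat.card_zpowers]; exact card_dvd_of_le hPle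
      have h2 : orderOf f' = m := by
        rw [hf', orderOf_pow' _ (pow_ne_zero _ hr.pos.ne'), hjm,
          Nat.gcd_eq_right (Dvd.intro m rfl), Nat.mul_div_cancel_left _ (pow_pos hr.pos _)]
      rw [hi, h2] at h1
      rcases Nat.eq_zero_or_pos i with h0 | h0
      · exact hPbot (card_eq_one.mp (by rw [hi, h0, pow_zero]))
      · exact hm ((dvd_pow_self _ h0.ne').trans h1)
    have hPF : P ≤ fittingSubgroup G := hPle.trans (zpowers_le.mpr (pow_mem hn _))
    exact (mem_pCore_of_mem_fitting hP hPF).trans (le_centralizer_iff.mp (hcen t ht htr))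
  have h3 := mem_centralizer_iff.mp (hle (mem_zpowers f')) z z.2
  show (z : G) * ((g : G) ^ r ^ (n + j)) = (g : G) ^ r ^ (n + j) * z
  rw [pow_add, pow_mul]
  exact h3

/-- If elements of `t`-power order centralize `O_s` for `t ≠ s`, the group is nilpotent (solvable case). -/
theorem isNilpotent_of_centralizes [Group.IsSolvable G]
    (h : ∀ r s : ℕ, r.Prime → s.Prime → r ≠ s → ∀ R : Sylow r G,
      (R : Subgroup G) ≤ centralizer (pCore s G : Set G)) : Group.IsNilpotent G := by
  rw [← Cores.fittingSubgroup_eq_top_iff]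
  refine Cores.eq_top_of_sylow_le fun r hr P => ?_
  set M : Subgroup G := ⨅ t : {t : ℕ // t.Prime ∧ t ≠ r}, centralizer (pCore (t : ℕ) G : Set G) with hM
  have hMn : M.Normal := Subgroup.normal_iInf_normal fun t => inferInstance
  have hPM : (P : Subgroup G) ≤ M := le_iInf fun t => h r t hr.out t.2.1 (Ne.symm t.2.2) P
  refine hPM.trans (le_fitting_of_centralizes hr.out M
    (fun t ht htr => iInf_le (fun t : {t : ℕ // t.Prime ∧ t ≠ r} => centralizer (pCore (t : ℕ) G : Set G))
      ⟨t, ht, htr⟩) fun g hg => ?_)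
  obtain ⟨j, m, hm, hjm⟩ := Nat.exists_eq_pow_mul_and_not_dvd (orderOf_pos g).ne' r hr.out.ne_one
  refine ⟨j, Cores.centralizer_fittingSubgroup_le ?_⟩
  rw [Cores.iSup_pCore_eq_fittingSubgroup]
  rw [← SetLike.mem_coe]
  suffices ∀ t : Nat.Primes, pCore (t : ℕ) G ≤ centralizer ({g ^ r ^ j} : Set G) by
    refine mem_centralizer_iff.mpr fun x hx => ?_
    exact ((mem_centralizer_singleton_iff.mp ((iSup_le this) hx))).symm ▸ rfl
  intro t x hx
  rw [mem_centralizer_singleton_iff]
  by_cases htr : (t : ℕ) = r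
  · have hle : zpowers (g ^ r ^ j) ≤ centralizer (pCore (t : ℕ) G : Set G) := by
      refine le_of_forall_sylow_le fun u hu Q hQle hQ => ?_
      by_cases hQbot : Q = ⊥
      · rw [hQbot]; exact bot_le
      have : Fact u.Prime := ⟨hu⟩
      have hur : u ≠ r := by
        rintro rfl
        obtain ⟨i, hi⟩ := IsPGroup.iff_card.mp hQ
        have h1 : Nat.card Q ∣ orderOf (g ^ u ^ j) := by rw [← Nat.card_zpowers]; exact card_dvd_of_le hQle
        rw [hi, orderOf_pow' _ (pow_ne_zero _ hu.pos.ne'), hjm, Nat.gcd_eq_right (Dvd.intro m rfl),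
          Nat.mul_div_cancel_left _ (pow_pos hu.pos _)] at h1
        rcases Nat.eq_zero_or_pos i with h0 | h0
        · exact hQbot (card_eq_one.mp (by rw [hi, h0, pow_zero]))
        · exact hm ((dvd_pow_self u h0.ne').trans h1)
      obtain ⟨S, hS⟩ := hQ.exists_le_sylow
      exact hS.trans (h u t hu t.2 (htr ▸ hur) S)
    exact mem_centralizer_iff.mp (hle (mem_zpowers _)) x hx
  · exact mem_centralizer_iff.mp (pow_mem ((iInf_le
      (fun t : {t : ℕ // t.Prime ∧ t ≠ r} => centralizer (pCore (t : ℕ) G : Set G))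
      ⟨t, t.2, htr⟩) hg) _) x hx

variable {A : Type*} [Group A] [Finite A] [MulDistribMulAction A G]

omit [Finite G] [Finite A] in
/-- The conjugate of `inl g` by `inr a`. -/
theorem inr_comm_iff (a : A) (g : G) :
    (inr a : Ext A G) * inl g * (inr a)⁻¹ = inl g ↔ a • g = g := by
  rw [inr_conj_inl]
  exact inl_injective.eq_iff

/-- The main theorem. -/
theorem fitting_quotient_isNilpotent [Group.IsSolvable G] {p q : ℕ} (hp : p.Prime) (hq : q.Prime)
    (hA : Nat.card A = p * q) (hna : ¬ IsMulCommutative A) (hcop : (Nat.card A).Coprime (Nat.card G))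
    (hfpf : ∀ g : G, (∀ a : A, a • g = g) → g = 1) :
    Group.IsNilpotent (G ⧸ fittingSubgroup G) := by
  classical
  let _ := Fintype.ofFinite A
  have hsolv : Group.IsSolvable A ∨ Group.IsSolvable G := Or.inr inferInstance
  have hne : ∀ t : ℕ, t.Prime → t ∣ Nat.card G → t ≠ p ∧ t ≠ q := by
    intro t ht hd
    constructor <;>
    · rintro rfl
      exact ht.ne_one (Nat.eq_one_of_dvd_coprimes hcop (hA ▸ by simp) hd)
  set F := fittingSubgroup G with hF
  refine isNilpotent_of_centralizes fun r s hr hs hrs R' => ?_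
  have : Fact r.Prime := ⟨hr⟩
  have : Fact s.Prime := ⟨hs⟩
  set π := QuotientGroup.mk' F with hπ
  have hπs : Function.Surjective π := QuotientGroup.mk'_surjective F
  set S := (pCore s (G ⧸ F)).comap π with hS
  by_cases htriv : ¬ r ∣ Nat.card G ∨ ¬ s ∣ Nat.card G
  · rcases htriv with h | h
    · have : (R' : Subgroup (G ⧸ F)) = ⊥ := by
        rw [← card_eq_one, R'.card_eq_multiplicity, Nat.factorization_eq_zero_of_not_dvd
          (fun hd => h (hd.trans (card_quotient_dvd_card F))), pow_zero]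
      rw [this]; exact bot_le
    · have : pCore s (G ⧸ F) = ⊥ := Cores.pCore_subsingleton_of_coprime
        (((Fact.out : s.Prime).coprime_iff_not_dvd.mpr fun hd => h (hd.trans (card_quotient_dvd_card F))).symm)
      rw [this]
      intro x _
      exact mem_centralizer_iff.mpr fun y hy => by rw [Subgroup.mem_bot.mp hy, one_mul, mul_one]
  push Not at htriv
  -- an invariant Sylow subgroup
  obtain ⟨R, hRinv⟩ := exists_invariant_sylow' (A := A) hcop hsolv r
  have hFinv : IsInvariant A F := fun a x hx => by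
    have := (characteristic_iff_map_eq.mp (inferInstance : F.Characteristic))
      (MulDistribMulAction.toMulAut A G a)
    rw [← this]
    exact mem_map_of_mem _ hx
  have hSinv : IsInvariant A S := by
    intro a x hx
    let e : G ⧸ F ≃* G ⧸ F := QuotientGroup.congr F F (MulDistribMulAction.toMulAut A G a)
      ((characteristic_iff_map_eq.mp (inferInstance : F.Characteristic)) _)
    show π (a • x) ∈ pCore s (G ⧸ F)
    rw [← Cores.pCore_map_mulEquiv e]
    exact ⟨π x, hx, rfl⟩
  -- the kernels on the Frattini quotients of the cores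
  have hSn : S.Normal := inferInstance
  have hker : ∀ l : ℕ, l.Prime → l ≠ s → ∀ x ∈ S, ∀ y ∈ (R : Subgroup G), ∀ b ∈ zpowers ⁅x, y⁆,
      ∀ o ∈ pCore l G, b * o * b⁻¹ * o⁻¹ ∈ (frattini (pCore l G)).map (pCore l G).subtype := by
    intro l hl hls x hx y hy
    have : Fact l.Prime := ⟨hl⟩
    by_cases hld : l ∣ Nat.card G
    swap
    · intro b _ o ho
      rw [Cores.pCore_subsingleton_of_coprime ((hl.coprime_iff_not_dvd.mpr hld).symm), Subgroup.mem_bot] at ho
      rw [ho, mul_one, mul_inv_cancel, inv_one, one_mul]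
      exact one_mem _
    obtain ⟨hlp, hlq⟩ := hne l hl hld
    let Y := Ext A G
    let O := pCore l G
    let Φ := (frattini O).map O.subtype
    have hOl : IsPGroup l O := Cores.pCore_isPGroup
    have hOinv : ∀ (φ : MulAut G), O.map φ.toMonoidHom = O := fun φ => Cores.pCore_map_mulEquiv φ
    have hΦinv : ∀ (φ : MulAut G), ∀ z ∈ Φ, φ z ∈ Φ := by
      rintro φ _ ⟨w, hw, rfl⟩
      let e : O ≃* O := (O.equivMapOfInjective φ.toMonoidHom φ.injective).trans
        (MulEquiv.subgroupCongr (hOinv φ))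
      refine ⟨e w, ?_, rfl⟩
      have := (characteristic_iff_map_eq.mp (frattini_characteristic (G := O))) e
      rw [← this]
      exact mem_map_of_mem _ hw
    have hnorm : ∀ L : Subgroup G, (∀ (φ : MulAut G), ∀ z ∈ L, φ z ∈ L) →
        (L.map (inl : G →* Y)).Normal := by
      intro L hL
      refine ⟨?_⟩
      rintro _ ⟨z, hz, rfl⟩ v
      rw [← SemidirectProduct.inl_left_mul_inr_right v]
      refine ⟨MulAut.conj v.left (MulDistribMulAction.toMulAut A G v.right z), hL _ _ (hL _ z hz), ?_⟩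
      show inl (v.left * (v.right • z) * v.left⁻¹) = _
      rw [map_mul, map_mul, ← inr_conj_inl, map_inv, mul_inv_rev]
      simp only [mul_assoc]
    have : (Φ.map (inl : G →* Y)).Normal := hnorm Φ hΦinv
    have : (O.map (inl : G →* Y)).Normal := hnorm O fun φ z hz => by
      rw [← hOinv φ]; exact mem_map_of_mem _ hz
    set μ := QuotientGroup.mk' (Φ.map (inl : G →* Y)) with hμ
    set N := (O.map (inl : G →* Y)).map μ with hN
    have : N.Normal := ‹(O.map (inl : G →* Y)).Normal›.map _ (QuotientGroup.mk'_surjective _)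
    have hμeq : ∀ g : G, μ (inl g) = 1 ↔ g ∈ Φ := fun g => by
      rw [hμ, QuotientGroup.mk'_apply, QuotientGroup.eq_one_iff]
      exact inl_mem_map
    have hexp : ∀ v ∈ N, v ^ l = 1 := by
      rintro _ ⟨_, ⟨g, hg, rfl⟩, rfl⟩
      rw [← map_pow, ← map_pow, hμeq]
      exact mem_map_of_mem _ (PGroups.pow_mem_frattini hOl ⟨g, hg⟩)
    have : IsMulCommutative N := by
      refine ⟨⟨?_⟩⟩
      rintro ⟨_, _, ⟨g, hg, rfl⟩, rfl⟩ ⟨_, _, ⟨g', hg', rfl⟩, rfl⟩
      refine Subtype.ext ?_
      show μ (inl g) * μ (inl g') = μ (inl g') * μ (inl g)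
      rw [← commutatorElement_eq_one_iff_mul_comm, ← map_commutatorElement (f := μ),
        ← map_commutatorElement (f := (inl : G →* Y)), hμeq]
      exact ⟨⁅(⟨g, hg⟩ : O), ⟨g', hg'⟩⁆, PGroups.commutator_le_frattini hOl
        (Subgroup.commutator_mem_commutator (mem_top _) (mem_top _)), rfl⟩
    let ρ1 : (Y ⧸ Φ.map (inl : G →* Y)) →* Module.End (LinRep.Coeff l) (LinRep.Sp N l) := LinRep.rep N l
    let ρY : Y →* Module.End (LinRep.Coeff l) (LinRep.Sp N l) := ρ1.comp μ
    let K : Subgroup G :=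
      { carrier := {g | ρY (inl g) = 1}
        one_mem' := by show ρY (inl 1) = 1; rw [map_one, map_one]
        mul_mem' := fun {a b} ha hb => by
          show ρY (inl (a * b)) = 1
          rw [map_mul, map_mul, show ρY (inl a) = 1 from ha, show ρY (inl b) = 1 from hb, one_mul]
        inv_mem' := fun {a} ha => by
          show ρY (inl a⁻¹) = 1
          have h1 : ρY (inl (a⁻¹ * a)) = 1 := by rw [inv_mul_cancel, map_one, map_one]
          rwa [map_mul, map_mul, show ρY (inl a) = 1 from ha, mul_one] at h1 }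
    have hKcen : ∀ g ∈ K, ∀ o ∈ O, g * o * g⁻¹ * o⁻¹ ∈ Φ := by
      intro g hg o ho
      have h1 := (LinRep.rep_eq_one_iff N l hexp (μ (inl g))).mp hg
      rw [mem_centralizer_iff] at h1
      have h2 := h1 (μ (inl o)) (mem_map_of_mem _ (mem_map_of_mem _ ho))
      rw [← hμeq, map_mul, map_mul, map_mul, map_inv, map_inv, map_mul, map_mul, map_mul, map_inv, map_inv,
        ← h2, mul_inv_cancel_right, mul_inv_cancel]
    have hFK : F ≤ K := by
      rw [hF, Cores.iSup_pCore_eq_fittingSubgroup]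
      refine iSup_le fun t g hg => ?_
      refine (LinRep.rep_eq_one_iff N l hexp _).mpr (mem_centralizer_iff.mpr ?_)
      rintro _ ⟨_, ⟨o, ho, rfl⟩, rfl⟩
      rw [← commutatorElement_eq_one_iff_mul_comm, ← map_commutatorElement, ← map_commutatorElement, hμeq]
      by_cases htl : (t : ℕ) = l
      · subst htl
        exact ⟨⁅(⟨o, ho⟩ : O), ⟨g, hg⟩⁆, PGroups.commutator_le_frattini hOl
          (Subgroup.commutator_mem_commutator (mem_top _) (mem_top _)), rfl⟩
      · have hc : ⁅o, g⁆ ∈ O ⊓ pCore (t : ℕ) G :=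
          ⟨Subgroup.commutator_le_left _ _ (commutator_mem_commutator ho (mem_top g)),
            Subgroup.commutator_le_right _ _ (commutator_mem_commutator (mem_top o) hg)⟩
        have hbot : O ⊓ pCore (t : ℕ) G = ⊥ := by
          have : Fact (t : ℕ).Prime := ⟨t.2⟩
          exact disjoint_iff.mp (IsPGroup.disjoint_of_ne l (t : ℕ) (Ne.symm htl) _ _ hOl Cores.pCore_isPGroup)
        rw [hbot] at hc
        rw [Subgroup.mem_bot.mp hc]
        exact one_mem _
    have hKinv : IsInvariant A K := by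
      intro a g hg
      show ρY (inl (a • g)) = 1
      rw [← inr_conj_inl, map_mul, map_mul, show ρY (inl g) = 1 from hg, mul_one, ← map_mul, mul_inv_cancel,
        map_one]
    -- the tower
    let Y2 := Y ⧸ ρY.ker
    let ν : Y →* Y2 := QuotientGroup.mk' ρY.ker
    let ρ2 : Y2 →* Module.End (LinRep.Coeff l) (LinRep.Sp N l) := QuotientGroup.lift ρY.ker ρY le_rfl
    let α2 : A →* Y2 := ν.comp inr
    have hν : ∀ g : G, ν (inl g) = 1 ↔ g ∈ K := fun g =>
      (QuotientGroup.eq_one_iff _).trans MonoidHom.mem_ker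
    have hfix : ∀ L : Subgroup G, IsInvariant A L → ∀ v ∈ (L.map (inl : G →* Y)).map ν,
        (∀ a, α2 a * v = v * α2 a) → v = 1 := by
      rintro L hL _ ⟨_, ⟨g, hg, rfl⟩, rfl⟩ hv
      have hg' : ∀ a : A, g⁻¹ * a • g ∈ K := by
        intro a
        rw [← hν, map_mul, map_mul, map_inv, map_inv, ← inr_conj_inl, map_mul, map_mul, map_inv,
          show ν (inr a) = α2 a from rfl, hv a, mul_inv_cancel_right, inv_mul_cancel]
      obtain ⟨c, hc, hcK⟩ := exists_fixed_mem_coset hcop hsolv hKinv hg'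
      rw [hfpf c hc, mul_one] at hcK
      exact (hν g).mpr (inv_mem_iff.mp hcK)
    have hmapnorm : ∀ L : Subgroup G, IsInvariant A L → ∀ a,
        α2 a ∈ normalizer (((L.map (inl : G →* Y)).map ν : Subgroup Y2) : Set Y2) := by
      intro L hL a
      refine mem_normalizer_of_map_conj ?_
      have h1 : ((L.map (inl : G →* Y)).map (MulAut.conj (inr a : Y)).toMonoidHom) = L.map (inl : G →* Y) := by
        apply le_antisymm
        · rintro _ ⟨_, ⟨g, hg, rfl⟩, rfl⟩
          exact ⟨a • g, hL a g hg, (inr_conj_inl a g).symm⟩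
        · rintro _ ⟨g, hg, rfl⟩
          refine ⟨inl (a⁻¹ • g), mem_map_of_mem _ (hL a⁻¹ g hg), ?_⟩
          show inr a * inl (a⁻¹ • g) * (inr a)⁻¹ = inl g
          rw [inr_conj_inl, smul_inv_smul]
      refine Eq.trans ?_ (congrArg (Subgroup.map ν) h1)
      refine (Subgroup.map_map _ _ _).trans (Eq.trans ?_ (Subgroup.map_map _ _ _).symm)
      congr 1
    have hyp : PQTower.Hyp ρ2 α2 p q r s ((S.map (inl : G →* Y)).map ν)
        (((R : Subgroup G).map (inl : G →* Y)).map ν) := by
      refine ⟨hp, hq, hr, hs, hA, hrs, (hne r hr htriv.1).1, (hne r hr htriv.1).2, (hne s hs htriv.2).1,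
        (hne s hs htriv.2).2, ?_, ?_, ?_, ?_, ?_, ?_, hmapnorm S hSinv, hmapnorm _ hRinv, ?_,
        hfix S hSinv, hfix _ hRinv, ?_⟩
      · exact fun h => hls ((Nat.prime_dvd_prime_iff_eq hl hs).mp ((CharP.cast_eq_zero_iff _ l s).mp h))
      · exact fun h => hlp ((Nat.prime_dvd_prime_iff_eq hl hp).mp ((CharP.cast_eq_zero_iff _ l p).mp h))
      · exact fun h => hlq ((Nat.prime_dvd_prime_iff_eq hl hq).mp ((CharP.cast_eq_zero_iff _ l q).mp h))
      · refine LinRep.sum_rep_eq_zero N l (μ.comp inr) ?_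
        rintro _ ⟨_, ⟨g, hg, rfl⟩, rfl⟩ hv
        have hΦA : IsInvariant A Φ := fun a z hz => hΦinv (MulDistribMulAction.toMulAut A G a) z hz
        have hg' : ∀ a : A, g⁻¹ * a • g ∈ Φ := by
          intro a
          rw [← hμeq, map_mul, map_mul, map_inv, map_inv, ← inr_conj_inl, map_mul, map_mul, map_inv,
            show μ (inr a) * μ (inl g) = μ (inl g) * μ (inr a) from hv a, mul_inv_cancel_right,
            inv_mul_cancel]
        obtain ⟨c, hc, hcΦ⟩ := exists_fixed_mem_coset hcop hsolv hΦA hg'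
        rw [hfpf c hc, mul_one] at hcΦ
        exact (hμeq g).mpr (inv_mem_iff.mp hcΦ)
      · rintro ⟨_, _, ⟨g, hg, rfl⟩, rfl⟩
        obtain ⟨n, hn⟩ := Cores.pCore_isPGroup (p := s) (G := G ⧸ F) ⟨π g, hg⟩
        refine ⟨n, Subtype.ext ?_⟩
        show ν (inl g) ^ s ^ n = 1
        rw [← map_pow, ← map_pow, hν]
        exact hFK ((QuotientGroup.eq_one_iff _).mp (congrArg Subtype.val hn))
      · exact (R.isPGroup'.map _).map _
      · rintro _ ⟨_, ⟨g, hg, rfl⟩, rfl⟩
        refine mem_normalizer_of_map_conj ?_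
        have hSn : S.map (MulAut.conj g).toMonoidHom = S :=
          map_conj_eq (by rw [Subgroup.normalizer_eq_top_iff.mpr (inferInstance : S.Normal)]; trivial)
        refine Eq.trans ?_ (congrArg (Subgroup.map ν)
          ((map_conj_inl g S).trans (congrArg (Subgroup.map (inl : G →* Y)) hSn)))
        refine (Subgroup.map_map _ _ _).trans (Eq.trans ?_ (Subgroup.map_map _ _ _).symm)
        congr 1
      · intro v _ hv
        obtain ⟨w, rfl⟩ := QuotientGroup.mk_surjective v
        exact (QuotientGroup.eq_one_iff _).mpr hv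
    have hc := PQTower.le_centralizer_of_hyp hna hyp
    have hxy : ⁅x, y⁆ ∈ K := by
      rw [← hν, map_commutatorElement, map_commutatorElement, commutatorElement_eq_one_iff_mul_comm]
      exact mem_centralizer_iff.mp (hc (mem_map_of_mem _ (mem_map_of_mem _ hy))) _
        (mem_map_of_mem _ (mem_map_of_mem _ hx))
    exact fun b hb o ho => hKcen b (zpowers_le.mpr hxy hb) o ho
  -- conclusion: `⁅S, R⁆ ≤ F`
  set M := S ⊓ ⨅ l : {l : ℕ // l.Prime ∧ l ≠ s}, centralizer (pCore (l : ℕ) G : Set G) with hM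
  have : M.Normal := by
    have h1 : (⨅ l : {l : ℕ // l.Prime ∧ l ≠ s}, centralizer (pCore (l : ℕ) G : Set G)).Normal :=
      Subgroup.normal_iInf_normal fun l => inferInstance
    infer_instance
  have hpowS : ∀ g ∈ S, ∃ n, g ^ s ^ n ∈ F := fun g hg => by
    obtain ⟨n, hn⟩ := Cores.pCore_isPGroup (p := s) (G := G ⧸ F) ⟨π g, hg⟩
    exact ⟨n, (QuotientGroup.eq_one_iff _).mp (congrArg Subtype.val hn)⟩
  have hMF : M ≤ F := le_fitting_of_centralizes hs M
    (fun t ht hts => inf_le_right.trans (iInf_le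
      (fun t : {t : ℕ // t.Prime ∧ t ≠ s} => centralizer (pCore (t : ℕ) G : Set G)) ⟨t, ht, hts⟩))
    (fun g hg => hpowS g hg.1)
  have hcomm : ∀ x ∈ S, ∀ y ∈ (R : Subgroup G), ⁅x, y⁆ ∈ F := by
    intro x hx y hy
    have hgS : ⁅x, y⁆ ∈ S := by
      rw [commutatorElement_def, mul_assoc, mul_assoc, ← mul_assoc y]
      exact mul_mem hx (hSn.conj_mem _ (inv_mem hx) y)
    obtain ⟨n, hn⟩ := hpowS _ hgS
    obtain ⟨j, m, hm, hjm⟩ := Nat.exists_eq_pow_mul_and_not_dvd (orderOf_pos ⁅x, y⁆).ne' s hs.ne_one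
    have hord : orderOf (⁅x, y⁆ ^ m) = s ^ j := by
      have hm0 : m ≠ 0 := by rintro rfl; exact hm (dvd_zero s)
      rw [orderOf_pow' _ hm0, hjm, Nat.gcd_eq_right (Dvd.intro_left _ rfl),
        Nat.mul_div_cancel _ (Nat.pos_of_ne_zero hm0)]
    have h1 : ⁅x, y⁆ ^ m ∈ M := by
      refine ⟨pow_mem hgS _, mem_iInf.mpr ?_⟩
      rintro ⟨l, hl, hls⟩
      have : Fact l.Prime := ⟨hl⟩
      refine le_centralizer_of_frattini (A := zpowers (⁅x, y⁆ ^ m)) (K := pCore l G) ?_ ?_ ?_ (mem_zpowers _)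
      · rw [Subgroup.normalizer_eq_top_iff.mpr (inferInstance : (pCore l G).Normal)]; exact le_top
      · obtain ⟨i, hi⟩ := IsPGroup.iff_card.mp
          ((Cores.pCore_isPGroup (p := l) (G := G)).to_subgroup (frattini (pCore l G)))
        rw [hi, Nat.card_zpowers, hord]
        exact ((Nat.coprime_primes hs hl).mpr (Ne.symm hls)).pow j i
      · exact fun b hb => hker l hl hls x hx y hy b (zpowers_le.mpr (pow_mem (mem_zpowers _) _) hb)
    have hcop2 : Nat.gcd m (s ^ n) = 1 :=
      Nat.Coprime.pow_right n (hs.coprime_iff_not_dvd.mpr hm).symm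
    have h3 := Nat.gcd_eq_gcd_ab m (s ^ n)
    rw [hcop2] at h3
    rw [← zpow_one ⁅x, y⁆, show (1 : ℤ) = (1 : ℕ) from rfl, h3, zpow_add, zpow_mul, zpow_mul, zpow_natCast,
      zpow_natCast]
    exact mul_mem (zpow_mem (hMF h1) _) (zpow_mem hn _)
  have hcen : ((R : Subgroup G).map π) ≤ centralizer (pCore s (G ⧸ F) : Set (G ⧸ F)) := by
    rintro _ ⟨y, hy, rfl⟩
    rw [mem_centralizer_iff]
    intro v hv
    obtain ⟨x, rfl⟩ := hπs v
    rw [← commutatorElement_eq_one_iff_mul_comm, ← map_commutatorElement, hπ, QuotientGroup.mk'_apply,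
      QuotientGroup.eq_one_iff]
    exact hcomm x hv y hy
  -- conjugate to the given Sylow subgroup
  obtain ⟨g, hg⟩ := MulAction.exists_smul_eq (G ⧸ F) (R.mapSurjective hπs) R'
  rw [← hg, Sylow.coe_subgroup_smul]
  intro z hz
  obtain ⟨w, hw, rfl⟩ := hz
  refine mem_centralizer_iff.mpr fun v hv => ?_
  have h5 := mem_centralizer_iff.mp (hcen hw) (g⁻¹ * v * g)
    (by
      have h := (inferInstance : (pCore s (G ⧸ F)).Normal).conj_mem _ hv g⁻¹
      rw [inv_inv] at h
      exact h)
  show v * (g * w * g⁻¹) = g * w * g⁻¹ * v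
  calc v * (g * w * g⁻¹) = g * ((g⁻¹ * v * g) * w) * g⁻¹ := by group
    _ = g * (w * (g⁻¹ * v * g)) * g⁻¹ := by rw [h5]
    _ = g * w * g⁻¹ * v := by group

end Cfsg.Agent.Coprime.PQFitting
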