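import Cfsg.Agent.Coprime.EndBound
import Cfsg.Agent.Coprime.PQCore
import Cfsg.Agent.Coprime.PQExcept
import Cfsg.Agent.Coprime.Centralize
import Cfsg.Agent.PGroups.Basic
import Mathlib.GroupTheory.Abelianization.Defs
import Mathlib.GroupTheory.Frattini
import Mathlib.GroupTheory.Subgroup.Centralizer

/-!
Towers under a fixed-point-free group of order `p q`: if a nonabelian group `A` of order `p q` acts
fixed-point-freely on an `r`-group `R`, an `s`-group `Q` normalized by `R` and a module on which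
`Q` is faithful (coprimely), then `R` centralizes `Q`.
-/

namespace Cfsg.Agent.Coprime.PQTower

open Subgroup
open scoped Classical commutatorElement

variable {k V Y A : Type*} [Field k] [IsAlgClosed k] [AddCommGroup V] [Module k V]
  [FiniteDimensional k V] [Group Y] [Finite Y] [Group A] [Fintype A]

section Dual

variable (k) (Q : Subgroup Y)

/-- Automorphisms of the character group, with the multiplication of its commutative group structure. -/
abbrev CharAut := @MulAut (Q →* kˣ)
  (inferInstance : CommGroup (Q →* kˣ)).toGroup.toMul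

/-- The action of the normalizer on characters of `Q`. -/
def dual : normalizer (Q : Set Y) →* CharAut k Q where
  toFun g :=
    { toFun := fun φ => φ.comp (Subgroup.normalizerMonoidHom Q g⁻¹).toMonoidHom
      invFun := fun φ => φ.comp (Subgroup.normalizerMonoidHom Q g).toMonoidHom
      left_inv := fun φ => MonoidHom.ext fun x => by
        show φ (Subgroup.normalizerMonoidHom Q g⁻¹ (Subgroup.normalizerMonoidHom Q g x)) = φ x
        rw [← MulAut.mul_apply, ← map_mul, inv_mul_cancel, map_one, MulAut.one_apply]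
      right_inv := fun φ => MonoidHom.ext fun x => by
        show φ (Subgroup.normalizerMonoidHom Q g (Subgroup.normalizerMonoidHom Q g⁻¹ x)) = φ x
        rw [← MulAut.mul_apply, ← map_mul, mul_inv_cancel, map_one, MulAut.one_apply]
      map_mul' := fun φ ψ => rfl }
  map_one' := MulEquiv.ext fun φ => MonoidHom.ext fun x => by
    show φ (Subgroup.normalizerMonoidHom Q (1 : normalizer (Q : Set Y))⁻¹ x) = φ x
    rw [inv_one, map_one, MulAut.one_apply]
  map_mul' g h := MulEquiv.ext fun φ => MonoidHom.ext fun x => by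
    show φ (Subgroup.normalizerMonoidHom Q (g * h)⁻¹ x) =
      φ (Subgroup.normalizerMonoidHom Q h⁻¹ (Subgroup.normalizerMonoidHom Q g⁻¹ x))
    rw [← MulAut.mul_apply, ← map_mul, mul_inv_rev]

omit [IsAlgClosed k] [Finite Y] in
theorem nmh_coe (g : normalizer (Q : Set Y)) (x : Q) :
    ((Subgroup.normalizerMonoidHom Q g x : Q) : Y) = (g : Y) * x * (g : Y)⁻¹ := rfl

omit [IsAlgClosed k] [Finite Y] in
theorem dual_apply (g : normalizer (Q : Set Y)) (φ : Q →* kˣ) (x : Q) :
    dual k Q g φ x = φ (Subgroup.normalizerMonoidHom Q g⁻¹ x) := rfl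

instance : Finite (Abelianization Q) := Finite.of_surjective _ QuotientGroup.mk_surjective

theorem finite_dual (hQ : (Nat.card (Abelianization Q) : k) ≠ 0) : Finite (Q →* kˣ) := by
  have := Weights.finite_chars (U := Abelianization Q) hQ
  exact Finite.of_equiv _ (Abelianization.lift (G := Q) (A := kˣ)).symm

theorem card_dual (hQ : (Nat.card (Abelianization Q) : k) ≠ 0) :
    Nat.card (Q →* kˣ) = Nat.card (Abelianization Q) := by
  rw [Nat.card_congr (Abelianization.lift (G := Q) (A := kˣ)), Weights.card_chars hQ]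

end Dual

/-- The hypotheses. -/
structure Hyp (ρ : Y →* Module.End k V) (α : A →* Y) (p q r s : ℕ) (Q R : Subgroup Y) : Prop where
  hp : p.Prime
  hq : q.Prime
  hr : r.Prime
  hs : s.Prime
  card_A : Nat.card A = p * q
  rs : r ≠ s
  rp : r ≠ p
  rq : r ≠ q
  sp : s ≠ p
  sq : s ≠ q
  sk : (s : k) ≠ 0
  pk : (p : k) ≠ 0
  qk : (q : k) ≠ 0
  hsum : ∑ a, ρ (α a) = 0
  hQ : IsPGroup s Q
  hR : IsPGroup r R
  normQ : ∀ a, α a ∈ normalizer (Q : Set Y)
  normR : ∀ a, α a ∈ normalizer (R : Set Y)
  normRQ : R ≤ normalizer (Q : Set Y)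
  fixQ : ∀ x ∈ Q, (∀ a, α a * x = x * α a) → x = 1
  fixR : ∀ x ∈ R, (∀ a, α a * x = x * α a) → x = 1
  faith : ∀ x ∈ Q, ρ x = 1 → x = 1

variable {ρ : Y →* Module.End k V} {α : A →* Y} {p q r s : ℕ} {Q R : Subgroup Y}

theorem Hyp.range_le (h : Hyp ρ α p q r s Q R) : α.range ≤ normalizer (Q : Set Y) := by
  rintro _ ⟨a, rfl⟩; exact h.normQ a

theorem Hyp.range_le' (h : Hyp ρ α p q r s Q R) : α.range ≤ normalizer (R : Set Y) := by
  rintro _ ⟨a, rfl⟩; exact h.normR a

theorem Hyp.coprime_A (h : Hyp ρ α p q r s Q R) {t : ℕ} (ht : t.Prime) (htp : t ≠ p) (htq : t ≠ q)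
    {n : ℕ} : (Nat.card A).Coprime (t ^ n) := by
  rw [h.card_A]
  exact Nat.Coprime.pow_right _ (Nat.Coprime.mul_left ((Nat.coprime_primes h.hp ht).mpr (Ne.symm htp))
    ((Nat.coprime_primes h.hq ht).mpr (Ne.symm htq)))

theorem Hyp.coprime_range_Q (h : Hyp ρ α p q r s Q R) : (Nat.card α.range).Coprime (Nat.card Q) := by
  have : Fact s.Prime := ⟨h.hs⟩
  obtain ⟨n, hn⟩ := IsPGroup.iff_card.mp h.hQ
  rw [hn]
  exact (h.coprime_A h.hs h.sp h.sq).coprime_dvd_left (card_range_dvd α)

theorem Hyp.coprime_range_R (h : Hyp ρ α p q r s Q R) : (Nat.card α.range).Coprime (Nat.card R) := by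
  have : Fact r.Prime := ⟨h.hr⟩
  obtain ⟨n, hn⟩ := IsPGroup.iff_card.mp h.hR
  rw [hn]
  exact (h.coprime_A h.hr h.rp h.rq).coprime_dvd_left (card_range_dvd α)

theorem Hyp.solvable_Q (h : Hyp ρ α p q r s Q R) : Group.IsSolvable Q :=
  have : Fact s.Prime := ⟨h.hs⟩
  have := h.hQ.isNilpotent
  inferInstance

theorem Hyp.solvable_R (h : Hyp ρ α p q r s Q R) : Group.IsSolvable R :=
  have : Fact r.Prime := ⟨h.hr⟩
  have := h.hR.isNilpotent
  inferInstance

theorem Hyp.mono (h : Hyp ρ α p q r s Q R) {Q' R' : Subgroup Y} (hQ : Q' ≤ Q) (hR : R' ≤ R)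
    (h1 : ∀ a, α a ∈ normalizer (Q' : Set Y)) (h2 : ∀ a, α a ∈ normalizer (R' : Set Y))
    (h3 : R' ≤ normalizer (Q' : Set Y)) : Hyp ρ α p q r s Q' R' :=
  { h with
    hQ := h.hQ.to_le hQ
    hR := h.hR.to_le hR
    normQ := h1
    normR := h2
    normRQ := h3
    fixQ := fun x hx => h.fixQ x (hQ hx)
    fixR := fun x hx => h.fixR x (hR hx)
    faith := fun x hx => h.faith x (hQ hx) }

/-- Elements normalizing `Q` and `R` normalize `⁅Q, R⁆`. -/
theorem mem_normalizer_comm {Q R : Subgroup Y} {y : Y} (hQ : y ∈ normalizer (Q : Set Y))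
    (hR : y ∈ normalizer (R : Set Y)) : y ∈ normalizer ((⁅Q, R⁆ : Subgroup Y) : Set Y) := by
  refine mem_normalizer_of_map_conj ?_
  rw [map_commutator, map_conj_eq hQ, map_conj_eq hR]

theorem mem_normalizer_frattini {Q : Subgroup Y} {y : Y} (hy : y ∈ normalizer (Q : Set Y)) :
    y ∈ normalizer ((((frattini Q).map Q.subtype) : Subgroup Y) : Set Y) := by
  refine mem_normalizer_of_map_conj ?_
  have h1 : (MulAut.conj y).toMonoidHom.comp Q.subtype =
      Q.subtype.comp (Subgroup.normalizerMonoidHom Q ⟨y, hy⟩).toMonoidHom := MonoidHom.ext fun x => rfl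
  rw [Subgroup.map_map, h1, ← Subgroup.map_map]
  congr 1
  exact (Subgroup.characteristic_iff_map_eq.mp frattini_characteristic) _

variable (h : Hyp ρ α p q r s Q R)

/-- Restriction of `α` to the normalizer of `Q`. -/
def Hyp.αN : A →* normalizer (Q : Set Y) := α.codRestrict _ h.normQ

/-- The action of `A` on characters of `Q`. -/
def Hyp.αD : A →* CharAut k Q := (dual k Q).comp h.αN

/-- The action of `R` on characters of `Q`. -/
def Hyp.dR : R →* CharAut k Q := (dual k Q).comp (Subgroup.inclusion h.normRQ)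

theorem Hyp.card_ab (h : Hyp ρ α p q r s Q R) :
    ∃ n, Nat.card (Abelianization Q) = s ^ n ∧ (Nat.card (Abelianization Q) : k) ≠ 0 := by
  have : Fact s.Prime := ⟨h.hs⟩
  have hp : IsPGroup s (Abelianization Q) :=
    h.hQ.of_surjective (Abelianization.of (G := Q)) QuotientGroup.mk_surjective
  obtain ⟨n, hn⟩ := IsPGroup.iff_card.mp hp
  exact ⟨n, hn, by rw [hn, Nat.cast_pow]; exact pow_ne_zero _ h.sk⟩

theorem Hyp.conj_dR (a : A) (x : R) :
    h.αD a * h.dR x * (h.αD a)⁻¹ =
      h.dR ⟨α a * x * (α a)⁻¹, (mem_normalizer_iff.mp (h.normR a) _).mp x.2⟩ := by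
  simp only [Hyp.αD, Hyp.dR, MonoidHom.comp_apply]
  rw [← map_inv, ← map_mul, ← map_mul]
  exact congrArg _ (Subtype.ext rfl)

/-- The data for the core lemma, provided `⁅R, R⁆` centralizes `Q`. -/
theorem Hyp.data (hRR : ⁅R, R⁆ ≤ centralizer (Q : Set Y)) : PQCore.Data h.dR.range h.αD := by
  obtain ⟨n, hn, hn0⟩ := h.card_ab
  have := finite_dual k Q hn0
  have hker : ∀ x : R, (x : Y) ∈ centralizer (Q : Set Y) → h.dR x = 1 := by
    intro x hx
    refine MulEquiv.ext fun φ => MonoidHom.ext fun y => ?_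
    refine congrArg φ (Subtype.ext ?_)
    show ((x⁻¹ : R) : Y) * y * (((x⁻¹ : R) : Y))⁻¹ = y
    rw [Subgroup.coe_inv, inv_inv, mul_assoc, mem_centralizer_iff.mp hx y y.2, inv_mul_cancel_left]
  refine ⟨?_, ?_, ?_, ?_, ?_, ?_, ?_⟩
  · rintro _ ⟨x, rfl⟩ _ ⟨y, rfl⟩
    have h1 : h.dR ⁅x, y⁆ = 1 := hker _ (hRR (by
      show ((⁅x, y⁆ : R) : Y) ∈ ⁅R, R⁆
      exact commutator_mem_commutator x.2 y.2))
    rw [map_commutatorElement] at h1
    exact commutatorElement_eq_one_iff_commute.mp h1
  · rintro a _ ⟨x, rfl⟩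
    exact ⟨_, (h.conj_dR a x).symm⟩
  · rintro _ ⟨x, rfl⟩ hfix
    let N := h.dR.ker.map R.subtype
    have hNA : α.range ≤ normalizer (N : Set Y) := by
      rw [le_normalizer_iff]
      rintro _ ⟨a, rfl⟩ _ ⟨y, hy, rfl⟩
      refine ⟨⟨α a * y * (α a)⁻¹, (mem_normalizer_iff.mp (h.normR a) _).mp y.2⟩, ?_, rfl⟩
      show h.dR _ = 1
      rw [← h.conj_dR, show h.dR y = 1 from hy, mul_one, mul_inv_cancel]
    obtain ⟨c, hc, hcN⟩ := exists_centralizer_mem_coset h.range_le' h.coprime_range_R (Or.inr h.solvable_R)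
      (map_subtype_le h.dR.ker) hNA x.2 (by
        rintro _ ⟨a, rfl⟩
        refine ⟨x⁻¹ * ⟨α a * x * (α a)⁻¹, (mem_normalizer_iff.mp (h.normR a) _).mp x.2⟩, ?_, rfl⟩
        show h.dR _ = 1
        rw [map_mul, map_inv, ← h.conj_dR, hfix a, mul_inv_cancel_right, inv_mul_cancel])
    have hc1 : c = 1 := h.fixR c hc.1 fun a => mem_centralizer_iff.mp hc.2 _ ⟨a, rfl⟩
    rw [hc1, mul_one] at hcN
    obtain ⟨y, hy, hyx⟩ := hcN
    have : y = x⁻¹ := Subtype.ext hyx
    have hx : h.dR x⁻¹ = 1 := this ▸ hy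
    rwa [map_inv, inv_eq_one] at hx
  · intro φ hfix
    refine MonoidHom.ext fun x => ?_
    obtain ⟨y, hy⟩ : ∃ y : Q, Abelianization.of y =
        ∏ a, Abelianization.of (Subgroup.normalizerMonoidHom Q (h.αN a) x) :=
      QuotientGroup.mk_surjective _
    have hN : (⁅Q, Q⁆ : Subgroup Y) ≤ Q := commutator_le_left_of_normalizer le_normalizer
    have hymem : (y : Y) ∈ (⁅Q, Q⁆ : Subgroup Y) := by
      obtain ⟨c, hc, hcN⟩ := exists_centralizer_mem_coset h.range_le h.coprime_range_Q
        (Or.inr h.solvable_Q) hN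
        (by rintro _ ⟨a, rfl⟩; exact mem_normalizer_comm (h.normQ a) (h.normQ a)) y.2 (by
          rintro _ ⟨a, rfl⟩
          let z : Q := y⁻¹ * Subgroup.normalizerMonoidHom Q (h.αN a) y
          have hz : z ∈ commutator Q := by
            rw [← Abelianization.ker_of, MonoidHom.mem_ker, map_mul, map_inv, inv_mul_eq_one]
            let g : Abelianization Q →* Abelianization Q :=
              Abelianization.lift (Abelianization.of.comp (Subgroup.normalizerMonoidHom Q (h.αN a)).toMonoidHom)
            have hg : ∀ w, g (Abelianization.of w) = Abelianization.of (Subgroup.normalizerMonoidHom Q (h.αN a) w) :=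
              fun w => Abelianization.lift_apply_of _ _
            rw [← hg, hy, map_prod]
            refine (Fintype.prod_equiv (Equiv.mulLeft a) _ _ fun b => ?_).symm
            rw [hg, ← MulAut.mul_apply, ← map_mul, ← map_mul]
            rfl
          have := mem_map_of_mem Q.subtype hz
          rwa [map_subtype_commutator] at this)
      have hc1 : c = 1 := h.fixQ c hc.1 fun a => mem_centralizer_iff.mp hc.2 _ ⟨a, rfl⟩
      rw [hc1, mul_one] at hcN
      exact inv_mem_iff.mp hcN
    have hy1 : φ y = 1 := by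
      rw [← map_subtype_commutator] at hymem
      obtain ⟨z, hz, hzy⟩ := hymem
      rw [← (Subtype.ext hzy : z = y)]
      exact (Abelianization.commutator_subset_ker φ) hz
    have hprod : φ y = ∏ _a : A, φ x := by
      have := congrArg (Abelianization.lift φ) hy
      rw [Abelianization.lift_apply_of, map_prod] at this
      rw [this]
      refine Finset.prod_congr rfl fun a _ => ?_
      rw [Abelianization.lift_apply_of]
      have hfa := congrArg (fun ψ : Q →* kˣ => ψ x) (hfix a⁻¹)
      rw [← hfa]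
      show φ _ = φ (Subgroup.normalizerMonoidHom Q (h.αN a⁻¹)⁻¹ x)
      rw [map_inv h.αN, inv_inv]
    rw [hy1, Finset.prod_const, Finset.card_univ, ← Nat.card_eq_fintype_card] at hprod
    have : Fact s.Prime := ⟨h.hs⟩
    obtain ⟨j, hj⟩ := IsPGroup.iff_card.mp h.hQ
    refine PQExcept.eq_one_of_coprime hprod.symm (m := Nat.card Q) ?_ ?_
    · rw [← map_pow, pow_card_eq_one', map_one]
    · rw [hj]
      exact h.coprime_A h.hs h.sp h.sq
  · have : Fact r.Prime := ⟨h.hr⟩
    obtain ⟨j, hj⟩ := IsPGroup.iff_card.mp h.hR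
    exact Nat.Coprime.coprime_dvd_right (hj ▸ card_range_dvd h.dR) (h.coprime_A h.hr h.rp h.rq)
  · rw [card_dual k Q hn0, hn]
    exact h.coprime_A h.hs h.sp h.sq
  · have : Fact r.Prime := ⟨h.hr⟩
    obtain ⟨j, hj⟩ := IsPGroup.iff_card.mp h.hR
    rw [card_dual k Q hn0, hn]
    exact ((Nat.coprime_primes h.hr h.hs).mpr h.rs).pow j n |>.coprime_dvd_left (hj ▸ card_range_dvd h.dR)

section WeightLemma

variable {U : Type*} [CommGroup U] [Finite U]

omit h in
/-- Stabilisers of weights of an abelian subgroup invariant under `A`. -/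
theorem weight_stab (hsum : ∑ a, ρ (α a) = 0) (j : U →* Y) (σ : A →* MulAut U)
    (hj : ∀ a u, α a * j u * (α a)⁻¹ = j (σ a u)) (hU : (Nat.card U : k) ≠ 0) (χ : U →* kˣ)
    (hχ : Weights.proj (ρ.comp j) χ ≠ 0) :
    (∃ a, a ≠ 1 ∧ ∀ u, χ (σ a u) = χ u) ∧
      (∑ a ∈ Finset.univ.filter (fun a => ∀ u, χ (σ a u) = χ u), ρ (α a)) *
        Weights.proj (ρ.comp j) χ = 0 := by
  set e := Weights.proj (ρ.comp j) χ with he
  have hg : ∀ a u, ρ (α a) * (ρ.comp j) u = (ρ.comp j) (σ a u) * ρ (α a) := by
    intro a u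
    rw [MonoidHom.comp_apply, MonoidHom.comp_apply, ← map_mul, ← map_mul, ← hj, inv_mul_cancel_right]
  have hterm : ∀ a, e * ρ (α a) * e = if (∀ u, χ (σ a u) = χ u) then ρ (α a) * e else 0 := by
    intro a
    rw [he, mul_assoc, Weights.mul_proj_of_conj (hg a), ← mul_assoc]
    split_ifs with hs
    · have hc : χ.comp (σ a).symm.toMonoidHom = χ := MonoidHom.ext fun u => by
        have := hs ((σ a).symm u)
        rw [MulEquiv.apply_symm_apply] at this
        exact this.symm
      rw [hc, Weights.proj_mul_self hU]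
    · rw [Weights.proj_mul_proj, zero_mul]
      intro hc
      refine hs fun u => ?_
      conv_lhs => rw [hc]
      show χ ((σ a).symm (σ a u)) = χ u
      rw [MulEquiv.symm_apply_apply]
  have hz : (∑ a ∈ Finset.univ.filter (fun a => ∀ u, χ (σ a u) = χ u), ρ (α a)) * e = 0 := by
    have h0 : e * (∑ a, ρ (α a)) * e = 0 := by rw [hsum, mul_zero, zero_mul]
    rw [Finset.mul_sum, Finset.sum_mul, Finset.sum_congr rfl fun a _ => hterm a,
      ← Finset.sum_filter, ← Finset.sum_mul] at h0
    exact h0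
  refine ⟨?_, hz⟩
  by_contra hc
  push Not at hc
  refine hχ ?_
  have hone : Finset.univ.filter (fun a => ∀ u, χ (σ a u) = χ u) = {1} := by
    ext a
    simp only [Finset.mem_filter, Finset.mem_univ, true_and, Finset.mem_singleton]
    constructor
    · intro ha
      by_contra hne
      obtain ⟨u, hu⟩ := hc a hne
      exact hu (ha u)
    · rintro rfl u
      rw [map_one, MulAut.one_apply]
  rwa [hone, Finset.sum_singleton, map_one, map_one, one_mul] at hz

end WeightLemma

omit [IsAlgClosed k] [FiniteDimensional k V] [Finite Y] [Fintype A] h in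
theorem isUnit_rho (y : Y) : IsUnit (ρ y) := (Group.isUnit y).map ρ

set_option maxHeartbeats 2000000 in
omit h in
/-- The main theorem: `R` centralizes `Q`. -/
theorem le_centralizer_of_hyp (hna : ¬ IsMulCommutative A) (h : Hyp ρ α p q r s Q R) :
    R ≤ centralizer (Q : Set Y) := by
  suffices main : ∀ n, ∀ Q R : Subgroup Y, Nat.card Q + Nat.card R = n → Hyp ρ α p q r s Q R →
      R ≤ centralizer (Q : Set Y) from main _ Q R rfl h
  intro n
  induction n using Nat.strong_induction_on with
  | _ n ih =>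
  intro Q R hn h
  have : Fact s.Prime := ⟨h.hs⟩
  have : Fact r.Prime := ⟨h.hr⟩
  rcases eq_or_ne R ⊥ with rfl | hRbot
  · exact bot_le
  have hcardlt : ∀ {H K : Subgroup Y}, H < K → Nat.card H < Nat.card K := by
    intro H K hHK
    refine lt_of_le_of_ne (Nat.le_of_dvd Nat.card_pos (card_dvd_of_le hHK.le)) fun e => ?_
    exact hHK.ne (eq_of_le_of_card_ge hHK.le e.ge)
  have hRR : ⁅R, R⁆ ≤ centralizer (Q : Set Y) := by
    have hlt := commutator_lt_of_isPGroup h.hR h.hR le_normalizer hRbot
    refine ih _ (by have := hcardlt hlt; omega) Q _ rfl (h.mono le_rfl hlt.le h.normQ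
      (fun a => mem_normalizer_comm (h.normR a) (h.normR a)) (hlt.le.trans h.normRQ))
  have hcopRQ : (Nat.card R).Coprime (Nat.card Q) := by
    obtain ⟨i, hi⟩ := IsPGroup.iff_card.mp h.hR
    obtain ⟨j, hj⟩ := IsPGroup.iff_card.mp h.hQ
    rw [hi, hj]
    exact ((Nat.coprime_primes h.hr h.hs).mpr h.rs).pow i j
  have hQR : ⁅Q, R⁆ ≤ Q := commutator_le_left_of_normalizer h.normRQ
  rcases lt_or_eq_of_le hQR with hlt | heq
  · have hR' : R ≤ normalizer ((⁅Q, R⁆ : Subgroup Y) : Set Y) := fun y hy =>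
      mem_normalizer_comm (h.normRQ hy) (le_normalizer hy)
    have := ih _ (by have := hcardlt hlt; omega) _ R rfl (h.mono hlt.le le_rfl
      (fun a => mem_normalizer_comm (h.normQ a) (h.normR a)) h.normR hR')
    exact le_centralizer_of_commutator_le_centralizer h.normRQ hcopRQ (le_centralizer_iff.mp this)
  have hdata := h.data hRR
  obtain ⟨nab, hnab, hab0⟩ := h.card_ab
  have := finite_dual k Q hab0
  by_cases hQab : ⁅Q, Q⁆ = ⊥
  · -- abelian case
    have hcomm : ∀ a b : Q, a * b = b * a := fun a b => Subtype.ext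
      ((mem_centralizer_iff.mp (commutator_eq_bot_iff_le_centralizer.mp hQab b.2)) a a.2)
    let _ : CommGroup Q := { (inferInstance : Group Q) with mul_comm := hcomm }
    have hQk : (Nat.card Q : k) ≠ 0 := by
      obtain ⟨j, hj⟩ := IsPGroup.iff_card.mp h.hQ
      rw [hj, Nat.cast_pow]
      exact pow_ne_zero _ h.sk
    let τ : Q →* Module.End k V := ρ.comp Q.subtype
    let Ω : Set (Q →* kˣ) := {φ | Weights.proj τ φ ≠ 0}
    have htrans : ∀ g : normalizer (Q : Set Y), ∀ φ ∈ Ω, dual k Q g φ ∈ Ω := by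
      intro g φ hφ hzero
      refine hφ ?_
      have hg : ∀ u, ρ (g : Y) * τ u = τ (Subgroup.normalizerMonoidHom Q g u) * ρ (g : Y) := by
        intro u
        show ρ (g : Y) * ρ (u : Y) = ρ ((g : Y) * u * (g : Y)⁻¹) * ρ (g : Y)
        rw [← map_mul, ← map_mul, inv_mul_cancel_right]
      have h1 := Weights.mul_proj_of_conj hg φ
      have hd : φ.comp (Subgroup.normalizerMonoidHom Q g).symm.toMonoidHom = dual k Q g φ :=
        MonoidHom.ext fun u => by
          show φ ((Subgroup.normalizerMonoidHom Q g)⁻¹ u) = φ (Subgroup.normalizerMonoidHom Q g⁻¹ u)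
          rw [map_inv]
      rw [hd, hzero, zero_mul] at h1
      exact (isUnit_rho (g : Y)).mul_right_eq_zero.mp h1
    intro y hy
    rw [mem_centralizer_iff]
    intro x hx
    have key : ∀ φ ∈ Ω, h.dR ⟨y, hy⟩ φ = φ := fun φ hφ =>
      PQCore.fixes hdata h.hp h.hq h.card_A Ω
        (by rintro _ ⟨r₀, rfl⟩ ψ hψ; exact htrans _ ψ hψ)
        (fun a ψ hψ => htrans _ ψ hψ)
        (fun ψ hψ => by
          right
          obtain ⟨⟨a, ha, hfix⟩, -⟩ := weight_stab h.hsum Q.subtype
            ((Subgroup.normalizerMonoidHom Q).comp h.αN) (fun a u => rfl) hQk ψ hψ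
          refine ⟨a, ha, MonoidHom.ext fun u => ?_⟩
          show ψ (Subgroup.normalizerMonoidHom Q (h.αN a)⁻¹ u) = ψ u
          conv_rhs => rw [← MulAut.apply_inv_self Q (Subgroup.normalizerMonoidHom Q (h.αN a)) u]
          rw [map_inv]
          exact (hfix _).symm)
        (MonoidHom.mem_range.mpr ⟨_, rfl⟩) hφ
    set u : Q := ⟨x, hx⟩ with hu
    set g : normalizer (Q : Set Y) := ⟨y, h.normRQ hy⟩ with hg
    have h1 : τ ((Subgroup.normalizerMonoidHom Q g⁻¹ u) * u⁻¹) = 1 := by
      by_contra hne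
      obtain ⟨φ, hφ, hφ1⟩ := Weights.exists_proj_ne_zero_of_act_ne_one hQk hne
      refine hφ1 ?_
      rw [map_mul, map_inv φ, mul_inv_eq_one]
      exact congrArg (fun ψ : Q →* kˣ => ψ u) (key φ hφ)
    have h2 := h.faith _ ((Subgroup.normalizerMonoidHom Q g⁻¹ u) * u⁻¹).2 h1
    have h3 : y⁻¹ * x * y * x⁻¹ = 1 := by
      have h4 : y⁻¹ * x * y⁻¹⁻¹ * x⁻¹ = 1 := h2
      rwa [inv_inv] at h4
    rw [mul_inv_eq_one, mul_assoc, inv_mul_eq_iff_eq_mul] at h3
    exact h3
  exfalso
  -- nonabelian case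
  set Z := (frattini Q).map Q.subtype with hZ
  have hZQ : Z ≤ Q := map_subtype_le _
  have hQne : Q ≠ ⊥ := fun e => hQab (by rw [e, commutator_bot_left])
  have hZlt : Z < Q := by
    refine lt_of_le_of_ne hZQ fun e => ?_
    have htop : frattini Q = ⊤ := by
      rw [hZ] at e
      conv_rhs at e => rw [← Q.range_subtype, MonoidHom.range_eq_map]
      exact map_injective Q.subtype_injective e
    have := frattini_nongenerating (K := (⊥ : Subgroup Q)) (by rw [htop, sup_top_eq])
    refine hQne (eq_bot_iff.mpr fun x hx => ?_)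
    have hx' : (⟨x, hx⟩ : Q) ∈ (⊥ : Subgroup Q) := this.symm ▸ mem_top _
    exact congrArg Subtype.val (Subgroup.mem_bot.mp hx')
  have hZA : ∀ a, α a ∈ normalizer (Z : Set Y) := fun a => mem_normalizer_frattini (h.normQ a)
  have hRZ : R ≤ centralizer (Z : Set Y) := ih _ (by have := hcardlt hZlt; omega) Z R rfl
    (h.mono hZlt.le le_rfl hZA h.normR fun y hy => mem_normalizer_frattini (h.normRQ hy))
  have hQnZ : Q ≤ normalizer (Z : Set Y) := fun y hy => mem_normalizer_frattini (le_normalizer hy)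
  have hQZ : ⁅Q, Z⁆ = ⊥ := by
    have h0 : ⁅Z, R⁆ = ⊥ := commutator_eq_bot_iff_le_centralizer.mpr (le_centralizer_iff.mp hRZ)
    have h1 : ⁅⁅R, Z⁆, Q⁆ = ⊥ := by rw [commutator_comm R Z, h0, commutator_bot_left]
    have h2 : ⁅⁅Z, Q⁆, R⁆ = ⊥ := le_bot_iff.mp
      ((commutator_mono (commutator_le_left_of_normalizer hQnZ) le_rfl).trans h0.le)
    have h3 := commutator_commutator_eq_bot_of_rotate h1 h2
    rwa [heq] at h3
  have hcentral : ∀ z ∈ Z, ∀ x ∈ Q, z * x = x * z := fun z hz x hx =>
    (mem_centralizer_iff.mp (commutator_eq_bot_iff_le_centralizer.mp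
      ((commutator_comm Z Q).trans hQZ) hz) x hx).symm
  let _ : CommGroup Z := { (inferInstance : Group Z) with
    mul_comm := fun a b => Subtype.ext (hcentral a a.2 b (hZQ b.2)) }
  have hcZ : ∀ x u : Q, ((⁅x, u⁆ : Q) : Y) ∈ Z := fun x u =>
    mem_map_of_mem _ (PGroups.commutator_le_frattini h.hQ
      (Subgroup.commutator_mem_commutator (mem_top x) (mem_top u)))
  let cz : Q → Q → Z := fun x u => ⟨((⁅x, u⁆ : Q) : Y), hcZ x u⟩
  have hcz1 : ∀ x y u : Q, cz (x * y) u = cz x u * cz y u := by
    intro x y u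
    refine Subtype.ext ?_
    show ((⁅x * y, u⁆ : Q) : Y) = (⁅x, u⁆ : Q) * (⁅y, u⁆ : Q)
    have e : ((⁅x * y, u⁆ : Q) : Y) = (x : Y) * (⁅y, u⁆ : Q) * (x : Y)⁻¹ * (⁅x, u⁆ : Q) := by
      simp [commutatorElement_def, mul_assoc]
    rw [e, ← hcentral _ (hcZ y u) x x.2, mul_inv_cancel_right, hcentral _ (hcZ y u) _ (⁅x, u⁆ : Q).2]
  have hcz2 : ∀ x u v : Q, cz x (u * v) = cz x u * cz x v := by
    intro x u v
    refine Subtype.ext ?_
    show ((⁅x, u * v⁆ : Q) : Y) = (⁅x, u⁆ : Q) * (⁅x, v⁆ : Q)
    have e : ((⁅x, u * v⁆ : Q) : Y) = (⁅x, u⁆ : Q) * ((u : Y) * (⁅x, v⁆ : Q) * (u : Y)⁻¹) := by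
      simp [commutatorElement_def, mul_assoc]
    rw [e, ← hcentral _ (hcZ x v) u u.2, mul_inv_cancel_right]
  let φh : (Z →* kˣ) → (Q →* Q →* kˣ) := fun χ =>
    MonoidHom.mk' (fun u => MonoidHom.mk' (fun x => χ (cz x u)) fun x y => by rw [hcz1, map_mul])
      fun u v => MonoidHom.ext fun x => by
        show χ (cz x (u * v)) = χ (cz x u) * χ (cz x v)
        rw [hcz2, map_mul]
  have hφ : ∀ χ u x, φh χ u x = χ (cz x u) := fun χ u x => rfl
  have hskew : ∀ χ u x, φh χ u x = (φh χ x u)⁻¹ := by
    intro χ u x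
    rw [hφ, hφ, ← map_inv]
    refine congrArg χ (Subtype.ext ?_)
    show ((⁅x, u⁆ : Q) : Y) = ((⁅u, x⁆ : Q) : Y)⁻¹
    rw [← Subgroup.coe_inv, commutatorElement_inv]
  -- translation of the pairings
  have hequiv : ∀ (g : normalizer (Q : Set Y)) (χ : Z →* kˣ),
      (∀ z z' : Z, (z' : Y) = (g : Y) * z * (g : Y)⁻¹ → χ z' = χ z) →
      ∀ u, dual k Q g (φh χ u) = φh χ (Subgroup.normalizerMonoidHom Q g u) := by
    intro g χ hgχ u
    refine MonoidHom.ext fun x => ?_
    rw [dual_apply, hφ, hφ]
    refine (hgχ _ _ ?_).symm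
    show ((⁅x, Subgroup.normalizerMonoidHom Q g u⁆ : Q) : Y) =
      (g : Y) * ((⁅Subgroup.normalizerMonoidHom Q g⁻¹ x, u⁆ : Q) : Y) * (g : Y)⁻¹
    simp [commutatorElement_def, nmh_coe, mul_assoc]
  have hZk : (Nat.card Z : k) ≠ 0 := by
    obtain ⟨j, hj⟩ := IsPGroup.iff_card.mp (h.hQ.to_le hZQ)
    rw [hj, Nat.cast_pow]
    exact pow_ne_zero _ h.sk
  let τ : Z →* Module.End k V := ρ.comp Z.subtype
  -- `R` fixes all pairings
  have hmain : ∀ χ : Z →* kˣ, Weights.proj τ χ ≠ 0 → ∀ (y : R) (u : Q),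
      h.dR y (φh χ u) = φh χ u := by
    intro χ hχ y u
    by_cases hχ1 : χ = 1
    · subst hχ1
      exact MonoidHom.ext fun x => rfl
    let σZ : A →* MulAut Z :=
      (Subgroup.normalizerMonoidHom Z).comp (α.codRestrict _ hZA)
    obtain ⟨⟨a₀, ha₀, hfix₀⟩, hsum0⟩ := weight_stab h.hsum Z.subtype σZ (fun a z => rfl) hZk χ hχ
    let St : Subgroup A :=
      { carrier := {a | ∀ z, χ (σZ a z) = χ z}
        one_mem' := fun z => by rw [map_one, MulAut.one_apply]
        mul_mem' := fun {a b} ha hb z => by rw [map_mul, MulAut.mul_apply, ha, hb]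
        inv_mem' := fun {a} ha z => by
          conv_rhs => rw [← MulAut.apply_inv_self Z (σZ a) z, ha]
          rw [map_inv] }
    have hStbot : St ≠ ⊥ := fun e => ha₀ ((Subgroup.mem_bot).mp (e ▸ (hfix₀ : a₀ ∈ St)))
    have hSttop : St ≠ ⊤ := by
      intro e
      refine hχ1 (MonoidHom.ext fun z => ?_)
      let N : Z := ∏ a, σZ a z
      have hN : N = 1 := by
        refine Subtype.ext (h.fixQ _ (hZQ N.2) fun b => ?_)
        have : σZ b N = N := by
          rw [show N = ∏ a, σZ a z from rfl, map_prod]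
          exact Fintype.prod_equiv (Equiv.mulLeft b) _ _ fun a => by simp [map_mul]
        exact mul_inv_eq_iff_eq_mul.mp (congrArg Subtype.val this)
      have h1 : χ z ^ Nat.card A = 1 := by
        have := congrArg χ hN
        rw [show N = ∏ a, σZ a z from rfl, map_prod, map_one] at this
        rw [← this, Nat.card_eq_fintype_card, ← Finset.card_univ, ← Finset.prod_const]
        exact Finset.prod_congr rfl fun a _ => ((e ▸ Subgroup.mem_top a : a ∈ St) z).symm
      obtain ⟨j, hj⟩ := IsPGroup.iff_card.mp (h.hQ.to_le hZQ)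
      refine PQExcept.eq_one_of_coprime h1 (m := Nat.card Z) ?_ ?_
      · rw [← map_pow, pow_card_eq_one', map_one]
      · rw [hj]; exact h.coprime_A h.hs h.sp h.sq
    set pb := Nat.card St with hpb
    have hpbp : pb.Prime := PQCore.prime_card_of_ne h.hp h.hq h.card_A hStbot hSttop
    have : Fact pb.Prime := ⟨hpbp⟩
    obtain ⟨b, hbSt, hb1⟩ := St.bot_or_exists_ne_one.resolve_left hStbot
    have hzp : zpowers b = St := by
      refine eq_of_le_of_card_ge (zpowers_le.mpr hbSt) ?_
      exact (((Nat.dvd_prime hpbp).mp (card_dvd_of_le (zpowers_le.mpr hbSt))).resolve_left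
        fun e => hb1 (zpowers_eq_bot.mp (card_eq_one.mp e))).ge
    have hord : orderOf b = pb := by rw [← Nat.card_zpowers, hzp]
    have hpb_or : pb = p ∨ pb = q := by
      have := (St.card_subgroup_dvd_card).trans h.card_A.dvd
      rcases hpbp.dvd_mul.mp this with h1 | h1
      · exact Or.inl ((Nat.prime_dvd_prime_iff_eq hpbp h.hp).mp h1)
      · exact Or.inr ((Nat.prime_dvd_prime_iff_eq hpbp h.hq).mp h1)
    have hsT : ((∑ i ∈ Finset.range pb, ρ (α b) ^ i) * Weights.proj τ χ) = 0 := by
      refine Eq.trans ?_ hsum0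
      congr 1
      have : Finset.univ.filter (fun a => ∀ z, χ (σZ a z) = χ z) = (Finset.range pb).image (b ^ ·) := by
        ext a
        simp only [Finset.mem_filter, Finset.mem_univ, true_and, Finset.mem_image, Finset.mem_range]
        constructor
        · intro ha
          have ha' : a ∈ zpowers b := hzp ▸ ha
          obtain ⟨i, hi⟩ := (IsOfFinOrder.mem_powers_iff_mem_zpowers (isOfFinOrder_of_finite b)).mpr ha'
          refine ⟨i % pb, Nat.mod_lt _ hpbp.pos, ?_⟩
          rw [← hord, pow_mod_orderOf]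
          exact hi
        · rintro ⟨i, -, rfl⟩
          exact St.pow_mem hbSt i
      rw [this, Finset.sum_image]
      · exact Finset.sum_congr rfl fun i _ => by rw [← map_pow, ← map_pow]
      · intro i hi j hj hij
        exact pow_injOn_Iio_orderOf (by simpa [hord] using hi) (by simpa [hord] using hj) hij
    -- the weight space
    set W := LinearMap.range (Weights.proj τ χ) with hW
    have hWne : Nontrivial W := Submodule.nontrivial_iff_ne_bot.mpr (mt LinearMap.range_eq_bot.mp hχ)
    have hWQ : ∀ x : Q, ∀ v ∈ W, ρ (x : Y) v ∈ W := by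
      intro x v hv
      rw [hW, Weights.mem_range_iff hZk] at hv ⊢
      intro z
      show ρ (z : Y) (ρ (x : Y) v) = _
      rw [← Module.End.mul_apply, ← map_mul, hcentral z z.2 x x.2, map_mul, Module.End.mul_apply,
        show ρ (z : Y) v = _ from hv z, map_smul]
    have hWb : ∀ v ∈ W, ρ (α b) v ∈ W := by
      intro v hv
      rw [hW, Weights.mem_range_iff hZk] at hv ⊢
      intro z
      show ρ (z : Y) (ρ (α b) v) = _
      have e : (z : Y) * α b = α b * ((σZ b)⁻¹ z : Z) := by
        have := congrArg Subtype.val (MulAut.apply_inv_self Z (σZ b) z)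
        have e2 : α b * (((σZ b)⁻¹ z : Z) : Y) * (α b)⁻¹ = z := this
        exact (mul_inv_eq_iff_eq_mul.mp e2).symm
      have e3 : ρ (((σZ b)⁻¹ z : Z) : Y) v = (χ ((σZ b)⁻¹ z) : k) • v := hv ((σZ b)⁻¹ z)
      rw [← Module.End.mul_apply, ← map_mul, e, map_mul, Module.End.mul_apply, e3, map_smul]
      congr 2
      conv_rhs => rw [← MulAut.apply_inv_self Z (σZ b) z, hbSt]
    let ρ' : Q →* Module.End k W :=
      { toFun := fun x => (ρ (x : Y)).restrict (hWQ x)
        map_one' := LinearMap.ext fun v => Subtype.ext (by simp)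
        map_mul' := fun x y => LinearMap.ext fun v => Subtype.ext (by simp) }
    let T : Module.End k W := (ρ (α b)).restrict hWb
    have hTpow : ∀ i (v : W), (((T ^ i) v : W) : V) = (ρ (α b) ^ i) v := by
      intro i
      induction i with
      | zero => intro v; rfl
      | succ i ih => intro v; rw [pow_succ', pow_succ', Module.End.mul_apply, Module.End.mul_apply, ← ih]; rfl
    let σ : MulAut Q := Subgroup.normalizerMonoidHom Q (h.αN b)
    have hscal : ∀ x v : Q, ρ' ⁅x, v⁆ = (φh χ v x : k) • 1 := fun x v =>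
      LinearMap.ext fun w => Subtype.ext ((Weights.mem_range_iff hZk).mp w.2 (cz x v))
    have hcen : ∀ v : Q, v ∈ EndBound.cen ρ' ↔ φh χ v = 1 := by
      intro v
      constructor
      · intro hv
        refine MonoidHom.ext fun x => Units.ext ?_
        have h1 : ρ' ⁅x, v⁆ = 1 := by
          rw [commutatorElement_def, map_mul, map_mul, map_mul, ← (hv x).eq, mul_assoc (ρ' v),
            ← map_mul ρ' x, mul_inv_cancel, map_one, mul_one, ← map_mul, mul_inv_cancel, map_one]
        rw [hscal] at h1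
        exact smul_left_injective k (one_ne_zero (α := Module.End k W))
          (h1.trans (one_smul k (1 : Module.End k W)).symm)
      · intro hv x
        have h1 : ρ' ⁅x, v⁆ = 1 := by rw [hscal, hv, MonoidHom.one_apply, Units.val_one, one_smul]
        show ρ' v * ρ' x = ρ' x * ρ' v
        have e : x * v = ⁅x, v⁆ * (v * x) := by rw [commutatorElement_def]; group
        conv_rhs => rw [← map_mul, e, map_mul, h1, one_mul, map_mul]
    have hαb : ∀ v, h.αD b (φh χ v) = φh χ (σ v) := hequiv (h.αN b) χ (fun z z' hz' => by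
      rw [show z' = σZ b z from Subtype.ext hz']
      exact hbSt z)
    have hRφ : ∀ (y : R) v, h.dR y (φh χ v) =
        φh χ (Subgroup.normalizerMonoidHom Q (Subgroup.inclusion h.normRQ y) v) :=
      fun y => hequiv _ χ (fun z z' hz' => by
        rw [show z' = z from Subtype.ext (by
          rw [hz']
          show (y : Y) * z * (y : Y)⁻¹ = z
          rw [← mem_centralizer_iff.mp (hRZ y.2) z z.2, mul_inv_cancel_right])])
    -- points whose translates are fixed by `b`
    have hfixed : ∀ d : Q →* kˣ, (∀ y : R, h.αD b (h.dR y d) = h.dR y d) → ∀ y : R, h.dR y d = d := by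
      intro d hd y
      have hF : d ∈ PQCore.Fix h.dR.range h.αD St := by
        rintro _ ⟨y', rfl⟩ c hc
        let C := (MulAction.stabilizer (CharAut k Q) (h.dR y' d)).comap h.αD
        have hle : zpowers b ≤ C := zpowers_le.mpr (hd y')
        exact (hle (hzp.symm ▸ hc) : c ∈ C)
      have hy : h.dR y ∈ h.dR.range := ⟨y, rfl⟩
      by_cases hnor : St.Normal
      · exact PQCore.fix_of_normal hdata h.hp h.hq h.card_A hStbot hSttop hF hy
      · exact PQCore.fix_of_not_normal hdata h.hp h.hq h.card_A hStbot hnor hF hy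
    have hpbs : pb ≠ s := by
      rcases hpb_or with e | e <;> rw [e]
      exacts [Ne.symm h.sp, Ne.symm h.sq]
    have hpbr : pb ≠ r := by
      rcases hpb_or with e | e <;> rw [e]
      exacts [Ne.symm h.rp, Ne.symm h.rq]
    have hpbk : (pb : k) ≠ 0 := by
      rcases hpb_or with e | e <;> rw [e]
      exacts [h.pk, h.qk]
    have hTp : T ^ pb = 1 := LinearMap.ext fun v => Subtype.ext (by
      rw [hTpow, ← map_pow, ← map_pow, ← hord, pow_orderOf_eq_one, map_one, map_one]; rfl)
    have hTsum : ∑ i ∈ Finset.range pb, T ^ i = 0 := LinearMap.ext fun v => Subtype.ext (by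
      simp only [LinearMap.sum_apply, Submodule.coe_sum, hTpow, LinearMap.zero_apply, Submodule.coe_zero]
      obtain ⟨w, hw⟩ := v.2
      have := congrArg (fun f : Module.End k V => f w) hsT
      simp only [Module.End.mul_apply, LinearMap.sum_apply, LinearMap.zero_apply, hw] at this
      exact this)
    rcases EndBound.moved_le_cen_or_fermat (ρ := ρ') h.hQ hpbs h.sk hpbk
        (fun x v => ⟨_, hscal x v⟩) σ T hTp hTsum
        (fun x => LinearMap.ext fun v => Subtype.ext (by
          show ρ (α b) (ρ (x : Y) v) = ρ ((σ x : Q) : Y) (ρ (α b) v)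
          rw [← Module.End.mul_apply, ← Module.End.mul_apply, ← map_mul, ← map_mul,
            show ((σ x : Q) : Y) = α b * x * (α b)⁻¹ from rfl, inv_mul_cancel_right])) with
      hmoved | ⟨rfl, m, hm, hpm, hidx⟩
    · have hbfix : ∀ v, φh χ (σ v) = φh χ v := by
        intro v
        have := (hcen _).mp (hmoved (EndBound.mem_moved σ v))
        rw [map_mul, map_inv, inv_mul_eq_one] at this
        exact this.symm
      exact hfixed (φh χ u) (fun y' => by rw [hRφ, hαb, hbfix]) y
    · let f := φh χ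
      set E := f.range
      let lift : E → Q := fun d => Classical.choose d.2
      have hlift : ∀ d : E, f (lift d) = d := fun d => Classical.choose_spec d.2
      have hswap : ∀ v w, f v = f w → ∀ d : E, (d : Q →* kˣ) v = (d : Q →* kˣ) w := by
        intro v w hvw d
        rw [← hlift d, hskew χ (lift d) v, hskew χ (lift d) w,
          show f v = f w from hvw]
      have hfZ : ∀ z : Q, (z : Y) ∈ Z → f z = 1 := by
        intro z hz
        refine MonoidHom.ext fun x => ?_
        show χ (cz x z) = 1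
        rw [show cz x z = 1 from Subtype.ext (commutatorElement_eq_one_iff_mul_comm.mpr
          (hcentral _ hz x x.2).symm), map_one]
      have hexp : ∀ d : E, d * d = 1 := fun d => Subtype.ext (by
        rw [Subgroup.coe_mul, ← hlift d, ← map_mul, OneMemClass.coe_one]
        refine hfZ _ ?_
        rw [← pow_two]
        exact mem_map_of_mem _ (PGroups.pow_mem_frattini h.hQ (lift d)))
      let ω : E →* E →* kˣ := MonoidHom.mk'
        (fun d => MonoidHom.mk' (fun d' => (d' : Q →* kˣ) (lift d)) fun _ _ => rfl)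
        fun d₁ d₂ => MonoidHom.ext fun d' => by
          show (d' : Q →* kˣ) (lift (d₁ * d₂)) = (d' : Q →* kˣ) (lift d₁) * (d' : Q →* kˣ) (lift d₂)
          rw [← map_mul]
          exact hswap _ _ (by rw [hlift, map_mul, hlift, hlift]; rfl) d'
      have halt : ∀ d, ω d d = 1 := by
        intro d
        show (d : Q →* kˣ) (lift d) = 1
        rw [← hlift d]
        show χ (cz (lift d) (lift d)) = 1
        rw [show cz (lift d) (lift d) = 1 from Subtype.ext
          (commutatorElement_eq_one_iff_mul_comm.mpr rfl), map_one]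
      have hnd : ∀ d, (∀ d', ω d d' = 1) → d = 1 := by
        intro d hd
        refine Subtype.ext ?_
        rw [← hlift d, OneMemClass.coe_one]
        refine MonoidHom.ext fun x => ?_
        rw [hskew χ (lift d) x]
        exact inv_eq_one.mpr (hd ⟨f x, x, rfl⟩)
      let res : ∀ a : CharAut k Q, (∀ d ∈ E, a d ∈ E) → MulAut E := fun a ha =>
        MulEquiv.ofBijective
          ({ toFun := fun d => ⟨a d, ha d d.2⟩
             map_one' := Subtype.ext (map_one a)
             map_mul' := fun v w => Subtype.ext (map_mul a (v : Q →* kˣ) (w : Q →* kˣ)) } : E →* E)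
          (haveI := Finite.of_injective _ (Subtype.val_injective (p := (· ∈ E)))
           Finite.injective_iff_bijective.mp fun v w he => Subtype.ext (a.injective (congrArg Subtype.val he)))
      have hbE : ∀ d ∈ E, h.αD b d ∈ E := by
        rintro _ ⟨v, rfl⟩
        exact ⟨σ v, (hαb v).symm⟩
      have hyE : ∀ y : R, ∀ d ∈ E, h.dR y d ∈ E := by
        rintro y _ ⟨v, rfl⟩
        exact ⟨_, (hRφ y v).symm⟩
      let bE : MulAut E := res (h.αD b) hbE
      let rE : R →* MulAut E := MonoidHom.mk' (fun y => res (h.dR y) (hyE y)) fun y y' =>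
        MulEquiv.ext fun d => Subtype.ext (congrArg (fun a : CharAut k Q => a (d : Q →* kˣ)) (map_mul h.dR y y'))
      have hbE_pow : ∀ i (d : E), (((bE ^ i) d : E) : Q →* kˣ) = (h.αD (b ^ i)) d := by
        intro i
        induction i with
        | zero => intro d; rw [pow_zero, pow_zero, map_one]; rfl
        | succ i ih => intro d; rw [pow_succ' bE, pow_succ' b, map_mul, MulAut.mul_apply, MulAut.mul_apply, ← ih]; rfl
      have : Finite E := Finite.of_injective _ (Subtype.val_injective (p := (· ∈ E)))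
      have hbEp : bE ^ pb = 1 := MulEquiv.ext fun d => Subtype.ext (by
        rw [hbE_pow, ← hord, pow_orderOf_eq_one, map_one]; rfl)
      have hωσ : ∀ (g : normalizer (Q : Set Y)) (a : MulAut E),
          (∀ d : E, (a d : Q →* kˣ) = dual k Q g d) →
          (∀ v, f (Subgroup.normalizerMonoidHom Q g v) = dual k Q g (f v)) →
          ∀ d d', ω (a d) (a d') = ω d d' := by
        intro g a ha hg d d'
        show (a d' : Q →* kˣ) (lift (a d)) = (d' : Q →* kˣ) (lift d)
        rw [hswap (lift (a d)) (Subgroup.normalizerMonoidHom Q g (lift d))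
          (by rw [hlift, hg, hlift, ha]) (a d'), ha, dual_apply, ← MulAut.mul_apply, ← map_mul,
          inv_mul_cancel, map_one, MulAut.one_apply]
      let dm : E →* E := MonoidHom.mk' (fun d => d⁻¹ * bE d) fun v w => by
        rw [map_mul, mul_inv_rev]
        exact (congrArg (· * _) (mul_comm w⁻¹ v⁻¹)).trans (mul_mul_mul_comm _ _ _ _)
      have hdmker : dm.ker = MonoidHom.eqLocus bE.toMonoidHom (MonoidHom.id E) := by
        ext d
        show d⁻¹ * bE d = 1 ↔ bE d = d
        rw [inv_mul_eq_one, eq_comm]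
      let fm : EndBound.moved σ →* E := f.rangeRestrict.comp (EndBound.moved σ).subtype
      have hgen : ∀ v : Q, f.rangeRestrict (v⁻¹ * σ v) = dm (f.rangeRestrict v) := fun v => by
        rw [map_mul, map_inv]
        show (f.rangeRestrict v)⁻¹ * f.rangeRestrict (σ v) = (f.rangeRestrict v)⁻¹ * bE (f.rangeRestrict v)
        refine congrArg ((f.rangeRestrict v)⁻¹ * ·) (Subtype.ext ?_)
        exact (hαb v).symm
      have hrange : fm.range = dm.range := by
        refine le_antisymm ?_ ?_
        · rintro _ ⟨⟨v, hv⟩, rfl⟩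
          show f.rangeRestrict v ∈ dm.range
          induction hv using Subgroup.closure_induction with
          | mem z hz => obtain ⟨w, rfl⟩ := hz; exact ⟨_, (hgen w).symm⟩
          | one => rw [map_one]; exact one_mem _
          | mul a c _ _ ha hc => rw [map_mul]; exact mul_mem ha hc
          | inv a _ ha => rw [map_inv]; exact inv_mem ha
        · rintro _ ⟨d, rfl⟩
          obtain ⟨v, rfl⟩ := f.rangeRestrict_surjective d
          exact ⟨⟨_, EndBound.mem_moved σ v⟩, hgen v⟩
      have hfmker : fm.ker = (EndBound.cen ρ').subgroupOf (EndBound.moved σ) := by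
        ext v
        rw [MonoidHom.mem_ker, mem_subgroupOf, hcen]
        exact ⟨fun e => congrArg Subtype.val e, fun e => Subtype.ext e⟩
      have hidxE : (MonoidHom.eqLocus bE.toMonoidHom (MonoidHom.id E)).index = 2 ^ (2 * m) := by
        rw [← hdmker, index_ker, ← hrange, ← index_ker, hfmker, hidx]
      have hcardX : ∃ i, Nat.card rE.range ∣ r ^ i := by
        obtain ⟨i, hi⟩ := IsPGroup.iff_card.mp h.hR
        exact ⟨i, hi ▸ card_range_dvd rE⟩
      obtain ⟨i, hi⟩ := hcardX
      have hresult := PQExcept.exceptional hm hpm ω hexp halt hnd bE hbEp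
        (hωσ (h.αN b) bE (fun d => rfl) (fun v => (hαb v).symm)) hidxE rE.range
        (by
          rintro _ ⟨y₁, rfl⟩ _ ⟨y₂, rfl⟩
          refine MulEquiv.ext fun d => Subtype.ext ?_
          exact congrArg (fun a : CharAut k Q => a (d : Q →* kˣ))
            (hdata.comm _ ⟨y₁, rfl⟩ _ ⟨y₂, rfl⟩))
        (by
          rintro _ ⟨y₁, rfl⟩
          refine ⟨⟨α b * y₁ * (α b)⁻¹, (mem_normalizer_iff.mp (h.normR b) _).mp y₁.2⟩, ?_⟩
          rw [eq_mul_inv_iff_mul_eq]
          refine MulEquiv.ext fun d => Subtype.ext ?_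
          show h.dR _ (h.αD b d) = h.αD b (h.dR y₁ d)
          rw [← h.conj_dR, MulAut.mul_apply, MulAut.mul_apply, MulAut.inv_apply_self])
        (by
          rintro _ ⟨y₁, rfl⟩
          exact hωσ (Subgroup.inclusion h.normRQ y₁) _ (fun d => rfl) (fun v => (hRφ y₁ v).symm))
        (fun e => h.rs ((Nat.prime_dvd_prime_iff_eq Nat.prime_two h.hr).mp
          (Nat.prime_two.dvd_of_dvd_pow (e.trans hi))).symm)
        (fun e => hpbr ((Nat.prime_dvd_prime_iff_eq hpbp h.hr).mp (hpbp.dvd_of_dvd_pow (e.trans hi))))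
      obtain ⟨hcommb, hfix⟩ := hresult (rE y) ⟨y, rfl⟩
      set d : E := ⟨f u, u, rfl⟩
      let P : E := ∏ i ∈ Finset.range pb, (bE ^ i) d
      have hPb : bE P = P := by
        show bE (∏ i ∈ Finset.range pb, (bE ^ i) d) = _
        rw [map_prod]
        simp only [← MulAut.mul_apply, ← pow_succ']
        exact OrbitBound.prod_range_shift (fun n => (bE ^ n) d) pb (by simp [hbEp])
      have hPfix : rE y P = P := Subtype.ext (hfixed (P : Q →* kˣ) (fun y' => by
        obtain ⟨hc', -⟩ := hresult (rE y') ⟨y', rfl⟩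
        have := congrArg (fun a : MulAut E => ((a P : E) : Q →* kˣ)) hc'
        simp only [MulAut.mul_apply, hPb] at this
        exact this) y)
      set g := rE y d * d⁻¹ with hg
      have hgi : ∀ i, rE y ((bE ^ i) d) * ((bE ^ i) d)⁻¹ = g := by
        intro i
        induction i with
        | zero => rfl
        | succ i ih =>
          rw [pow_succ', MulAut.mul_apply]
          set z := (bE ^ i) d
          have h5 := hfix z
          rw [map_mul, map_inv] at h5
          rw [← ih]
          calc rE y (bE z) * (bE z)⁻¹ = rE y z * ((rE y z)⁻¹ * rE y (bE z)) * (bE z)⁻¹ := by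
                rw [mul_inv_cancel_left]
            _ = rE y z * z⁻¹ := by rw [h5, mul_assoc, mul_inv_cancel_right]
      have hgpb : g ^ pb = 1 := by
        have h6 : rE y P * P⁻¹ = ∏ i ∈ Finset.range pb, g := by
          show rE y (∏ i ∈ Finset.range pb, (bE ^ i) d) * (∏ i ∈ Finset.range pb, (bE ^ i) d)⁻¹ = _
          rw [map_prod, ← Finset.prod_inv_distrib, ← Finset.prod_mul_distrib]
          exact Finset.prod_congr rfl fun i _ => hgi i
        rw [hPfix, mul_inv_cancel, Finset.prod_const, Finset.card_range] at h6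
        exact h6.symm
      have hg1 : g = 1 := PQExcept.eq_one_of_coprime hgpb ((pow_two g).trans (hexp g))
        ((Nat.coprime_primes hpbp Nat.prime_two).mpr hpbs)
      exact congrArg Subtype.val (mul_inv_eq_one.mp hg1)
  -- conclusion
  refine hQab ?_
  have hcen : ⁅Q, R⁆ ≤ centralizer (Q : Set Y) := by
    rw [commutator_le]
    intro x hx y hy
    rw [mem_centralizer_iff]
    intro v hv
    set g : normalizer (Q : Set Y) := ⟨y, h.normRQ hy⟩
    set xq : Q := ⟨x, hx⟩
    set w : Q := ⟨⁅x, y⁆, heq ▸ commutator_mem_commutator hx hy⟩ with hw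
    have hw' : w = xq * (Subgroup.normalizerMonoidHom Q g xq)⁻¹ :=
      Subtype.ext (by simp [hw, xq, g, nmh_coe, commutatorElement_def, mul_assoc])
    have h0 : ρ ((⁅(⟨v, hv⟩ : Q), w⁆ : Q) : Y) = 1 := by
      by_contra hne
      obtain ⟨χ, hχ, hχ1⟩ := Weights.exists_proj_ne_zero_of_act_ne_one (τ := τ) (u := cz ⟨v, hv⟩ w) hZk hne
      refine hχ1 ?_
      rw [← hφ, hw', map_mul, map_inv, ← hequiv g χ (fun z z' hz' => ?_) xq, MonoidHom.mul_apply,
        MonoidHom.inv_apply]
      · rw [show dual k Q g (φh χ xq) = φh χ xq from hmain χ hχ ⟨y, hy⟩ xq, mul_inv_cancel]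
      · have : z' = z := Subtype.ext (by
          rw [hz', show (g : Y) = y from rfl, ← mem_centralizer_iff.mp (hRZ hy) z z.2, mul_inv_cancel_right])
        rw [this]
    have h1 := h.faith _ (SetLike.coe_mem _) h0
    exact commutatorElement_eq_one_iff_mul_comm.mp (show ⁅v, ⁅x, y⁆⁆ = 1 from h1)
  rw [heq] at hcen
  exact commutator_eq_bot_iff_le_centralizer.mpr hcen

end Cfsg.Agent.Coprime.PQTower
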