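import Cfsg.Agent.Coprime.Action
import Cfsg.Agent.Coprime.Abelian

/-!
Coprime action with fixed points of prime index.
-/

namespace Cfsg.Agent.Coprime

open Subgroup

variable {G : Type*} [Group G] [Finite G]

/-- If `C_K(A)` has prime index `p` in `K`, then `[K, A]` has order `p`. -/
theorem card_commutator_eq_prime {A K : Subgroup G} (hAK : A ≤ normalizer (K : Set G))
    (hcop : (Nat.card A).Coprime (Nat.card K)) (hsolv : Group.IsSolvable A ∨ Group.IsSolvable K)
    {p : ℕ} (hp : p.Prime) (hidx : (K ⊓ centralizer (A : Set G)).relIndex K = p) :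
    Nat.card ↥(⁅K, A⁆) = p := by
  have : Fact p.Prime := ⟨hp⟩
  obtain ⟨P, hAP⟩ := exists_invariant_sylow hAK hcop hsolv p
  set P' := (P : Subgroup K).map K.subtype with hP'
  set C := K ⊓ centralizer (A : Set G) with hC
  have hPK : P' ≤ K := map_subtype_le _
  have hPp : IsPGroup p P' := P.isPGroup'.map K.subtype
  have hKC : Nat.card K = Nat.card C * p := by
    rw [← hidx, ← relIndex_bot_left, ← relIndex_bot_left,
      relIndex_mul_relIndex _ _ _ bot_le inf_le_left]
  have hcP : Nat.card P' = p ^ (Nat.card K).factorization p :=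
    (Subgroup.card_map_of_injective K.subtype_injective).trans P.card_eq_multiplicity
  set D := P' ⊓ centralizer (A : Set G) with hD
  have hDidx : D.relIndex P' = p := by
    have h1 : D.relIndex P' = C.relIndex P' := by
      rw [← inf_relIndex_right C P', hD, hC]
      congr 1
      rw [inf_comm K, inf_assoc, inf_eq_right.mpr hPK, inf_comm]
    have hle : C.relIndex P' ≤ p := hidx ▸ relIndex_le_of_le_right hPK (by rw [hidx]; exact hp.pos.ne')
    obtain ⟨m, -, hm⟩ := (Nat.dvd_prime_pow hp).mp ((relIndex_dvd_card C P').trans (dvd_of_eq hcP))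
    rw [h1, hm]
    rcases Nat.lt_or_ge 1 m with h | h
    · have : p ^ 1 < p ^ m := Nat.pow_lt_pow_right hp.one_lt h
      rw [pow_one, ← hm] at this
      omega
    interval_cases m
    · exfalso
      have hPC : P' ≤ C := relIndex_eq_one.mp (by simpa using hm)
      have h2 := card_dvd_of_le hPC
      rw [hcP, hKC, Nat.factorization_mul Nat.card_pos.ne' hp.pos.ne', Finsupp.add_apply,
        hp.factorization_self] at h2
      exact Nat.pow_succ_factorization_not_dvd Nat.card_pos.ne' hp h2
    · rw [pow_one]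
  have hDP : P' ≤ normalizer (D : Set G) := by
    rw [← normal_subgroupOf_iff_le_normalizer inf_le_left]
    have : Group.IsNilpotent P' := hPp.isNilpotent
    have hlt : D.subgroupOf P' < ⊤ := by
      rw [lt_top_iff_ne_top, Ne, subgroupOf_eq_top, ← relIndex_eq_one, hDidx]
      exact hp.ne_one
    obtain ⟨g, hg, hg'⟩ := SetLike.exists_of_lt (Group.normalizerCondition_of_isNilpotent _ hlt)
    rw [← normalizer_eq_top_iff, ← index_eq_one]
    have hmul := relIndex_mul_index (le_normalizer (H := D.subgroupOf P'))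
    rw [show (D.subgroupOf P').index = p from hDidx] at hmul
    rcases (Nat.dvd_prime hp).mp ⟨_, hmul.symm⟩ with h | h
    · exact absurd (relIndex_eq_one.mp h hg) hg'
    · rw [h] at hmul
      exact Nat.eq_of_mul_eq_mul_left hp.pos (hmul.trans (mul_one p).symm)
  have hcopP : (Nat.card A).Coprime (Nat.card P') := coprime_of_le hPK hcop
  have hsolvP := solvable_or_of_le hPK hsolv
  set Q := ⁅P', A⁆ with hQ
  have hQP : Q ≤ P' := commutator_le_left_of_normalizer hAP
  have hQD : ⁅Q, D⁆ = ⊥ := by
    have hDA : ⁅A, D⁆ = ⊥ := commutator_eq_bot_iff_le_centralizer.mpr (le_centralizer_iff.mp inf_le_right)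
    refine commutator_commutator_eq_bot_of_rotate (by rw [hDA, commutator_bot_left]) ?_
    rw [eq_bot_iff, ← hDA, commutator_comm A D]
    exact commutator_mono (le_normalizer_iff_commutator_le_left.mp hDP) le_rfl
  have hsup : Q ⊔ D = P' := commutator_sup_centralizer hAP hcopP hsolvP
  have hQD' : (Q ⊓ D).relIndex Q = p := by
    rw [inf_relIndex_left]
    have : (D.subgroupOf P').Normal := normal_subgroupOf_of_le_normalizer hDP
    have h := relIndex_sup_left (K := D.subgroupOf P') (H := Q.subgroupOf P')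
    rw [← subgroupOf_sup inf_le_left hQP, sup_comm, hsup, subgroupOf_self, relIndex_top_right,
      relIndex_subgroupOf hQP] at h
    rw [← h]
    exact hDidx
  obtain ⟨x, hxQ, hxD⟩ : ∃ x ∈ Q, x ∉ D := by
    by_contra h
    push Not at h
    rw [inf_eq_left.mpr h, relIndex_self] at hQD'
    exact hp.ne_one hQD'.symm
  have hQx : (Q ⊓ D) ⊔ zpowers x = Q := by
    have hle : (Q ⊓ D) ⊔ zpowers x ≤ Q := sup_le inf_le_left (zpowers_le.mpr hxQ)
    have h := relIndex_mul_relIndex (Q ⊓ D) ((Q ⊓ D) ⊔ zpowers x) Q le_sup_left hle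
    rw [hQD'] at h
    rcases (Nat.dvd_prime hp).mp ⟨_, h.symm⟩ with h' | h'
    · exact absurd (relIndex_eq_one.mp h' (mem_sup_right (mem_zpowers x))).2 hxD
    · rw [h'] at h
      exact le_antisymm hle (relIndex_eq_one.mp (Nat.eq_of_mul_eq_mul_left hp.pos (h.trans (mul_one p).symm)))
  have : IsMulCommutative Q := by
    rw [← le_centralizer_iff_isMulCommutative]
    have hQDc : Q ≤ centralizer (D : Set G) := commutator_eq_bot_iff_le_centralizer.mp hQD
    conv_lhs => rw [← hQx]
    refine sup_le (inf_le_right.trans (le_centralizer_iff.mp hQDc)) (zpowers_le.mpr ?_)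
    have hle : Q ≤ centralizer {x} := by
      conv_lhs => rw [← hQx]
      refine sup_le ?_ (zpowers_le.mpr (mem_centralizer_singleton_iff.mpr rfl))
      intro d hd
      exact mem_centralizer_singleton_iff.mpr (mem_centralizer_iff.mp (hQDc hxQ) d hd.2)
    exact mem_centralizer_iff.mpr fun q hq => mem_centralizer_singleton_iff.mp (hle hq)
  have hQA : A ≤ normalizer (Q : Set G) := normalizer_commutator_ge_right P' A
  have hQbot : Q ⊓ centralizer (A : Set G) = ⊥ := by
    have h := (abelian_decomposition hQA (coprime_of_le hQP hcopP)).1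
    rw [hQ, commutator_commutator_eq hAP hcopP hsolvP, inf_right_comm, inf_idem] at h
    exact h
  have hQDbot : Q ⊓ D = ⊥ := eq_bot_iff.mpr ((inf_le_inf_left _ inf_le_right).trans hQbot.le)
  have hcQ : Nat.card Q = p := by
    rw [← hQD', hQDbot, relIndex_bot_left]
  suffices hKQ : ⁅K, A⁆ = Q by rw [hKQ, hcQ]
  refine le_antisymm (commutator_le.mpr fun k hk a ha => ?_) (commutator_mono hPK le_rfl)
  have hbij : Function.Bijective (fun z : Q × C => (⟨(z.1 : G) * z.2,
      mul_mem (hPK (hQP z.1.2)) z.2.2.1⟩ : K)) := by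
    rw [Nat.bijective_iff_injective_and_card]
    refine ⟨?_, by rw [Nat.card_prod, hcQ, hKC, mul_comm]⟩
    rintro ⟨q, c⟩ ⟨q', c'⟩ hz
    simp only [Subtype.mk.injEq] at hz
    have he : (q' : G)⁻¹ * q = c' * (c : G)⁻¹ := by
      rw [inv_mul_eq_iff_eq_mul, ← mul_assoc, ← hz, mul_inv_cancel_right]
    have h1 : (q' : G)⁻¹ * q ∈ Q ⊓ centralizer (A : Set G) :=
      ⟨Q.mul_mem (Q.inv_mem q'.2) q.2, he ▸ (centralizer (A : Set G)).mul_mem c'.2.2
        ((centralizer (A : Set G)).inv_mem c.2.2)⟩
    rw [hQbot, mem_bot, inv_mul_eq_one] at h1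
    have hq : q' = q := Subtype.ext h1
    subst hq
    simpa using hz
  obtain ⟨⟨q, c⟩, hqc⟩ := hbij.2 ⟨k, hk⟩
  have hk' : (q : G) * c = k := congr_arg Subtype.val hqc
  rw [← hk', commutatorElement_mul_left_eq_conj_mul,
    commutatorElement_eq_one_iff_mul_comm.mpr (commute_of_mem_centralizer c.2.2 ha).symm,
    mul_one, mul_inv_cancel, one_mul]
  exact Q.mul_mem q.2 (conj_mem (hQA ha) (Q.inv_mem q.2)) |> fun h => by
    simpa [commutatorElement_def, mul_assoc] using h

end Cfsg.Agent.Coprime
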