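import Cfsg.Agent.Coprime.RankOneKernel
import Cfsg.Prelude.Def_LieRecognition

/-!
The Sylow `2`-subgroup of the regular normal subgroup of a point stabiliser in the rank-one set-up is
abelian or a Suzuki `2`-group, given that groups of odd order are solvable.
-/

namespace Cfsg.Agent.Coprime.RankOneKernel

open Subgroup MulAction

universe u v

variable {G : Type u} {Ω : Type v} [Group G] [Finite G] [MulAction G Ω] [FaithfulSMul G Ω] {a : Ω} {t : G}
  {Q : Subgroup G}

theorem sylow_two (hFT : OddSolvable.{u}) (hS : Cfsg.IsRankOneSetup G Ω a t Q)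
    (h2 : ∃ x y : G, x ≠ 1 ∧ y ≠ 1 ∧ x ≠ y ∧ x * x = 1 ∧ y * y = 1 ∧ x * y = y * x) (S : Sylow 2 ↥Q) :
    IsMulCommutative (S : Subgroup ↥Q) ∨ Cfsg.IsSuzukiTwoGroup ↥(S : Subgroup ↥Q) := by
  classical
  by_cases hc : ∀ x y : ↥(S : Subgroup ↥Q), x * y = y * x
  · exact Or.inl ⟨⟨hc⟩⟩
  push Not at hc
  refine Or.inr ?_
  have : Fact (Nat.Prime 2) := ⟨Nat.prime_two⟩
  obtain ⟨⟨C, hC, hCc, -⟩, -⟩ := main hFT hS h2
  have := H38.Q_nilpotent hS h2
  have hSn : (S : Subgroup Q).Normal :=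
    (Group.isNilpotent_of_finite_tfae.out 0 3 rfl rfl).mp ‹Group.IsNilpotent Q› 2 ‹_› S
  -- involutions of the point stabiliser lie in `S`
  have hin : ∀ (x : G) (hx : x ∈ involutionsIn (stabilizer G a : Set G)),
      (⟨x, (H38.invol_central hS h2 hx).1⟩ : Q) ∈ (S : Subgroup Q) := by
    intro x hx
    set x' : Q := ⟨x, (H38.invol_central hS h2 hx).1⟩
    obtain ⟨P, hP⟩ := (IsPGroup.of_card (G := zpowers x') (p := 2) (n := 1) (by
      rw [Nat.card_zpowers, pow_one]
      exact orderOf_eq_prime (Subtype.ext (by rw [SubgroupClass.coe_pow, pow_two]; exact hx.2.2))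
        fun h => hx.2.1 (congrArg Subtype.val h))).exists_le_sylow
    have := Sylow.unique_of_normal S hSn
    have : P = S := Subsingleton.elim P S
    exact this ▸ hP (mem_zpowers x')
  have hchar := Sylow.characteristic_of_normal S hSn
  -- the action of the inverted elements
  let ι : C →* MulAut ↥(S : Subgroup Q) :=
    { toFun := fun k =>
        { toFun := fun x => ⟨H38.conjQ hS k (show (k : G) ∈ stabilizer G a from
            ((Set.ext_iff.mp hC k).mp k.2).1.1) x,
            (Subgroup.characteristic_iff_map_le.mp hchar _) (mem_map_of_mem _ x.2)⟩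
          invFun := fun x => ⟨(H38.conjQ hS k (show (k : G) ∈ stabilizer G a from
            ((Set.ext_iff.mp hC k).mp k.2).1.1)).symm x,
            (Subgroup.characteristic_iff_map_le.mp hchar _) (mem_map_of_mem _ x.2)⟩
          left_inv := fun x => Subtype.ext (MulEquiv.symm_apply_apply _ _)
          right_inv := fun x => Subtype.ext (MulEquiv.apply_symm_apply _ _)
          map_mul' := fun x y => Subtype.ext (map_mul _ _ _) }
      map_one' := MulEquiv.ext fun x => Subtype.ext (Subtype.ext (by simp [H38.conjQ]))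
      map_mul' := fun k k' => MulEquiv.ext fun x => Subtype.ext (Subtype.ext (by
        simp [H38.conjQ, mul_assoc])) }
  have hι : ∀ (k : C) (x : ↥(S : Subgroup Q)),
      ((ι k x : Q) : G) = (k : G) * ((x : Q) : G) * (k : G)⁻¹ := fun _ _ => rfl
  obtain ⟨s₀, s₁, hs₀, hs₁, hs01⟩ := H38.two_le_invol hS h2
  refine ⟨inferInstance, S.isPGroup', hc, ?_, ι.range, ?_, ?_⟩
  · exact ⟨⟨_, hin s₀ hs₀⟩, ⟨_, hin s₁ hs₁⟩, fun h => hs01 (congrArg (fun z : ↥(S : Subgroup Q) => ((z : Q) : G)) h),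
      fun h => hs₀.2.1 (congrArg (fun z : ↥(S : Subgroup Q) => ((z : Q) : G)) h), Subtype.ext (Subtype.ext hs₀.2.2),
      fun h => hs₁.2.1 (congrArg (fun z : ↥(S : Subgroup Q) => ((z : Q) : G)) h), Subtype.ext (Subtype.ext hs₁.2.2)⟩
  · exact isCyclic_of_surjective ι.rangeRestrict ι.rangeRestrict_surjective
  · intro x y hx hxx hy hyy
    have hmem : ∀ z : ↥(S : Subgroup Q), z ≠ 1 → z * z = 1 →
        ((z : Q) : G) ∈ involutionsIn (stabilizer G a : Set G) := fun z hz hzz =>
      ⟨hS.le (z : Q).2, fun h => hz (Subtype.ext (Subtype.ext h)),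
        congrArg (fun w : ↥(S : Subgroup Q) => ((w : Q) : G)) hzz⟩
    obtain ⟨k, hk, hks⟩ := H38.conj_transitive hS (hmem x hx hxx) (hmem y hy hyy)
    have hkC : k⁻¹ ∈ C := inv_mem ((Set.ext_iff.mp hC k).mpr hk)
    refine ⟨⟨ι ⟨k⁻¹, hkC⟩, ⟨_, rfl⟩⟩, Subtype.ext (Subtype.ext ?_), ?_⟩
    · rw [hι]; simpa using hks
    · rintro ⟨_, k', rfl⟩ hk'
      refine Subtype.ext (congrArg ι (Subtype.ext ?_))
      have h1 := congrArg (fun z : ↥(S : Subgroup Q) => ((z : Q) : G)) hk'
      simp only [hι] at h1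
      have := H38.conj_inj hS (hmem x hx hxx) hk ((Set.ext_iff.mp hC _).mp (inv_mem k'.2))
        (by rw [hks, inv_inv]; exact h1.symm)
      show (k' : G) = k⁻¹
      rw [this, inv_inv]

end Cfsg.Agent.Coprime.RankOneKernel
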