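import Cfsg.Agent.Coprime.FpfPrime
import Cfsg.Agent.Coprime.External
import Mathlib.GroupTheory.Perm.Fin
import Mathlib.GroupTheory.SpecificGroups.Alternating
import Mathlib.Data.Fintype.Perm

/-!
The symmetric group of degree `3` acting without fixed points on an `r`-group `R` and on a faithful
module for `R`: then `R` is abelian.
-/

namespace Cfsg.Agent.Coprime.S3Tower

open Subgroup
open scoped commutatorElement

/-- The symmetric group of degree three. -/
abbrev A3 := Equiv.Perm (Fin 3)

theorem six_rel : ∀ s t : A3, s ≠ 1 → s * s * s = 1 → t ≠ 1 → t * t = 1 → t * s = s * s * t := by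
  decide

set_option maxRecDepth 4000 in
theorem six_list : ∀ s t a : A3, s ≠ 1 → s * s * s = 1 → t ≠ 1 → t * t = 1 →
    a ∈ [1, s, s * s, t, s * t, s * s * t] := by
  decide

theorem six (s t : A3) (hs : s ≠ 1) (hs3 : s * s * s = 1) (ht : t ≠ 1) (ht2 : t * t = 1) :
    t * s = s * s * t ∧ ∀ a : A3, a = 1 ∨ a = s ∨ a = s * s ∨ a = t ∨ a = s * t ∨ a = s * s * t := by
  refine ⟨six_rel s t hs hs3 ht ht2, fun a => ?_⟩
  simpa only [List.mem_cons, List.not_mem_nil, or_false] using six_list s t a hs hs3 ht ht2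

theorem order_cases : ∀ a : A3, a ≠ 1 → a * a = 1 ∨ a * a * a = 1 := by decide

theorem exists_three : ∃ s : A3, s ≠ 1 ∧ s * s * s = 1 := by decide

theorem exists_two : ∃ t : A3, t ≠ 1 ∧ t * t = 1 := by decide

theorem card_A3 : Nat.card A3 = 6 := by
  rw [Nat.card_eq_fintype_card, Fintype.card_perm, Fintype.card_fin]; rfl

theorem solvable_A3 : Group.IsSolvable A3 := by
  have hc : IsMulCommutative (alternatingGroup (Fin 3)) :=
    alternatingGroup.isMulCommutative_of_card_le_three (by simp)
  have : Group.IsSolvable (alternatingGroup (Fin 3)) := isSolvable_of_isMulCommutative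
  exact Group.isSolvable_of_ker_le_range (alternatingGroup (Fin 3)).subtype Equiv.Perm.sign
    (by rw [range_subtype]; exact le_rfl)

section Orbit

variable {G : Type*} [Group G] [Finite G] [MulDistribMulAction A3 G]
  (hcop : (Nat.card A3).Coprime (Nat.card G)) (hfpf : ∀ g : G, (∀ a : A3, a • g = g) → g = 1)
  {s t : A3} (hs : s ≠ 1) (hs3 : s * s * s = 1) (ht : t ≠ 1) (ht2 : t * t = 1)

include hcop hfpf hs hs3 ht ht2

/-- The relation on the orbit of a `t`-symmetrized element. -/
theorem orbit_rel {M : Type*} [CommGroup M] (X D : Subgroup G) (hX : IsInvariant A3 X)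
    (hD : IsInvariant A3 D) (hXX : ⁅X, X⁆ ≤ D) (hDX : D ≤ X) (f : X →* M)
    (hfD : ∀ z : X, (z : G) ∈ D → f z = 1)
    (hft : ∀ z : X, f ⟨t • (z : G), hX t z z.2⟩ = f z) (x : X) :
    let u : X := x * ⟨t • (x : G), hX t x x.2⟩
    f ⟨s • (u : G), hX s u u.2⟩ * f ⟨s • (u : G), hX s u u.2⟩ * f u = 1 ∧
      f ⟨(s * s) • (u : G), hX (s * s) u u.2⟩ = f ⟨s • (u : G), hX s u u.2⟩ := by
  intro u
  obtain ⟨hts, hall⟩ := six s t hs hs3 ht ht2
  let c : A3 → X →* X := fun a =>
    { toFun := fun z => ⟨a • (z : G), hX a z z.2⟩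
      map_one' := Subtype.ext (smul_one a)
      map_mul' := fun y z => Subtype.ext (smul_mul' a _ _) }
  have hc1 : ∀ z, c 1 z = z := fun z => Subtype.ext (one_smul _ _)
  have hcm : ∀ a b z, c (a * b) z = c a (c b z) := fun a b z => Subtype.ext (mul_smul a b _)
  have : (D.subgroupOf X).Normal := by
    refine ⟨fun d hd z => ?_⟩
    rw [mem_subgroupOf] at hd ⊢
    have h1 : ⁅(z : G), (d : G)⁆ ∈ D := hXX (commutator_mem_commutator z.2 d.2)
    have := mul_mem h1 hd
    simpa [commutatorElement_def, mul_assoc] using this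
  let π := QuotientGroup.mk' (D.subgroupOf X)
  have hπc : ∀ y z, π y * π z = π z * π y := by
    intro y z
    rw [← commutatorElement_eq_one_iff_mul_comm, ← map_commutatorElement, QuotientGroup.mk'_apply,
      QuotientGroup.eq_one_iff, mem_subgroupOf]
    exact hXX (commutator_mem_commutator y.2 z.2)
  let _ : CommGroup (X ⧸ D.subgroupOf X) :=
    { (inferInstance : Group (X ⧸ D.subgroupOf X)) with
      mul_comm := fun a b => by
        obtain ⟨a, rfl⟩ := QuotientGroup.mk'_surjective _ a
        obtain ⟨b, rfl⟩ := QuotientGroup.mk'_surjective _ b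
        exact hπc a b }
  have hπ : ∀ a y z, π y = π z → π (c a y) = π (c a z) := by
    intro a y z h
    rw [QuotientGroup.mk'_eq_mk'] at h
    obtain ⟨d, hd, rfl⟩ := h
    rw [map_mul, map_mul π]
    have : π (c a d) = 1 := (QuotientGroup.eq_one_iff _).mpr (hD a _ hd)
    rw [this, mul_one]
  have hu : u = x * c t x := rfl
  have htt : c t (c t x) = x := by rw [← hcm, ht2, hc1]
  have htu : π (c t u) = π u := by
    rw [hu, map_mul (c t), htt, map_mul, map_mul, hπc]
  set w := u * c s u * c (s * s) u with hw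
  have hws : π (c s w) = π w := by
    rw [hw, map_mul (c s), map_mul (c s), ← hcm, ← hcm, ← mul_assoc s s s, hs3, hc1]
    simp only [map_mul]
    rw [mul_comm (π (c s u) * π (c (s * s) u)), mul_assoc]
  have hst2 : t * (s * s) = s * t := by
    rw [← mul_assoc, hts, mul_assoc (s * s) t s, hts, ← mul_assoc, ← mul_assoc, hs3, one_mul]
  have hwt : π (c t w) = π w := by
    rw [hw, map_mul (c t), map_mul (c t), ← hcm, ← hcm, hts, hst2, hcm, hcm s t]
    simp only [map_mul π, htu, hπ _ _ _ htu]
    rw [mul_assoc, mul_assoc, mul_comm (π (c (s * s) u))]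
  have hwa : ∀ a, π (c a w) = π w := by
    have hmul : ∀ a b, π (c a w) = π w → π (c b w) = π w → π (c (a * b) w) = π w := fun a b ha hb => by
      rw [hcm, hπ a _ _ hb, ha]
    intro a
    rcases hall a with rfl | rfl | rfl | rfl | rfl | rfl
    · rw [hc1]
    · exact hws
    · exact hmul _ _ hws hws
    · exact hwt
    · exact hmul _ _ hws hwt
    · exact hmul _ _ (hmul _ _ hws hws) hwt
  obtain ⟨z, hz, hzD⟩ := exists_fixed_mem_coset hcop (Or.inl solvable_A3) hD (g := (w : G)) fun a => by
    have := (QuotientGroup.mk'_eq_mk' _).mp (hwa a).symm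
    obtain ⟨d, hd, hd'⟩ := this
    have e : (w : G) * (d : G) = a • (w : G) := congrArg Subtype.val hd'
    rw [← e, inv_mul_cancel_left]
    exact hd
  rw [hfpf z hz, mul_one] at hzD
  have hw1 : f w = 1 := hfD w (inv_mem_iff.mp hzD)
  have hsym : f (c (s * s) u) = f (c s u) := by
    have e1 : f (c (s * s) u) = f (c (s * s) (c t u)) := by
      rw [hu, map_mul (c t), htt]
      simp only [map_mul]
      exact mul_comm _ _
    rw [e1, ← hcm, ← hts, hcm]
    exact hft (c s u)
  refine ⟨?_, hsym⟩
  show f (c s u) * f (c s u) * f u = 1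
  rw [hw, map_mul, map_mul, hsym] at hw1
  rw [← hw1, mul_comm, mul_assoc]

end Orbit

variable {k V Y : Type*} [Field k] [IsAlgClosed k] [AddCommGroup V] [Module k V] [FiniteDimensional k V]
  [Group Y] [Finite Y]

set_option maxHeartbeats 1000000 in
/-- `R` is abelian. -/
theorem commute_of_hyp {r : ℕ} (hr : r.Prime) (hr2 : r ≠ 2) (hr3 : r ≠ 3) (hrk : (r : k) ≠ 0)
    (h2k : ((2 : ℕ) : k) ≠ 0) (h3k : ((3 : ℕ) : k) ≠ 0) (ρ : Y →* Module.End k V)
    (hinj : Function.Injective ρ) (α : A3 →* Y) (R : Subgroup Y) (hR : IsPGroup r R)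
    (hnorm : ∀ a, α a ∈ normalizer (R : Set Y)) (hfix : ∀ x ∈ R, (∀ a, α a * x = x * α a) → x = 1)
    (hsum : ∑ a, ρ (α a) = 0) : ∀ x ∈ R, ∀ y ∈ R, Commute x y := by
  classical
  have : Fact r.Prime := ⟨hr⟩
  have : Fact (Nat.Prime 3) := ⟨Nat.prime_three⟩
  by_contra hne
  have hRne : center R ≠ ⊤ := by
    intro h
    refine hne fun x hx y hy => ?_
    have := Subgroup.mem_center_iff.mp (h ▸ mem_top (⟨x, hx⟩ : R)) ⟨y, hy⟩
    exact (congrArg Subtype.val this).symm
  let cR : A3 →* MulAut R := (Subgroup.normalizerMonoidHom R).comp (α.codRestrict _ hnorm)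
  let _ : MulDistribMulAction A3 R := MulDistribMulAction.compHom R cR
  have hact : ∀ a (z : R), ((a • z : R) : Y) = α a * (z : Y) * (α a)⁻¹ := fun a z => rfl
  have hfpf : ∀ z : R, (∀ a : A3, a • z = z) → z = 1 := by
    intro z hz
    refine Subtype.ext (hfix _ z.2 fun a => ?_)
    have h1 := congrArg Subtype.val (hz a)
    rw [hact] at h1
    exact mul_inv_eq_iff_eq_mul.mp h1
  obtain ⟨nR, hnR⟩ := IsPGroup.iff_card.mp hR
  have hcopn : ∀ m : ℕ, m ∣ 6 → m.Coprime (r ^ nR) := by
    intro m hm
    refine Nat.Coprime.pow_right _ (Nat.Coprime.coprime_dvd_left hm ?_)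
    exact Nat.Coprime.mul_left (m := 2) (n := 3) ((Nat.coprime_primes Nat.prime_two hr).mpr (Ne.symm hr2))
      ((Nat.coprime_primes Nat.prime_three hr).mpr (Ne.symm hr3))
  have hcop : (Nat.card A3).Coprime (Nat.card R) := by rw [card_A3, hnR]; exact hcopn 6 dvd_rfl
  have hpow : ∀ (M : Type _) [CommGroup M] (m : ℕ), m ∣ 6 → ∀ (z : M), z ^ m = 1 → z ^ r ^ nR = 1 → z = 1 :=
    fun M _ m hm z h1 h2 => PQExcept.eq_one_of_coprime h1 h2 (hcopn m hm)
  -- the subgroup `X` with `⁅X, R⁆` central
  let X : Subgroup R := (center (R ⧸ center R)).comap (QuotientGroup.mk' (center R))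
  have : X.Characteristic := Characteristic.comap_quotient_mk centerCharacteristic
  have hchar : ∀ (L : Subgroup R) [L.Characteristic], IsInvariant A3 L := by
    intro L _ a z hz
    have := (characteristic_iff_map_eq.mp (inferInstance : L.Characteristic)) (cR a)
    rw [← this]
    exact mem_map_of_mem _ hz
  have hXcen : ∀ x ∈ X, ∀ y : R, ⁅x, y⁆ ∈ center R := by
    intro x hx y
    rw [← QuotientGroup.eq_one_iff, ← QuotientGroup.mk'_apply, map_commutatorElement,
      commutatorElement_eq_one_iff_mul_comm]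
    exact (Subgroup.mem_center_iff.mp hx _).symm
  have hUX : center R ≤ X := fun z hz => by
    show QuotientGroup.mk' (center R) z ∈ center (R ⧸ center R)
    rw [QuotientGroup.mk'_apply, (QuotientGroup.eq_one_iff z).mpr hz]
    exact one_mem _
  obtain ⟨x0, hx0, y0, hxy⟩ : ∃ x0 ∈ X, ∃ y0 : R, ⁅x0, y0⁆ ≠ 1 := by
    have hnt : Nontrivial (R ⧸ center R) := QuotientGroup.nontrivial_iff.mpr hRne
    have := (hR.to_quotient (center R)).center_nontrivial
    obtain ⟨v, hv⟩ := exists_ne (1 : center (R ⧸ center R))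
    obtain ⟨x0, hx0⟩ := QuotientGroup.mk'_surjective (center R) (v : R ⧸ center R)
    refine ⟨x0, show QuotientGroup.mk' (center R) x0 ∈ _ from hx0 ▸ v.2, ?_⟩
    by_contra hc
    push Not at hc
    refine hv (Subtype.ext ?_)
    rw [← hx0, QuotientGroup.mk'_apply, Subgroup.coe_one, QuotientGroup.eq_one_iff, Subgroup.mem_center_iff]
    exact fun y => (commutatorElement_eq_one_iff_mul_comm.mp (hc y)).symm
  let _ : CommGroup (center R) :=
    { (inferInstance : Group (center R)) with
      mul_comm := fun a b => Subtype.ext (Subgroup.mem_center_iff.mp b.2 a) }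
  have hUk : (Nat.card (center R) : k) ≠ 0 := by
    obtain ⟨j, hj⟩ := IsPGroup.iff_card.mp (hR.to_subgroup (center R))
    rw [hj, Nat.cast_pow]
    exact pow_ne_zero _ hrk
  let j : center R →* Y := R.subtype.comp (center R).subtype
  let σU : A3 →* MulAut (center R) :=
    { toFun := fun a => Subgroup.centerCongr (cR a)
      map_one' := MulEquiv.ext fun z => Subtype.ext (by
        show cR 1 (z : R) = z
        rw [map_one, MulAut.one_apply])
      map_mul' := fun a b => MulEquiv.ext fun z => Subtype.ext (by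
        show cR (a * b) (z : R) = cR a (cR b (z : R))
        rw [map_mul, MulAut.mul_apply]) }
  let z0 : center R := ⟨⁅x0, y0⁆, hXcen x0 hx0 y0⟩
  obtain ⟨χ, hχ, hχ0⟩ := Weights.exists_proj_ne_zero_of_act_ne_one hUk (τ := ρ.comp j) (u := z0)
    (fun h => hxy (Subtype.ext (hinj (h.trans (map_one ρ).symm))))
  set e := Weights.proj (ρ.comp j) χ with he
  let Fx : A3 → Prop := fun a => ∀ u, χ (σU a u) = χ u
  obtain ⟨⟨a0, ha0, hFa0⟩, hfilter⟩ := PQTower.weight_stab hsum j σU (fun a u => rfl) hUk χ hχ
  have hFmul : ∀ a b, Fx a → Fx b → Fx (a * b) := fun a b ha hb u => by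
    rw [map_mul, MulAut.mul_apply, ha, hb]
  have hF1 : Fx 1 := fun u => by rw [map_one, MulAut.one_apply]
  have hcar : ∀ z : center R, z ^ r ^ nR = 1 := fun z => Subtype.ext (by
    rw [SubmonoidClass.coe_pow, ← hnR]
    exact pow_card_eq_one')
  have hcarχ : ∀ z, χ z ^ r ^ nR = 1 := fun z => by rw [← map_pow, hcar, map_one]
  -- not every element fixes `χ`
  have hnall : ¬ ∀ a, Fx a := by
    intro hall
    refine hχ0 (hpow kˣ 6 dvd_rfl _ ?_ (hcarχ z0))
    have hP : ∏ a, σU a z0 = 1 := by
      refine Subtype.ext (hfpf _ fun b => ?_)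
      have : σU b (∏ a, σU a z0) = ∏ a, σU a z0 := by
        rw [map_prod]
        exact Fintype.prod_equiv (Equiv.mulLeft b) _ _ fun a => by
          rw [Equiv.coe_mulLeft, map_mul σU, MulAut.mul_apply]
      exact congrArg Subtype.val this
    have := congrArg χ hP
    rw [map_prod, map_one] at this
    rw [Finset.prod_congr rfl (fun a _ => hall a z0), Finset.prod_const, Finset.card_univ,
      Fintype.card_perm, Fintype.card_fin] at this
    exact this
  -- the representation on the weight space
  let Y0 := FpfPrime.stab ρ e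
  let ρW := FpfPrime.sub ρ e
  let φ := ρW.toHomUnits
  have hRst : ∀ z : R, (z : Y) ∈ Y0 := fun z => by
    have h3 := Weights.mul_proj_of_conj (τ := ρ.comp j) (σ := MulEquiv.refl _) (g := ρ z) (fun u => by
      show ρ (z : Y) * ρ ((u : R) : Y) = ρ ((u : R) : Y) * ρ (z : Y)
      rw [← map_mul, ← map_mul]
      exact congrArg (fun g : R => ρ (g : Y)) (Subgroup.mem_center_iff.mp u.2 z)) χ
    exact h3
  have hAst : ∀ a, Fx a → α a ∈ Y0 := by
    intro a ha
    have h3 := Weights.mul_proj_of_conj (τ := ρ.comp j) (σ := σU a) (g := ρ (α a)) (fun u => by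
      show ρ (α a) * ρ ((u : R) : Y) = ρ (α a * ((u : R) : Y) * (α a)⁻¹) * ρ (α a)
      rw [← map_mul, ← map_mul, inv_mul_cancel_right]) χ
    have hc : χ.comp (σU a).symm.toMonoidHom = χ := MonoidHom.ext fun u => by
      have := ha ((σU a).symm u)
      rw [MulEquiv.apply_symm_apply] at this
      exact this.symm
    rw [hc] at h3
    exact h3
  let ι : R →* Y0 := R.subtype.codRestrict _ hRst
  let ψ : R →* (Module.End k (LinearMap.range e))ˣ := φ.comp ι
  have : Nontrivial (LinearMap.range e) :=
    Submodule.nontrivial_iff_ne_bot.mpr (fun h => hχ (LinearMap.range_eq_bot.mp h))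
  have hscal : ∀ z : center R, (ψ z : Module.End k (LinearMap.range e)) = (χ z : k) • 1 := fun z =>
    (FpfPrime.sub_eq_iff _ ((χ z : k) • 1) ((χ z : k) • 1) (fun v => rfl)).mpr (by
      rw [smul_mul_assoc, one_mul]
      exact Weights.act_mul_proj (ρ.comp j) χ z)
  have hχinj : ∀ z z' : center R, ψ z = ψ z' → χ z = χ z' := by
    intro z z' h
    refine Units.ext (smul_left_injective k (one_ne_zero (α := Module.End k (LinearMap.range e))) ?_)
    show (χ z : k) • (1 : Module.End k (LinearMap.range e)) = (χ z' : k) • 1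
    rw [← hscal, ← hscal, h]
  have hιsmul : ∀ a (ha : Fx a) (z : R), ι (a • z) = ⟨α a, hAst a ha⟩ * ι z * ⟨α a, hAst a ha⟩⁻¹ :=
    fun a ha z => Subtype.ext rfl
  have hscomp : (∑ a ∈ Finset.univ.filter (fun a => Fx a), ρ (α a)) * e = 0 := hfilter
  by_cases hcase : ∃ a, a ≠ 1 ∧ a * a * a = 1 ∧ Fx a
  · -- an element of order three fixes `χ`
    obtain ⟨s, hs, hs3, hFs⟩ := hcase
    obtain ⟨t, ht, ht2⟩ := exists_two
    obtain ⟨hts, hall⟩ := six s t hs hs3 ht ht2
    have hFt : ¬ Fx t := by
      intro hFt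
      refine hnall fun a => ?_
      rcases hall a with rfl | rfl | rfl | rfl | rfl | rfl
      exacts [hF1, hFs, hFmul _ _ hFs hFs, hFt, hFmul _ _ hFs hFt, hFmul _ _ (hFmul _ _ hFs hFs) hFt]
    have hfil : Finset.univ.filter (fun a => Fx a) = {1, s, s * s} := by
      ext a
      simp only [Finset.mem_filter, Finset.mem_univ, true_and, Finset.mem_insert, Finset.mem_singleton]
      constructor
      · intro ha
        rcases hall a with rfl | rfl | rfl | rfl | rfl | rfl
        · exact Or.inl rfl
        · exact Or.inr (Or.inl rfl)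
        · exact Or.inr (Or.inr rfl)
        · exact absurd ha hFt
        · refine absurd ?_ hFt
          have := hFmul _ _ (hFmul _ _ hFs hFs) ha
          rwa [← mul_assoc, hs3, one_mul] at this
        · refine absurd ?_ hFt
          have := hFmul _ _ hFs ha
          rwa [← mul_assoc, ← mul_assoc, hs3, one_mul] at this
      · rintro (rfl | rfl | rfl)
        exacts [hF1, hFs, hFmul _ _ hFs hFs]
    have hss : s * s ≠ 1 := fun h => hs (by rw [h, one_mul] at hs3; exact hs3)
    rw [hfil, Finset.sum_insert (by simp [Ne.symm hs, Ne.symm hss]), Finset.sum_insert (by rw [Finset.mem_singleton]; exact fun h => hs (left_eq_mul.mp h)),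
      Finset.sum_singleton] at hscomp
    let T : Y0 := ⟨α s, hAst s hFs⟩
    have hT : ∀ z : R, ψ (s • z) = ψ z := by
      intro z
      have hTsum : ∑ i ∈ Finset.range 3, ρW T ^ i = 0 := by
        have hTv : ∀ (i : ℕ) (v : LinearMap.range e),
            (((ρW T ^ i) v : LinearMap.range e) : V) = ρ (α (s ^ i)) v := fun i v => by
          rw [← map_pow]
          show ρ ((T ^ i : Y0) : Y) v = _
          rw [SubmonoidClass.coe_pow, map_pow α]
        refine LinearMap.ext ?_
        rintro ⟨_, v, rfl⟩
        refine Subtype.ext ?_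
        simp only [LinearMap.sum_apply, Submodule.coe_sum, hTv, LinearMap.zero_apply, Submodule.coe_zero]
        simp only [Finset.sum_range_succ, Finset.sum_range_zero, zero_add, pow_zero, pow_one, pow_two]
        have := congrArg (fun f : Module.End k V => f v) hscomp
        simp only [Module.End.mul_apply, LinearMap.add_apply, LinearMap.zero_apply] at this
        rw [← add_assoc] at this
        exact this
      have := FpfPrime.map_conj_eq_of_fpf (ρ := ρW) (s := r) (p := 3) (Ne.symm hr3) (fun h => hr2 h.1) hrk h3k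
        ι.range (hR.of_surjective ι.rangeRestrict ι.rangeRestrict_surjective) T
        (by
          refine mem_normalizer_iff.mpr fun y => ⟨?_, ?_⟩
          · rintro ⟨w, rfl⟩
            exact ⟨s • w, hιsmul s hFs w⟩
          · rintro ⟨w, hw⟩
            refine ⟨s⁻¹ • w, ?_⟩
            have h1 := hιsmul s hFs (s⁻¹ • w)
            rw [smul_inv_smul, hw] at h1
            exact (mul_left_cancel (mul_right_cancel h1)).symm)
        (Subtype.ext (by
          show α s ^ 3 = 1
          rw [← map_pow, pow_succ, pow_two, hs3, map_one]))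
        hTsum (x := ι z) ⟨z, rfl⟩
      refine Units.ext ?_
      show ρW (ι (s • z)) = ρW (ι z)
      rw [hιsmul s hFs]
      exact this
    -- the fixed points of `s` commute and cover the image
    have hKs : IsInvariant (zpowers s) ψ.ker := by
      have key : ∀ (n : ℕ) (z : R), ψ ((s ^ n) • z) = ψ z := by
        intro n
        induction n with
        | zero => intro z; rw [pow_zero, one_smul]
        | succ n ihn => intro z; rw [pow_succ', mul_smul, hT, ihn]
      rintro ⟨a, ha⟩ z hz
      obtain ⟨n, rfl⟩ : ∃ n : ℕ, s ^ n = a := by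
        obtain ⟨n, -, hn⟩ := Finset.mem_image.mp
          ((isOfFinOrder_of_finite s).mem_zpowers_iff_mem_range_orderOf.mp ha)
        exact ⟨n, hn⟩
      show ψ (s ^ n • z) = 1
      rw [key, MonoidHom.mem_ker.mp hz]
    have hcs : (Nat.card (zpowers s)).Coprime (Nat.card R) :=
      hcop.coprime_dvd_left (card_subgroup_dvd_card _)
    have hcover : ∀ z : R, ∃ c : R, s • c = c ∧ ψ z = ψ c := by
      intro z
      obtain ⟨c, hc, hcK⟩ := exists_fixed_mem_coset hcs (Or.inl (isSolvable_zpowers s)) hKs (g := z) fun a => by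
        obtain ⟨a, ha⟩ := a
        obtain ⟨n, rfl⟩ : ∃ n : ℕ, s ^ n = a := by
          obtain ⟨n, -, hn⟩ := Finset.mem_image.mp
            ((isOfFinOrder_of_finite s).mem_zpowers_iff_mem_range_orderOf.mp ha)
          exact ⟨n, hn⟩
        show ψ (z⁻¹ * s ^ n • z) = 1
        have key : ∀ n : ℕ, ψ (s ^ n • z) = ψ z := by
          intro n
          induction n with
          | zero => rw [pow_zero, one_smul]
          | succ n ihn => rw [pow_succ', mul_smul, hT, ihn]
        rw [map_mul, key, map_inv, inv_mul_cancel]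
      refine ⟨c, hc ⟨s, mem_zpowers s⟩, ?_⟩
      rw [MonoidHom.mem_ker, map_mul, map_inv, inv_mul_eq_one] at hcK
      exact hcK
    let C := {c : R // s • c = c}
    have hinv : ∀ d : C, t • (d : R) = (d : R)⁻¹ := by
      have htC : ∀ c : C, s • (t • (c : R)) = t • (c : R) := fun c => by
        have hst : s * t = t * (s * s) := by
          rw [← mul_assoc, hts, mul_assoc (s * s) t s, hts, ← mul_assoc, ← mul_assoc, hs3, one_mul]
        rw [← mul_smul, hst, mul_smul, mul_smul, c.2, c.2]
      let θ : C → C := fun c => ⟨(c : R)⁻¹ * t • (c : R), by rw [smul_mul', smul_inv', c.2, htC]⟩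
      have hθ : Function.Injective θ := by
        intro a b hab
        have h1 : (a : R)⁻¹ * t • (a : R) = (b : R)⁻¹ * t • (b : R) := congrArg Subtype.val hab
        refine Subtype.ext (mul_inv_eq_one.mp (hfpf _ fun g => ?_))
        have hd : t • ((a : R) * (b : R)⁻¹) = (a : R) * (b : R)⁻¹ := by
          rw [smul_mul', smul_inv', show t • (a : R) = (a : R) * ((b : R)⁻¹ * t • (b : R)) by
            rw [← h1, mul_inv_cancel_left]]
          group
        have hsd : s • ((a : R) * (b : R)⁻¹) = (a : R) * (b : R)⁻¹ := by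
          rw [smul_mul', smul_inv', a.2, b.2]
        rcases hall g with rfl | rfl | rfl | rfl | rfl | rfl
        exacts [one_smul _ _, hsd, by rw [mul_smul, hsd, hsd], hd, by rw [mul_smul, hd, hsd],
          by rw [mul_smul, mul_smul, hd, hsd, hsd]]
      intro d
      obtain ⟨c, rfl⟩ := Finite.surjective_of_injective hθ d
      show t • ((c : R)⁻¹ * t • (c : R)) = ((c : R)⁻¹ * t • (c : R))⁻¹
      rw [smul_mul', smul_inv', ← mul_smul, ht2, one_smul, mul_inv_rev, inv_inv]
    have hCcomm : ∀ c d : R, s • c = c → s • d = d → c * d = d * c := by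
      intro c d hc hd
      have h1 : t • (c * d) = (c * d)⁻¹ := hinv ⟨c * d, by rw [smul_mul', hc, hd]⟩
      rw [smul_mul', hinv ⟨c, hc⟩, hinv ⟨d, hd⟩] at h1
      apply inv_injective
      rw [← h1]
      show (c⁻¹ * d⁻¹ : R) = (d * c)⁻¹
      rw [mul_inv_rev]
    refine hχ0 ?_
    rw [← map_one χ]
    refine hχinj z0 1 ?_
    show ψ ⁅x0, y0⁆ = ψ 1
    rw [map_one, map_commutatorElement, commutatorElement_eq_one_iff_mul_comm]
    obtain ⟨c, hc, hxc⟩ := hcover x0
    obtain ⟨d, hd, hyd⟩ := hcover y0
    rw [hxc, hyd, ← map_mul, ← map_mul, hCcomm c d hc hd]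
  · -- an involution fixes `χ`
    push Not at hcase
    have ht2 : a0 * a0 = 1 := (order_cases a0 ha0).resolve_right fun h => hcase a0 ha0 h hFa0
    set t := a0
    obtain ⟨s, hs, hs3⟩ := exists_three
    obtain ⟨hts, hall⟩ := six s t hs hs3 ha0 ht2
    have hFs : ¬ Fx s := hcase s hs hs3
    have hfil : Finset.univ.filter (fun a => Fx a) = {1, t} := by
      ext a
      simp only [Finset.mem_filter, Finset.mem_univ, true_and, Finset.mem_insert, Finset.mem_singleton]
      constructor
      · intro ha
        rcases hall a with rfl | rfl | rfl | rfl | rfl | rfl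
        · exact Or.inl rfl
        · exact absurd ha hFs
        · refine absurd ?_ hFs
          have := hFmul _ _ ha ha
          rwa [← mul_assoc, hs3, one_mul] at this
        · exact Or.inr rfl
        · refine absurd ?_ hFs
          have := hFmul _ _ ha hFa0
          rwa [mul_assoc, ht2, mul_one] at this
        · refine absurd ?_ hFs
          have h1 := hFmul _ _ ha hFa0
          rw [mul_assoc, ht2, mul_one] at h1
          have := hFmul _ _ h1 h1
          rwa [← mul_assoc, hs3, one_mul] at this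
      · rintro (rfl | rfl)
        exacts [hF1, hFa0]
    rw [hfil, Finset.sum_pair (Ne.symm ha0)] at hscomp
    have hTm : ρW ⟨α t, hAst t hFa0⟩ = -1 :=
      (FpfPrime.sub_eq_iff _ (-1) (-1) (fun v => rfl)).mpr (by
        rw [map_one, map_one, add_mul, one_mul, add_eq_zero_iff_eq_neg'] at hscomp
        rw [hscomp, neg_mul, one_mul])
    have hψt : ∀ z : R, ψ (t • z) = ψ z := by
      intro z
      have h1 : ψ (t • z) * φ ⟨α t, hAst t hFa0⟩ = φ ⟨α t, hAst t hFa0⟩ * ψ z := by
        show φ (ι (t • z)) * _ = _ * φ (ι z)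
        rw [← map_mul, ← map_mul, hιsmul t hFa0, inv_mul_cancel_right]
      have h2 := congrArg Units.val h1
      simp only [Units.val_mul, φ, MonoidHom.coe_toHomUnits, hTm] at h2
      refine Units.ext (LinearMap.ext fun w => ?_)
      have h3 := congrArg (fun f : Module.End k (LinearMap.range e) => f w) h2
      simpa only [Module.End.mul_apply, LinearMap.neg_apply, Module.End.one_apply, map_neg, neg_inj] using h3
    have hFt' : ∀ u, χ (σU t u) = χ u := hFa0
    -- the pairing
    let b : X → R → kˣ := fun x y => χ ⟨⁅(x : R), y⁆, hXcen x x.2 y⟩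
    have hbX : ∀ x x' y, b (x * x') y = b x y * b x' y := by
      intro x x' y
      show χ _ = χ _ * χ _
      rw [← map_mul]
      congr 1
      refine Subtype.ext ?_
      show ⁅(x : R) * x', y⁆ = ⁅(x : R), y⁆ * ⁅(x' : R), y⁆
      rw [commutatorElement_mul_left_eq_conj_mul, Subgroup.mem_center_iff.mp (hXcen x' x'.2 y) x,
        mul_inv_cancel_right, Subgroup.mem_center_iff.mp (hXcen x' x'.2 y) ⁅(x : R), y⁆]
    have hbY : ∀ x y y', b x (y * y') = b x y * b x y' := by
      intro x y y'
      show χ _ = χ _ * χ _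
      rw [← map_mul]
      congr 1
      refine Subtype.ext ?_
      show ⁅(x : R), y * y'⁆ = ⁅(x : R), y⁆ * ⁅(x : R), y'⁆
      rw [show ⁅(x : R), y * y'⁆ = ⁅(x : R), y⁆ * (y * ⁅(x : R), y'⁆ * y⁻¹) by
        simp only [commutatorElement_def]; group]
      rw [Subgroup.mem_center_iff.mp (hXcen x x.2 y') y, mul_inv_cancel_right]
    have hX := hchar X
    have hbt1 : ∀ (x : X) (y : R), b ⟨t • (x : R), hX t x x.2⟩ y = b x y := fun x y => hχinj _ _ (by
      show ψ ⁅t • (x : R), y⁆ = ψ ⁅(x : R), y⁆
      rw [map_commutatorElement, map_commutatorElement, hψt])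
    have hbt2 : ∀ (x : X) (y : R), b x (t • y) = b x y := fun x y => hχinj _ _ (by
      show ψ ⁅(x : R), t • y⁆ = ψ ⁅(x : R), y⁆
      rw [map_commutatorElement, map_commutatorElement, hψt])
    have hb1 : ∀ x y, b x y = 1 := by
      intro x y
      set v := y * t • y with hv
      let u : X := x * ⟨t • (x : R), hX t x x.2⟩
      have r1 : ∀ y', b ⟨s • (u : R), hX s u u.2⟩ y' * b ⟨s • (u : R), hX s u u.2⟩ y' * b u y' = 1 ∧
          b ⟨(s * s) • (u : R), hX (s * s) u u.2⟩ y' = b ⟨s • (u : R), hX s u u.2⟩ y' := fun y' => by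
        refine orbit_rel hcop hfpf hs hs3 ha0 ht2 X (center R) hX (hchar _) ?_ hUX
          (MonoidHom.mk' (fun z => b z y') fun z z' => hbX z z' y') ?_ (fun z => hbt1 z y') x
        · exact commutator_le.mpr fun z hz z' _ => hXcen z hz z'
        · intro z hz
          show χ _ = 1
          rw [← map_one χ]
          congr 1
          refine Subtype.ext ?_
          show ⁅(z : R), y'⁆ = 1
          exact commutatorElement_eq_one_iff_mul_comm.mpr (Subgroup.mem_center_iff.mp hz y').symm
      have r2 : ∀ x', b x' (s • v) * b x' (s • v) * b x' v = 1 ∧ b x' ((s * s) • v) = b x' (s • v) := fun x' => by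
        exact orbit_rel hcop hfpf hs hs3 ha0 ht2 ⊤ (commutator R) (fun _ _ _ => mem_top _) (hchar _)
          le_rfl le_top ((MonoidHom.mk' (fun z => b x' z) fun z z' => hbY x' z z').comp (⊤ : Subgroup R).subtype)
          (fun z hz => (Abelianization.commutator_subset_ker (MonoidHom.mk' (fun z => b x' z) fun z z' => hbY x' z z')) hz)
          (fun z => hbt2 x' z) ⟨y, mem_top y⟩
      set B := b u v
      set C := b ⟨s • (u : R), hX s u u.2⟩ (s • v) with hC
      have hC4 : C ^ 4 = B := by
        have h1 := (r1 (s • v)).1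
        have h2 := (r2 u).1
        rw [← hC] at h1
        have e1 : b u (s • v) = (C * C)⁻¹ := eq_inv_of_mul_eq_one_right h1
        rw [e1] at h2
        have e2 := eq_inv_of_mul_eq_one_right h2
        rw [← mul_inv, inv_inv] at e2
        rw [show B = b u v from rfl, e2]
        simp only [pow_succ, pow_zero, one_mul, mul_assoc]
      -- the product over the orbit of `⁅u, v⁆`
      let z : center R := ⟨⁅(u : R), v⁆, hXcen u u.2 v⟩
      have hsz : ∀ a, σU a z = ⟨⁅a • (u : R), a • v⁆, hXcen _ (hX a u u.2) _⟩ := fun a =>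
        Subtype.ext (map_commutatorElement (cR a).toMonoidHom (u : R) v)
      set w := z * σU s z * σU (s * s) z with hw
      have hχw : χ w = 1 := by
        refine hpow kˣ 2 ⟨3, rfl⟩ _ ?_ (hcarχ w)
        have hsw : σU s w = w := by
          rw [hw, map_mul, map_mul, ← MulAut.mul_apply, ← MulAut.mul_apply, ← map_mul, ← map_mul,
            ← mul_assoc s s s, hs3, map_one σU, MulAut.one_apply]
          rw [mul_comm (σU s z * σU (s * s) z), mul_assoc]
        have hww : w * σU t w = 1 := by
          refine Subtype.ext (hfpf _ fun g => ?_)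
          have hgs : σU s (w * σU t w) = w * σU t w := by
            rw [map_mul, hsw, ← MulAut.mul_apply, ← map_mul]
            have hst : s * t = t * (s * s) := by
              rw [← mul_assoc, hts, mul_assoc (s * s) t s, hts, ← mul_assoc, ← mul_assoc, hs3, one_mul]
            rw [hst, map_mul σU, map_mul σU, MulAut.mul_apply, MulAut.mul_apply, hsw, hsw]
          have hgt : σU t (w * σU t w) = w * σU t w := by
            rw [map_mul, ← MulAut.mul_apply, ← map_mul, ht2, map_one σU, MulAut.one_apply, mul_comm]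
          have key : ∀ g, σU g (w * σU t w) = w * σU t w := by
            have hm : ∀ g g', σU g (w * σU t w) = w * σU t w → σU g' (w * σU t w) = w * σU t w →
                σU (g * g') (w * σU t w) = w * σU t w := fun g g' h h' => by
              rw [map_mul σU, MulAut.mul_apply, h', h]
            intro g
            rcases hall g with rfl | rfl | rfl | rfl | rfl | rfl
            exacts [by rw [map_one σU, MulAut.one_apply], hgs, hm _ _ hgs hgs, hgt, hm _ _ hgs hgt,
              hm _ _ (hm _ _ hgs hgs) hgt]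
          exact congrArg Subtype.val (key g)
        have := congrArg χ hww
        rw [map_mul, hFt', map_one] at this
        rw [pow_two, this]
      rw [hw, map_mul, map_mul, hsz, hsz] at hχw
      change B * C * b ⟨(s * s) • (u : R), hX (s * s) u u.2⟩ ((s * s) • v) = 1 at hχw
      rw [(r1 _).2, (r2 _).2, ← hC] at hχw
      have hC1 : C = 1 := hpow kˣ 6 dvd_rfl C (by
        rw [← hχw, ← hC4]; simp only [pow_succ, pow_zero, one_mul, mul_assoc]) (hcarχ _)
      have hB1 : B = 1 := by rw [← hC4, hC1, one_pow]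
      refine hpow kˣ 6 dvd_rfl _ ?_ (hcarχ _)
      have h4 : B = b x y ^ 4 := by
        show b (x * ⟨t • (x : R), hX t x x.2⟩) (y * t • y) = _
        rw [hbX, hbY, hbY, hbt1, hbt1, hbt2]
        simp only [pow_succ, pow_zero, one_mul, mul_assoc]
      have h6 : b x y ^ 4 = 1 := h4 ▸ hB1
      exact PQExcept.eq_one_of_coprime h6 (hcarχ _) (Nat.Coprime.pow_left 2
        (hcopn 2 ⟨3, rfl⟩)) |> fun h => by rw [h, one_pow]
    exact hχ0 (hb1 ⟨x0, hx0⟩ y0)

end Cfsg.Agent.Coprime.S3Tower
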