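import Cfsg.Agent.Coprime.PQFitting
import Cfsg.Agent.Coprime.S3Tower

/-!
Solvable groups with a fixed-point-free action of the symmetric group of degree `3`: the derived
subgroup lies in the Fitting subgroup.
-/

namespace Cfsg.Agent.Coprime.S3Fitting

open Subgroup SemidirectProduct
open Cfsg
open scoped commutatorElement
open S3Tower (A3)

variable {G : Type*} [Group G] [Finite G] [MulDistribMulAction A3 G]

theorem not_comm : ¬ IsMulCommutative A3 := fun h => by
  have h1 : ∀ a b : A3, a * b = b * a := h.is_comm.comm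
  have h2 : ¬ ∀ a b : A3, a * b = b * a := by decide
  exact h2 h1

/-- The derived subgroup lies in the Fitting subgroup. -/
theorem commutator_le_fitting [Group.IsSolvable G] (hcop : (Nat.card A3).Coprime (Nat.card G))
    (hfpf : ∀ g : G, (∀ a : A3, a • g = g) → g = 1) : commutator G ≤ fittingSubgroup G := by
  classical
  have hsolv : Group.IsSolvable A3 ∨ Group.IsSolvable G := Or.inr inferInstance
  have hA : Nat.card A3 = 2 * 3 := S3Tower.card_A3
  have hne : ∀ t : ℕ, t.Prime → t ∣ Nat.card G → t ≠ 2 ∧ t ≠ 3 := by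
    intro t ht hd
    constructor <;>
    · rintro rfl
      exact ht.ne_one (Nat.eq_one_of_dvd_coprimes hcop (hA ▸ by norm_num) hd)
  have hnil := PQFitting.fitting_quotient_isNilpotent Nat.prime_two Nat.prime_three hA not_comm hcop hfpf
  set F := fittingSubgroup G with hF
  set π := QuotientGroup.mk' F with hπ
  have hπs : Function.Surjective π := QuotientGroup.mk'_surjective F
  have hmain : ∀ (r : ℕ) (hr : r.Prime) (R : Sylow r G), IsInvariant A3 (R : Subgroup G) →
      ⁅(R : Subgroup G), (R : Subgroup G)⁆ ≤ F := by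
    intro r hr R hRinv
    have : Fact r.Prime := ⟨hr⟩
    by_cases hrd : r ∣ Nat.card G
    swap
    · have : (R : Subgroup G) = ⊥ := by
        rw [← card_eq_one, R.card_eq_multiplicity, Nat.factorization_eq_zero_of_not_dvd hrd, pow_zero]
      rw [this, commutator_bot_left]
      exact bot_le
    have hker : ∀ l : ℕ, l.Prime → l ≠ r → ∀ x ∈ (R : Subgroup G), ∀ y ∈ (R : Subgroup G),
        ∀ b ∈ zpowers ⁅x, y⁆, ∀ o ∈ pCore l G,
          b * o * b⁻¹ * o⁻¹ ∈ (frattini (pCore l G)).map (pCore l G).subtype := by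
      intro l hl hlr x hx y hy
      have : Fact l.Prime := ⟨hl⟩
      by_cases hld : l ∣ Nat.card G
      swap
      · intro b _ o ho
        rw [Cores.pCore_subsingleton_of_coprime ((hl.coprime_iff_not_dvd.mpr hld).symm), Subgroup.mem_bot] at ho
        rw [ho, mul_one, mul_inv_cancel, inv_one, one_mul]
        exact one_mem _
      obtain ⟨hlp, hlq⟩ := hne l hl hld
      let Y := Ext A3 G
      let O := pCore l G
      let Φ := (frattini O).map O.subtype
      have hOl : IsPGroup l O := Cores.pCore_isPGroup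
      have hOinv : ∀ (φ : MulAut G), O.map φ.toMonoidHom = O := fun φ => Cores.pCore_map_mulEquiv φ
      have hΦinv : ∀ (φ : MulAut G), ∀ z ∈ Φ, φ z ∈ Φ := by
        rintro φ _ ⟨w, hw, rfl⟩
        let e : O ≃* O := (O.equivMapOfInjective φ.toMonoidHom φ.injective).trans
          (MulEquiv.subgroupCongr (hOinv φ))
        refine ⟨e w, ?_, rfl⟩
        have := (characteristic_iff_map_eq.mp (frattini_characteristic (G := O))) e
        rw [← this]
        exact mem_map_of_mem _ hw
      have hnorm : ∀ L : Subgroup G, (∀ (φ : MulAut G), ∀ z ∈ L, φ z ∈ L) →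
          (L.map (inl : G →* Y)).Normal := by
        intro L hL
        refine ⟨?_⟩
        rintro _ ⟨z, hz, rfl⟩ v
        rw [← SemidirectProduct.inl_left_mul_inr_right v]
        refine ⟨MulAut.conj v.left (MulDistribMulAction.toMulAut A3 G v.right z), hL _ _ (hL _ z hz), ?_⟩
        show inl (v.left * (v.right • z) * v.left⁻¹) = _
        rw [map_mul, map_mul, ← inr_conj_inl, map_inv, mul_inv_rev]
        simp only [mul_assoc]
      have : (Φ.map (inl : G →* Y)).Normal := hnorm Φ hΦinv
      have : (O.map (inl : G →* Y)).Normal := hnorm O fun φ z hz => by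
        rw [← hOinv φ]; exact mem_map_of_mem _ hz
      set μ := QuotientGroup.mk' (Φ.map (inl : G →* Y)) with hμ
      set N := (O.map (inl : G →* Y)).map μ with hN
      have : N.Normal := ‹(O.map (inl : G →* Y)).Normal›.map _ (QuotientGroup.mk'_surjective _)
      have hμeq : ∀ g : G, μ (inl g) = 1 ↔ g ∈ Φ := fun g => by
        rw [hμ, QuotientGroup.mk'_apply, QuotientGroup.eq_one_iff]
        exact inl_mem_map
      have hexp : ∀ v ∈ N, v ^ l = 1 := by
        rintro _ ⟨_, ⟨g, hg, rfl⟩, rfl⟩
        rw [← map_pow, ← map_pow, hμeq]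
        exact mem_map_of_mem _ (PGroups.pow_mem_frattini hOl ⟨g, hg⟩)
      have : IsMulCommutative N := by
        refine ⟨⟨?_⟩⟩
        rintro ⟨_, _, ⟨g, hg, rfl⟩, rfl⟩ ⟨_, _, ⟨g', hg', rfl⟩, rfl⟩
        refine Subtype.ext ?_
        show μ (inl g) * μ (inl g') = μ (inl g') * μ (inl g)
        rw [← commutatorElement_eq_one_iff_mul_comm, ← map_commutatorElement (f := μ),
          ← map_commutatorElement (f := (inl : G →* Y)), hμeq]
        exact ⟨⁅(⟨g, hg⟩ : O), ⟨g', hg'⟩⁆, PGroups.commutator_le_frattini hOl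
          (Subgroup.commutator_mem_commutator (mem_top _) (mem_top _)), rfl⟩
      let ρ1 : (Y ⧸ Φ.map (inl : G →* Y)) →* Module.End (LinRep.Coeff l) (LinRep.Sp N l) := LinRep.rep N l
      let ρY : Y →* Module.End (LinRep.Coeff l) (LinRep.Sp N l) := ρ1.comp μ
      let K : Subgroup G :=
        { carrier := {g | ρY (inl g) = 1}
          one_mem' := by show ρY (inl 1) = 1; rw [map_one, map_one]
          mul_mem' := fun {a b} ha hb => by
            show ρY (inl (a * b)) = 1
            rw [map_mul, map_mul, show ρY (inl a) = 1 from ha, show ρY (inl b) = 1 from hb, one_mul]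
          inv_mem' := fun {a} ha => by
            show ρY (inl a⁻¹) = 1
            have h1 : ρY (inl (a⁻¹ * a)) = 1 := by rw [inv_mul_cancel, map_one, map_one]
            rwa [map_mul, map_mul, show ρY (inl a) = 1 from ha, mul_one] at h1 }
      have hKcen : ∀ g ∈ K, ∀ o ∈ O, g * o * g⁻¹ * o⁻¹ ∈ Φ := by
        intro g hg o ho
        have h1 := (LinRep.rep_eq_one_iff N l hexp (μ (inl g))).mp hg
        rw [mem_centralizer_iff] at h1
        have h2 := h1 (μ (inl o)) (mem_map_of_mem _ (mem_map_of_mem _ ho))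
        rw [← hμeq, map_mul, map_mul, map_mul, map_inv, map_inv, map_mul, map_mul, map_mul, map_inv, map_inv,
          ← h2, mul_inv_cancel_right, mul_inv_cancel]
      have hFK : F ≤ K := by
        rw [hF, Cores.iSup_pCore_eq_fittingSubgroup]
        refine iSup_le fun t g hg => ?_
        refine (LinRep.rep_eq_one_iff N l hexp _).mpr (mem_centralizer_iff.mpr ?_)
        rintro _ ⟨_, ⟨o, ho, rfl⟩, rfl⟩
        rw [← commutatorElement_eq_one_iff_mul_comm, ← map_commutatorElement, ← map_commutatorElement, hμeq]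
        by_cases htl : (t : ℕ) = l
        · subst htl
          exact ⟨⁅(⟨o, ho⟩ : O), ⟨g, hg⟩⁆, PGroups.commutator_le_frattini hOl
            (Subgroup.commutator_mem_commutator (mem_top _) (mem_top _)), rfl⟩
        · have hc : ⁅o, g⁆ ∈ O ⊓ pCore (t : ℕ) G :=
            ⟨Subgroup.commutator_le_left _ _ (commutator_mem_commutator ho (mem_top g)),
              Subgroup.commutator_le_right _ _ (commutator_mem_commutator (mem_top o) hg)⟩
          have hbot : O ⊓ pCore (t : ℕ) G = ⊥ := by
            have : Fact (t : ℕ).Prime := ⟨t.2⟩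
            exact disjoint_iff.mp (IsPGroup.disjoint_of_ne l (t : ℕ) (Ne.symm htl) _ _ hOl Cores.pCore_isPGroup)
          rw [hbot] at hc
          rw [Subgroup.mem_bot.mp hc]
          exact one_mem _
      have hKinv : IsInvariant A3 K := by
        intro a g hg
        show ρY (inl (a • g)) = 1
        rw [← inr_conj_inl, map_mul, map_mul, show ρY (inl g) = 1 from hg, mul_one, ← map_mul, mul_inv_cancel,
          map_one]
      -- the tower
      let Y2 := Y ⧸ ρY.ker
      let ν : Y →* Y2 := QuotientGroup.mk' ρY.ker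
      let ρ2 : Y2 →* Module.End (LinRep.Coeff l) (LinRep.Sp N l) := QuotientGroup.lift ρY.ker ρY le_rfl
      let α2 : A3 →* Y2 := ν.comp inr
      have hν : ∀ g : G, ν (inl g) = 1 ↔ g ∈ K := fun g =>
        (QuotientGroup.eq_one_iff _).trans MonoidHom.mem_ker
      have hfix : ∀ L : Subgroup G, IsInvariant A3 L → ∀ v ∈ (L.map (inl : G →* Y)).map ν,
          (∀ a, α2 a * v = v * α2 a) → v = 1 := by
        rintro L hL _ ⟨_, ⟨g, hg, rfl⟩, rfl⟩ hv
        have hg' : ∀ a : A3, g⁻¹ * a • g ∈ K := by
          intro a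
          rw [← hν, map_mul, map_mul, map_inv, map_inv, ← inr_conj_inl, map_mul, map_mul, map_inv,
            show ν (inr a) = α2 a from rfl, hv a, mul_inv_cancel_right, inv_mul_cancel]
        obtain ⟨c, hc, hcK⟩ := exists_fixed_mem_coset hcop hsolv hKinv hg'
        rw [hfpf c hc, mul_one] at hcK
        exact (hν g).mpr (inv_mem_iff.mp hcK)
      have hmapnorm : ∀ L : Subgroup G, IsInvariant A3 L → ∀ a,
          α2 a ∈ normalizer (((L.map (inl : G →* Y)).map ν : Subgroup Y2) : Set Y2) := by
        intro L hL a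
        refine mem_normalizer_of_map_conj ?_
        have h1 : ((L.map (inl : G →* Y)).map (MulAut.conj (inr a : Y)).toMonoidHom) = L.map (inl : G →* Y) := by
          apply le_antisymm
          · rintro _ ⟨_, ⟨g, hg, rfl⟩, rfl⟩
            exact ⟨a • g, hL a g hg, (inr_conj_inl a g).symm⟩
          · rintro _ ⟨g, hg, rfl⟩
            refine ⟨inl (a⁻¹ • g), mem_map_of_mem _ (hL a⁻¹ g hg), ?_⟩
            show inr a * inl (a⁻¹ • g) * (inr a)⁻¹ = inl g
            rw [inr_conj_inl, smul_inv_smul]
        refine Eq.trans ?_ (congrArg (Subgroup.map ν) h1)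
        refine (Subgroup.map_map _ _ _).trans (Eq.trans ?_ (Subgroup.map_map _ _ _).symm)
        congr 1
      have hsumY : ∑ a : A3, ρ2 (α2 a) = 0 := by
        show ∑ a : A3, LinRep.rep N l ((μ.comp inr) a) = 0
        refine LinRep.sum_rep_eq_zero N l (μ.comp inr) ?_
        rintro _ ⟨_, ⟨g, hg, rfl⟩, rfl⟩ hv
        have hΦA : IsInvariant A3 Φ := fun a z hz => hΦinv (MulDistribMulAction.toMulAut A3 G a) z hz
        have hg' : ∀ a : A3, g⁻¹ * a • g ∈ Φ := by
          intro a
          rw [← hμeq, map_mul, map_mul, map_inv, map_inv, ← inr_conj_inl, map_mul, map_mul, map_inv,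
            show μ (inr a) * μ (inl g) = μ (inl g) * μ (inr a) from hv a, mul_inv_cancel_right,
            inv_mul_cancel]
        obtain ⟨c, hc, hcΦ⟩ := exists_fixed_mem_coset hcop hsolv hΦA hg'
        rw [hfpf c hc, mul_one] at hcΦ
        exact (hμeq g).mpr (inv_mem_iff.mp hcΦ)
      have hinj2 : Function.Injective ρ2 := by
        refine (injective_iff_map_eq_one' ρ2).mpr fun v => ⟨fun hv => ?_, fun hv => by rw [hv, map_one]⟩
        obtain ⟨w, rfl⟩ := QuotientGroup.mk_surjective v
        exact (QuotientGroup.eq_one_iff _).mpr hv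
      have hc := S3Tower.commute_of_hyp hr (hne r hr hrd).1 (hne r hr hrd).2
        (fun h => hlr ((Nat.prime_dvd_prime_iff_eq hl hr).mp ((CharP.cast_eq_zero_iff _ l r).mp h)))
        (fun h => hlp ((Nat.prime_dvd_prime_iff_eq hl Nat.prime_two).mp ((CharP.cast_eq_zero_iff _ l 2).mp h)))
        (fun h => hlq ((Nat.prime_dvd_prime_iff_eq hl Nat.prime_three).mp ((CharP.cast_eq_zero_iff _ l 3).mp h)))
        ρ2 hinj2 α2 (((R : Subgroup G).map (inl : G →* Y)).map ν) ((R.isPGroup'.map _).map _)
        (hmapnorm _ hRinv) (hfix _ hRinv) hsumY _ (mem_map_of_mem _ (mem_map_of_mem _ hx)) _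
        (mem_map_of_mem _ (mem_map_of_mem _ hy))
      have hxy : ⁅x, y⁆ ∈ K := by
        rw [← hν, map_commutatorElement, map_commutatorElement, commutatorElement_eq_one_iff_mul_comm]
        exact hc.eq
      exact fun b hb o ho => hKcen b (zpowers_le.mpr hxy hb) o ho
    set S := (pCore r (G ⧸ F)).comap π with hS
    have hRS : (R : Subgroup G) ≤ S := by
      intro x hx
      have hn : ((R.mapSurjective hπs : Sylow r (G ⧸ F)) : Subgroup (G ⧸ F)).Normal := inferInstance
      exact Cores.le_pCore (R.mapSurjective hπs).isPGroup' (mem_map_of_mem π hx)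
    have hpowS : ∀ g ∈ S, ∃ n, g ^ r ^ n ∈ F := fun g hg => by
      obtain ⟨n, hn⟩ := Cores.pCore_isPGroup (p := r) (G := G ⧸ F) ⟨π g, hg⟩
      exact ⟨n, (QuotientGroup.eq_one_iff _).mp (congrArg Subtype.val hn)⟩
    set M := S ⊓ ⨅ l : {l : ℕ // l.Prime ∧ l ≠ r}, centralizer (pCore (l : ℕ) G : Set G) with hM
    have : M.Normal := by
      have h1 : (⨅ l : {l : ℕ // l.Prime ∧ l ≠ r}, centralizer (pCore (l : ℕ) G : Set G)).Normal :=
        Subgroup.normal_iInf_normal fun l => inferInstance
      have h2 : S.Normal := inferInstance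
      infer_instance
    refine le_trans ?_ (PQFitting.le_fitting_of_centralizes hr M
      (fun t ht htr => inf_le_right.trans (iInf_le
        (fun t : {t : ℕ // t.Prime ∧ t ≠ r} => centralizer (pCore (t : ℕ) G : Set G)) ⟨t, ht, htr⟩))
      (fun g hg => hpowS g hg.1))
    refine commutator_le.mpr fun x hx y hy => ?_
    have hgR : ⁅x, y⁆ ∈ (R : Subgroup G) := Subgroup.commutator_le_self _ (commutator_mem_commutator hx hy)
    refine ⟨hRS hgR, mem_iInf.mpr ?_⟩
    rintro ⟨l, hl, hlr⟩
    have : Fact l.Prime := ⟨hl⟩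
    refine le_centralizer_of_frattini (A := zpowers ⁅x, y⁆) (K := pCore l G) ?_ ?_ ?_ (mem_zpowers _)
    · rw [Subgroup.normalizer_eq_top_iff.mpr (inferInstance : (pCore l G).Normal)]; exact le_top
    · obtain ⟨i, hi⟩ := IsPGroup.iff_card.mp
        ((Cores.pCore_isPGroup (p := l) (G := G)).to_subgroup (frattini (pCore l G)))
      obtain ⟨j, hj⟩ := IsPGroup.iff_card.mp (R.isPGroup'.to_le (zpowers_le.mpr hgR))
      rw [hi, hj]
      exact ((Nat.coprime_primes hr hl).mpr (Ne.symm hlr)).pow j i
    · exact hker l hl hlr x hx y hy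
  -- the quotient is abelian
  have hab : ∀ (r : ℕ) [Fact r.Prime] (P : Sylow r (G ⧸ F)), ∀ u ∈ (P : Subgroup (G ⧸ F)),
      ∀ v ∈ (P : Subgroup (G ⧸ F)), u * v = v * u := by
    intro r hr P
    obtain ⟨R, hR⟩ := exists_invariant_sylow' (A := A3) hcop hsolv r
    have hn : ((R.mapSurjective hπs : Sylow r (G ⧸ F)) : Subgroup (G ⧸ F)).Normal := inferInstance
    let _ := Sylow.unique_of_normal (R.mapSurjective hπs) hn
    rw [Subsingleton.elim P (R.mapSurjective hπs)]
    rintro _ ⟨x, hx, rfl⟩ _ ⟨y, hy, rfl⟩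
    rw [← commutatorElement_eq_one_iff_mul_comm, ← map_commutatorElement, hπ, QuotientGroup.mk'_apply,
      QuotientGroup.eq_one_iff]
    exact hmain r hr.out R hR (commutator_mem_commutator hx hy)
  have htop : center (G ⧸ F) = ⊤ := by
    refine Cores.eq_top_of_sylow_le fun r hr P u hu => ?_
    have hall : centralizer ({u} : Set (G ⧸ F)) = ⊤ := by
      refine Cores.eq_top_of_sylow_le fun l hl Q v hv => ?_
      rw [mem_centralizer_singleton_iff]
      by_cases hlr : l = r
      · subst hlr
        have hn : (P : Subgroup (G ⧸ F)).Normal := inferInstance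
        let _ := Sylow.unique_of_normal P hn
        rw [Subsingleton.elim Q P] at hv
        exact hab _ P v hv u hu
      · have hd := IsPGroup.disjoint_of_ne l r hlr _ _ Q.isPGroup' P.isPGroup'
        exact (Subgroup.commute_of_normal_of_disjoint _ _ inferInstance inferInstance hd v u hv hu).eq
    rw [Subgroup.mem_center_iff]
    intro v
    exact mem_centralizer_singleton_iff.mp (hall ▸ mem_top v)
  intro g hg
  rw [← QuotientGroup.eq_one_iff]
  have : (commutator G) ≤ π.ker := by
    rw [_root_.commutator_def, commutator_le]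
    intro x _ y _
    rw [MonoidHom.mem_ker, map_commutatorElement, commutatorElement_eq_one_iff_mul_comm]
    exact Subgroup.mem_center_iff.mp (htop ▸ mem_top (π y)) (π x)
  exact this hg

end Cfsg.Agent.Coprime.S3Fitting
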