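import Mathlib.NumberTheory.Multiplicity
import Mathlib.Algebra.Field.ZMod
import Mathlib.GroupTheory.GroupAction.Quotient
import Mathlib.GroupTheory.PGroup
import Mathlib.Dynamics.PeriodicPts.Defs

/-!
Arithmetic of the exceptional case of the Shult-Gross theorem and orbit counting.
-/

namespace Cfsg.Agent.Coprime.ShultGrossArith

theorem coe_pow {G : Type*} [Group G] (σ : MulAut G) (n : ℕ) : ⇑(σ ^ n) = (⇑σ)^[n] := by
  induction n with
  | zero => rfl
  | succ n ih => rw [pow_succ', Function.iterate_succ', ← ih]; rfl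

theorem two_mul_dvd {m d q : ℕ} (hm : 0 < m) (hq : q = 2 ^ m + 1) (h : q ∣ 2 ^ d - 1) : 2 * m ∣ d := by
  have hmod : 2 ^ d ≡ 1 [MOD q] :=
    ((Nat.modEq_iff_dvd' (Nat.one_le_pow _ _ (by norm_num))).mpr h).symm
  have hm1 : ((2 : ℕ) : ZMod q) ^ m = -1 := by
    have h0 : ((q : ℕ) : ZMod q) = 0 := ZMod.natCast_self q
    rw [hq] at h0 ⊢
    push_cast at h0 ⊢
    exact eq_neg_of_add_eq_zero_left h0
  have hd1 : ((2 : ℕ) : ZMod q) ^ d = 1 := by
    have := (ZMod.natCast_eq_natCast_iff (2 ^ d) 1 q).mpr hmod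
    push_cast at this ⊢
    exact this
  have hr : ((2 : ℕ) : ZMod q) ^ (d % (2 * m)) = 1 := by
    have h2 : ((2 : ℕ) : ZMod q) ^ (2 * m) = 1 := by rw [mul_comm, pow_mul, hm1]; ring
    rw [← Nat.mod_add_div d (2 * m), pow_add, pow_mul, h2, one_pow, mul_one] at hd1
    exact hd1
  set r := d % (2 * m) with hrdef
  have hr2 : r < 2 * m := Nat.mod_lt _ (by omega)
  refine Nat.dvd_of_mod_eq_zero ?_
  rw [← hrdef]
  rcases le_or_gt r m with hle | hgt
  · have : ((2 ^ r - 1 : ℕ) : ZMod q) = 0 := by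
      rw [Nat.cast_sub (Nat.one_le_pow _ _ (by norm_num)), Nat.cast_pow, hr]
      simp
    have hdvd := (ZMod.natCast_eq_zero_iff _ _).mp this
    have hlt : 2 ^ r - 1 < q := by
      have h2 : 2 ^ r ≤ 2 ^ m := Nat.pow_le_pow_right (by norm_num) hle
      rw [hq]
      exact (Nat.sub_le _ _).trans_lt (Nat.lt_succ_of_le h2)
    have h0 := Nat.eq_zero_of_dvd_of_lt hdvd hlt
    have hp1 : 2 ^ r = 1 := by have := Nat.one_le_pow r 2 (by norm_num); omega
    exact (Nat.pow_eq_one.mp hp1).resolve_left (by norm_num)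
  · obtain ⟨r', hr'⟩ := Nat.exists_eq_add_of_lt hgt
    rw [hr'] at hr
    have : ((2 ^ (r' + 1) + 1 : ℕ) : ZMod q) = 0 := by
      rw [add_assoc, pow_add, hm1] at hr
      push_cast at hr ⊢
      rw [neg_one_mul, neg_eq_iff_eq_neg] at hr
      rw [hr, neg_add_cancel]
    have hdvd := (ZMod.natCast_eq_zero_iff _ _).mp this
    have hlt : 2 ^ (r' + 1) + 1 < q := by
      have := Nat.pow_lt_pow_right (a := 2) (by norm_num) (show r' + 1 < m by omega)
      omega
    exact absurd (Nat.eq_zero_of_dvd_of_lt hdvd hlt) (by positivity)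

theorem mul_pow_dvd {p k m n d : ℕ} [hp : Fact p.Prime] (hp2 : p ≠ 2) (hm : 0 < m) (hk : 0 < k)
    (hkm : p ^ k = 2 ^ m + 1) (hkn : k ≤ n) (hd : 0 < d) (h : p ^ n ∣ 2 ^ d - 1) :
    2 * m * p ^ (n - k) ∣ d := by
  obtain ⟨e, rfl⟩ := two_mul_dvd hm hkm ((Nat.pow_dvd_pow p hkn).trans h)
  refine Nat.mul_dvd_mul_left _ ?_
  have he : e ≠ 0 := by rintro rfl; simp at hd
  have hx1 : 1 < 2 ^ (2 * m) := Nat.one_lt_two_pow (by omega)
  have hfac : 2 ^ (2 * m) - 1 = (2 ^ m + 1) * (2 ^ m - 1) := by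
    have : 2 ^ (2 * m) = 2 ^ m * 2 ^ m := by rw [two_mul, pow_add]
    rw [this]
    have h1 := Nat.one_le_pow m 2 (by norm_num)
    obtain ⟨a, ha⟩ : ∃ a, 2 ^ m = a + 1 := ⟨2 ^ m - 1, by omega⟩
    rw [ha]
    simp only [Nat.add_sub_cancel]
    ring_nf
    omega
  have hpd : p ∣ 2 ^ m + 1 := hkm ▸ dvd_pow_self p hk.ne'
  have hm2 : 1 < 2 ^ m := Nat.one_lt_two_pow hm.ne'
  have hnd : ¬ p ∣ 2 ^ m - 1 := by
    intro hc
    have := Nat.dvd_sub hpd hc
    rw [show 2 ^ m + 1 - (2 ^ m - 1) = 2 by omega] at this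
    exact hp2 ((Nat.prime_dvd_prime_iff_eq hp.out Nat.prime_two).mp this)
  have hxy : p ∣ 2 ^ (2 * m) - 1 := hfac ▸ dvd_mul_of_dvd_left hpd _
  have hx : ¬ p ∣ 2 ^ (2 * m) := fun hc =>
    hp2 ((Nat.prime_dvd_prime_iff_eq hp.out Nat.prime_two).mp (hp.out.dvd_of_dvd_pow hc))
  have hodd : Odd p := hp.out.odd_of_ne_two hp2
  have hv := padicValNat.pow_sub_pow (p := p) hodd (y := 1) hx1 hxy hx he
  rw [one_pow, ← pow_mul, hfac, padicValNat.mul (by omega) (by omega), ← hkm, padicValNat.prime_pow,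
    padicValNat.eq_zero_of_not_dvd hnd, add_zero] at hv
  have hne : 2 ^ (2 * m * e) - 1 ≠ 0 := by
    have : 1 < 2 ^ (2 * m * e) := Nat.one_lt_two_pow (by positivity)
    omega
  have hn : n ≤ padicValNat p (2 ^ (2 * m * e) - 1) := (padicValNat_dvd_iff_le hne).mp h
  rw [padicValNat_dvd_iff_le he]
  omega

/-- A group with an automorphism of order dividing `p ^ n` whose power `p ^ (n - 1)` fixes only `1`. -/
theorem dvd_card_sub_one {G : Type*} [Group G] [Finite G] (σ : MulAut G) {p n : ℕ} [hp : Fact p.Prime]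
    (hσ : σ ^ p ^ n = 1) (hfpf : ∀ g, (σ ^ p ^ (n - 1)) g = g → g = 1) : p ^ n ∣ Nat.card G - 1 := by
  classical
  let _ := Fintype.ofFinite G
  let H := Subgroup.zpowers σ
  let _ : MulAction H {g : G // g ≠ 1} :=
    { smul := fun h g => ⟨(h : MulAut G) (g : G), fun e => g.2 ((h : MulAut G).injective (e.trans (map_one _).symm))⟩
      one_smul := fun g => Subtype.ext rfl
      mul_smul := fun a b g => Subtype.ext rfl }
  have hper : ∀ g : G, g ≠ 1 → Function.minimalPeriod σ g = p ^ n := by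
    intro g hg
    have hpp : Function.IsPeriodicPt σ (p ^ n) g := by
      show (σ : G → G)^[p ^ n] g = g
      rw [← coe_pow, hσ, MulAut.one_apply]
    obtain ⟨c, hc, hce⟩ := (Nat.dvd_prime_pow hp.out).mp hpp.minimalPeriod_dvd
    rcases hc.lt_or_eq with hlt | rfl
    · refine absurd (hfpf g ?_) hg
      have : Function.IsPeriodicPt σ (p ^ (n - 1)) g :=
        Function.isPeriodicPt_iff_minimalPeriod_dvd.mpr
          (hce ▸ Nat.pow_dvd_pow p (Nat.le_sub_one_of_lt hlt))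
      rw [coe_pow]
      exact this
    · exact hce
  have hstab : ∀ b : {g : G // g ≠ 1}, MulAction.stabilizer H b = ⊥ := by
    rintro ⟨g, hg⟩
    rw [eq_bot_iff]
    rintro ⟨h, hh⟩ hfix
    obtain ⟨j, rfl⟩ : ∃ j : ℕ, σ ^ j = h := by
      obtain ⟨j, -, hj⟩ := Finset.mem_image.mp
        ((isOfFinOrder_iff_pow_eq_one.mpr ⟨_, pow_pos hp.out.pos n, hσ⟩).mem_zpowers_iff_mem_range_orderOf.mp hh)
      exact ⟨j, hj⟩
    have h1 : Function.IsPeriodicPt σ j g := by
      have := congrArg Subtype.val (MulAction.mem_stabilizer_iff.mp hfix)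
      change (σ ^ j) g = g at this
      rw [coe_pow] at this
      exact this
    obtain ⟨c, hc⟩ := h1.minimalPeriod_dvd
    rw [hper g hg] at hc
    refine Subgroup.mem_bot.mpr (Subtype.ext ?_)
    show σ ^ j = 1
    rw [hc, pow_mul, hσ, one_pow]
  have hH : Nat.card H = p ^ n ∨ Nat.card G = 1 := by
    by_cases hG : Nat.card G = 1
    · exact Or.inr hG
    left
    obtain ⟨g, hg⟩ : ∃ g : G, g ≠ 1 := by
      have : Nontrivial G := Finite.one_lt_card_iff_nontrivial.mp (by have := Nat.card_pos (α := G); omega)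
      exact exists_ne 1
    rw [Nat.card_zpowers]
    refine Nat.dvd_antisymm (orderOf_dvd_of_pow_eq_one hσ) ?_
    rw [← hper g hg]
    refine Function.IsPeriodicPt.minimalPeriod_dvd ?_
    show (σ : G → G)^[orderOf σ] g = g
    rw [← coe_pow, pow_orderOf_eq_one, MulAut.one_apply]
  rcases hH with hH | hG
  swap
  · rw [hG]; exact dvd_zero _
  have hX : Nat.card {g : G // g ≠ 1} = Nat.card G - 1 := by
    rw [Nat.card_eq_fintype_card, Nat.card_eq_fintype_card, Fintype.card_subtype_compl, Fintype.card_subtype_eq]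
  rw [← hX, Nat.card_congr (MulAction.selfEquivOrbitsQuotientProd hstab), Nat.card_prod, hH]
  exact dvd_mul_left _ _

/-- Multiples of `a` below `a * b`. -/
theorem filter_dvd (a b : ℕ) (ha : 0 < a) :
    (Finset.range (a * b)).filter (fun j => a ∣ j) = (Finset.range b).image (fun i => a * i) := by
  ext j
  simp only [Finset.mem_filter, Finset.mem_range, Finset.mem_image]
  constructor
  · rintro ⟨hj, i, rfl⟩
    exact ⟨i, Nat.lt_of_mul_lt_mul_left hj, rfl⟩
  · rintro ⟨i, hi, rfl⟩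
    exact ⟨Nat.mul_lt_mul_of_pos_left hi ha, dvd_mul_right _ _⟩

end Cfsg.Agent.Coprime.ShultGrossArith
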