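import Cfsg.Agent.Coprime.FpfPrime
import Cfsg.Agent.Coprime.EndCountPow
import Cfsg.Agent.Coprime.ShultGrossArith

/-!
An element `x` of order `p ^ n`, `p` odd, without fixed points on a coprime `s`-group `R` and on a
module for `R`: the power `x ^ p ^ (n - 1)` acts trivially on the image of `R`.
-/

namespace Cfsg.Agent.Coprime.ShultGross

open Subgroup Weights EndBound EndCount FpfPrime
open scoped commutatorElement

variable {k V : Type*} [Field k] [AddCommGroup V] [Module k V]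

/-- The stabiliser of a weight in a cyclic group of prime power order without fixed vectors. -/
theorem orbit_stab {U : Type*} [CommGroup U] [Finite U] (hU : (Nat.card U : k) ≠ 0) (τ : U →* Module.End k V)
    (σ : MulAut U) (T : Module.End k V) (hcompat : ∀ u, T * τ u = τ (σ u) * T) {p n : ℕ} [Fact p.Prime]
    (hσ : σ ^ p ^ n = 1) (hsum : ∑ j ∈ Finset.range (p ^ n), T ^ j = 0) (χ : U →* kˣ)
    (hχ : proj τ χ ≠ 0) :
    ∃ c, c < n ∧ (∀ j : ℕ, (∀ u, χ ((σ ^ j) u) = χ u) ↔ p ^ c ∣ j) ∧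
      Commute (T ^ p ^ c) (proj τ χ) ∧
      (∑ i ∈ Finset.range (p ^ (n - c)), (T ^ p ^ c) ^ i) * proj τ χ = 0 := by
  classical
  have hp : p.Prime := Fact.out
  set e := proj τ χ with he
  let s : (U →* kˣ) → (U →* kˣ) := fun φ => φ.comp σ.toMonoidHom
  have hs : ∀ (j : ℕ) (φ : U →* kˣ) u, (s^[j] φ) u = φ ((σ ^ j) u) := by
    intro j
    induction j with
    | zero => intro φ u; rfl
    | succ j ih =>
      intro φ u
      rw [Function.iterate_succ_apply', pow_succ, MulAut.mul_apply]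
      show (s^[j] φ) (σ u) = _
      rw [ih]
  have hiff : ∀ j, (∀ u, χ ((σ ^ j) u) = χ u) ↔ Function.IsPeriodicPt s j χ := by
    intro j
    constructor
    · intro h; exact MonoidHom.ext fun u => (hs j χ u).trans (h u)
    · intro h u; rw [← hs]; exact congrArg (fun φ : U →* kˣ => φ u) h
  have hpn : Function.IsPeriodicPt s (p ^ n) χ := (hiff _).mp fun u => by rw [hσ, MulAut.one_apply]
  obtain ⟨c, hcn, hc⟩ := (Nat.dvd_prime_pow hp).mp hpn.minimalPeriod_dvd
  have hstab : ∀ j, (∀ u, χ ((σ ^ j) u) = χ u) ↔ p ^ c ∣ j := fun j => by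
    rw [hiff, Function.isPeriodicPt_iff_minimalPeriod_dvd, hc]
  have hg : ∀ (j : ℕ) u, T ^ j * τ u = τ ((σ ^ j) u) * T ^ j := by
    intro j
    induction j with
    | zero => simp
    | succ j ih => intro u; rw [pow_succ', mul_assoc, ih, ← mul_assoc, hcompat, mul_assoc, pow_succ', MulAut.mul_apply]
  have hfixj : ∀ j, p ^ c ∣ j → Commute (T ^ j) e := by
    intro j hj
    have h3 := mul_proj_of_conj (hg j) χ
    have hcj : χ.comp (σ ^ j).symm.toMonoidHom = χ := MonoidHom.ext fun u => by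
      have := (hstab j).mpr hj ((σ ^ j).symm u)
      rw [MulEquiv.apply_symm_apply] at this
      exact this.symm
    rw [hcj] at h3
    exact h3
  have hterm : ∀ j, e * T ^ j * e = if p ^ c ∣ j then T ^ j * e else 0 := by
    intro j
    split_ifs with hj
    · rw [← (hfixj j hj).eq, mul_assoc, proj_mul_self hU]
    · rw [mul_assoc, he, mul_proj_of_conj (hg j), ← mul_assoc, proj_mul_proj, zero_mul]
      intro heq
      refine hj ((hstab j).mp fun u => ?_)
      conv_lhs => rw [heq]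
      show χ ((σ ^ j).symm ((σ ^ j) u)) = χ u
      rw [MulEquiv.symm_apply_apply]
  have h0 : e * (∑ j ∈ Finset.range (p ^ n), T ^ j) * e = 0 := by rw [hsum, mul_zero, zero_mul]
  rw [Finset.mul_sum, Finset.sum_mul, Finset.sum_congr rfl fun j _ => hterm j, ← Finset.sum_filter,
    ← Finset.sum_mul] at h0
  rw [show p ^ n = p ^ c * p ^ (n - c) by rw [← pow_add, Nat.add_sub_cancel' hcn],
    ShultGrossArith.filter_dvd _ _ (pow_pos hp.pos c),
    Finset.sum_image (fun a _ b _ h => mul_left_cancel₀ (pow_pos hp.pos c).ne' h)] at h0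
  simp only [pow_mul] at h0
  refine ⟨c, lt_of_le_of_ne hcn ?_, hstab, hfixj _ dvd_rfl, h0⟩
  rintro rfl
  rw [Nat.sub_self, pow_zero, Finset.sum_range_one, pow_zero, one_mul] at h0
  exact hχ h0

/-- The index of the radical is a square. -/
theorem exists_sq {Q : Type*} [Group Q] [Finite Q] [IsAlgClosed k] [FiniteDimensional k V] [Nontrivial V]
    {ρ : Q →* Module.End k V} {N : Subgroup Q} [N.Normal] (S : Setting ρ N) (hU : (N.index : k) ≠ 0) :
    ∃ n, N.index = n * n := by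
  classical
  have hex : ∃ d, ∃ W : Submodule k V, W ≠ ⊥ ∧ (∀ x, ∀ v ∈ W, ρ x v ∈ W) ∧ Module.finrank k W = d :=
    ⟨_, ⊤, top_ne_bot, fun _ _ _ => Submodule.mem_top, rfl⟩
  obtain ⟨W, hW0, hWinv, hWd⟩ := Nat.find_spec hex
  let ρW : Q →* Module.End k W :=
    { toFun := fun x => (ρ x).restrict (hWinv x)
      map_one' := LinearMap.ext fun v => Subtype.ext (by simp)
      map_mul' := fun x y => LinearMap.ext fun v => Subtype.ext (by simp) }
  have hWne : Nontrivial W := Submodule.nontrivial_iff_ne_bot.mpr hW0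
  have SW : Setting ρW N := by
    refine ⟨fun x y => ?_, fun x hx => ?_, fun x hx => ?_⟩
    · obtain ⟨c, hc⟩ := S.comm x y
      exact ⟨c, LinearMap.ext fun v => Subtype.ext (congrArg (fun f : Module.End k V => f v) hc)⟩
    · obtain ⟨c, hc⟩ := S.scal x hx
      exact ⟨c, LinearMap.ext fun v => Subtype.ext (congrArg (fun f : Module.End k V => f v) hc)⟩
    · refine S.nondeg x fun y => ?_
      obtain ⟨c, hc⟩ := S.comm x y
      have hcW : ρW ⁅x, y⁆ = c • 1 :=
        LinearMap.ext fun v => Subtype.ext (congrArg (fun f : Module.End k V => f v) hc)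
      have h1 : ρW ⁅x, y⁆ = 1 := by
        rw [commutatorElement_def, map_mul, map_mul, map_mul, (hx y).eq, mul_assoc (ρW y),
          ← map_mul ρW x, mul_inv_cancel, map_one, mul_one, ← map_mul, mul_inv_cancel, map_one]
      rw [hcW] at h1
      have hc1 : c = 1 :=
        smul_left_injective k (one_ne_zero (α := Module.End k W))
          (by simpa only [one_smul] using h1)
      rw [hc1, one_smul] at hc
      show ρ x * ρ y = ρ y * ρ x
      have : ρ (x * y) = ρ (⁅x, y⁆ * (y * x)) := by rw [commutatorElement_def]; group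
      rw [← map_mul, this, map_mul, hc, one_mul, map_mul]
  refine ⟨_, SW.index_eq_sq hU fun W' hW' => ?_⟩
  by_cases h0 : W' = ⊥
  · exact Or.inl h0
  · refine Or.inr ?_
    have hinv : ∀ x, ∀ v ∈ W'.map W.subtype, ρ x v ∈ W'.map W.subtype := by
      rintro x _ ⟨v, hv, rfl⟩
      exact ⟨ρW x v, hW' x v hv, rfl⟩
    have hne : W'.map W.subtype ≠ ⊥ := fun h => h0 (by
      rwa [← Submodule.finrank_eq_zero, Submodule.finrank_map_subtype_eq, Submodule.finrank_eq_zero] at h)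
    have := Nat.find_min' hex ⟨_, hne, hinv, rfl⟩
    rw [← hWd, Submodule.finrank_map_subtype_eq] at this
    exact Submodule.eq_top_of_finrank_eq (le_antisymm (Submodule.finrank_le _) this)

variable {Y : Type*} [Group Y] [Finite Y] {ρ : Y →* Module.End k V}

/-- Commutators with powers of `t` are products of displacements. -/
theorem commutator_le_moved (R : Subgroup Y) {t : Y} (ht : t ∈ normalizer (R : Set Y)) :
    ⁅R, zpowers t⁆ ≤ (moved (Subgroup.normalizerMonoidHom R ⟨t, ht⟩)).map R.subtype := by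
  classical
  set σ := Subgroup.normalizerMonoidHom R ⟨t, ht⟩
  refine commutator_le.mpr fun z hz a ha => ?_
  obtain ⟨i, rfl⟩ : ∃ i : ℕ, t ^ i = a := by
    obtain ⟨i, -, hi⟩ := Finset.mem_image.mp
      ((isOfFinOrder_of_finite t).mem_zpowers_iff_mem_range_orderOf.mp ha)
    exact ⟨i, hi⟩
  suffices ∀ w : R, ⁅(w : Y), t ^ i⁆ ∈ (moved σ).map R.subtype from this ⟨z, hz⟩
  clear ha
  induction i with
  | zero => intro w; rw [pow_zero, commutatorElement_one_right]; exact one_mem _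
  | succ j ihj =>
    intro w
    rw [pow_succ', show ⁅(w : Y), t * t ^ j⁆ = ⁅(w : Y), t⁆ * (t * ⁅(w : Y), t ^ j⁆ * t⁻¹) by
      simp only [commutatorElement_def]; group]
    have h4 : ⁅(w : Y), t⁆ ∈ (moved σ).map R.subtype := by
      refine ⟨(w⁻¹)⁻¹ * σ w⁻¹, mem_moved σ _, ?_⟩
      show ((w : Y)⁻¹)⁻¹ * (t * (w : Y)⁻¹ * t⁻¹) = _
      simp [commutatorElement_def, mul_assoc]
    refine mul_mem h4 ?_
    obtain ⟨u, hu, hu'⟩ := ihj w
    refine ⟨σ u, moved_map_mem hu, ?_⟩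
    show t * (u : Y) * t⁻¹ = _
    rw [show (u : Y) = ⁅(w : Y), t ^ j⁆ from hu']

/-- If `R = ⁅R, y⁆` has scalar commutators, elements commuting with `y` modulo the radical lie in it. -/
theorem mem_cen_of_fixed [Nontrivial V] (R : Subgroup Y) {y : Y} (hy : y ∈ normalizer (R : Set Y))
    {p : ℕ} (hp : p ≠ 0) (hyp : y ^ p = 1) (hgen : R ≤ ⁅R, zpowers y⁆)
    (hcomm : ∀ a b : R, ∃ c : k, ρ ((⁅a, b⁆ : R) : Y) = c • 1) {v : R}
    (hv : v⁻¹ * Subgroup.normalizerMonoidHom R ⟨y, hy⟩ v ∈ cen (ρ.comp R.subtype)) :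
    v ∈ cen (ρ.comp R.subtype) := by
  intro w
  have hw : w ∈ moved (Subgroup.normalizerMonoidHom R ⟨y, hy⟩) := by
    obtain ⟨w', hw', he⟩ := commutator_le_moved R hy (hgen w.2)
    rwa [← Subtype.ext he]
  refine (commute_of_mem_moved (ρ := ρ.comp R.subtype) (σ := Subgroup.normalizerMonoidHom R ⟨y, hy⟩)
    (T := ρ y) hcomm (fun z => ?_) hp (by rw [← map_pow, hyp, map_one]) hv hw).symm
  show ρ y * ρ z = ρ (y * z * y⁻¹) * ρ y
  rw [← map_mul, ← map_mul, inv_mul_cancel_right]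

variable [IsAlgClosed k] [FiniteDimensional k V]

set_option maxHeartbeats 1000000 in
/-- Scalar commutators: only the exceptional case remains. -/
theorem dichotomy_faithful [Nontrivial V] {s p l : ℕ} [Fact s.Prime] [Fact p.Prime] (hsp : s ≠ p)
    (hp2 : p ≠ 2) (hsk : (s : k) ≠ 0) (hinj : Function.Injective ρ)
    (R : Subgroup Y) (hR : IsPGroup s R) (t : Y) (ht : t ∈ normalizer (R : Set Y)) (hl : 0 < l)
    (htp : t ^ p ^ l = 1) (hsum : ∑ i ∈ Finset.range (p ^ l), ρ t ^ i = 0)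
    (hcomm : ∀ a b : R, ∃ c : k, ρ ((⁅a, b⁆ : R) : Y) = c • 1)
    (hgen : R ≤ ⁅R, zpowers (t ^ p ^ (l - 1))⁆) (hnc : cen (ρ.comp R.subtype) ≠ ⊤) :
    s = 2 ∧ ∃ a m, 0 < a ∧ a ≤ l ∧ 0 < m ∧ p ^ a = 2 ^ m + 1 ∧
      (cen (ρ.comp R.subtype)).index = 2 ^ (2 * m) := by
  classical
  have hp : p.Prime := Fact.out
  have hs : s.Prime := Fact.out
  set σ := Subgroup.normalizerMonoidHom R ⟨t, ht⟩ with hσdef
  set N := cen (ρ.comp R.subtype) with hN
  set M := N.map R.subtype with hM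
  have hMR : M ≤ R := map_subtype_le _
  have hMcomm : ∀ u ∈ M, ∀ g ∈ R, ρ u * ρ g = ρ g * ρ u := by
    rintro _ ⟨u, hu, rfl⟩ g hg
    exact (hu ⟨g, hg⟩).eq
  let _ : CommGroup M :=
    { (inferInstance : Group M) with
      mul_comm := fun a b => Subtype.ext (hinj (by
        show ρ ((a : Y) * b) = ρ ((b : Y) * a)
        rw [map_mul, map_mul, hMcomm a a.2 b (hMR b.2)])) }
  have hTp : ρ t ^ p ^ l = 1 := by rw [← map_pow, htp, map_one]
  have hcompatR : ∀ z : R, ρ t * (ρ.comp R.subtype) z = (ρ.comp R.subtype) (σ z) * ρ t := fun z => by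
    show ρ t * ρ z = ρ (t * z * t⁻¹) * ρ t
    rw [← map_mul, ← map_mul, inv_mul_cancel_right]
  have htM : t ∈ normalizer (M : Set Y) := by
    refine mem_normalizer_of_map_conj (eq_of_le_of_card_ge ?_
      (Subgroup.card_map_of_injective (MulAut.conj t).injective).ge)
    rintro _ ⟨_, ⟨u, hu, rfl⟩, rfl⟩
    exact ⟨σ u, cen_map_mem (pow_pos hp.pos l).ne' hTp hcompatR hu, rfl⟩
  obtain ⟨jR, hjR⟩ := IsPGroup.iff_card.mp hR
  have hMk : (Nat.card M : k) ≠ 0 := by
    obtain ⟨j, hj⟩ := IsPGroup.iff_card.mp (hR.to_le hMR)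
    rw [hj, Nat.cast_pow]
    exact pow_ne_zero _ hsk
  let τ : M →* Module.End k V := ρ.comp M.subtype
  let σM := Subgroup.normalizerMonoidHom M ⟨t, htM⟩
  have hσM : σM ^ p ^ l = 1 := by
    show Subgroup.normalizerMonoidHom M ⟨t, htM⟩ ^ p ^ l = 1
    rw [← map_pow, show (⟨t, htM⟩ : normalizer (M : Set Y)) ^ p ^ l = 1 from Subtype.ext htp, map_one]
  obtain ⟨ψ, hψ⟩ : ∃ ψ : M →* kˣ, proj τ ψ ≠ 0 := by
    by_contra h
    push Not at h
    have := finite_chars (k := k) (U := M) hMk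
    let _ := Fintype.ofFinite (M →* kˣ)
    have h1 := sum_proj hMk τ
    simp only [h, Finset.sum_const_zero] at h1
    exact zero_ne_one h1
  obtain ⟨c, hcl, -, hTc, hsum2⟩ := orbit_stab hMk τ σM (ρ t) (fun u => by
    show ρ t * ρ u = ρ (t * u * t⁻¹) * ρ t
    rw [← map_mul, ← map_mul, inv_mul_cancel_right]) hσM hsum ψ hψ
  set e := proj τ ψ with he
  have hRst : ∀ g ∈ R, g ∈ stab ρ e := fun g hg =>
    mul_proj_of_conj (τ := τ) (σ := MulEquiv.refl M) (g := ρ g) (fun u => (hMcomm u u.2 g hg).symm) ψ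
  set t2 := t ^ p ^ c with ht2
  have ht2st : t2 ∈ stab ρ e := by
    show Commute (ρ (t ^ p ^ c)) e
    rw [map_pow]
    exact hTc
  let ι : R →* stab ρ e := R.subtype.codRestrict _ fun z => hRst z z.2
  let ρW := (sub ρ e).comp ι
  have : Nontrivial (LinearMap.range e) :=
    Submodule.nontrivial_iff_ne_bot.mpr (fun h => hψ (LinearMap.range_eq_bot.mp h))
  have S : Setting (V := LinearMap.range e) ρW N := by
    refine ⟨fun a b => ?_, fun u hu => ?_, fun a ha b => ?_⟩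
    · obtain ⟨d, hd⟩ := hcomm a b
      exact ⟨d, (sub_eq_iff _ (d • 1) (d • 1) (fun v => rfl)).mpr (by rw [← hd]; rfl)⟩
    · refine ⟨(ψ ⟨u, mem_map_of_mem _ hu⟩ : kˣ), (sub_eq_iff _ ((ψ ⟨u, mem_map_of_mem _ hu⟩ : k) • 1)
        ((ψ ⟨u, mem_map_of_mem _ hu⟩ : k) • 1) (fun v => rfl)).mpr ?_⟩
      rw [smul_mul_assoc, one_mul]
      exact act_mul_proj τ ψ ⟨u, mem_map_of_mem _ hu⟩
    · obtain ⟨d, hd⟩ := hcomm a b
      have h1 : ρW.toHomUnits ⁅a, b⁆ = 1 := by
        rw [map_commutatorElement, commutatorElement_eq_one_iff_commute]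
        exact Units.ext (ha b).eq
      have h2 : ρ ((⁅a, b⁆ : R) : Y) * e = e := (sub_eq_one_iff _).mp (congrArg Units.val h1)
      rw [hd, smul_mul_assoc, one_mul] at h2
      have hd1 : d = 1 := smul_left_injective k hψ (h2.trans (one_smul k e).symm)
      rw [hd1, one_smul] at hd
      show ρ a * ρ b = ρ b * ρ a
      have h3 : ((⁅a, b⁆ : R) : Y) = 1 := hinj (hd.trans (map_one ρ).symm)
      rw [← map_mul, ← map_mul]
      exact congrArg (fun z : R => ρ z)
        (commutatorElement_eq_one_iff_mul_comm.mp (Subtype.ext h3 : ⁅a, b⁆ = 1))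
  have hlc : 0 < l - c := Nat.sub_pos_of_lt hcl
  have hσ2 : ∀ z : R, ((σ ^ p ^ c) z : Y) = t2 * z * t2⁻¹ := fun z => by
    show (((Subgroup.normalizerMonoidHom R ⟨t, ht⟩) ^ p ^ c) z : Y) = _
    rw [← map_pow]
    rfl
  have hT2 : ∀ i, sub ρ e ⟨t2, ht2st⟩ ^ i = sub ρ e (⟨t2, ht2st⟩ ^ i) := fun i => (map_pow _ _ i).symm
  have hNi : (N.index : k) ≠ 0 := by
    obtain ⟨i, -, hi⟩ := (Nat.dvd_prime_pow hs).mp (hjR ▸ N.index_dvd_card)
    rw [hi, Nat.cast_pow]
    exact pow_ne_zero _ hsk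
  rcases EndCountPow.count' S hNi (q := p) (l := l - c) hlc (σ ^ p ^ c) (sub ρ e ⟨t2, ht2st⟩)
    (by
      rw [hT2, show (⟨t2, ht2st⟩ : stab ρ e) ^ p ^ (l - c) = 1 from Subtype.ext (by
        show t2 ^ p ^ (l - c) = 1
        rw [ht2, ← pow_mul, ← pow_add, Nat.add_sub_cancel' hcl.le, htp]), map_one])
    (LinearMap.ext fun ⟨_, v, rfl⟩ => Subtype.ext (by
      have hTv : ∀ (i : ℕ) (w : LinearMap.range e),
          (((sub ρ e ⟨t2, ht2st⟩ ^ i) w : LinearMap.range e) : V) = ((ρ t ^ p ^ c) ^ i) w := fun i w => by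
        rw [hT2, ← map_pow, ← map_pow]
        show ρ (((⟨t2, ht2st⟩ : stab ρ e) ^ i : stab ρ e) : Y) w = _
        rw [SubmonoidClass.coe_pow]
      simp only [LinearMap.sum_apply, Submodule.coe_sum, hTv, LinearMap.zero_apply, Submodule.coe_zero]
      have := congrArg (fun f : Module.End k V => f v) hsum2
      simpa only [Module.End.mul_apply, LinearMap.sum_apply, LinearMap.zero_apply] using this))
    (fun z => by
      show sub ρ e ⟨t2, ht2st⟩ * sub ρ e (ι z) = sub ρ e (ι ((σ ^ p ^ c) z)) * sub ρ e ⟨t2, ht2st⟩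
      rw [← map_mul, ← map_mul]
      congr 1
      refine Subtype.ext ?_
      show t2 * (z : Y) = (((σ ^ p ^ c) z : R) : Y) * t2
      rw [hσ2, inv_mul_cancel_right])
    (fun z hz => by
      have hy : t ^ p ^ (l - 1) ∈ normalizer (R : Set Y) := pow_mem ht _
      refine mem_cen_of_fixed R hy hp.ne_zero (by rw [← pow_mul, ← pow_succ, Nat.sub_add_cancel hl, htp])
        hgen hcomm ?_
      rw [← pow_mul, ← pow_add, show c + (l - c - 1) = l - 1 by omega, hσdef, ← map_pow] at hz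
      exact hz) with h1 | ⟨hdvd, hle⟩
  · exact absurd (Subgroup.index_eq_one.mp h1) hnc
  obtain ⟨n, hn⟩ := exists_sq S hNi
  obtain ⟨i, -, hi⟩ := (Nat.dvd_prime_pow hs).mp (hjR ▸ N.index_dvd_card)
  obtain ⟨m, -, hm⟩ := (Nat.dvd_prime_pow hs).mp (show n ∣ s ^ i from ⟨n, by rw [← hi, hn]⟩)
  have hm0 : 0 < m := by
    rcases Nat.eq_zero_or_pos m with rfl | h
    · exact absurd (Subgroup.index_eq_one.mp (by rw [hn, hm]; simp)) hnc
    · exact h
  have hn2 : 2 ≤ n := hm ▸ hs.two_le.trans (Nat.le_self_pow hm0.ne' s)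
  set q := p ^ (l - c) with hq
  rw [hn] at hdvd hle
  have hnq : n ≤ q - 1 := Nat.mul_self_le_mul_self_iff.mp hle
  have hqn : q = n + 1 := by
    obtain ⟨o, rfl⟩ : ∃ o, n = o + 1 := ⟨n - 1, by omega⟩
    rw [show (o + 1) * (o + 1) - 1 = o * (o + 2) by ring_nf; omega] at hdvd
    have hor : q ∣ o ∨ q ∣ o + 2 := by
      by_cases hpo : p ∣ o
      · have hpo2 : ¬ p ∣ o + 2 := fun h =>
          hp2 ((Nat.prime_dvd_prime_iff_eq hp Nat.prime_two).mp ((Nat.dvd_add_right hpo).mp h))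
        exact Or.inl (((hp.coprime_iff_not_dvd.mpr hpo2).pow_left _).dvd_of_dvd_mul_right hdvd)
      · exact Or.inr (((hp.coprime_iff_not_dvd.mpr hpo).pow_left _).dvd_of_dvd_mul_left hdvd)
    rcases hor with h | h
    · have := Nat.le_of_dvd (by omega) h; omega
    · have := Nat.le_of_dvd (by omega) h; omega
  have hs2 : s = 2 := by
    have hodd : q % 2 = 1 := Nat.odd_iff.mp ((hp.odd_of_ne_two hp2).pow)
    have h2 : 2 ∣ s ^ m := by rw [← hm]; omega
    exact ((Nat.prime_dvd_prime_iff_eq Nat.prime_two hs).mp (Nat.prime_two.dvd_of_dvd_pow h2)).symm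
  subst hs2
  refine ⟨rfl, l - c, m, hlc, Nat.sub_le _ _, hm0, ?_, ?_⟩
  · rw [← hq, hqn, hm]
  · rw [hn, hm, two_mul, pow_add]

/-- The radical of the scalar pairing is unchanged in the faithful quotient. -/
theorem dichotomy' [Nontrivial V] {s p l : ℕ} [Fact s.Prime] [Fact p.Prime] (hsp : s ≠ p)
    (hp2 : p ≠ 2) (hsk : (s : k) ≠ 0)
    (R : Subgroup Y) (hR : IsPGroup s R) (t : Y) (ht : t ∈ normalizer (R : Set Y)) (hl : 0 < l)
    (htp : t ^ p ^ l = 1) (hsum : ∑ i ∈ Finset.range (p ^ l), ρ t ^ i = 0)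
    (hcomm : ∀ a b : R, ∃ c : k, ρ ((⁅a, b⁆ : R) : Y) = c • 1)
    (hgen : R ≤ ⁅R, zpowers (t ^ p ^ (l - 1))⁆) (hnc : cen (ρ.comp R.subtype) ≠ ⊤) :
    s = 2 ∧ ∃ a m, 0 < a ∧ a ≤ l ∧ 0 < m ∧ p ^ a = 2 ^ m + 1 ∧
      (cen (ρ.comp R.subtype)).index = 2 ^ (2 * m) := by
  let π := QuotientGroup.mk' ρ.ker
  let ρ' : Y ⧸ ρ.ker →* Module.End k V := QuotientGroup.lift ρ.ker ρ le_rfl
  have hinj : Function.Injective ρ' := by
    refine (injective_iff_map_eq_one' ρ').mpr fun v => ⟨fun hv => ?_, fun hv => by rw [hv, map_one]⟩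
    obtain ⟨w, rfl⟩ := QuotientGroup.mk_surjective v
    exact (QuotientGroup.eq_one_iff _).mpr hv
  let f : R →* R.map π := (π.comp R.subtype).codRestrict _ fun z => mem_map_of_mem _ z.2
  have hf : Function.Surjective f := by
    rintro ⟨_, z, hz, rfl⟩
    exact ⟨⟨z, hz⟩, rfl⟩
  have hcomap : cen (ρ.comp R.subtype) = (cen (ρ'.comp (R.map π).subtype)).comap f := by
    ext z
    constructor
    · intro hz w
      obtain ⟨w, rfl⟩ := hf w
      exact hz w
    · intro hz w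
      exact hz (f w)
  have hidx : (cen (ρ.comp R.subtype)).index = (cen (ρ'.comp (R.map π).subtype)).index := by
    rw [hcomap, index_comap_of_surjective _ hf]
  rw [hidx]
  refine dichotomy_faithful hsp hp2 hsk hinj (R.map π) (hR.map π) (π t)
    (Subgroup.le_normalizer_map π ⟨t, ht, rfl⟩) hl (by rw [← map_pow, htp, map_one]) hsum ?_ ?_ ?_
  · intro a b
    obtain ⟨a, rfl⟩ := hf a
    obtain ⟨b, rfl⟩ := hf b
    rw [← map_commutatorElement]
    exact hcomm a b
  · rw [← map_pow, ← MonoidHom.map_zpowers, ← map_commutator]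
    exact map_mono hgen
  · intro h
    exact hnc (by rw [hcomap, h, comap_top])

/-- The case of nonzero `p`. -/
theorem dichotomy [Nontrivial V] {s p l : ℕ} [Fact s.Prime] [Fact p.Prime] (hsp : s ≠ p)
    (hp2 : p ≠ 2) (hsk : (s : k) ≠ 0) (hpk : (p : k) ≠ 0)
    (R : Subgroup Y) (hR : IsPGroup s R) (t : Y) (ht : t ∈ normalizer (R : Set Y)) (hl : 0 < l)
    (htp : t ^ p ^ l = 1) (hsum : ∑ i ∈ Finset.range (p ^ l), ρ t ^ i = 0)
    (hcomm : ∀ a b : R, ∃ c : k, ρ ((⁅a, b⁆ : R) : Y) = c • 1)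
    (hgen : R ≤ ⁅R, zpowers (t ^ p ^ (l - 1))⁆) (hnc : cen (ρ.comp R.subtype) ≠ ⊤) :
    s = 2 ∧ ∃ a m, 0 < a ∧ a ≤ l ∧ 0 < m ∧ p ^ a = 2 ^ m + 1 ∧
      (cen (ρ.comp R.subtype)).index = 2 ^ (2 * m) :=
  dichotomy' hsp hp2 hsk R hR t ht hl htp hsum hcomm hgen hnc

end Cfsg.Agent.Coprime.ShultGross
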