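import Cfsg.Agent.Coprime.ShultGrossKey
import Cfsg.Agent.Coprime.PQFitting

/-!
The theorem of Shult and Gross: a solvable group with a fixed-point-free automorphism of order
`p ^ n`, `p` odd, has Fitting height at most `n`.
-/

namespace Cfsg.Agent.Coprime.ShultGross

open Subgroup SemidirectProduct
open Cfsg
open scoped commutatorElement

universe uG

theorem sum_range_orderOf {M : Type*} [Group M] [Finite M] (σ : M) [Fintype (zpowers σ)] {B : Type*}
    [AddCommMonoid B] (f : zpowers σ → B) :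
    ∑ i ∈ Finset.range (orderOf σ), f ((⟨σ, mem_zpowers σ⟩ : zpowers σ) ^ i) = ∑ a, f a := by
  rw [← Fin.sum_univ_eq_sum_range]
  exact Fintype.sum_equiv (finEquivZPowers (isOfFinOrder_of_finite σ)) _ _ fun i => congrArg f (Subtype.ext rfl)

/-- An element of `p`-power order without fixed points acts on a group of order prime to `p`. -/
theorem not_dvd_card_of_fpf {G : Type*} [Group G] [Finite G] {p n : ℕ} [Fact p.Prime] (σ : MulAut G)
    (hσ : σ ^ p ^ n = 1) (hfpf : ∀ g : G, σ g = g → g = 1) : ¬ p ∣ Nat.card G := by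
  intro hd
  have hA : IsPGroup p (zpowers σ) := by
    obtain ⟨i, -, hi⟩ := (Nat.dvd_prime_pow Fact.out).mp (orderOf_dvd_of_pow_eq_one hσ)
    exact IsPGroup.of_card ((Nat.card_zpowers σ).trans hi)
  obtain ⟨b, hb, hb1⟩ := hA.exists_fixed_point_of_prime_dvd_card_of_fixed_point G hd (a := 1)
    (MulAction.mem_fixedPoints.mpr fun a => smul_one a)
  exact hb1 (hfpf b (MulAction.mem_fixedPoints.mp hb ⟨σ, mem_zpowers σ⟩)).symm

variable {G : Type*} [Group G] [Finite G]

set_option maxHeartbeats 1600000 in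
/-- The power of order `p` acts trivially on the cores of the quotient by the Fitting subgroup. -/
theorem map_mem_fitting_of_fpf [Group.IsSolvable G] {p n : ℕ} [Fact p.Prime] (hp2 : p ≠ 2) (hn : 0 < n)
    (σ : MulAut G) (hσ : σ ^ p ^ n = 1) (hfpf : ∀ g : G, σ g = g → g = 1) {r : ℕ} [Fact r.Prime]
    {v : G} (hv : (QuotientGroup.mk' (fittingSubgroup G)) v ∈ pCore r (G ⧸ fittingSubgroup G)) :
    v⁻¹ * (σ ^ p ^ (n - 1)) v ∈ fittingSubgroup G := by
  classical
  have hp : p.Prime := Fact.out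
  have hr : r.Prime := Fact.out
  by_cases hy1 : σ ^ p ^ (n - 1) = 1
  · rw [hy1, MulAut.one_apply, inv_mul_cancel]
    exact one_mem _
  have hord : orderOf σ = p ^ n := by
    have := orderOf_eq_prime_pow hy1 (by rw [Nat.sub_add_cancel hn]; exact hσ)
    rwa [Nat.sub_add_cancel hn] at this
  let A : Subgroup (MulAut G) := zpowers σ
  let a0 : A := ⟨σ, mem_zpowers σ⟩
  let _ := Fintype.ofFinite A
  have hpG : ¬ p ∣ Nat.card G := not_dvd_card_of_fpf σ hσ hfpf
  have hcop : (Nat.card A).Coprime (Nat.card G) := by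
    rw [Nat.card_zpowers, hord]
    exact (hp.coprime_iff_not_dvd.mpr hpG).pow_left n
  have hfixA : ∀ g : G, (∀ a : A, a • g = g) → g = 1 := fun g hg => hfpf g (hg a0)
  have hsolv : Group.IsSolvable A ∨ Group.IsSolvable G := Or.inr inferInstance
  set F := fittingSubgroup G with hF
  set π := QuotientGroup.mk' F with hπ
  have hπs : Function.Surjective π := QuotientGroup.mk'_surjective F
  set S := (pCore r (G ⧸ F)).comap π with hS
  have hpowS : ∀ g ∈ S, ∃ n, g ^ r ^ n ∈ F := fun g hg => by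
    obtain ⟨n, hn⟩ := Cores.pCore_isPGroup (p := r) (G := G ⧸ F) ⟨π g, hg⟩
    exact ⟨n, (QuotientGroup.eq_one_iff _).mp (congrArg Subtype.val hn)⟩
  obtain ⟨R, hRinv⟩ := exists_invariant_sylow' (A := A) hcop hsolv r
  have hSinv : IsInvariant A S := by
    intro a x hx
    let e : G ⧸ F ≃* G ⧸ F := QuotientGroup.congr F F (MulDistribMulAction.toMulAut A G a)
      ((characteristic_iff_map_eq.mp (inferInstance : F.Characteristic)) _)
    show π (a • x) ∈ pCore r (G ⧸ F)
    rw [← Cores.pCore_map_mulEquiv e]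
    exact ⟨π x, hx, rfl⟩
  set P := (R : Subgroup G) ⊓ S with hP
  have hPinv : IsInvariant A P := fun a x hx => ⟨hRinv a x hx.1, hSinv a x hx.2⟩
  -- a representative in the invariant subgroup
  obtain ⟨u, huR, huv⟩ : ∃ u ∈ (R : Subgroup G), π u = π v := by
    have := Cores.pCore_le_sylow (R.mapSurjective hπs) hv
    exact this
  have hu : u ∈ P := ⟨huR, show π u ∈ pCore r (G ⧸ F) from huv ▸ hv⟩
  suffices hmain : u⁻¹ * (σ ^ p ^ (n - 1)) u ∈ F by
    obtain ⟨w, hw, rfl⟩ : ∃ w ∈ F, v = u * w :=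
      ⟨u⁻¹ * v, QuotientGroup.eq.mp huv, (mul_inv_cancel_left u v).symm⟩
    have hwF : (σ ^ p ^ (n - 1)) w ∈ F := by
      have := (characteristic_iff_map_eq.mp (inferInstance : F.Characteristic)) (σ ^ p ^ (n - 1))
      rw [← this]
      exact mem_map_of_mem _ hw
    rw [map_mul, mul_inv_rev, mul_assoc, ← mul_assoc u⁻¹]
    exact mul_mem (inv_mem hw) (mul_mem hmain hwF)
  by_cases hrd : r ∣ Nat.card G
  swap
  · have : (R : Subgroup G) = ⊥ := by
      rw [← card_eq_one, R.card_eq_multiplicity, Nat.factorization_eq_zero_of_not_dvd hrd, pow_zero]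
    rw [this, Subgroup.mem_bot] at huR
    rw [huR, map_one, inv_one, one_mul]
    exact one_mem _
  have hrp : r ≠ p := fun h => hpG (h ▸ hrd)
  set g := u⁻¹ * (σ ^ p ^ (n - 1)) u with hg
  have hgP : g ∈ P := mul_mem (inv_mem hu) (by
    have := hPinv (a0 ^ p ^ (n - 1)) u hu
    exact this)
  have hker : ∀ l : ℕ, l.Prime → l ≠ r → ∀ b ∈ zpowers g,
      ∀ o ∈ pCore l G, b * o * b⁻¹ * o⁻¹ ∈ (frattini (pCore l G)).map (pCore l G).subtype := by
      intro l hl hlr
      have : Fact l.Prime := ⟨hl⟩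
      by_cases hld : l ∣ Nat.card G
      swap
      · intro b _ o ho
        rw [Cores.pCore_subsingleton_of_coprime ((hl.coprime_iff_not_dvd.mpr hld).symm), Subgroup.mem_bot] at ho
        rw [ho, mul_one, mul_inv_cancel, inv_one, one_mul]
        exact one_mem _
      have hlp : l ≠ p := fun h => hpG (h ▸ hld)
      let Y := Ext A G
      let O := pCore l G
      let Φ := (frattini O).map O.subtype
      have hOl : IsPGroup l O := Cores.pCore_isPGroup
      have hOinv : ∀ (φ : MulAut G), O.map φ.toMonoidHom = O := fun φ => Cores.pCore_map_mulEquiv φ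
      have hΦinv : ∀ (φ : MulAut G), ∀ z ∈ Φ, φ z ∈ Φ := by
        rintro φ _ ⟨w, hw, rfl⟩
        let e : O ≃* O := (O.equivMapOfInjective φ.toMonoidHom φ.injective).trans
          (MulEquiv.subgroupCongr (hOinv φ))
        refine ⟨e w, ?_, rfl⟩
        have := (characteristic_iff_map_eq.mp (frattini_characteristic (G := O))) e
        rw [← this]
        exact mem_map_of_mem _ hw
      have hnorm : ∀ L : Subgroup G, (∀ (φ : MulAut G), ∀ z ∈ L, φ z ∈ L) →
          (L.map (inl : G →* Y)).Normal := by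
        intro L hL
        refine ⟨?_⟩
        rintro _ ⟨z, hz, rfl⟩ v
        rw [← SemidirectProduct.inl_left_mul_inr_right v]
        refine ⟨MulAut.conj v.left (MulDistribMulAction.toMulAut A G v.right z), hL _ _ (hL _ z hz), ?_⟩
        show inl (v.left * (v.right • z) * v.left⁻¹) = _
        rw [map_mul, map_mul, ← inr_conj_inl, map_inv, mul_inv_rev]
        simp only [mul_assoc]
      have : (Φ.map (inl : G →* Y)).Normal := hnorm Φ hΦinv
      have : (O.map (inl : G →* Y)).Normal := hnorm O fun φ z hz => by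
        rw [← hOinv φ]; exact mem_map_of_mem _ hz
      set μ := QuotientGroup.mk' (Φ.map (inl : G →* Y)) with hμ
      set N := (O.map (inl : G →* Y)).map μ with hN
      have : N.Normal := ‹(O.map (inl : G →* Y)).Normal›.map _ (QuotientGroup.mk'_surjective _)
      have hμeq : ∀ g : G, μ (inl g) = 1 ↔ g ∈ Φ := fun g => by
        rw [hμ, QuotientGroup.mk'_apply, QuotientGroup.eq_one_iff]
        exact inl_mem_map
      have hexp : ∀ v ∈ N, v ^ l = 1 := by
        rintro _ ⟨_, ⟨g, hg, rfl⟩, rfl⟩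
        rw [← map_pow, ← map_pow, hμeq]
        exact mem_map_of_mem _ (PGroups.pow_mem_frattini hOl ⟨g, hg⟩)
      have : IsMulCommutative N := by
        refine ⟨⟨?_⟩⟩
        rintro ⟨_, _, ⟨g, hg, rfl⟩, rfl⟩ ⟨_, _, ⟨g', hg', rfl⟩, rfl⟩
        refine Subtype.ext ?_
        show μ (inl g) * μ (inl g') = μ (inl g') * μ (inl g)
        rw [← commutatorElement_eq_one_iff_mul_comm, ← map_commutatorElement (f := μ),
          ← map_commutatorElement (f := (inl : G →* Y)), hμeq]
        exact ⟨⁅(⟨g, hg⟩ : O), ⟨g', hg'⟩⁆, PGroups.commutator_le_frattini hOl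
          (Subgroup.commutator_mem_commutator (mem_top _) (mem_top _)), rfl⟩
      let ρ1 : (Y ⧸ Φ.map (inl : G →* Y)) →* Module.End (LinRep.Coeff l) (LinRep.Sp N l) := LinRep.rep N l
      let ρY : Y →* Module.End (LinRep.Coeff l) (LinRep.Sp N l) := ρ1.comp μ
      let K : Subgroup G :=
        { carrier := {g | ρY (inl g) = 1}
          one_mem' := by show ρY (inl 1) = 1; rw [map_one, map_one]
          mul_mem' := fun {a b} ha hb => by
            show ρY (inl (a * b)) = 1
            rw [map_mul, map_mul, show ρY (inl a) = 1 from ha, show ρY (inl b) = 1 from hb, one_mul]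
          inv_mem' := fun {a} ha => by
            show ρY (inl a⁻¹) = 1
            have h1 : ρY (inl (a⁻¹ * a)) = 1 := by rw [inv_mul_cancel, map_one, map_one]
            rwa [map_mul, map_mul, show ρY (inl a) = 1 from ha, mul_one] at h1 }
      have hKcen : ∀ g ∈ K, ∀ o ∈ O, g * o * g⁻¹ * o⁻¹ ∈ Φ := by
        intro g hg o ho
        have h1 := (LinRep.rep_eq_one_iff N l hexp (μ (inl g))).mp hg
        rw [mem_centralizer_iff] at h1
        have h2 := h1 (μ (inl o)) (mem_map_of_mem _ (mem_map_of_mem _ ho))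
        rw [← hμeq, map_mul, map_mul, map_mul, map_inv, map_inv, map_mul, map_mul, map_mul, map_inv, map_inv,
          ← h2, mul_inv_cancel_right, mul_inv_cancel]
      have hxP : (inr a0 : Y) ∈ normalizer ((P.map (inl : G →* Y) : Subgroup Y) : Set Y) := by
        refine mem_normalizer_of_map_conj ?_
        apply le_antisymm
        · rintro _ ⟨_, ⟨z, hz, rfl⟩, rfl⟩
          exact ⟨a0 • z, hPinv a0 z hz, (inr_conj_inl a0 z).symm⟩
        · rintro _ ⟨z, hz, rfl⟩
          refine ⟨inl (a0⁻¹ • z), mem_map_of_mem _ (hPinv a0⁻¹ z hz), ?_⟩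
          show inr a0 * inl (a0⁻¹ • z) * (inr a0)⁻¹ = inl z
          rw [inr_conj_inl, smul_inv_smul]
      have hxp : (inr a0 : Y) ^ p ^ n = 1 := by
        rw [← map_pow, show a0 ^ p ^ n = 1 from Subtype.ext hσ, map_one]
      have hxfix : ∀ v ∈ P.map (inl : G →* Y), inr a0 * v = v * inr a0 → v = 1 := by
        rintro _ ⟨z, -, rfl⟩ hc
        have h1 : inl (a0 • z) = (inl z : Y) := by rw [← inr_conj_inl, hc, mul_inv_cancel_right]
        rw [hfpf z (inl_injective h1), map_one]
      have hsumY : ∑ a : A, ρY (inr a) = 0 := by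
        show ∑ a : A, LinRep.rep N l ((μ.comp inr) a) = 0
        refine LinRep.sum_rep_eq_zero N l (μ.comp inr) ?_
        rintro _ ⟨_, ⟨g, hg, rfl⟩, rfl⟩ hv
        have hΦA : IsInvariant A Φ := fun a z hz => hΦinv (MulDistribMulAction.toMulAut A G a) z hz
        have hg' : ∀ a : A, g⁻¹ * a • g ∈ Φ := by
          intro a
          rw [← hμeq, map_mul, map_mul, map_inv, map_inv, ← inr_conj_inl, map_mul, map_mul, map_inv,
            show μ (inr a) * μ (inl g) = μ (inl g) * μ (inr a) from hv a, mul_inv_cancel_right,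
            inv_mul_cancel]
        obtain ⟨c, hc, hcΦ⟩ := exists_fixed_mem_coset hcop hsolv hΦA hg'
        rw [hfixA c hc, mul_one] at hcΦ
        exact (hμeq g).mpr (inv_mem_iff.mp hcΦ)
      have hsum : ∑ i ∈ Finset.range (p ^ n), ρY (inr a0) ^ i = 0 := by
        refine Eq.trans ?_ hsumY
        refine Eq.trans ?_ (sum_range_orderOf σ fun a => ρY (inr a))
        refine Finset.sum_congr (congrArg Finset.range hord.symm) fun i _ => ?_
        show ρY (inr a0) ^ i = ρY (inr (a0 ^ i))
        rw [map_pow, map_pow]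
      have hc := map_conj_eq_of_fpf (ρ := ρY) (s := r) hrp hp2
        (fun h => hlr ((Nat.prime_dvd_prime_iff_eq hl hr).mp ((CharP.cast_eq_zero_iff _ l r).mp h)))
        (fun h => hlp ((Nat.prime_dvd_prime_iff_eq hl hp).mp ((CharP.cast_eq_zero_iff _ l p).mp h)))
        hn (P.map (inl : G →* Y)) ((R.isPGroup'.to_le inf_le_left).map _) (inr a0)
        hxP hxp hxfix hsum (mem_map_of_mem _ hu)
      have hgK : g ∈ K := by
        have e1 : (inr a0 : Y) ^ p ^ (n - 1) * inl u * ((inr a0 : Y) ^ p ^ (n - 1))⁻¹ =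
            inl ((σ ^ p ^ (n - 1)) u) := by
          rw [← map_pow, inr_conj_inl]
          rfl
        rw [e1] at hc
        show ρY (inl (u⁻¹ * (σ ^ p ^ (n - 1)) u)) = 1
        rw [map_mul, map_mul, hc, ← map_mul, ← map_mul, inv_mul_cancel, map_one, map_one]
      exact fun b hb o ho => hKcen b (zpowers_le.mpr hgK hb) o ho
  set M := S ⊓ ⨅ l : {l : ℕ // l.Prime ∧ l ≠ r}, centralizer (pCore (l : ℕ) G : Set G) with hM
  have : M.Normal := by
    have h1 : (⨅ l : {l : ℕ // l.Prime ∧ l ≠ r}, centralizer (pCore (l : ℕ) G : Set G)).Normal :=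
      Subgroup.normal_iInf_normal fun l => inferInstance
    have h2 : S.Normal := inferInstance
    infer_instance
  refine PQFitting.le_fitting_of_centralizes hr M
    (fun t ht htr => inf_le_right.trans (iInf_le
      (fun t : {t : ℕ // t.Prime ∧ t ≠ r} => centralizer (pCore (t : ℕ) G : Set G)) ⟨t, ht, htr⟩))
    (fun g hg => hpowS g hg.1) ⟨hgP.2, mem_iInf.mpr ?_⟩
  rintro ⟨l, hl, hlr⟩
  have : Fact l.Prime := ⟨hl⟩
  refine le_centralizer_of_frattini (A := zpowers g) (K := pCore l G) ?_ ?_ ?_ (mem_zpowers _)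
  · rw [Subgroup.normalizer_eq_top_iff.mpr (inferInstance : (pCore l G).Normal)]; exact le_top
  · obtain ⟨i, hi⟩ := IsPGroup.iff_card.mp
      ((Cores.pCore_isPGroup (p := l) (G := G)).to_subgroup (frattini (pCore l G)))
    obtain ⟨j, hj⟩ := IsPGroup.iff_card.mp (R.isPGroup'.to_le (zpowers_le.mpr hgP.1))
    rw [hi, hj]
    exact ((Nat.coprime_primes hr hl).mpr (Ne.symm hlr)).pow j i
  · exact hker l hl hlr

/-- The automorphism induced on the quotient by the Fitting subgroup. -/
noncomputable def quotFitting (σ : MulAut G) : MulAut (G ⧸ fittingSubgroup G) :=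
  QuotientGroup.congr _ _ σ ((characteristic_iff_map_eq.mp (inferInstance : (fittingSubgroup G).Characteristic)) σ)

theorem quotFitting_pow_mk (σ : MulAut G) (j : ℕ) (g : G) :
    (quotFitting σ ^ j) (g : G ⧸ fittingSubgroup G) = ((σ ^ j) g : G) := by
  induction j generalizing g with
  | zero => rfl
  | succ j ih => rw [pow_succ, MulAut.mul_apply, pow_succ, MulAut.mul_apply]; exact ih (σ g)

/-- The power of order `p` induces the identity on the quotient by the Fitting subgroup. -/
theorem quotFitting_pow_eq_one [Group.IsSolvable G] {p n : ℕ} [Fact p.Prime] (hp2 : p ≠ 2) (hn : 0 < n)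
    (σ : MulAut G) (hσ : σ ^ p ^ n = 1) (hfpf : ∀ g : G, σ g = g → g = 1) :
    quotFitting σ ^ p ^ (n - 1) = 1 := by
  set τ := quotFitting σ ^ p ^ (n - 1) with hτ
  have hcore : ∀ w ∈ fittingSubgroup (G ⧸ fittingSubgroup G), τ w = w := by
    intro w hw
    rw [Cores.iSup_pCore_eq_fittingSubgroup (G := G ⧸ fittingSubgroup G)] at hw
    suffices hle : ∀ t : Nat.Primes, pCore (t : ℕ) (G ⧸ fittingSubgroup G) ≤
        τ.toMonoidHom.eqLocus (MonoidHom.id _) from (iSup_le hle) hw
    intro t z hz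
    obtain ⟨v, rfl⟩ := QuotientGroup.mk_surjective z
    have : Fact (t : ℕ).Prime := ⟨t.2⟩
    show τ (v : G ⧸ fittingSubgroup G) = v
    rw [hτ, quotFitting_pow_mk]
    exact (QuotientGroup.eq.mpr (map_mem_fitting_of_fpf hp2 hn σ hσ hfpf hz)).symm
  refine MulEquiv.ext fun w => ?_
  show τ w = w
  set h := w⁻¹ * τ w with hh
  have hcen : h ∈ centralizer (fittingSubgroup (G ⧸ fittingSubgroup G) : Set _) := by
    refine mem_centralizer_iff.mpr fun f hf => ?_
    have e := hcore _ ((inferInstance : (fittingSubgroup (G ⧸ fittingSubgroup G)).Normal).conj_mem f hf w)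
    rw [map_mul, map_mul, map_inv, hcore f hf] at e
    calc f * h = w⁻¹ * (w * f * w⁻¹) * τ w := by rw [hh]; group
      _ = w⁻¹ * (τ w * f * (τ w)⁻¹) * τ w := by rw [e]
      _ = h * f := by rw [hh]; group
  have hfixh : τ h = h := hcore h (Cores.centralizer_fittingSubgroup_le hcen)
  have hpow : ∀ j : ℕ, (τ ^ j) w = w * h ^ j := by
    intro j
    induction j with
    | zero => rw [pow_zero, MulAut.one_apply, pow_zero, mul_one]
    | succ j ih =>
      rw [pow_succ', MulAut.mul_apply, ih, map_mul, map_pow, hfixh,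
        show τ w = w * h from (mul_inv_cancel_left w (τ w)).symm, mul_assoc, ← pow_succ']
  have hh1 : h ^ p = 1 := by
    have h2 := hpow p
    rw [hτ, ← pow_mul, ← pow_succ, Nat.sub_add_cancel hn] at h2
    obtain ⟨g, rfl⟩ := QuotientGroup.mk_surjective w
    rw [quotFitting_pow_mk, hσ, MulAut.one_apply] at h2
    exact mul_eq_left.mp h2.symm
  have hp : p.Prime := Fact.out
  have hnd : ¬ p ∣ Nat.card (G ⧸ fittingSubgroup G) := fun hd =>
    not_dvd_card_of_fpf σ hσ hfpf (hd.trans (card_quotient_dvd_card _))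
  have hh0 : h = 1 := by
    rcases (Nat.dvd_prime hp).mp (orderOf_dvd_of_pow_eq_one hh1) with h1 | h1
    · exact orderOf_eq_one_iff.mp h1
    · exact absurd (h1 ▸ orderOf_dvd_natCard h) hnd
  exact (inv_mul_eq_one.mp hh0).symm

theorem quotFitting_fpf [Group.IsSolvable G] {p n : ℕ} [Fact p.Prime]
    (σ : MulAut G) (hσ : σ ^ p ^ n = 1) (hfpf : ∀ g : G, σ g = g → g = 1)
    (w : G ⧸ fittingSubgroup G) (hw : quotFitting σ w = w) : w = 1 := by
  obtain ⟨g, rfl⟩ := QuotientGroup.mk_surjective w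
  have hcop : (Nat.card (zpowers σ)).Coprime (Nat.card G) := by
    rw [Nat.card_zpowers]
    exact Nat.Coprime.coprime_dvd_left (orderOf_dvd_of_pow_eq_one hσ)
      (((Fact.out : p.Prime).coprime_iff_not_dvd.mpr (not_dvd_card_of_fpf σ hσ hfpf)).pow_left n)
  have hFinv : IsInvariant (zpowers σ) (fittingSubgroup G) := fun a x hx => by
    rw [← (characteristic_iff_map_eq.mp (inferInstance : (fittingSubgroup G).Characteristic)) (a : MulAut G)]
    exact mem_map_of_mem _ hx
  obtain ⟨c, hc, hcF⟩ := exists_fixed_mem_coset (A := zpowers σ) hcop (Or.inr inferInstance) hFinv (g := g) (by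
    rintro ⟨a, ha⟩
    obtain ⟨i, rfl⟩ := mem_zpowers_iff.mp ha
    rw [← QuotientGroup.eq_one_iff, QuotientGroup.mk_mul, QuotientGroup.mk_inv, inv_mul_eq_one]
    show (g : G ⧸ fittingSubgroup G) = (((σ ^ i) g : G) : G ⧸ fittingSubgroup G)
    have hfin := isOfFinOrder_of_finite σ
    obtain ⟨j, hj : σ ^ j = σ ^ i⟩ := hfin.mem_powers_iff_mem_zpowers.mpr (zpow_mem_zpowers σ i)
    rw [← hj, ← quotFitting_pow_mk]
    clear hj
    induction j with
    | zero => rfl
    | succ j ih => rw [pow_succ, MulAut.mul_apply, hw]; exact ih)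
  rw [hfpf c (hc ⟨σ, mem_zpowers σ⟩), mul_one] at hcF
  exact (QuotientGroup.eq_one_iff _).mpr (inv_mem_iff.mp hcF)

/-- The theorem of Shult and Gross. -/
theorem exists_chain {p : ℕ} [Fact p.Prime] (hp2 : p ≠ 2) : ∀ (n : ℕ) (G : Type uG) [Group G] [Finite G],
    Group.IsSolvable G → ∀ σ : MulAut G, σ ^ p ^ n = 1 → (∀ g : G, σ g = g → g = 1) →
    ∃ F : Fin (n + 1) → Subgroup G, F 0 = ⊥ ∧ F (Fin.last n) = ⊤ ∧ Monotone F ∧ (∀ i, (F i).Normal) ∧
      ∀ i : Fin n, ∃ k : ℕ, (F i.succ).lowerCentralSeries k ≤ F i.castSucc := by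
  intro n
  induction n with
  | zero =>
    intro G _ _ _ σ hσ hfpf
    rw [pow_zero, pow_one] at hσ
    have htriv : (⊥ : Subgroup G) = ⊤ := eq_top_iff.mpr fun g _ => Subgroup.mem_bot.mpr (hfpf g (by rw [hσ]; rfl))
    exact ⟨fun _ => ⊥, rfl, htriv, monotone_const, fun _ => inferInstance, fun i => i.elim0⟩
  | succ n ih =>
    intro G _ _ hG σ hσ hfpf
    obtain ⟨E, hE0, hEl, hEm, hEn, hEk⟩ := ih (G ⧸ fittingSubgroup G) inferInstance (quotFitting σ)
      (quotFitting_pow_eq_one hp2 n.succ_pos σ hσ hfpf) (quotFitting_fpf σ hσ hfpf)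
    set π := QuotientGroup.mk' (fittingSubgroup G)
    have hπs : Function.Surjective π := QuotientGroup.mk'_surjective _
    refine ⟨Fin.cons ⊥ fun i => (E i).comap π, rfl, ?_, ?_, ?_, ?_⟩
    · rw [← Fin.succ_last, Fin.cons_succ, hEl, comap_top]
    · refine Fin.monotone_iff_le_succ.mpr fun i => ?_
      induction i using Fin.cases with
      | zero => exact bot_le
      | succ i => rw [Fin.castSucc_succ, Fin.cons_succ, Fin.cons_succ]; exact comap_mono (hEm (Fin.castSucc_le_succ i))
    · intro i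
      induction i using Fin.cases with
      | zero => exact inferInstanceAs (⊥ : Subgroup G).Normal
      | succ i => rw [Fin.cons_succ]; exact (hEn i).comap π
    · intro i
      induction i using Fin.cases with
      | zero =>
        rw [Fin.cons_succ, hE0, Fin.castSucc_zero, Fin.cons_zero, MonoidHom.comap_bot, QuotientGroup.ker_mk']
        obtain ⟨k, hk⟩ := (isNilpotent_iff_lowerCentralSeries (fittingSubgroup G)).mp Cores.fittingSubgroup_isNilpotent
        exact ⟨k, hk.le⟩
      | succ i =>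
        rw [Fin.cons_succ, Fin.castSucc_succ, Fin.cons_succ]
        obtain ⟨k, hk⟩ := hEk i
        refine ⟨k, map_le_iff_le_comap.mp ?_⟩
        rw [map_lowerCentralSeries, map_comap_eq_self_of_surjective hπs]
        exact hk

end Cfsg.Agent.Coprime.ShultGross
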