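import Cfsg.Agent.Coprime.ShultGross
import Cfsg.Agent.PGroups.Basic

/-!
An element `x` of order `p ^ n`, `p` odd, without fixed points on a coprime `s`-group `R` and on a
module for `R`: the power `x ^ p ^ (n - 1)` acts trivially on the image of `R`.
-/

namespace Cfsg.Agent.Coprime.ShultGross

open Subgroup Weights EndBound EndCount FpfPrime
open scoped commutatorElement

theorem commutator_mul_central {M : Type*} [Group M] {A B P Q : M} (h1 : Commute P (B * Q))
    (h2 : Commute Q A) : ⁅A * P, B * Q⁆ = ⁅A, B⁆ := by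
  have e1 : P * (B * Q) * P⁻¹ = B * Q := by rw [h1.eq, mul_inv_cancel_right]
  calc ⁅A * P, B * Q⁆ = A * (P * (B * Q) * P⁻¹) * A⁻¹ * (Q⁻¹ * B⁻¹) := by
        simp only [commutatorElement_def, mul_inv_rev, mul_assoc]
    _ = A * B * (Q * A⁻¹ * Q⁻¹) * B⁻¹ := by rw [e1]; simp only [mul_assoc]
    _ = ⁅A, B⁆ := by rw [h2.inv_right.eq, mul_inv_cancel_right, commutatorElement_def]

variable {k V : Type*} [Field k] [AddCommGroup V] [Module k V]
variable {Y : Type*} [Group Y] [Finite Y] {ρ : Y →* Module.End k V}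
variable [IsAlgClosed k] [FiniteDimensional k V]

set_option maxHeartbeats 1600000 in
/-- The faithful case. -/
theorem commute_of_fpf_faithful {s p n : ℕ} [Fact s.Prime] [Fact p.Prime] (hsp : s ≠ p)
    (hp2 : p ≠ 2) (hsk : (s : k) ≠ 0) (hpk : (p : k) ≠ 0) (hinj : Function.Injective ρ) (hn : 0 < n)
    (R : Subgroup Y) (hR : IsPGroup s R) (x : Y) (hx : x ∈ normalizer (R : Set Y))
    (hxp : x ^ p ^ n = 1) (hfix : ∀ v ∈ R, x * v = v * x → v = 1)
    (hsum : ∑ i ∈ Finset.range (p ^ n), ρ x ^ i = 0) :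
    zpowers (x ^ p ^ (n - 1)) ≤ centralizer (R : Set Y) := by
  classical
  have hp : p.Prime := Fact.out
  have hs : s.Prime := Fact.out
  set y := x ^ p ^ (n - 1) with hy
  suffices main : ∀ N, ∀ R : Subgroup Y, Nat.card R = N → IsPGroup s R → x ∈ normalizer (R : Set Y) →
      (∀ v ∈ R, x * v = v * x → v = 1) → zpowers y ≤ centralizer (R : Set Y) from main _ R rfl hR hx hfix
  intro N
  induction N using Nat.strong_induction_on with
  | _ N ih =>
  intro R hN hR hx hfix
  have hyR : y ∈ normalizer (R : Set Y) := pow_mem hx _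
  have hyn : zpowers y ≤ normalizer (R : Set Y) := zpowers_le.mpr hyR
  have hyp : y ^ p = 1 := by rw [hy, ← pow_mul, ← pow_succ, Nat.sub_add_cancel hn, hxp]
  obtain ⟨jR, hjR⟩ := IsPGroup.iff_card.mp hR
  have hcop : (Nat.card (zpowers y)).Coprime (Nat.card R) := by
    rw [Nat.card_zpowers, hjR]
    exact Nat.Coprime.coprime_dvd_left (orderOf_dvd_of_pow_eq_one hyp)
      (((Nat.coprime_primes hp hs).mpr (Ne.symm hsp)).pow_right jR)
  rcases eq_or_ne R ⊥ with rfl | hRbot
  · intro a _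
    exact mem_centralizer_iff.mpr fun v hv => by
      rw [SetLike.mem_coe, Subgroup.mem_bot] at hv; rw [hv, one_mul, mul_one]
  have hlt : ∀ {H : Subgroup Y}, H ≤ R → H ≠ R → Nat.card H < N := by
    intro H hH hne
    refine hN ▸ lt_of_le_of_ne (Nat.le_of_dvd Nat.card_pos (card_dvd_of_le hH)) fun h => ?_
    exact hne (eq_of_le_of_card_ge hH h.ge)
  have hRy : ⁅R, zpowers y⁆ ≤ R := commutator_le_left_of_normalizer hyn
  have hxy : x ∈ normalizer ((zpowers y : Subgroup Y) : Set Y) := by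
    refine centralizer_le_normalizer _ (mem_centralizer_iff.mpr fun a ha => ?_)
    obtain ⟨i, rfl⟩ := mem_zpowers_iff.mp ha
    exact (((Commute.refl x).pow_left _).zpow_left i).eq
  by_cases hRe : ⁅R, zpowers y⁆ = R
  swap
  · have h := ih _ (hlt hRy hRe) _ rfl (hR.to_le hRy) (PQTower.mem_normalizer_comm hx hxy)
      (fun v hv => hfix v (hRy hv))
    exact le_centralizer_of_commutator_le_centralizer hyn hcop (le_centralizer_iff.mp h)
  set Φ := (frattini R).map R.subtype with hΦ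
  have hΦR : Φ ≤ R := map_subtype_le _
  have hΦne : Φ ≠ R := by
    intro h
    have : Nontrivial R := R.nontrivial_iff_ne_bot.mpr hRbot
    have h2 : frattini R = ⊤ :=
      map_injective R.subtype_injective (by rw [← MonoidHom.range_eq_map, R.range_subtype]; exact h)
    exact bot_ne_top (frattini_nongenerating (K := (⊥ : Subgroup R)) (by rw [bot_sup_eq, h2]))
  have hΦy : zpowers y ≤ centralizer (Φ : Set Y) :=
    ih _ (hlt hΦR hΦne) _ rfl (hR.to_le hΦR) (PQTower.mem_normalizer_frattini hx) (fun v hv => hfix v (hΦR hv))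
  have hΦn : R ≤ normalizer (Φ : Set Y) := fun v hv => PQTower.mem_normalizer_frattini (le_normalizer hv)
  have h1 : ⁅⁅zpowers y, R⁆, Φ⁆ = ⊥ := by
    refine commutator_commutator_eq_bot_of_rotate ?_ ?_
    · rw [eq_bot_iff, ← (commutator_eq_bot_iff_le_centralizer.mpr (le_centralizer_iff.mp hΦy))]
      exact commutator_mono (le_normalizer_iff_commutator_le_right.mp hΦn) le_rfl
    · rw [commutator_eq_bot_iff_le_centralizer.mpr (le_centralizer_iff.mp hΦy), commutator_bot_left]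
  rw [commutator_comm (zpowers y) R, hRe, commutator_eq_bot_iff_le_centralizer] at h1
  set σ := Subgroup.normalizerMonoidHom R ⟨x, hx⟩ with hσdef
  have hσj : ∀ (j : ℕ) (z : R), (((σ ^ j) z : R) : Y) = x ^ j * z * (x ^ j)⁻¹ := fun j z => by
    show (((Subgroup.normalizerMonoidHom R ⟨x, hx⟩) ^ j) z : Y) = _
    rw [← map_pow]
    rfl
  have hσp : σ ^ p ^ n = 1 := by
    show Subgroup.normalizerMonoidHom R ⟨x, hx⟩ ^ p ^ n = 1
    rw [← map_pow, show (⟨x, hx⟩ : normalizer (R : Set Y)) ^ p ^ n = 1 from Subtype.ext hxp, map_one]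
  -- an element fixed by `σ` is trivial
  have hσfix : ∀ z : R, σ z = z → z = 1 := fun z hz => by
    refine Subtype.ext (hfix _ z.2 ?_)
    have := congrArg Subtype.val hz
    change x * z * x⁻¹ = (z : Y) at this
    exact mul_inv_eq_iff_eq_mul.mp this
  by_cases hab : ∀ a ∈ R, ∀ b ∈ R, Commute a b
  · -- the abelian case
    rw [zpowers_le, mem_centralizer_iff]
    intro v hv
    let _ : CommGroup R :=
      { (inferInstance : Group R) with mul_comm := fun a b => Subtype.ext (hab a a.2 b b.2) }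
    have hRk : (Nat.card R : k) ≠ 0 := by rw [hjR, Nat.cast_pow]; exact pow_ne_zero _ hsk
    have := finite_chars (k := k) (U := R) hRk
    let _ := Fintype.ofFinite (R →* kˣ)
    let τ := ρ.comp R.subtype
    refine hinj ?_
    rw [map_mul, map_mul, ← mul_one (ρ v * ρ y), ← mul_one (ρ y * ρ v), ← sum_proj hRk τ,
      Finset.mul_sum, Finset.mul_sum]
    refine Finset.sum_congr rfl fun χ _ => ?_
    by_cases hz : proj τ χ = 0
    · rw [hz, mul_zero, mul_zero]
    obtain ⟨c, hc, hiff, hcomm, -⟩ := orbit_stab hRk τ σ (ρ x) (fun u => by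
      show ρ x * ρ u = ρ (x * u * x⁻¹) * ρ x
      rw [← map_mul, ← map_mul, inv_mul_cancel_right]) hσp hsum χ hz
    have hye : Commute (ρ y) (proj τ χ) := by
      obtain ⟨d, hd⟩ := Nat.pow_dvd_pow p (Nat.le_sub_one_of_lt hc)
      rw [hy, map_pow, hd, pow_mul]
      exact hcomm.pow_left d
    have hfχ := (hiff (p ^ (n - 1))).mpr (Nat.pow_dvd_pow p (Nat.le_sub_one_of_lt hc)) ⟨v, hv⟩
    have e1 := act_mul_proj τ χ ⟨v, hv⟩
    have e2 := act_mul_proj τ χ ((σ ^ p ^ (n - 1)) ⟨v, hv⟩)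
    rw [hfχ, ← e1] at e2
    change ρ (((σ ^ p ^ (n - 1)) ⟨v, hv⟩ : R) : Y) * proj τ χ = ρ v * proj τ χ at e2
    rw [hσj, ← hy] at e2
    calc ρ v * ρ y * proj τ χ = ρ v * proj τ χ * ρ y := by rw [mul_assoc, hye.eq, mul_assoc]
      _ = ρ (y * v * y⁻¹) * proj τ χ * ρ y := by rw [e2]
      _ = ρ (y * v * y⁻¹) * ρ y * proj τ χ := by simp only [mul_assoc, hye.eq]
      _ = ρ y * ρ v * proj τ χ := by rw [← map_mul, ← map_mul, inv_mul_cancel_right]
  exfalso
  push Not at hab
  obtain ⟨a0, ha0, b0, hb0, hne0⟩ := hab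
  set U := (⁅R, R⁆ : Subgroup Y) with hU
  have hUΦ : U ≤ Φ := by
    rw [hU, hΦ, ← map_subtype_commutator]
    exact map_mono (PGroups.commutator_le_frattini hR)
  have hUR : U ≤ R := hUΦ.trans hΦR
  have hUcen : ∀ u ∈ U, ∀ g ∈ R, Commute u g := fun u hu g hg =>
    mem_centralizer_iff.mp (h1 hg) u (hUΦ hu)
  let _ : CommGroup U :=
    { (inferInstance : Group U) with mul_comm := fun a b => Subtype.ext (hUcen a a.2 b (hUR b.2)) }
  have hUk : (Nat.card U : k) ≠ 0 := by
    obtain ⟨j, hj⟩ := IsPGroup.iff_card.mp (hR.to_le hUR)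
    rw [hj, Nat.cast_pow]
    exact pow_ne_zero _ hsk
  let τ : U →* Module.End k V := ρ.comp U.subtype
  let c0 : U := ⟨⁅a0, b0⁆, commutator_mem_commutator ha0 hb0⟩
  obtain ⟨χ, hχ, hχ0⟩ := exists_proj_ne_zero_of_act_ne_one hUk (τ := τ) (u := c0)
    (fun h => hne0 (commutatorElement_eq_one_iff_commute.mp (hinj (h.trans (map_one ρ).symm))))
  have hxU : x ∈ normalizer (U : Set Y) := PQTower.mem_normalizer_comm hx hx
  let σU := Subgroup.normalizerMonoidHom U ⟨x, hxU⟩
  have hσUj : ∀ (j : ℕ) (z : U), (((σU ^ j) z : U) : Y) = x ^ j * z * (x ^ j)⁻¹ := fun j z => by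
    show (((Subgroup.normalizerMonoidHom U ⟨x, hxU⟩) ^ j) z : Y) = _
    rw [← map_pow]
    rfl
  have hσUp : σU ^ p ^ n = 1 := by
    show Subgroup.normalizerMonoidHom U ⟨x, hxU⟩ ^ p ^ n = 1
    rw [← map_pow, show (⟨x, hxU⟩ : normalizer (U : Set Y)) ^ p ^ n = 1 from Subtype.ext hxp, map_one]
  obtain ⟨i, hin, hiff, hTi, hsum1⟩ := orbit_stab hUk τ σU (ρ x) (fun u => by
    show ρ x * ρ u = ρ (x * u * x⁻¹) * ρ x
    rw [← map_mul, ← map_mul, inv_mul_cancel_right]) hσUp hsum χ hχ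
  set e := proj τ χ with he
  set z := x ^ p ^ i with hzdef
  have hzst : z ∈ stab ρ e := by
    show Commute (ρ (x ^ p ^ i)) e
    rw [map_pow]
    exact hTi
  have hRst : ∀ g ∈ R, g ∈ stab ρ e := fun g hg =>
    mul_proj_of_conj (τ := τ) (σ := MulEquiv.refl U) (g := ρ g) (fun u => by
      show ρ g * ρ u = ρ u * ρ g
      rw [← map_mul, ← map_mul, (hUcen u u.2 g hg).eq]) χ
  let R1 : Subgroup (stab ρ e) := R.subgroupOf (stab ρ e)
  let ι : R →* R1 :=
    { toFun := fun g => ⟨⟨g, hRst g g.2⟩, g.2⟩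
      map_one' := rfl
      map_mul' := fun _ _ => rfl }
  have hι : Function.Surjective ι := fun g => ⟨⟨((g : stab ρ e) : Y), g.2⟩, rfl⟩
  let ρW : R →* Module.End k (LinearMap.range e) := ((sub ρ e).comp R1.subtype).comp ι
  have : Nontrivial (LinearMap.range e) :=
    Submodule.nontrivial_iff_ne_bot.mpr (fun h => hχ (LinearMap.range_eq_bot.mp h))
  let cu : R → R → U := fun a b => ⟨⁅(a : Y), b⁆, commutator_mem_commutator a.2 b.2⟩
  have hscal : ∀ a b : R, ρW ⁅a, b⁆ = ((χ (cu a b) : kˣ) : k) • 1 := fun a b =>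
    (sub_eq_iff _ ((χ (cu a b) : k) • 1) ((χ (cu a b) : k) • 1) (fun v => rfl)).mpr (by
      rw [smul_mul_assoc, one_mul]
      exact act_mul_proj τ χ (cu a b))
  set Nχ := cen (V := LinearMap.range e) ρW with hNχdef
  have hNχ : ∀ a, a ∈ Nχ → ∀ b, χ (cu a b) = 1 := by
    intro a ha b
    have h5 : ρW.toHomUnits ⁅a, b⁆ = 1 := by
      rw [map_commutatorElement, commutatorElement_eq_one_iff_commute]
      exact Units.ext (ha b).eq
    have h2 := congrArg Units.val h5
    rw [MonoidHom.coe_toHomUnits, hscal, Units.val_one] at h2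
    obtain ⟨v, hv⟩ := exists_ne (0 : LinearMap.range e)
    have h4 := congrArg (fun f => f v) h2
    simp only [LinearMap.smul_apply, Module.End.one_apply] at h4
    have hv' : (v : V) ≠ 0 := fun h => hv (Subtype.ext h)
    refine Units.ext (smul_left_injective _ hv' ?_)
    show _ • (v : V) = (1 : k) • (v : V)
    rw [one_smul]
    exact congrArg Subtype.val h4
  have hNtop : Nχ ≠ ⊤ := fun h => hχ0 (hNχ ⟨a0, ha0⟩ (h ▸ mem_top _) ⟨b0, hb0⟩)
  have hi0 : 0 < i := by
    rcases Nat.eq_zero_or_pos i with rfl | h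
    swap
    · exact h
    exfalso
    refine hχ0 ?_
    have hall : ∀ j, χ ((σU ^ j) c0) = χ c0 := fun j => (hiff j).mpr (by rw [pow_zero]; exact one_dvd _) c0
    have hP : ∏ j ∈ Finset.range (p ^ n), (σU ^ j) c0 = 1 := by
      refine Subtype.ext (hfix _ (hUR (Subtype.prop _)) (mul_inv_eq_iff_eq_mul.mp ?_))
      have : σU (∏ j ∈ Finset.range (p ^ n), (σU ^ j) c0) = ∏ j ∈ Finset.range (p ^ n), (σU ^ j) c0 := by
        rw [map_prod]
        simp only [← MulAut.mul_apply, ← pow_succ']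
        have h2 := Finset.prod_range_succ' (fun j => (σU ^ j) c0) (p ^ n)
        rw [Finset.prod_range_succ, hσUp, pow_zero] at h2
        exact (mul_right_cancel h2).symm
      exact congrArg Subtype.val this
    have h2 := congrArg χ hP
    rw [map_prod, map_one, Finset.prod_congr rfl fun j _ => hall j, Finset.prod_const, Finset.card_range] at h2
    obtain ⟨j, hj⟩ := IsPGroup.iff_card.mp (hR.to_le hUR)
    refine PQExcept.eq_one_of_coprime h2 (m := s ^ j) ?_
      (((Nat.coprime_primes hp hs).mpr (Ne.symm hsp)).pow n j)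
    rw [← map_pow, ← hj, pow_card_eq_one', map_one]
  -- the exceptional shape
  let z1 : stab ρ e := ⟨z, hzst⟩
  have hz1R : z1 ∈ normalizer (R1 : Set (stab ρ e)) := by
    refine mem_normalizer_iff.mpr fun g => ?_
    show (g : Y) ∈ R ↔ z * g * z⁻¹ ∈ R
    exact mem_normalizer_iff.mp (pow_mem hx _) g
  have hz1p : z1 ^ p ^ (n - i) = 1 := Subtype.ext (by
    show z ^ p ^ (n - i) = 1
    rw [hzdef, ← pow_mul, ← pow_add, Nat.add_sub_cancel' hin.le, hxp])
  have hsum1' : ∑ j ∈ Finset.range (p ^ (n - i)), sub ρ e z1 ^ j = 0 := by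
    have hTv : ∀ (j : ℕ) (w : LinearMap.range e),
        (((sub ρ e z1 ^ j) w : LinearMap.range e) : V) = ((ρ x ^ p ^ i) ^ j) w := fun j w => by
      rw [← map_pow, ← map_pow, ← map_pow]
      show ρ ((z1 ^ j : stab ρ e) : Y) w = _
      rw [SubmonoidClass.coe_pow]
    refine LinearMap.ext fun ⟨_, v, rfl⟩ => Subtype.ext ?_
    simp only [LinearMap.sum_apply, Submodule.coe_sum, hTv, LinearMap.zero_apply, Submodule.coe_zero]
    have := congrArg (fun f : Module.End k V => f v) hsum1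
    simpa only [Module.End.mul_apply, LinearMap.sum_apply, LinearMap.zero_apply] using this
  have hyzY : z ^ p ^ (n - i - 1) = y := by
    rw [hzdef, hy, ← pow_mul, ← pow_add, show i + (n - i - 1) = n - 1 by omega]
  have hyst : y ∈ stab ρ e := hyzY ▸ pow_mem hzst _
  have hyz : z1 ^ p ^ (n - i - 1) = ⟨y, hyst⟩ := Subtype.ext hyzY
  have hgen1 : R1 ≤ ⁅R1, zpowers (z1 ^ p ^ (n - i - 1))⁆ := by
    rw [← map_le_map_iff_of_injective (stab ρ e).subtype_injective, map_commutator, MonoidHom.map_zpowers,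
      hyz, Subgroup.map_subgroupOf_eq_of_le (fun g hg => hRst g hg)]
    exact hRe.ge
  have hcen1 : cen (V := LinearMap.range e) ρW =
      (cen (V := LinearMap.range e) ((sub ρ e).comp R1.subtype)).comap ι := by
    ext g
    constructor
    · intro hg w
      obtain ⟨w, rfl⟩ := hι w
      exact hg w
    · intro hg w
      exact hg (ι w)
  obtain ⟨hs2, a, m, ha, hal, hm, ham, hidx⟩ := dichotomy (V := LinearMap.range e) (ρ := sub ρ e)
    (l := n - i) hsp hp2 hsk hpk R1
    (hR.comap_of_injective (stab ρ e).subtype (stab ρ e).subtype_injective) z1 hz1R (Nat.sub_pos_of_lt hin)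
    hz1p hsum1' (fun a b => by
      obtain ⟨a, rfl⟩ := hι a
      obtain ⟨b, rfl⟩ := hι b
      rw [← map_commutatorElement]
      exact ⟨_, hscal a b⟩) hgen1
    (fun h => hNtop (by rw [hNχdef, hcen1, h, comap_top]))
  have hidx' : Nχ.index = 2 ^ (2 * m) := by
    rw [hNχdef, hcen1, index_comap_of_surjective _ hι, hidx]
  subst hs2
  -- the translates of the radical
  have hper : ∀ u, u ∈ Nχ → (σ ^ p ^ i) u ∈ Nχ := fun u hu =>
    cen_map_mem (V := LinearMap.range e) (pow_pos hp.pos (n - i)).ne' (T := sub ρ e z1)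
      (by rw [← map_pow, hz1p, map_one]) (fun g => by
        show sub ρ e z1 * sub ρ e (ι g : stab ρ e) = sub ρ e (ι ((σ ^ p ^ i) g) : stab ρ e) * sub ρ e z1
        rw [← map_mul, ← map_mul]
        congr 1
        refine Subtype.ext ?_
        show z * (g : Y) = (((σ ^ p ^ i) g : R) : Y) * z
        rw [hσj, ← hzdef, inv_mul_cancel_right]) hu
  let f : R →* (Fin (p ^ i) → R ⧸ Nχ) :=
    MonoidHom.pi fun j : Fin (p ^ i) => (QuotientGroup.mk' Nχ).comp (σ ^ (j : ℕ)).toMonoidHom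
  have hfmem : ∀ u, u ∈ f.ker ↔ ∀ j : Fin (p ^ i), (σ ^ (j : ℕ)) u ∈ Nχ := fun u => by
    rw [MonoidHom.mem_ker, funext_iff]
    exact forall_congr' fun j => QuotientGroup.eq_one_iff _
  have hfall : ∀ u, u ∈ f.ker → ∀ j : ℕ, (σ ^ j) u ∈ Nχ := by
    intro u hu j
    induction j using Nat.strong_induction_on with
    | _ j ihj =>
      by_cases hj : j < p ^ i
      · exact (hfmem u).mp hu ⟨j, hj⟩
      · have hle : p ^ i ≤ j := not_lt.mp hj
        have := hper _ (ihj (j - p ^ i) (Nat.sub_lt (lt_of_lt_of_le (pow_pos hp.pos i) hle) (pow_pos hp.pos i)))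
        rwa [← MulAut.mul_apply, ← pow_add, Nat.add_sub_cancel' hle] at this
  have hkerσ : f.ker.map σ.toMonoidHom = f.ker := by
    refine eq_of_le_of_card_ge ?_ (Subgroup.card_map_of_injective σ.injective).ge
    rintro _ ⟨u, hu, rfl⟩
    refine (hfmem _).mpr fun j => ?_
    show (σ ^ (j : ℕ)) (σ u) ∈ Nχ
    rw [← MulAut.mul_apply, ← pow_succ]
    exact hfall u hu _
  let σK : MulAut (R ⧸ f.ker) := QuotientGroup.congr f.ker f.ker σ hkerσ
  have hσK : ∀ (j : ℕ) (u : R), (σK ^ j) (u : R ⧸ f.ker) = (((σ ^ j) u : R) : R ⧸ f.ker) := by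
    intro j
    induction j with
    | zero => intro u; rfl
    | succ j ihj => intro u; rw [pow_succ', MulAut.mul_apply, ihj, pow_succ', MulAut.mul_apply]; rfl
  have hdvd : p ^ n ∣ Nat.card (R ⧸ f.ker) - 1 := by
    refine ShultGrossArith.dvd_card_sub_one σK (MulEquiv.ext fun w => ?_) fun w hw => ?_
    · obtain ⟨u, rfl⟩ := QuotientGroup.mk_surjective w
      rw [hσK, hσp]
      rfl
    · obtain ⟨u, rfl⟩ := QuotientGroup.mk_surjective w
      rw [hσK] at hw
      refine (QuotientGroup.eq_one_iff _).mpr ((hfmem u).mpr fun j => ?_)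
      have hker := QuotientGroup.eq.mp hw.symm
      have hj := (hfmem _).mp hker j
      rw [map_mul, map_inv, ← MulAut.mul_apply, ← pow_add, add_comm, pow_add, MulAut.mul_apply] at hj
      set v := (σ ^ (j : ℕ)) u
      have hy1 : (⟨y, hyst⟩ : stab ρ e) ∈ normalizer (R1 : Set (stab ρ e)) := by
        refine mem_normalizer_iff.mpr fun g => ?_
        show (g : Y) ∈ R ↔ y * g * y⁻¹ ∈ R
        exact mem_normalizer_iff.mp hyR g
      have hres := mem_cen_of_fixed (V := LinearMap.range e) (ρ := sub ρ e) R1 hy1 hp.ne_zero (Subtype.ext hyp)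
        (by rw [← hyz]; exact hgen1)
        (fun a b => by
          obtain ⟨a, rfl⟩ := hι a
          obtain ⟨b, rfl⟩ := hι b
          rw [← map_commutatorElement]
          exact ⟨_, hscal a b⟩) (v := ι v) (by
          have e2 : (ι v)⁻¹ * Subgroup.normalizerMonoidHom R1 ⟨_, hy1⟩ (ι v) = ι (v⁻¹ * (σ ^ p ^ (n - 1)) v) := by
            refine Subtype.ext (Subtype.ext ?_)
            show (v : Y)⁻¹ * (y * v * y⁻¹) = (v : Y)⁻¹ * (((σ ^ p ^ (n - 1)) v : R) : Y)
            rw [hσj (p ^ (n - 1)) v]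
          rw [e2, ← Subgroup.mem_comap, ← hcen1]
          exact hj)
      rw [hNχdef, hcen1]
      exact hres
  have hkne : f.ker ≠ ⊤ := fun h => hNtop (eq_top_iff.mpr fun u _ => by
    have := (hfmem u).mp (h ▸ mem_top u) ⟨0, pow_pos hp.pos i⟩
    simpa using this)
  obtain ⟨d, -, hd⟩ := (Nat.dvd_prime_pow hs).mp (hjR ▸ Subgroup.index_dvd_card f.ker)
  have hd0 : 0 < d := by
    rcases Nat.eq_zero_or_pos d with rfl | h
    · exact absurd (Subgroup.index_eq_one.mp (by rw [hd, pow_zero])) hkne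
    · exact h
  change p ^ n ∣ f.ker.index - 1 at hdvd
  rw [hd] at hdvd
  have hdd := ShultGrossArith.mul_pow_dvd hp2 hm ha ham (hal.trans (Nat.sub_le _ _)) hd0 hdvd
  have hcardPi : Nat.card (Fin (p ^ i) → R ⧸ Nχ) = (2 ^ (2 * m)) ^ p ^ i := by
    rw [Nat.card_fun, Nat.card_fin]
    exact congrArg (· ^ p ^ i) hidx'
  have hrange : Nat.card f.range = 2 ^ d := by rw [← Subgroup.index_ker, hd]
  have hsurj : f.range = ⊤ := by
    refine eq_top_of_card_eq _ (le_antisymm (Nat.le_of_dvd Nat.card_pos (card_subgroup_dvd_card _)) ?_)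
    rw [hcardPi, hrange, ← pow_mul]
    refine Nat.pow_le_pow_right (by norm_num) ?_
    exact le_trans (Nat.mul_le_mul_left _ (Nat.pow_le_pow_right hp.pos (by omega))) (Nat.le_of_dvd hd0 hdd)
  obtain ⟨u, hu⟩ : (Pi.mulSingle (⟨0, pow_pos hp.pos i⟩ : Fin (p ^ i)) ((⟨a0, ha0⟩ : R) : R ⧸ Nχ)) ∈ f.range :=
    hsurj ▸ mem_top _
  obtain ⟨v, hv⟩ : (Pi.mulSingle (⟨0, pow_pos hp.pos i⟩ : Fin (p ^ i)) ((⟨b0, hb0⟩ : R) : R ⧸ Nχ)) ∈ f.range :=
    hsurj ▸ mem_top _
  have hu0 : u⁻¹ * ⟨a0, ha0⟩ ∈ Nχ := by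
    have := congrFun hu ⟨0, pow_pos hp.pos i⟩
    rw [Pi.mulSingle_eq_same] at this
    exact QuotientGroup.eq.mp this
  have hv0 : v⁻¹ * ⟨b0, hb0⟩ ∈ Nχ := by
    have := congrFun hv ⟨0, pow_pos hp.pos i⟩
    rw [Pi.mulSingle_eq_same] at this
    exact QuotientGroup.eq.mp this
  have hscalinj : ∀ a b a' b' : R, ρW.toHomUnits ⁅a, b⁆ = ρW.toHomUnits ⁅a', b'⁆ → χ (cu a b) = χ (cu a' b') := by
    intro a b a' b' h
    have h2 := congrArg Units.val h
    rw [MonoidHom.coe_toHomUnits, MonoidHom.coe_toHomUnits, hscal, hscal] at h2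
    obtain ⟨w, hw⟩ := exists_ne (0 : LinearMap.range e)
    have h4 := congrArg (fun g => g w) h2
    simp only [LinearMap.smul_apply, Module.End.one_apply] at h4
    have hw' : (w : V) ≠ 0 := fun h => hw (Subtype.ext h)
    exact Units.ext (smul_left_injective _ hw' (congrArg Subtype.val h4))
  have hcuv : χ (cu u v) = χ c0 := by
    refine hscalinj u v ⟨a0, ha0⟩ ⟨b0, hb0⟩ ?_
    have hcenu : ∀ w ∈ Nχ, ∀ g : R, Commute (ρW.toHomUnits w) (ρW.toHomUnits g) := fun w hw g =>
      Units.ext (hw g).eq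
    calc ρW.toHomUnits ⁅u, v⁆ = ⁅ρW.toHomUnits u, ρW.toHomUnits v⁆ := map_commutatorElement _ _ _
      _ = ⁅ρW.toHomUnits u * ρW.toHomUnits (u⁻¹ * ⟨a0, ha0⟩),
            ρW.toHomUnits v * ρW.toHomUnits (v⁻¹ * ⟨b0, hb0⟩)⁆ :=
        (commutator_mul_central ((hcenu _ hu0 v).mul_right (hcenu _ hu0 _)) (hcenu _ hv0 u)).symm
      _ = ρW.toHomUnits ⁅(⟨a0, ha0⟩ : R), ⟨b0, hb0⟩⁆ := by
        rw [← map_mul, ← map_mul, mul_inv_cancel_left, mul_inv_cancel_left, map_commutatorElement]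
  let c : U := cu u v
  have hzero : ∀ j : ℕ, ¬ p ^ i ∣ j → χ ((σU ^ j) c) = 1 := by
    intro j hj
    have hu1 : (σ ^ j) u ∈ Nχ := by
      have hr : j % p ^ i < p ^ i := Nat.mod_lt _ (pow_pos hp.pos i)
      have hbase : (σ ^ (j % p ^ i)) u ∈ Nχ := by
        have := congrFun hu ⟨j % p ^ i, hr⟩
        rw [Pi.mulSingle_eq_of_ne (by
          intro h
          exact hj (Nat.dvd_of_mod_eq_zero (congrArg Fin.val h)))] at this
        exact (QuotientGroup.eq_one_iff _).mp this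
      have hrep : ∀ t : ℕ, (σ ^ (p ^ i * t + j % p ^ i)) u ∈ Nχ := by
        intro t
        induction t with
        | zero => simpa using hbase
        | succ t iht =>
          rw [show p ^ i * (t + 1) + j % p ^ i = p ^ i + (p ^ i * t + j % p ^ i) by ring, pow_add,
            MulAut.mul_apply]
          exact hper _ iht
      have := hrep (j / p ^ i)
      rwa [Nat.div_add_mod] at this
    have := hNχ _ hu1 ((σ ^ j) v)
    convert this using 2
    refine Subtype.ext ?_
    show (((σU ^ j) c : U) : Y) = ⁅(((σ ^ j) u : R) : Y), (((σ ^ j) v : R) : Y)⁆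
    rw [hσUj, hσj, hσj]
    show x ^ j * ⁅(u : Y), (v : Y)⁆ * (x ^ j)⁻¹ = _
    simp only [commutatorElement_def]; group
  have hone : ∀ j : ℕ, p ^ i ∣ j → χ ((σU ^ j) c) = χ c := fun j hj => (hiff j).mpr hj c
  have hP : ∏ j ∈ Finset.range (p ^ n), (σU ^ j) c = 1 := by
    refine Subtype.ext (hfix _ (hUR (Subtype.prop _)) (mul_inv_eq_iff_eq_mul.mp ?_))
    have : σU (∏ j ∈ Finset.range (p ^ n), (σU ^ j) c) = ∏ j ∈ Finset.range (p ^ n), (σU ^ j) c := by
      rw [map_prod]
      simp only [← MulAut.mul_apply, ← pow_succ']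
      have h2 := Finset.prod_range_succ' (fun j => (σU ^ j) c) (p ^ n)
      rw [Finset.prod_range_succ, hσUp, pow_zero] at h2
      exact (mul_right_cancel h2).symm
    exact congrArg Subtype.val this
  have hχc := congrArg χ hP
  rw [map_prod, map_one, ← Finset.prod_filter_mul_prod_filter_not (Finset.range (p ^ n)) (fun j => p ^ i ∣ j),
    Finset.prod_congr rfl (fun j hj => hone j (Finset.mem_filter.mp hj).2),
    Finset.prod_congr rfl (fun j hj => hzero j (Finset.mem_filter.mp hj).2),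
    Finset.prod_const, Finset.prod_const_one, mul_one,
    show p ^ n = p ^ i * p ^ (n - i) by rw [← pow_add, Nat.add_sub_cancel' hin.le],
    ShultGrossArith.filter_dvd _ _ (pow_pos hp.pos i),
    Finset.card_image_of_injective _ (fun a b h => mul_left_cancel₀ (pow_pos hp.pos i).ne' h),
    Finset.card_range] at hχc
  refine hχ0 (hcuv ▸ ?_)
  obtain ⟨j, hj⟩ := IsPGroup.iff_card.mp (hR.to_le hUR)
  refine PQExcept.eq_one_of_coprime hχc (m := 2 ^ j) ?_
    (((Nat.coprime_primes hp Nat.prime_two).mpr hp2).pow (n - i) j)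
  rw [← map_pow, ← hj, pow_card_eq_one', map_one]

/-- An element of order `p ^ n` without fixed points: its power of order `p` acts trivially. -/
theorem map_conj_eq_of_fpf {s p n : ℕ} [Fact s.Prime] [Fact p.Prime] (hsp : s ≠ p)
    (hp2 : p ≠ 2) (hsk : (s : k) ≠ 0) (hpk : (p : k) ≠ 0) (hn : 0 < n)
    (R : Subgroup Y) (hR : IsPGroup s R) (x : Y) (hx : x ∈ normalizer (R : Set Y))
    (hxp : x ^ p ^ n = 1) (hfix : ∀ v ∈ R, x * v = v * x → v = 1)
    (hsum : ∑ i ∈ Finset.range (p ^ n), ρ x ^ i = 0) {u : Y} (hu : u ∈ R) :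
    ρ (x ^ p ^ (n - 1) * u * (x ^ p ^ (n - 1))⁻¹) = ρ u := by
  let π := QuotientGroup.mk' ρ.ker
  let ρ' : Y ⧸ ρ.ker →* Module.End k V := QuotientGroup.lift ρ.ker ρ le_rfl
  have hinj : Function.Injective ρ' := by
    refine (injective_iff_map_eq_one' ρ').mpr fun v => ⟨fun hv => ?_, fun hv => by rw [hv, map_one]⟩
    obtain ⟨w, rfl⟩ := QuotientGroup.mk_surjective v
    exact (QuotientGroup.eq_one_iff _).mpr hv
  have hxR : zpowers x ≤ normalizer (R : Set Y) := zpowers_le.mpr hx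
  have hcop : (Nat.card (zpowers x)).Coprime (Nat.card R) := by
    obtain ⟨j, hj⟩ := IsPGroup.iff_card.mp hR
    rw [Nat.card_zpowers, hj]
    exact Nat.Coprime.coprime_dvd_left (orderOf_dvd_of_pow_eq_one hxp)
      (((Nat.coprime_primes (Fact.out : p.Prime) (Fact.out : s.Prime)).mpr (Ne.symm hsp)).pow n j)
  have hfix' : ∀ v ∈ R.map π, π x * v = v * π x → v = 1 := by
    rintro _ ⟨v, hv, rfl⟩ hc
    have hN : zpowers x ≤ normalizer ((R ⊓ ρ.ker : Subgroup Y) : Set Y) := by
      refine (le_inf hxR ?_).trans (Subgroup.inf_normalizer_le_normalizer_inf)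
      rw [Subgroup.normalizer_eq_top_iff.mpr (inferInstance : ρ.ker.Normal)]
      exact le_top
    have hker : v⁻¹ * (x * v * x⁻¹) ∈ ρ.ker := by
      rw [← QuotientGroup.eq_one_iff]
      show π (v⁻¹ * (x * v * x⁻¹)) = 1
      rw [map_mul, map_mul, map_mul, map_inv, map_inv, hc, mul_inv_cancel_right, inv_mul_cancel]
    obtain ⟨c, hc1, hcN⟩ := exists_centralizer_mem_coset hxR hcop (Or.inl (isSolvable_zpowers x))
      (inf_le_left : R ⊓ ρ.ker ≤ R) hN hv fun a ha => by
        refine Subgroup.mem_inf.mpr ⟨mul_mem (inv_mem hv) ((mem_normalizer_iff.mp (hxR ha) v).mp hv), ?_⟩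
        obtain ⟨i, rfl⟩ := mem_zpowers_iff.mp ha
        rw [← QuotientGroup.eq_one_iff]
        show π (v⁻¹ * (x ^ i * v * (x ^ i)⁻¹)) = 1
        rw [map_mul, map_mul, map_mul, map_inv, map_inv, map_zpow,
          ((show Commute (π x) (π v) from hc).zpow_left i).eq, mul_inv_cancel_right, inv_mul_cancel]
    rw [hfix c hc1.1 (mem_centralizer_iff.mp hc1.2 x (mem_zpowers x)), mul_one] at hcN
    exact (QuotientGroup.eq_one_iff _).mpr (inv_mem_iff.mp hcN.2)
  have h := commute_of_fpf_faithful hsp hp2 hsk hpk hinj hn (R.map π) (hR.map π) (π x)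
    (Subgroup.le_normalizer_map π ⟨x, hx, rfl⟩) (by rw [← map_pow, hxp, map_one]) hfix' hsum
  have h2 := mem_centralizer_iff.mp (h (mem_zpowers _)) (π u) (mem_map_of_mem _ hu)
  show ρ' (π (x ^ p ^ (n - 1) * u * (x ^ p ^ (n - 1))⁻¹)) = ρ' (π u)
  rw [map_mul, map_mul π (x ^ p ^ (n - 1)), map_pow π x, ← h2, mul_assoc, map_inv, map_pow,
    mul_inv_cancel, mul_one]

end Cfsg.Agent.Coprime.ShultGross
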