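/-
Homocyclic subgroups of Sp(2n, q) from unitary units of symplectic algebras.
-/
import Cfsg.Agent.H55.SpPrimeGraph
import Cfsg.Agent.Arith.SylowGL

set_option autoImplicit false
set_option linter.unusedSectionVars false

namespace Cfsg.Agent.Coprime.SpTorusHom

open Cfsg.Agent.H55 Cfsg.Agent.Symplectic
open scoped Matrix

variable {F : Type*} [Field F] {n : ℕ}

/-- Coordinates turning the pairing of an algebra into the standard symplectic form. -/
theorem exists_coord {R : Type*} [CommRing R] [Algebra F R] [FiniteDimensional F R]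
    (P : SpAlg F R) (hP : P.Alt) (hfin : Module.finrank F R = 2 * n) :
    ∃ L : (Fin n ⊕ Fin n → F) ≃ₗ[F] R,
      ∀ v w, spB n F v w = P.φ (L v * P.σ (L w)) := by
  set B : LinearMap.BilinForm F R := (LinearMap.mul F R).compr₂ P.φ |>.compl₂ P.σ.toLinearMap
    with hB
  have hBa : ∀ a b, B a b = P.φ (a * P.σ b) := fun a b => rfl
  have hswap : ∀ a b, B a b = - B b a := by
    intro a b
    rw [hBa, hBa, ← P.odd (b * P.σ a), map_mul P.σ, P.inv, mul_comm a]
  have halt : B.IsAlt := hP
  obtain ⟨m, k, b, ⟨hef, hee, hff⟩, hrad⟩ := exists_hyp_basis B halt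
  have hk : k = 0 := by
    by_contra hk
    refine b.ne_zero (Sum.inr ⟨0, Nat.pos_of_ne_zero hk⟩) (P.nondeg _ fun c => ?_)
    have h := hrad ⟨0, Nat.pos_of_ne_zero hk⟩ (P.σ c)
    rwa [hBa, P.inv] at h
  subst hk
  have hm : m = n := by
    have h := Module.finrank_eq_card_basis b
    simp [hfin] at h
    omega
  subst hm
  let b' : Module.Basis (Fin m ⊕ Fin m) F R :=
    b.reindex ((Equiv.sumEmpty (Fin m ⊕ Fin m) (Fin 0)).trans (Equiv.sumComm (Fin m) (Fin m)))
  let L : (Fin m ⊕ Fin m → F) ≃ₗ[F] R := b'.equivFun.symm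
  have hLs : ∀ i, L (Pi.single i 1) = b' i := by
    intro i
    classical
    simp [L, Module.Basis.equivFun_symm_apply, Pi.single_apply]
  have hL : B.comp L.toLinearMap L.toLinearMap = spB m F := by
    refine LinearMap.BilinForm.ext_basis (Pi.basisFun F _) fun i j => ?_
    rw [LinearMap.BilinForm.comp_apply, Pi.basisFun_apply, Pi.basisFun_apply, LinearEquiv.coe_coe,
      hLs, hLs, spB_single]
    rcases i with i | i <;> rcases j with j | j <;>
      simp [b', Matrix.J, hef, hee, hff, Matrix.one_apply]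
    rw [hswap, hef]
    simp [eq_comm]
  exact ⟨L, fun v w => by rw [← hL]; rfl⟩

/-- The units `u` with `u * σ u = 1`. -/
def unitary {R : Type*} [CommRing R] [Algebra F R] (P : SpAlg F R) : Subgroup Rˣ where
  carrier := {u | (u : R) * P.σ u = 1}
  one_mem' := by simp
  mul_mem' := by
    intro a b ha hb
    show ((a * b : Rˣ) : R) * P.σ ((a * b : Rˣ) : R) = 1
    rw [Units.val_mul, map_mul, mul_mul_mul_comm, ha, hb, one_mul]
  inv_mem' := by
    intro a ha
    show ((a⁻¹ : Rˣ) : R) * P.σ ((a⁻¹ : Rˣ) : R) = 1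
    have h1 : ((a : R) * P.σ a) * (((a⁻¹ : Rˣ) : R) * P.σ ((a⁻¹ : Rˣ) : R)) = 1 := by
      rw [mul_mul_mul_comm, ← map_mul, Units.mul_inv, map_one, one_mul]
    rwa [show (a : R) * P.σ a = 1 from ha, one_mul] at h1

theorem mem_unitary {R : Type*} [CommRing R] [Algebra F R] {P : SpAlg F R} {u : Rˣ} :
    u ∈ unitary P ↔ (u : R) * P.σ u = 1 := Iff.rfl

/-- Unitary units embed in the symplectic group. -/
theorem exists_hom {R : Type*} [CommRing R] [Algebra F R] [FiniteDimensional F R]
    (P : SpAlg F R) (hP : P.Alt) (hfin : Module.finrank F R = 2 * n) :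
    ∃ f : unitary P →* Matrix.symplecticGroup (Fin n) F, Function.Injective f := by
  obtain ⟨L, hL⟩ := exists_coord P hP hfin
  let g0 : Rˣ → ((Fin n ⊕ Fin n → F) ≃ₗ[F] (Fin n ⊕ Fin n → F)) := fun u =>
    LinearEquiv.ofLinearMap (L.symm.toLinearMap ∘ₗ LinearMap.mulLeft F (u : R) ∘ₗ L.toLinearMap)
      (L.symm.toLinearMap ∘ₗ LinearMap.mulLeft F ((u⁻¹ : Rˣ) : R) ∘ₗ L.toLinearMap)
      (LinearMap.ext fun v => by simp [← mul_assoc])
      (LinearMap.ext fun v => by simp [← mul_assoc])
  have hg0 : ∀ (u : Rˣ) v, g0 u v = L.symm ((u : R) * L v) := fun _ _ => rfl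
  have hmem : ∀ u : unitary P, g0 u ∈ Isom (spB n F) := by
    intro u
    rw [mem_isom]
    intro v w
    rw [hL, hL, hg0, hg0, LinearEquiv.apply_symm_apply, LinearEquiv.apply_symm_apply, map_mul P.σ]
    congr 1
    linear_combination (L v * P.σ (L w)) * (mem_unitary.1 u.2)
  let f0 : unitary P →* Isom (spB n F) :=
    { toFun := fun u => ⟨g0 u, hmem u⟩
      map_one' := by
        apply Subtype.ext
        refine LinearEquiv.ext fun v => ?_
        show g0 _ v = v
        rw [hg0]
        simp
      map_mul' := fun a b => by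
        apply Subtype.ext
        refine LinearEquiv.ext fun v => ?_
        show g0 _ v = g0 _ (g0 _ v)
        rw [hg0, hg0, hg0, LinearEquiv.apply_symm_apply, Subgroup.coe_mul, Units.val_mul,
          mul_assoc] }
  refine ⟨(spEquiv n F).symm.toMonoidHom.comp f0, ?_⟩
  refine (spEquiv n F).symm.injective.comp ?_
  intro a b h
  apply Subtype.ext
  apply Units.ext
  have h2 := LinearEquiv.congr_fun (congrArg Subtype.val h) (L.symm 1)
  change g0 _ _ = g0 _ _ at h2
  rw [hg0, hg0, LinearEquiv.apply_symm_apply, mul_one, mul_one] at h2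
  exact L.symm.injective h2

/-- A finite power of a symplectic algebra. -/
noncomputable def piAlg {R : Type*} [CommRing R] [Algebra F R] (P : SpAlg F R) (a : ℕ) :
    SpAlg F (Fin a → R) where
  σ := AlgHom.pi fun i => P.σ.comp (Pi.evalAlgHom F (fun _ => R) i)
  φ := ∑ i : Fin a, P.φ.comp (LinearMap.proj i)
  inv x := by
    funext i
    exact P.inv (x i)
  odd x := by
    simp [P.odd, Finset.sum_neg_distrib]
  nondeg x h := by
    funext i
    refine P.nondeg (x i) fun b => ?_
    have h1 := h (Pi.single i b)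
    rw [LinearMap.sum_apply, Finset.sum_eq_single i] at h1
    · simpa using h1
    · intro j _ hj
      simp [Pi.single_eq_of_ne hj]
    · simp

theorem piAlg_alt {R : Type*} [CommRing R] [Algebra F R] {P : SpAlg F R} (hP : P.Alt) (a : ℕ) :
    (piAlg P a).Alt := by
  intro x
  show (∑ i : Fin a, P.φ.comp (LinearMap.proj i)) _ = 0
  rw [LinearMap.sum_apply]
  refine Finset.sum_eq_zero fun i _ => ?_
  exact hP (x i)

/-- Powers of a unitary unit of order `M` give `(ZMod M) ^ a` inside `Sp`. -/
theorem exists_embedding {R : Type*} [CommRing R] [Algebra F R] [FiniteDimensional F R]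
    (P : SpAlg F R) (hP : P.Alt) {e M a : ℕ} (hfin : Module.finrank F R = 2 * e)
    (han : a * e ≤ n) (u : R) (hu : u * P.σ u = 1) (hord : orderOf u = M) :
    ∃ f : (Fin a → Multiplicative (ZMod M)) →* Matrix.symplecticGroup (Fin n) F,
      Function.Injective f := by
  let Q := (piAlg P a).prod (SpAlg.pad F (n - a * e))
  have hQ : Q.Alt := (piAlg_alt hP a).prod (SpAlg.pad_alt _)
  have hQfin : Module.finrank F
      ((Fin a → R) × ((Fin (n - a * e) → F) × (Fin (n - a * e) → F))) = 2 * n := by
    rw [Module.finrank_prod, Module.finrank_prod, Module.finrank_fin_fun,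
      Module.finrank_pi_fintype, Finset.sum_const, Finset.card_univ, Fintype.card_fin, hfin,
      smul_eq_mul]
    have : a * (2 * e) = 2 * (a * e) := by ring
    omega
  obtain ⟨f, hf⟩ := exists_hom Q hQ hQfin
  let U : Rˣ := Units.mkOfMulEqOne u (P.σ u) hu
  have hUord : Nat.card (Subgroup.zpowers U) = M := by
    rw [Nat.card_zpowers, ← hord, ← orderOf_units]
    rfl
  have hUT : Subgroup.zpowers U ≤ unitary P := (Subgroup.zpowers_le).2 hu
  subst hUord
  let j : Multiplicative (ZMod (Nat.card (Subgroup.zpowers U))) →* unitary P :=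
    (Subgroup.inclusion hUT).comp (zmodCyclicMulEquiv inferInstance).toMonoidHom
  have hj : Function.Injective j :=
    (Subgroup.inclusion_injective hUT).comp (MulEquiv.injective _)
  let h0 : (Fin a → Multiplicative (ZMod (Nat.card (Subgroup.zpowers U)))) →*
      ((Fin a → R) × ((Fin (n - a * e) → F) × (Fin (n - a * e) → F))) :=
    { toFun := fun x => (fun i => (((j (x i) : unitary P) : Rˣ) : R), 1)
      map_one' := by
        refine Prod.ext ?_ rfl
        funext i
        simp
      map_mul' := fun x y => by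
        refine Prod.ext ?_ (one_mul _).symm
        funext i
        simp }
  have hmemQ : ∀ x, h0.toHomUnits x ∈ unitary Q := by
    intro x
    rw [mem_unitary]
    refine Prod.ext ?_ ?_
    · funext i
      exact mem_unitary.1 (j (x i)).2
    · show (1 : (Fin (n - a * e) → F) × (Fin (n - a * e) → F)) *
        (SpAlg.pad F (n - a * e)).σ 1 = 1
      rw [map_one, mul_one]
  refine ⟨f.comp (h0.toHomUnits.codRestrict (unitary Q) hmemQ), hf.comp ?_⟩
  intro x y h
  have h' := congrArg (fun z : unitary Q =>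
    ((z : ((Fin a → R) × ((Fin (n - a * e) → F) × (Fin (n - a * e) → F)))ˣ) :
      (Fin a → R) × ((Fin (n - a * e) → F) × (Fin (n - a * e) → F))).1) h
  funext i
  exact hj (Subtype.ext (Units.ext (congrFun h' i)))

end Cfsg.Agent.Coprime.SpTorusHom
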