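import Cfsg.Agent.Coprime.HalfTransField
import Cfsg.Agent.Coprime.OddHyp
import Cfsg.Agent.Hall.MinimalNormal
import Cfsg.Prelude.Def_Perm
import Mathlib.GroupTheory.GroupAction.MultipleTransitivity

/-!
Groups that are 2-homogeneous but not doubly transitive are semiaffine of dimension one, given that
groups of odd order are solvable.
-/

namespace Cfsg.Agent.Coprime.TwoHomogeneous

open Subgroup MulAction
open scoped Pointwise IsMulCommutative

universe u

variable {α : Type u} [Finite α] {G : Subgroup (Equiv.Perm α)}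

/-- Every unordered pair can be moved to every other. -/
def PairTrans (G : Subgroup (Equiv.Perm α)) : Prop :=
  ∀ a b c d : α, a ≠ b → c ≠ d → ∃ g : G, (g • a = c ∧ g • b = d) ∨ (g • a = d ∧ g • b = c)

omit [Finite α] in
theorem pairTrans_of_powersetCard [DecidableEq α]
    (h : IsPretransitive G (Set.powersetCard α 2)) : PairTrans G := by
  intro a b c d hab hcd
  obtain ⟨g, hg⟩ := h.exists_smul_eq (Set.powersetCard.ofCard (Finset.card_pair hab))
    (Set.powersetCard.ofCard (Finset.card_pair hcd))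
  have hg' : g • ({a, b} : Finset α) = {c, d} := congrArg Subtype.val hg
  refine ⟨g, ?_⟩
  have ha : g • a = c ∨ g • a = d := by
    have : g • a ∈ ({c, d} : Finset α) := hg' ▸ Finset.smul_mem_smul_finset (by simp)
    simpa using this
  have hb : g • b = c ∨ g • b = d := by
    have : g • b ∈ ({c, d} : Finset α) := hg' ▸ Finset.smul_mem_smul_finset (by simp)
    simpa using this
  have hne : g • a ≠ g • b := fun h => hab (smul_left_cancel g h)
  rcases ha with ha | ha <;> rcases hb with hb | hb
  · exact absurd (ha.trans hb.symm) hne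
  · exact Or.inl ⟨ha, hb⟩
  · exact Or.inr ⟨ha, hb⟩
  · exact absurd (ha.trans hb.symm) hne

variable (hne : G ≠ ⊥) (hP : PairTrans G) (hn2 : ¬ IsMultiplyPretransitive G α 2)
include hne hP hn2

omit [Finite α] hP in
theorem three_points (a b : α) : ∃ c, c ≠ a ∧ c ≠ b := by
  by_contra hc
  push Not at hc
  refine hn2 (is_two_pretransitive_iff.mpr fun {x y z w} hxy hzw => ?_)
  by_contra hno
  obtain ⟨g, hg⟩ := (Subgroup.ne_bot_iff_exists_ne_one.mp hne)
  obtain ⟨u, hu⟩ : ∃ u, g • u ≠ u := by
    by_contra h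
    push Not at h
    exact hg (Subtype.ext (Equiv.ext fun u => h u))
  have two : ∀ p q r : α, p ≠ q → r = p ∨ r = q := fun p q r hpq => by
    have val : ∀ r, r = a ∨ r = b := fun r => or_iff_not_imp_left.mpr (hc r)
    rcases val p with h1 | h1 <;> rcases val q with h2 | h2 <;> rcases val r with h3 | h3 <;>
      simp_all
  rcases two x y z hxy with rfl | rfl
  · rcases two z y w hxy with rfl | rfl
    · exact hzw rfl
    · exact hno ⟨1, one_smul _ _, one_smul _ _⟩
  · rcases two x z w hxy with rfl | rfl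
    · refine hno ⟨g, ?_, ?_⟩
      · have h4 := two w z (g • w) hxy
        have h5 := two w z u hxy
        have h6 := two w z (g • u) hxy
        rcases h4 with h4 | h4
        · exfalso
          rcases h5 with rfl | rfl
          · exact hu h4
          · rcases h6 with h6 | h6
            · exact hxy (smul_left_cancel g (h4.trans h6.symm))
            · exact hu h6
        · exact h4
      · have h4 := two w z (g • z) hxy
        have h5 := two w z u hxy
        have h6 := two w z (g • u) hxy
        rcases h4 with h4 | h4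
        · exact h4
        · exfalso
          rcases h5 with rfl | rfl
          · rcases h6 with h6 | h6
            · exact hu h6
            · exact hxy (smul_left_cancel g (h6.trans h4.symm))
          · exact hu h4
    · exact hzw rfl

omit hne in
theorem odd_card : Odd (Nat.card G) := by
  refine Nat.not_even_iff_odd.mp fun he => hn2 ?_
  have : Fact (Nat.Prime 2) := ⟨Nat.prime_two⟩
  obtain ⟨t, ht⟩ := exists_prime_orderOf_dvd_card' (G := G) 2 he.two_dvd
  have ht2 : t * t = 1 := by rw [← pow_two, ← ht, pow_orderOf_eq_one]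
  obtain ⟨u, hu⟩ : ∃ u, t • u ≠ u := by
    by_contra h
    push Not at h
    have : t = 1 := Subtype.ext (Equiv.ext fun u => h u)
    rw [this, orderOf_one] at ht; exact absurd ht (by norm_num)
  refine is_two_pretransitive_iff.mpr fun {x y z w} hxy hzw => ?_
  obtain ⟨g, hg | hg⟩ := hP x y z w hxy hzw
  · exact ⟨g, hg⟩
  · obtain ⟨h, hh | hh⟩ := hP u (t • u) z w hu.symm hzw
    · refine ⟨h * t * h⁻¹ * g, ?_, ?_⟩
      · rw [mul_smul, hg.1, ← hh.2, mul_smul, inv_smul_smul, mul_smul, ← mul_smul t, ht2, one_smul, hh.1]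
      · rw [mul_smul, hg.2, ← hh.1, mul_smul, inv_smul_smul, mul_smul, hh.2]
    · refine ⟨h * t * h⁻¹ * g, ?_, ?_⟩
      · rw [mul_smul, hg.1, ← hh.1, mul_smul, inv_smul_smul, mul_smul, hh.2]
      · rw [mul_smul, hg.2, ← hh.2, mul_smul, inv_smul_smul, mul_smul, ← mul_smul t, ht2, one_smul, hh.1]

theorem preprimitive : IsPreprimitive G α := by
  have htr : IsPretransitive G α := by
    refine ⟨fun a b => ?_⟩
    by_contra hab
    push Not at hab
    have hne' : a ≠ b := fun h => hab 1 (by rw [one_smul, h])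
    obtain ⟨c, hca, hcb⟩ := three_points hne hn2 a b
    obtain ⟨g, hg | hg⟩ := hP a c a b hca.symm hne'
    · obtain ⟨g', hg' | hg'⟩ := hP b c a b hcb.symm hne'
      · exact hab g'⁻¹ (by rw [inv_smul_eq_iff]; exact hg'.1.symm)
      · exact hab (g * g'⁻¹) (by rw [mul_smul, inv_smul_eq_iff.mpr hg'.2.symm, hg.2])
    · exact hab g hg.1
  refine ⟨fun {B} hB => ?_⟩
  by_contra hBt
  rw [IsTrivialBlock, not_or, Set.not_subsingleton_iff] at hBt
  obtain ⟨⟨a, ha, b, hb, hab⟩, hBu⟩ := hBt
  obtain ⟨c, hc⟩ := (Set.ne_univ_iff_exists_notMem B).mp hBu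
  have hac : a ≠ c := fun h => hc (h ▸ ha)
  obtain ⟨g, hg⟩ := hP a b a c hab hac
  have key : ∀ x y : α, x ∈ B → y ∈ B → g • x = a → g • y = c → False := by
    intro x y hx hy h1 h2
    have : g • B = B := hB.smul_eq_of_mem hx (h1 ▸ ha)
    exact hc (this ▸ h2 ▸ Set.smul_mem_smul_set hy)
  rcases hg with hg | hg
  · exact key a b ha hb hg.1 hg.2
  · exact key b a hb ha hg.2 hg.1

/-- The structure theorem. -/
theorem semiaffine (hFT : OddSolvable.{u}) : Odd (Nat.card G) ∧ ∃ (p f : ℕ) (_ : Fact p.Prime),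
    p ≠ 2 ∧ Nat.card α = p ^ f ∧ p ^ f % 4 = 3 ∧ ∃ e : α ≃ GaloisField p f,
      (∀ g : G, e.symm.trans (((g : Equiv.Perm α)).trans e) ∈ Cfsg.semiaffineGroup (GaloisField p f)) ∧
      ∀ b : GaloisField p f, ∃ g : G, ∀ x : α, e ((g : Equiv.Perm α) x) = e x + b := by
  classical
  have hodd := odd_card hP hn2
  refine ⟨hodd, ?_⟩
  have : Group.IsSolvable G := hFT G hodd
  have : Nontrivial G := (Subgroup.nontrivial_iff_ne_bot G).mpr hne
  obtain ⟨N, q, hNn, hN1, hq, hNq, hNc, hNmin⟩ := Hall.exists_minimal_normal_pgroup (G := G)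
  have hFact : Fact q.Prime := ⟨hq⟩
  have := preprimitive hne hP hn2
  have : FaithfulSMul G α := ⟨fun {g h} hgh => Subtype.ext (Equiv.ext hgh)⟩
  have htrN : IsPretransitive N α := by
    refine IsQuasiPreprimitive.isPretransitive_of_normal ?_
    intro hfix
    refine hN1 ((Subgroup.eq_bot_iff_forall N).mpr fun n hn => ?_)
    refine Subtype.ext (Equiv.ext fun u => ?_)
    exact (mem_fixedPoints.mp (hfix ▸ Set.mem_univ u) ⟨n, hn⟩ : _)
  obtain ⟨u0, -⟩ : ∃ u : α, True := by
    by_contra h
    push Not at h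
    exact hne ((Subgroup.eq_bot_iff_forall G).mpr fun g _ => Equiv.ext fun u => (h u).elim)
  have hreg : ∀ n : N, n • u0 = u0 → n = 1 := by
    intro n hn
    refine Subtype.ext (Subtype.ext (Equiv.ext fun u => ?_))
    obtain ⟨m, rfl⟩ := htrN.exists_smul_eq u0 u
    change n • m • u0 = m • u0
    rw [← mul_smul, mul_comm', mul_smul, hn]
  -- the exponent
  have hexp : ∀ n : N, n ^ q = 1 := by
    intro n
    let K : Subgroup G := ((powMonoidHom q : N →* N).ker).map N.subtype
    have hKn : K.Normal := by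
      refine ⟨fun x hx g => ?_⟩
      obtain ⟨⟨y, hy⟩, hy', rfl⟩ := Subgroup.mem_map.mp hx
      refine Subgroup.mem_map.mpr ⟨⟨g * y * g⁻¹, hNn.conj_mem y hy g⟩, ?_, rfl⟩
      rw [MonoidHom.mem_ker, powMonoidHom_apply] at hy' ⊢
      refine Subtype.ext ?_
      have := congrArg Subtype.val hy'
      simp only [SubgroupClass.coe_pow, OneMemClass.coe_one] at this ⊢
      rw [conj_pow, this, mul_one, mul_inv_cancel]
    rcases hNmin K hKn (map_subtype_le _) with h | h
    · exfalso
      have : Nontrivial N := (Subgroup.nontrivial_iff_ne_bot N).mpr hN1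
      obtain ⟨k, hk⟩ := IsPGroup.iff_card.mp hNq
      have hk0 : k ≠ 0 := fun h0 => by
        rw [h0, pow_zero] at hk; exact absurd hk (Finite.one_lt_card (α := N)).ne'
      obtain ⟨y, hy⟩ := exists_prime_orderOf_dvd_card' (G := N) q (hk ▸ dvd_pow_self q hk0)
      have hyK : (y : G) ∈ K := Subgroup.mem_map.mpr ⟨y, by
        rw [MonoidHom.mem_ker, powMonoidHom_apply, ← hy, pow_orderOf_eq_one], rfl⟩
      rw [h, Subgroup.mem_bot, OneMemClass.coe_eq_one] at hyK
      rw [hyK, orderOf_one] at hy
      exact hq.ne_one hy.symm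
    · have : (n : G) ∈ K := h.symm ▸ n.2
      obtain ⟨y, hy, hyn⟩ := Subgroup.mem_map.mp this
      rwa [N.subtype_injective hyn, MonoidHom.mem_ker, powMonoidHom_apply] at hy
  -- the point stabiliser acts on `N`
  set D := stabilizer G u0 with hD
  let act : D →* MulAut N := (MulAut.conjNormal (H := N)).comp D.subtype
  let E := Additive N
  let _ : DistribMulAction D E :=
    { smul := fun d e => Additive.ofMul (act d e.toMul)
      one_smul := fun e => by change Additive.ofMul (act 1 e.toMul) = e; rw [map_one]; rfl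
      mul_smul := fun d d' e => by
        change Additive.ofMul (act (d * d') e.toMul) = Additive.ofMul (act d (act d' e.toMul))
        rw [map_mul]; rfl
      smul_zero := fun d => by change Additive.ofMul (act d 1) = 0; rw [map_one]; rfl
      smul_add := fun d e e' => by
        change Additive.ofMul (act d (e.toMul * e'.toMul)) = _
        rw [map_mul]; rfl }
  have hpt : ∀ (d : D) (n : N), act d n • u0 = (d : G) • n • u0 := by
    intro d n
    change ((d : G) * n * (d : G)⁻¹) • u0 = (d : G) • (n : G) • u0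
    rw [mul_smul, mul_smul, inv_smul_eq_iff.mpr (mem_stabilizer_iff.mp d.2).symm]
  have : FaithfulSMul D E := ⟨fun {d d'} hdd => Subtype.ext (Subtype.ext (Equiv.ext fun u => by
    obtain ⟨n, rfl⟩ := htrN.exists_smul_eq u0 u
    change (d : G) • n • u0 = (d' : G) • n • u0
    rw [← hpt, ← hpt]
    exact congrArg (fun x : N => x • u0) (congrArg Additive.toMul (hdd (Additive.ofMul n)))))⟩
  have hinjN : ∀ m n : N, m • u0 = n • u0 → m = n := fun m n h =>
    (inv_mul_eq_one.mp (hreg (n⁻¹ * m) (by rw [mul_smul, h, inv_smul_smul]))).symm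
  have htrans : ∀ a b : E, a ≠ 0 → b ≠ 0 → ∃ d : D, d • a = b ∨ d • a = -b := by
    intro a b ha hb
    set x : N := a.toMul
    set y : N := b.toMul
    have hx : u0 ≠ x • u0 := fun h => ha (congrArg Additive.ofMul (hreg x h.symm))
    have hy : u0 ≠ y • u0 := fun h => hb (congrArg Additive.ofMul (hreg y h.symm))
    obtain ⟨g, hg | hg⟩ := hP u0 (x • u0) u0 (y • u0) hx hy
    · refine ⟨⟨g, hg.1⟩, Or.inl (congrArg Additive.ofMul (hinjN _ y ?_))⟩
      rw [hpt]; exact hg.2
    · refine ⟨⟨((y⁻¹ : N) : G) * g, ?_⟩, Or.inr (congrArg Additive.ofMul (hinjN _ y⁻¹ ?_))⟩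
      · rw [mem_stabilizer_iff, mul_smul, hg.1]
        change y⁻¹ • y • u0 = u0
        rw [inv_smul_smul]
      · rw [hpt]
        change (((y⁻¹ : N) : G) * g) • x • u0 = y⁻¹ • u0
        rw [mul_smul, hg.2]
        rfl
  have hoddD : Odd (Nat.card D) := hodd.of_dvd_nat (Subgroup.card_subgroup_dvd_card D)
  have : Group.IsSolvable D := inferInstance
  have : Nontrivial E := (Subgroup.nontrivial_iff_ne_bot N).mpr hN1
  obtain ⟨K, fK, finK, φ, hφ, -⟩ := HalfTrans.exists_semilinear hoddD hq
    (fun e : E => congrArg Additive.ofMul (hexp e.toMul)) htrans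
  have hcardK : Nat.card K = Nat.card N := (Nat.card_congr φ.toEquiv).symm
  obtain ⟨f, hf⟩ := IsPGroup.iff_card.mp hNq
  have hf0 : f ≠ 0 := fun h0 => by
    rw [h0, pow_zero] at hf; exact absurd hf (Finite.one_lt_card (α := E)).ne'
  have hq2 : q ≠ 2 := fun h2 => hodd.not_two_dvd_nat
    ((h2 ▸ dvd_pow_self q hf0 : 2 ∣ q ^ f).trans (hf ▸ N.card_subgroup_dvd_card))
  have hchar : CharP K q := by
    refine (ringChar.of_eq (CharP.ringChar_of_prime_eq_zero hq ?_))
    obtain ⟨e, he⟩ := φ.surjective 1
    rw [← mul_one (q : K), ← nsmul_eq_mul, ← he, ← map_nsmul,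
      show q • e = 0 from congrArg Additive.ofMul (hexp e.toMul), map_zero]
  let _ : Algebra (ZMod q) K := ZMod.algebra K q
  let ψ : K ≃+* GaloisField q f := (GaloisField.algEquivGaloisField q f (hcardK.trans hf)).toRingEquiv
  let pt : N ≃ α := Equiv.ofBijective (fun n => n • u0) ⟨fun m n h => hinjN m n h, fun u => htrN.exists_smul_eq u0 u⟩
  let Φ : E ≃+ GaloisField q f := φ.trans ψ.toAddEquiv
  let e : α ≃ GaloisField q f := (pt.symm.trans Additive.ofMul).trans Φ.toEquiv
  have he : ∀ n : N, e (n • u0) = Φ (Additive.ofMul n) := by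
    intro n
    change Φ (Additive.ofMul (pt.symm (pt n))) = _
    rw [Equiv.symm_apply_apply]
  refine ⟨q, f, hFact, hq2, (Nat.card_congr pt).symm.trans hf, ?_, e, ?_, ?_⟩
  · -- the degree
    obtain ⟨v, hv⟩ := exists_ne (0 : E)
    have hdisj : ∀ d : D, d • v ≠ -v := by
      intro d hd
      obtain ⟨k, hk⟩ := hoddD
      have h2 : (d * d) • v = v := by rw [mul_smul, hd, smul_neg, hd, neg_neg]
      have h3 : d ^ (2 * k + 1) = 1 := by rw [← hk, pow_card_eq_one']
      have h4 : d • v = v := by
        have : ∀ i : ℕ, ((d * d) ^ i) • v = v := fun i => by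
          induction i with
          | zero => rw [pow_zero, one_smul]
          | succ i ih => rw [pow_succ, mul_smul, h2, ih]
        have h5 : d = ((d * d) ^ k)⁻¹ := by
          rw [eq_inv_iff_mul_eq_one, ← pow_two, ← pow_mul, ← pow_succ', h3]
        rw [h5, inv_smul_eq_iff, this]
      have hvv : v = -v := h4.symm.trans hd
      have h2v : (2 : ℕ) • v = 0 := by rw [two_nsmul, ← eq_neg_iff_add_eq_zero]; exact hvv
      have hqv : q • v = 0 := congrArg Additive.ofMul (hexp v.toMul)
      exact hv ((AddMonoid.addOrderOf_eq_one_iff).mp (Nat.eq_one_of_dvd_coprimes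
        ((Nat.coprime_primes Nat.prime_two hq).mpr hq2.symm)
        (addOrderOf_dvd_of_nsmul_eq_zero h2v) (addOrderOf_dvd_of_nsmul_eq_zero hqv)))
    let O := orbit D v
    let F2 : Option (O ⊕ O) → E := fun o => o.elim 0 (Sum.elim (fun w => w.1) fun w => -w.1)
    have hb : Function.Bijective F2 := by
      constructor
      · have h0 : ∀ w : O, w.1 ≠ 0 := by
          rintro ⟨_, d, rfl⟩ h
          exact hv ((smul_eq_zero_iff_eq d).mp h)
        have hx : ∀ w w' : O, w.1 ≠ -w'.1 := by
          rintro ⟨_, d, rfl⟩ ⟨_, d', rfl⟩ h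
          refine hdisj (d'⁻¹ * d) ?_
          rw [mul_smul]
          change d'⁻¹ • (d • v) = -v
          rw [inv_smul_eq_iff, smul_neg]
          exact h
        rintro (_ | w | w) (_ | w' | w') h
        · rfl
        · exact absurd h.symm (h0 w')
        · exact absurd (neg_eq_zero.mp h.symm) (h0 w')
        · exact absurd h (h0 w)
        · exact congrArg (fun x => some (Sum.inl x)) (Subtype.ext h)
        · exact absurd h (hx w w')
        · exact absurd (neg_eq_zero.mp h) (h0 w)
        · exact absurd h.symm (hx w' w)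
        · exact congrArg (fun x => some (Sum.inr x)) (Subtype.ext (neg_injective h))
      · intro y
        by_cases hy : y = 0
        · exact ⟨none, hy.symm⟩
        obtain ⟨d, hd | hd⟩ := htrans v y hv hy
        · exact ⟨some (Sum.inl ⟨_, d, rfl⟩), hd⟩
        · exact ⟨some (Sum.inr ⟨_, d, rfl⟩), show -(d • v) = y by rw [hd, neg_neg]⟩
    have h1 := Nat.card_congr (Equiv.ofBijective F2 hb)
    rw [Finite.card_option, Nat.card_sum] at h1
    have h2 : Odd (Nat.card O) := hoddD.of_dvd_nat
      (by rw [Nat.card_coe_set_eq, ← index_stabilizer D v]; exact Subgroup.index_dvd_card _ :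
        Nat.card O ∣ Nat.card D)
    obtain ⟨m, hm⟩ := h2
    have : Nat.card E = q ^ f := hf
    omega
  · intro g
    obtain ⟨nb, hnb⟩ := htrN.exists_smul_eq u0 (g • u0)
    set d : D := ⟨((nb⁻¹ : N) : G) * g, by
      rw [mem_stabilizer_iff, mul_smul, ← hnb]
      change nb⁻¹ • nb • u0 = u0
      rw [inv_smul_smul]⟩
    obtain ⟨a, σ, ha⟩ := hφ d
    refine ⟨Units.map (ψ : K →* GaloisField q f) a, Φ (Additive.ofMul nb),
      (ψ.symm.trans σ).trans ψ, fun x => ?_⟩
    obtain ⟨u, rfl⟩ := e.surjective x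
    obtain ⟨n, rfl⟩ := htrN.exists_smul_eq u0 u
    rw [Equiv.trans_apply, Equiv.trans_apply, Equiv.symm_apply_apply]
    simp only [he, RingEquiv.trans_apply]
    have h1 : (g : Equiv.Perm α) (n • u0) = (nb * act d n) • u0 := by
      rw [mul_smul, hpt]
      change g • n • u0 = nb • (((nb⁻¹ : N) : G) * g) • n • u0
      rw [mul_smul]
      exact (smul_inv_smul nb (g • n • u0)).symm
    rw [h1, he, ofMul_mul, map_add, add_comm, show ψ.symm (Φ (Additive.ofMul n)) = φ (Additive.ofMul n)
      from ψ.symm_apply_apply _, show Additive.ofMul (act d n) = d • Additive.ofMul n from rfl,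
      show Φ (d • Additive.ofMul n) = ψ (φ (d • Additive.ofMul n)) from rfl, ha, map_mul]
    rfl
  · intro b
    refine ⟨((Φ.symm b).toMul : N), fun u => ?_⟩
    obtain ⟨n, rfl⟩ := htrN.exists_smul_eq u0 u
    change e ((Φ.symm b).toMul • n • u0) = _
    rw [← mul_smul, he, he, ofMul_mul, map_add, add_comm, ofMul_toMul, AddEquiv.apply_symm_apply]

end Cfsg.Agent.Coprime.TwoHomogeneous
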