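import Mathlib.GroupTheory.FiniteAbelian.Duality
import Mathlib.RingTheory.RootsOfUnity.AlgebraicallyClosed
import Mathlib.LinearAlgebra.FiniteDimensional.Basic
import Mathlib.LinearAlgebra.Dimension.Constructions

/-!
Weight spaces of a finite abelian group acting linearly over an algebraically closed field in
which the group order is invertible, and their behaviour under a normalizing group.
-/

namespace Cfsg.Agent.Coprime.Weights

variable {k W U : Type*} [Field k] [AddCommGroup W] [Module k W] [CommGroup U] [Finite U]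

/-- Projection onto the weight space of a character. -/
noncomputable def proj (τ : U →* Module.End k W) (χ : U →* kˣ) : Module.End k W :=
  letI := Fintype.ofFinite U
  (Nat.card U : k)⁻¹ • ∑ u : U, ((χ u)⁻¹ : kˣ).val • τ u

variable {τ : U →* Module.End k W} {χ ψ : U →* kˣ}

theorem act_mul_proj (τ : U →* Module.End k W) (χ : U →* kˣ) (v : U) :
    τ v * proj τ χ = (χ v : k) • proj τ χ := by
  classical
  let _ := Fintype.ofFinite U
  simp only [proj, mul_smul_comm, Finset.mul_sum, Finset.smul_sum, smul_smul]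
  refine Fintype.sum_equiv (Equiv.mulLeft v) _ _ fun u => ?_
  simp only [Equiv.coe_mulLeft, ← map_mul]
  congr 1
  rw [map_mul, mul_inv_rev, Units.val_mul]
  generalize ((χ u)⁻¹ : kˣ).val = a
  rw [show ((χ v : kˣ) : k) * ((Nat.card U : k)⁻¹ * (a * ((χ v)⁻¹ : kˣ).val)) = (Nat.card U : k)⁻¹ * a * ((χ v : k) * ((χ v)⁻¹ : kˣ).val) by ring, Units.mul_inv, mul_one]


theorem proj_mul_act (τ : U →* Module.End k W) (χ : U →* kˣ) (v : U) :
    proj τ χ * τ v = (χ v : k) • proj τ χ := by
  rw [← act_mul_proj τ χ v]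
  let _ := Fintype.ofFinite U
  rw [proj, mul_smul_comm, smul_mul_assoc, Finset.mul_sum, Finset.sum_mul]
  congr 1
  refine Finset.sum_congr rfl fun u _ => ?_
  rw [mul_smul_comm, smul_mul_assoc, ← map_mul, ← map_mul, mul_comm]

theorem sum_char_eq_zero (h : χ ≠ ψ) :
    letI := Fintype.ofFinite U
    ∑ u : U, ((χ u)⁻¹ : kˣ).val * (ψ u : k) = 0 := by
  let _ := Fintype.ofFinite U
  obtain ⟨v, hv⟩ : ∃ v, χ v ≠ ψ v := by
    by_contra hc
    push Not at hc
    exact h (MonoidHom.ext hc)
  set S := ∑ u : U, ((χ u)⁻¹ : kˣ).val * (ψ u : k) with hS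
  have : (((χ v)⁻¹ * ψ v : kˣ) : k) * S = S := by
    rw [hS, Finset.mul_sum]
    refine Fintype.sum_equiv (Equiv.mulLeft v) _ _ fun u => ?_
    simp only [Equiv.coe_mulLeft, map_mul, Units.val_mul, mul_inv_rev]
    ring
  by_contra hne
  refine hv (inv_mul_eq_one.mp (Units.ext ?_))
  rw [Units.val_one]
  exact mul_right_cancel₀ hne (by rw [this, one_mul])

theorem proj_mul_proj (τ : U →* Module.End k W) (h : χ ≠ ψ) : proj τ χ * proj τ ψ = 0 := by
  let _ := Fintype.ofFinite U
  conv_lhs => rw [proj]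
  rw [smul_mul_assoc, Finset.sum_mul]
  have : ∀ u : U, (((χ u)⁻¹ : kˣ).val • τ u) * proj τ ψ =
      (((χ u)⁻¹ : kˣ).val * (ψ u : k)) • proj τ ψ := fun u => by
    rw [smul_mul_assoc, act_mul_proj, smul_smul]
  rw [Finset.sum_congr rfl fun u _ => this u, ← Finset.sum_smul, sum_char_eq_zero h, zero_smul,
    smul_zero]

theorem proj_mul_self (hU : (Nat.card U : k) ≠ 0) (τ : U →* Module.End k W) (χ : U →* kˣ) :
    proj τ χ * proj τ χ = proj τ χ := by
  let _ := Fintype.ofFinite U
  conv_lhs => lhs; rw [proj]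
  rw [smul_mul_assoc, Finset.sum_mul]
  have : ∀ u : U, (((χ u)⁻¹ : kˣ).val • τ u) * proj τ χ = proj τ χ := fun u => by
    rw [smul_mul_assoc, act_mul_proj, smul_smul, Units.inv_mul, one_smul]
  rw [Finset.sum_congr rfl fun u _ => this u, Finset.sum_const, Finset.card_univ,
    ← Nat.card_eq_fintype_card, ← Nat.cast_smul_eq_nsmul k, smul_smul, inv_mul_cancel₀ hU, one_smul]

variable [IsAlgClosed k]

omit [IsAlgClosed k] in
theorem enough_neZero (hU : (Nat.card U : k) ≠ 0) : NeZero ((Monoid.exponent U : ℕ) : k) := ⟨fun h => hU (by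
    obtain ⟨c, hc⟩ : Monoid.exponent U ∣ Nat.card U := Group.exponent_dvd_nat_card
    rw [hc, Nat.cast_mul, h, zero_mul])⟩

theorem enough (hU : (Nat.card U : k) ≠ 0) :
    HasEnoughRootsOfUnity k (Monoid.exponent U) := by
  have := enough_neZero hU
  infer_instance

theorem finite_chars (hU : (Nat.card U : k) ≠ 0) : Finite (U →* kˣ) := by
  have := enough (U := U) hU
  exact Nat.finite_of_card_ne_zero
    (by rw [CommGroup.card_monoidHom_of_hasEnoughRootsOfUnity U k]; exact Nat.card_pos.ne')

theorem card_chars (hU : (Nat.card U : k) ≠ 0) : Nat.card (U →* kˣ) = Nat.card U := by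
  have := enough (U := U) hU
  exact CommGroup.card_monoidHom_of_hasEnoughRootsOfUnity U k

/-- The weight projections sum to the identity. -/
theorem sum_proj (hU : (Nat.card U : k) ≠ 0) (τ : U →* Module.End k W) :
    haveI := finite_chars (U := U) hU
    letI := Fintype.ofFinite (U →* kˣ)
    ∑ χ : U →* kˣ, proj τ χ = 1 := by
  classical
  have := enough (U := U) hU
  have := finite_chars (U := U) hU
  let _ := Fintype.ofFinite (U →* kˣ)
  let _ := Fintype.ofFinite U
  simp only [proj, ← Finset.smul_sum]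
  rw [Finset.sum_comm]
  simp only [← Finset.sum_smul]
  have hzero : ∀ u : U, u ≠ 1 → ∑ χ : U →* kˣ, ((χ u)⁻¹ : kˣ).val = 0 := by
    intro u hu
    obtain ⟨ψ, hψ⟩ := CommGroup.exists_apply_ne_one_of_hasEnoughRootsOfUnity U k hu
    set S := ∑ χ : U →* kˣ, ((χ u)⁻¹ : kˣ).val with hS
    have : (((ψ u)⁻¹ : kˣ) : k) * S = S := by
      rw [hS, Finset.mul_sum]
      refine Fintype.sum_equiv (Equiv.mulLeft ψ) _ _ fun χ => ?_
      simp only [Equiv.coe_mulLeft, MonoidHom.mul_apply, mul_inv_rev, Units.val_mul]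
      ring
    by_contra hne
    refine hψ (inv_eq_one.mp (Units.ext ?_))
    rw [Units.val_one]
    exact mul_right_cancel₀ hne (by rw [this, one_mul])
  rw [Finset.sum_eq_single 1 (fun u _ hu => by rw [hzero u hu, zero_smul])
    (fun h => absurd (Finset.mem_univ _) h)]
  simp only [map_one, inv_one, Units.val_one, Finset.sum_const, Finset.card_univ, nsmul_eq_mul,
    mul_one, smul_smul]
  rw [← Nat.card_eq_fintype_card, card_chars hU, inv_mul_cancel₀ hU, one_smul]

/-- If a group element acts nontrivially then some weight space is moved by it. -/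
theorem exists_proj_ne_zero_of_act_ne_one (hU : (Nat.card U : k) ≠ 0) {τ : U →* Module.End k W}
    {u : U} (hu : τ u ≠ 1) : ∃ χ : U →* kˣ, proj τ χ ≠ 0 ∧ χ u ≠ 1 := by
  classical
  by_contra hc
  push Not at hc
  have := finite_chars (U := U) hU
  let _ := Fintype.ofFinite (U →* kˣ)
  refine hu ?_
  rw [← mul_one (τ u), ← sum_proj hU τ, Finset.mul_sum]
  refine Finset.sum_congr rfl fun χ _ => ?_
  rw [act_mul_proj]
  by_cases h : proj τ χ = 0
  · rw [h, smul_zero]
  · rw [hc χ h, Units.val_one, one_smul]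

theorem eq_zero_of_forall_proj (hU : (Nat.card U : k) ≠ 0) (τ : U →* Module.End k W) {w : W}
    (h : ∀ χ : U →* kˣ, proj τ χ w = 0) : w = 0 := by
  have := finite_chars (U := U) hU
  let _ := Fintype.ofFinite (U →* kˣ)
  have := congrArg (fun f : Module.End k W => f w) (sum_proj hU τ)
  simp only [LinearMap.sum_apply, h, Finset.sum_const_zero, Module.End.one_apply] at this
  exact this.symm

omit [IsAlgClosed k] in
/-- Transport of weight projections by a semilinear-compatible map. -/
theorem mul_proj_of_conj {g : Module.End k W} {σ : U ≃* U} (hg : ∀ u, g * τ u = τ (σ u) * g)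
    (χ : U →* kˣ) : g * proj τ χ = proj τ (χ.comp σ.symm.toMonoidHom) * g := by
  let _ := Fintype.ofFinite U
  simp only [proj, mul_smul_comm, smul_mul_assoc, Finset.mul_sum, Finset.sum_mul]
  congr 1
  refine Fintype.sum_equiv σ.toEquiv _ _ fun u => ?_
  simp [hg]

omit [IsAlgClosed k] in
theorem mem_range_iff (hU : (Nat.card U : k) ≠ 0) {w : W} :
    w ∈ LinearMap.range (proj τ χ) ↔ ∀ u, τ u w = (χ u : k) • w := by
  constructor
  · rintro ⟨y, rfl⟩ u
    exact congrArg (fun f : Module.End k W => f y) (act_mul_proj τ χ u)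
  · intro h
    refine ⟨w, ?_⟩
    let _ := Fintype.ofFinite U
    simp only [proj, LinearMap.smul_apply, LinearMap.sum_apply, h, smul_smul, Units.inv_mul,
      one_smul, Finset.sum_const, Finset.card_univ]
    rw [← Nat.card_eq_fintype_card, ← Nat.cast_smul_eq_nsmul k, smul_smul, inv_mul_cancel₀ hU,
      one_smul]

/-- The dimension is the sum of the dimensions of the weight spaces. -/
theorem finrank_eq_sum [FiniteDimensional k W] (hU : (Nat.card U : k) ≠ 0)
    (τ : U →* Module.End k W) :
    haveI := finite_chars (U := U) hU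
    letI := Fintype.ofFinite (U →* kˣ)
    Module.finrank k W = ∑ χ : U →* kˣ, Module.finrank k (LinearMap.range (proj τ χ)) := by
  classical
  have := finite_chars (U := U) hU
  let _ := Fintype.ofFinite (U →* kˣ)
  rw [← Module.finrank_pi_fintype k]
  refine LinearEquiv.finrank_eq (LinearEquiv.ofBijective
    (LinearMap.pi fun χ : U →* kˣ => (proj τ χ).rangeRestrict) ⟨?_, ?_⟩)
  · rw [← LinearMap.ker_eq_bot, Submodule.eq_bot_iff]
    intro w hw
    refine eq_zero_of_forall_proj hU τ fun χ => ?_
    exact congrArg (fun y => ((y χ : LinearMap.range (proj τ χ)) : W)) (LinearMap.mem_ker.mp hw)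
  · intro y
    refine ⟨∑ χ, (y χ : W), funext fun χ => Subtype.ext ?_⟩
    simp only [LinearMap.pi_apply, LinearMap.rangeRestrict, map_sum]
    rw [Finset.sum_eq_single χ]
    · obtain ⟨z, hz⟩ := (y χ).2
      rw [← hz]
      exact congrArg (fun f : Module.End k W => f z) (proj_mul_self hU τ χ)
    · intro ψ _ hψ
      obtain ⟨z, hz⟩ := (y ψ).2
      rw [← hz]
      exact Subtype.ext (by exact congrArg (fun f : Module.End k W => f z) (proj_mul_proj τ (Ne.symm hψ)))
    · exact fun h => absurd (Finset.mem_univ _) h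

end Cfsg.Agent.Coprime.Weights
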